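import Groth.Agent.HTop16.SpectralPull
import Groth.Agent.Coherent.MayerVietoris
import Groth.Agent.S0460
import Mathlib.Topology.KrullDimension

/-!
# Vanishing of cohomology on spectral spaces above the dimension

Induction on the dimension. If `V ≤ U` are compact opens, the points of `V` specializing to a point of
`U \ V` form a spectral subspace of smaller dimension, whose cohomology is the colimit of that of its
neighbourhoods; hence classes of degree the dimension extend from `V` to `U`.
-/

set_option autoImplicit false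

universe u

open CategoryTheory CategoryTheory.Limits CategoryTheory.Abelian Opposite TopologicalSpace Topology

namespace Groth.Agent.HTop16.Spectral

open Groth.Agent.SiteCoh Groth.Agent.SiteCoh.Compact Groth.Agent.SiteCoh.Pull Groth.Agent.Coherent

/-- No chain of irreducible closed subsets of length `d`. -/
def DimLT (X : TopCat.{u}) (d : ℕ) : Prop := ∀ p : LTSeries (IrreducibleCloseds X), p.length < d

theorem dimLT_of_le {X : TopCat.{u}} {d : ℕ} (h : topologicalKrullDim X ≤ d) : DimLT X (d + 1) :=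
  fun p => Nat.lt_succ_iff.2 (by
    have h' := (Order.LTSeries.length_le_krullDim p).trans h
    exact_mod_cast h')

variable {X : TopCat.{u}} [SpectralSpace X]

/-- The inclusion of a subset. -/
abbrev subIncl (T : Set X) : TopCat.of T ⟶ X := TopCat.ofHom ⟨Subtype.val, continuous_subtype_val⟩

theorem isProSub_subIncl {T : Set X} (hT : ProQC T) : IsProSub (subIncl T) :=
  ⟨IsEmbedding.subtypeVal, by
    show ProQC (Set.range (Subtype.val : T → X))
    rwa [Subtype.range_coe]⟩

theorem exists_generic {T : Set X} (hT : ProQC T) {C : Set T} (hC : IsIrreducible C) :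
    ∃ η : T, closure {(η : X)} = closure (Subtype.val '' C) := by
  have h := (hC.image _ continuous_subtype_val.continuousOn).closure
  let η := h.genericPoint
  have hη : closure {η} = closure (closure (Subtype.val '' C)) := h.genericPoint_closure_eq
  rw [closure_closure] at hη
  suffices η ∈ T from ⟨⟨η, this⟩, hη⟩
  by_contra hn
  obtain ⟨B, hB, -, hTB, hηB⟩ := hT η hn
  obtain ⟨c, hc⟩ := hC.nonempty
  have hc' : (c : X) ∈ closure {η} := hη.symm ▸ subset_closure ⟨c, hc, rfl⟩
  obtain ⟨y, hyB, hy⟩ := mem_closure_iff.1 hc' B hB (hTB c.2)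
  exact hηB (Set.mem_singleton_iff.1 hy ▸ hyB)

theorem spectralSpace_sub {T : Set X} (hT : ProQC T) : SpectralSpace (TopCat.of T) := by
  have hg := isProSub_subIncl hT
  haveI : T0Space (TopCat.of T) := inferInstanceAs (T0Space T)
  haveI := hg.compactSpace
  haveI : PrespectralSpace (TopCat.of T) := ⟨hg.basis⟩
  haveI : QuasiSeparatedSpace (TopCat.of T) := ⟨hg.inter_isCompact⟩
  haveI : QuasiSober (TopCat.of T) := ⟨fun {C} hC hC' => by
    obtain ⟨η, hη⟩ := exists_generic hT (C := C) hC
    refine ⟨η, ?_⟩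
    change closure ({η} : Set T) = C
    rw [IsInducing.subtypeVal.closure_eq_preimage_closure_image ({η} : Set T), Set.image_singleton, hη]
    exact (IsInducing.subtypeVal.closure_eq_preimage_closure_image _).symm.trans hC'.closure_eq⟩
  constructor

section Step

variable {U V : Opens X} (hU : IsCompact (U : Set X)) (hV : IsCompact (V : Set X))

/-- Points specializing to a point outside `V` of `U`. -/
def spc (U V : Opens X) : Set X := {x | ∃ z, z ∈ U ∧ z ∉ V ∧ x ⤳ z}

include hU in
theorem proQC_spc : ProQC (spc U V) := by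
  intro x hx
  have hZ : IsCompact ((U : Set X) ∩ (V : Set X)ᶜ) := hU.inter_right V.2.isClosed_compl
  obtain ⟨t, ht⟩ := hZ.elim_finite_subcover
    (fun B : {B : Set X // IsOpen B ∧ IsCompact B ∧ x ∉ B} => B.1) (fun B => B.2.1) (fun z hz => by
      have hns : ¬ x ⤳ z := fun h => hx ⟨z, hz.1, hz.2, h⟩
      obtain ⟨O, hO, hzO, hxO⟩ := not_specializes_iff_exists_open.1 hns
      obtain ⟨B, ⟨hB, hBc⟩, hzB, hBO⟩ :=
        PrespectralSpace.isTopologicalBasis.exists_subset_of_mem_open hzO hO
      exact Set.mem_iUnion.2 ⟨⟨B, hB, hBc, fun h => hxO (hBO h)⟩, hzB⟩)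
  refine ⟨⋃ B ∈ t, B.1, isOpen_biUnion fun B _ => B.2.1,
    t.finite_toSet.isCompact_biUnion fun B _ => B.2.2.1, ?_, ?_⟩
  · rintro y ⟨z, hzU, hzV, hyz⟩
    exact hyz.mem_open (isOpen_biUnion fun B _ => B.2.1) (ht ⟨hzU, hzV⟩)
  · simp only [Set.mem_iUnion, not_exists]
    exact fun B _ h => B.2.2.2 h

include hU hV in
theorem proQC_inter_spc : ProQC ((V : Set X) ∩ spc U V) := by
  intro x hx
  by_cases hxV : x ∈ V
  · obtain ⟨B, hB, hBc, hsub, hxB⟩ := proQC_spc (V := V) hU x fun h => hx ⟨hxV, h⟩
    exact ⟨B, hB, hBc, fun y hy => hsub hy.2, hxB⟩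
  · exact ⟨V, V.2, hV, fun y hy => hy.1, hxV⟩

include hU hV in
theorem dimLT_inter_spc {d : ℕ} (hd : DimLT X (d + 1)) :
    DimLT (TopCat.of ↥((V : Set X) ∩ spc U V)) d := by
  intro p
  have hT := proQC_inter_spc hU hV
  have hi : IsInducing (Subtype.val : ↥((V : Set X) ∩ spc U V) → X) := IsInducing.subtypeVal
  let q : LTSeries (IrreducibleCloseds X) :=
    p.map (IrreducibleCloseds.map Subtype.val hi.continuous)
      (IrreducibleCloseds.map_strictMono_of_isInducing hi)
  obtain ⟨η, hη⟩ := exists_generic hT (C := SetLike.coe (RelSeries.head p)) (RelSeries.head p).isIrreducible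
  obtain ⟨z, hzU, hzV, hηz⟩ := η.2.2
  let Cz : IrreducibleCloseds X := ⟨closure {z}, isIrreducible_singleton.closure, isClosed_closure⟩
  have hlt : Cz < q.head := by
    change (closure {z} : Set X) ⊂ closure (Subtype.val '' SetLike.coe (RelSeries.head p))
    rw [← hη]
    refine ⟨specializes_iff_closure_subset.1 hηz, fun h => hzV ?_⟩
    exact (specializes_iff_mem_closure.2 (h (subset_closure rfl))).mem_open V.2 η.2.1
  have := hd (RelSeries.cons q Cz hlt)
  simp only [RelSeries.cons, RelSeries.append_length, RelSeries.singleton_length] at this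
  have : q.length = p.length := rfl
  omega

end Step

theorem res_eq_resH (F : CohTop.Ab X) (n : ℕ) {U V : Opens X} (h : V ≤ U) (x : CohTop.HU F n U) :
    CohTop.res F n h x = resH F n h x := rfl

/-- Vanishing in degrees at least `d` for spaces without chains of length `d`. -/
def VanLT (d : ℕ) : Prop :=
  ∀ (X : TopCat.{u}) [SpectralSpace X], DimLT X d → ∀ (F : CohTop.Ab X) (p : ℕ), d ≤ p →
    Subsingleton (CohTop.H F p)

set_option maxHeartbeats 1000000 in
/-- Classes of degree the dimension extend from a compact open to a larger one. -/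
theorem surjective_resH {d : ℕ} (hvan : VanLT.{u} d) (hd : DimLT X (d + 1)) (F : CohTop.Ab X)
    {U V : Opens X} (h : V ≤ U) (hU : IsCompact (U : Set X)) (hV : IsCompact (V : Set X)) :
    Function.Surjective (resH F d h) := by
  intro ξ
  have hT := proQC_inter_spc (U := U) hU hV
  let g := subIncl ((V : Set X) ∩ spc U V)
  have hg : IsProSub g := isProSub_subIncl hT
  haveI := spectralSpace_sub hT
  obtain ⟨e⟩ := nonempty_colim_iso hg F d
  haveI := hvan _ (dimLT_inter_spc hU hV hd) ((CohTop.pull g).obj F) d le_rfl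
  let P := (Sheaf.cohomologyPresheafFunctor (Opens.grothendieckTopology X) d).obj F
  let V₀ : (Nbhds g).FullSubcategory := ⟨op V, by rintro _ ⟨y, rfl⟩; exact y.2.1⟩
  have h0 : colimit.ι ((Nbhds g).ι ⋙ P) V₀ ξ =
      colimit.ι ((Nbhds g).ι ⋙ P) V₀ (0 : P.obj (op V)) :=
    e.addCommGroupIsoToAddEquiv.injective (Subsingleton.elim _ _)
  obtain ⟨N, f₁, f₂, hf⟩ := Concrete.colimit_exists_of_rep_eq _ _ _ h0
  have hNV : N.obj.unop ≤ V := leOfHom f₁.hom.unop
  have hξN : resH F d hNV ξ = 0 := hf.trans (map_zero _)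
  obtain ⟨B, hB, hBc, hsB, hBV⟩ := exists_qc_nbhd (proQC_spc (V := V) hU) V.2 hV N.obj.unop.2
    (fun x hx => N.property ⟨⟨x, hx.2, hx.1⟩, rfl⟩)
  let W : Opens X := ⟨B, hB⟩ ⊓ U
  have hWN : V ⊓ W ≤ N.obj.unop := fun x hx => hBV ⟨hx.2.1, hx.1⟩
  obtain ⟨x, hx, -⟩ := exists_resH_sup (U := V) (V := W) (F := F) (n := d) (a := ξ) (b := 0) (by
    rw [map_zero, ← resH_resH d hWN hNV ξ, hξN, map_zero])
  have hle : U ≤ V ⊔ W := fun x hx => by
    by_cases hxV : x ∈ V
    · exact Or.inl hxV
    · exact Or.inr ⟨hsB ⟨x, hx, hxV, specializes_refl x⟩, hx⟩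
  refine ⟨resH F d hle x, ?_⟩
  rw [resH_resH]
  exact hx

/-- Vanishing on compact opens above the dimension. -/
theorem subsingleton_ext_qc {d : ℕ} (hvan : VanLT.{u} d) (hd : DimLT X (d + 1)) (F : CohTop.Ab X) :
    ∀ (k : ℕ) (U : Opens X), IsCompact (U : Set X) → Subsingleton (Ext (freeSh U) F (d + k + 1)) := by
  intro k
  induction k using Nat.strong_induction_on with
  | _ k ih =>
    intro U hU
    refine subsingleton_of_forall_eq 0 fun ξ => ?_
    let A := {W : Opens X // IsCompact (W : Set X) ∧ ∃ hW : W ≤ U, resH F (d + k + 1) hW ξ = 0}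
    obtain ⟨t, ht⟩ := hU.elim_finite_subcover (fun W : A => (W.1 : Set X)) (fun W => W.1.2) (by
      intro x hx
      obtain ⟨ι, O, hOU, hO, hres⟩ := Groth.Agent.S0460.result F U (d + k) ξ
      rw [← hO] at hx
      obtain ⟨i, hi⟩ := Opens.mem_iSup.1 hx
      obtain ⟨B, ⟨hB, hBc⟩, hxB, hBO⟩ :=
        PrespectralSpace.isTopologicalBasis.exists_subset_of_mem_open hi (O i).2
      have hBO' : (⟨B, hB⟩ : Opens X) ≤ O i := hBO
      refine Set.mem_iUnion.2 ⟨⟨⟨B, hB⟩, hBc, hBO'.trans (hOU i), ?_⟩, hxB⟩
      rw [← resH_resH (d + k + 1) hBO' (hOU i) ξ, ← res_eq_resH F (d + k + 1) (hOU i) ξ, hres i]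
      exact map_zero _)
    have key : ∀ s : Finset A, IsCompact ((s.sup fun W => W.1 : Opens X) : Set X) ∧
        ∃ hle : (s.sup fun W => W.1) ≤ U, resH F (d + k + 1) hle ξ = 0 := by
      intro s
      classical
      induction s using Finset.induction with
      | empty =>
        refine ⟨by simp, bot_le, ?_⟩
        exact @Subsingleton.elim _ (subsingleton_H'_bot F (d + k + 1)) _ _
      | insert W s _ ihs =>
        obtain ⟨hsc, hsU, hs⟩ := ihs
        obtain ⟨hWc, hWU, hW⟩ := W.2
        rw [Finset.sup_insert]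
        refine ⟨hWc.union hsc, sup_le hWU hsU, ?_⟩
        obtain ⟨w, hw⟩ := exists_deltaH (x := resH F (d + k + 1) (sup_le hWU hsU) ξ)
          (by rw [resH_resH]; exact hW) (by rw [resH_resH]; exact hs)
        have hIc : IsCompact ((W.1 ⊓ s.sup fun W => W.1 : Opens X) : Set X) :=
          QuasiSeparatedSpace.inter_isCompact _ _ W.1.2 hWc (s.sup fun W => W.1).2 hsc
        rw [← hw]
        obtain _ | k := k
        · obtain ⟨a, ha⟩ := surjective_resH hvan hd F inf_le_left hWc hIc w
          rw [← ha, ← sub_zero (resH F _ inf_le_left a), ← map_zero (resH F _ inf_le_right)]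
          exact deltaH_sub_eq_zero a 0
        · haveI := ih k (Nat.lt_succ_self k) _ hIc
          exact (congrArg _ (@Subsingleton.elim _ this w 0)).trans (map_zero _)
    obtain ⟨-, hle, hres⟩ := key t
    have e : U ≤ t.sup fun W => W.1 := fun x hx => by
      obtain ⟨W, hW, hxW⟩ := Set.mem_iUnion₂.1 (ht hx)
      exact (Finset.le_sup (f := fun W : A => W.1) hW) hxW
    rw [← resH_refl (F := F) (d + k + 1) (le_rfl : U ≤ U) ξ, ← resH_resH (d + k + 1) e hle ξ, hres, map_zero]

theorem vanLT (d : ℕ) : VanLT.{u} d := by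
  induction d with
  | zero =>
    intro X _ hd F p _
    haveI : IsEmpty X := ⟨fun x => Nat.not_lt_zero _ (hd (RelSeries.singleton _
      ⟨closure {x}, isIrreducible_singleton.closure, isClosed_closure⟩))⟩
    refine subsingleton_H_of_HU isTerminalTop ?_
    rw [show (⊤ : Opens X) = ⊥ from Opens.ext (Subsingleton.elim _ _)]
    exact subsingleton_H'_bot F p
  | succ d ih =>
    intro X _ hd F p hp
    obtain ⟨k, rfl⟩ := Nat.exists_eq_add_of_le hp
    refine subsingleton_H_of_HU isTerminalTop ?_
    rw [show d + 1 + k = d + k + 1 by omega]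
    exact subsingleton_ext_qc ih hd F k ⊤ isCompact_univ

/-- Cohomology of a spectral space of dimension at most `d` vanishes above `d`. -/
theorem subsingleton_H_spectral (d : ℕ) (hd : topologicalKrullDim X ≤ d) (F : CohTop.Ab X) (p : ℕ)
    (hp : d < p) : Subsingleton (CohTop.H F p) :=
  vanLT (d + 1) X (dimLT_of_le hd) F p hp

/-- In degree the dimension, restriction to compact opens is surjective. -/
theorem surjective_res_spectral (d : ℕ) (hd : topologicalKrullDim X ≤ d) (F : CohTop.Ab X) (U : Opens X)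
    (hU : IsCompact (U : Set X)) : Function.Surjective (CohTop.res F d (le_top : U ≤ ⊤)) := fun ξ =>
  surjective_resH (vanLT d) (dimLT_of_le hd) F le_top isCompact_univ hU ξ

end Groth.Agent.HTop16.Spectral
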