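import Groth.Prelude.Def_HTop
import Groth.Agent.SubtrLib.Basic
import Mathlib.AlgebraicGeometry.Morphisms.Flat

/-!
# V coverings
-/

set_option autoImplicit false
set_option backward.isDefEq.respectTransparency false
set_option linter.all false

universe w w' u

open CategoryTheory CategoryTheory.Limits AlgebraicGeometry TopologicalSpace IsLocalRing

namespace Groth.Agent.HTop16.VCover

theorem isExtVal_id (V : CommRingCat.{u}) [IsDomain V] [ValuationRing V] : HTop.IsExtVal V V (𝟙 V) :=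
  ⟨fun _ _ h => h, ⟨fun _ h => h⟩⟩

theorem isExtVal_comp {V W W' : CommRingCat.{u}} [IsDomain V] [ValuationRing V] [IsDomain W] [ValuationRing W]
    [IsDomain W'] [ValuationRing W'] {φ : V ⟶ W} {ψ : W ⟶ W'} (hφ : HTop.IsExtVal V W φ)
    (hψ : HTop.IsExtVal W W' ψ) : HTop.IsExtVal V W' (φ ≫ ψ) :=
  ⟨hψ.1.comp hφ.1, by
    haveI := hφ.2
    haveI := hψ.2
    exact RingHom.isLocalHom_comp ψ.hom φ.hom⟩

/-- A morphism from the spectrum of a local ring lands in every open containing the image of the closed point. -/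
theorem exists_factor_open {V : CommRingCat.{u}} [IsLocalRing V] {T : Scheme.{u}} (g : Spec V ⟶ T) (U : T.Opens)
    (hU : g (closedPoint V) ∈ U) : ∃ g' : Spec V ⟶ (U : Scheme.{u}), g' ≫ U.ι = g := by
  have h : Set.range g ⊆ Set.range U.ι := by
    rw [Scheme.Opens.range_ι]
    rintro _ ⟨z, rfl⟩
    exact ((PrimeSpectrum.le_iff_specializes z (closedPoint V)).1 (IsLocalRing.le_maximalIdeal z.2.ne_top)).map
      g.continuous |>.mem_open U.isOpen hU
  exact ⟨IsOpenImmersion.lift U.ι g h, IsOpenImmersion.lift_fac _ _ _⟩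

/-- A specialization over the generic and closed points gives an extension of valuation rings. -/
theorem exists_extVal_of_specializes {V : CommRingCat.{u}} [IsDomain V] [ValuationRing V] {Z : Scheme.{u}}
    (π : Z ⟶ Spec V) {z' z : Z} (hz : z' ⤳ z)
    (h' : π z' = (⟨⊥, Ideal.isPrime_bot⟩ : PrimeSpectrum V)) (h : π z = closedPoint V) :
    ∃ (W : CommRingCat.{u}) (_ : IsDomain W) (_ : ValuationRing W) (φ : V ⟶ W),
      HTop.IsExtVal V W φ ∧ ∃ k : Spec W ⟶ Z, k ≫ π = Spec.map φ := by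
  obtain ⟨W, _, _, _, k, hk', hk⟩ := SubtrLib.exists_valuation_map hz
  let φ : V ⟶ CommRingCat.of W := Spec.preimage (k ≫ π)
  have hφ : Spec.map φ = k ≫ π := Spec.map_preimage _
  refine ⟨CommRingCat.of W, ‹_›, ‹_›, φ, ⟨?_, ?_⟩, k, hφ.symm⟩
  · rw [injective_iff_map_eq_zero]
    intro a ha
    have e : Spec.map φ (⟨⊥, Ideal.isPrime_bot⟩ : PrimeSpectrum W) = (⟨⊥, Ideal.isPrime_bot⟩ : PrimeSpectrum V) := by
      rw [hφ, Scheme.Hom.comp_apply, hk', h']
    have := congrArg PrimeSpectrum.asIdeal e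
    have ha' : a ∈ (Ideal.comap φ.hom ⊥) := ha
    exact (show Ideal.comap φ.hom ⊥ = ⊥ from this).le ha'
  · have e : Spec.map φ (closedPoint W) = closedPoint V := by rw [hφ, Scheme.Hom.comp_apply, hk, h]
    have h0 : Ideal.comap φ.hom (maximalIdeal W) = maximalIdeal V := congrArg PrimeSpectrum.asIdeal e
    exact ((local_hom_TFAE φ.hom).out 4 0).1 h0

variable {T : Scheme.{u}}

/-- Specialization lifting gives the valuation lifting property. -/
theorem hasValLift_of_specializes (E : PreZeroHypercover.{w} T)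
    (h : ∀ (V : CommRingCat.{u}) [IsDomain V] [ValuationRing V] (g : Spec V ⟶ T),
      ∃ (i : E.I₀) (z' z : ↑(pullback g (E.f i))), z' ⤳ z ∧
        pullback.fst g (E.f i) z' = (⟨⊥, Ideal.isPrime_bot⟩ : PrimeSpectrum V) ∧
        pullback.fst g (E.f i) z = closedPoint V) : HTop.HasValLift E := by
  intro V _ _ g
  obtain ⟨i, z', z, hz, h', hc⟩ := h V g
  obtain ⟨W, hW, hW', φ, hφ, k, hk⟩ := exists_extVal_of_specializes _ hz h' hc
  exact ⟨W, hW, hW', φ, hφ, i, k ≫ pullback.snd g (E.f i), by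
    rw [Category.assoc, ← pullback.condition, reassoc_of% hk]⟩

/-- Valuation lifting gives specialization lifting. -/
theorem exists_specializes_of_hasValLift {E : PreZeroHypercover.{w} T} (hE : HTop.HasValLift E) {Z : Scheme.{u}}
    (g : Z ⟶ T) {z' z : Z} (hz : z' ⤳ z) :
    ∃ (i : E.I₀) (w' w : ↑(pullback g (E.f i))), w' ⤳ w ∧
      pullback.fst g (E.f i) w' = z' ∧ pullback.fst g (E.f i) w = z := by
  obtain ⟨V, _, _, _, k, hk', hk⟩ := SubtrLib.exists_valuation_map hz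
  obtain ⟨W, _, _, φ, hφ, i, g', hg'⟩ := hE (CommRingCat.of V) (k ≫ g)
  let l : Spec W ⟶ pullback g (E.f i) := pullback.lift (Spec.map φ ≫ k) g' (by rw [Category.assoc, hg'])
  have e1 : Spec.map φ (⟨⊥, Ideal.isPrime_bot⟩ : PrimeSpectrum W) = (⟨⊥, Ideal.isPrime_bot⟩ : PrimeSpectrum V) :=
    PrimeSpectrum.ext ((RingHom.injective_iff_ker_eq_bot φ.hom).1 hφ.1)
  have e2 : Spec.map φ (closedPoint W) = closedPoint V :=
    haveI := hφ.2
    PrimeSpectrum.ext (((local_hom_TFAE φ.hom).out 0 4).1 hφ.2)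
  refine ⟨i, l (⟨⊥, Ideal.isPrime_bot⟩ : PrimeSpectrum W), l (closedPoint W),
    ((PrimeSpectrum.le_iff_specializes _ _).1 bot_le).map l.continuous, ?_, ?_⟩
  · rw [← Scheme.Hom.comp_apply, pullback.lift_fst, Scheme.Hom.comp_apply, e1, hk']
  · rw [← Scheme.Hom.comp_apply, pullback.lift_fst, Scheme.Hom.comp_apply, e2, hk]

theorem hasValLift_pullback {T' : Scheme.{u}} (g : T' ⟶ T) {E : PreZeroHypercover.{w} T} (hE : HTop.HasValLift E) :
    HTop.HasValLift (E.pullback₁ g) := by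
  intro V _ _ g₀
  obtain ⟨W, hW, hW', φ, hφ, i, g', hg'⟩ := hE V (g₀ ≫ g)
  exact ⟨W, hW, hW', φ, hφ, i, pullback.lift (Spec.map φ ≫ g₀) g' (by rw [Category.assoc, hg']),
    pullback.lift_fst _ _ _⟩

theorem hasValLift_bind {E : PreZeroHypercover.{w} T} (hE : HTop.HasValLift E)
    {F : ∀ i, PreZeroHypercover.{w'} (E.X i)} (hF : ∀ i, HTop.HasValLift (F i)) : HTop.HasValLift (E.bind F) := by
  intro V _ _ g
  obtain ⟨W, _, _, φ, hφ, i, g', hg'⟩ := hE V g
  obtain ⟨W', hW, hW', ψ, hψ, j, g'', hg''⟩ := hF i W g'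
  refine ⟨W', hW, hW', φ ≫ ψ, isExtVal_comp hφ hψ, ⟨i, j⟩, g'', ?_⟩
  change g'' ≫ (F i).f j ≫ E.f i = _
  rw [reassoc_of% hg'', hg', Spec.map_comp, Category.assoc]

theorem isStandardV_pullback {T' : Scheme.{u}} [IsAffine T'] (g : T' ⟶ T) {E : PreZeroHypercover.{w} T}
    (hE : HTop.IsStandardV E) : HTop.IsStandardV (E.pullback₁ g) where
  isAffine := ‹_›
  finite_index := hE.finite_index
  isAffine_obj j := by
    haveI := hE.isAffine
    haveI := hE.isAffine_obj j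
    exact inferInstanceAs (IsAffine (pullback g (E.f j)))
  lift := hasValLift_pullback g hE.lift

theorem isStandardV_bind {E : PreZeroHypercover.{w} T} (hE : HTop.IsStandardV E)
    {F : ∀ i, PreZeroHypercover.{w'} (E.X i)} (hF : ∀ i, HTop.IsStandardV (F i)) :
    HTop.IsStandardV (E.bind F) where
  isAffine := hE.isAffine
  finite_index := by
    haveI := hE.finite_index
    haveI := fun i => (hF i).finite_index
    exact inferInstanceAs (Finite (Σ i : E.I₀, (F i).I₀))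
  isAffine_obj ij := (hF ij.1).isAffine_obj ij.2
  lift := hasValLift_bind hE.lift fun i => (hF i).lift

theorem hasValLift_of_isVCover {E : PreZeroHypercover.{w} T} (hE : HTop.IsVCover E) : HTop.HasValLift E := by
  intro V _ _ g
  obtain ⟨_, ⟨U, hU, rfl⟩, hcU, -⟩ :=
    T.isBasis_affineOpens.exists_subset_of_mem_open (Set.mem_univ (g (closedPoint V))) isOpen_univ
  obtain ⟨F, hF, hr⟩ := hE ⟨U, hU⟩
  obtain ⟨g₀, hg₀⟩ := exists_factor_open g U hcU
  obtain ⟨W, hW, hW', φ, hφ, j, g', hg'⟩ := hF.lift V g₀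
  obtain ⟨i, a, ha⟩ := hr j
  refine ⟨W, hW, hW', φ, hφ, i, g' ≫ a, ?_⟩
  rw [Category.assoc, ha, reassoc_of% hg', hg₀]

/-- A `V` covering pulled back to an affine scheme is refined by a standard one. -/
theorem exists_standardV_refinesOver {E : PreZeroHypercover.{w} T} (hE : HTop.IsVCover E) {A : Scheme.{u}}
    [IsAffine A] (h : A ⟶ T) :
    ∃ G : PreZeroHypercover.{0} A, HTop.IsStandardV G ∧ HTop.RefinesOver h G E := by
  have key : ∀ a : A, ∃ (O : A.Opens) (U : T.affineOpens), a ∈ O ∧ IsAffineOpen O ∧ O ≤ h ⁻¹ᵁ U.1 := fun a => by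
    obtain ⟨_, ⟨U, hU, rfl⟩, haU, -⟩ :=
      T.isBasis_affineOpens.exists_subset_of_mem_open (Set.mem_univ (h a)) isOpen_univ
    obtain ⟨_, ⟨O, hO, rfl⟩, haO, hOU⟩ := A.isBasis_affineOpens.exists_subset_of_mem_open
      (show a ∈ (↑(h ⁻¹ᵁ U) : Set A) from haU) (h ⁻¹ᵁ U).isOpen
    exact ⟨O, ⟨U, hU⟩, haO, hO, hOU⟩
  choose O U haO hO hOU using key
  obtain ⟨s, hs⟩ := isCompact_univ.elim_finite_subcover (fun a => (O a : Set A))
    (fun a => (O a).isOpen) fun a _ => Set.mem_iUnion.2 ⟨a, haO a⟩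
  let a : Fin s.card → A := fun k => (s.equivFin.symm k).1
  choose F hF hr using fun k => hE (U (a k))
  let h' : ∀ k, ((O (a k)) : Scheme.{u}) ⟶ ((U (a k)).1 : Scheme.{u}) := fun k =>
    h.resLE (U (a k)).1 (O (a k)) (hOU (a k))
  let G : PreZeroHypercover.{0} A :=
    { I₀ := Σ k : Fin s.card, (F k).I₀
      X := fun kj => pullback (h' kj.1) ((F kj.1).f kj.2)
      f := fun kj => pullback.fst (h' kj.1) ((F kj.1).f kj.2) ≫ (O (a kj.1)).ι }
  refine ⟨G, ⟨‹_›, ?_, fun kj => ?_, ?_⟩, fun kj => ?_⟩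
  · haveI := fun k => (hF k).finite_index
    exact inferInstanceAs (Finite (Σ k : Fin s.card, (F k).I₀))
  · haveI : IsAffine ((O (a kj.1)) : Scheme.{u}) := hO _
    haveI : IsAffine (((U (a kj.1)).1) : Scheme.{u}) := (U (a kj.1)).2
    haveI := (hF kj.1).isAffine_obj kj.2
    exact inferInstanceAs (IsAffine (pullback (h' kj.1) ((F kj.1).f kj.2)))
  · intro V _ _ g
    obtain ⟨x, hx⟩ := Set.mem_iUnion.1 (hs (Set.mem_univ (g (closedPoint V))))
    obtain ⟨hxs, hxg⟩ := Set.mem_iUnion.1 hx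
    obtain ⟨k, hk⟩ : ∃ k, a k = x := ⟨s.equivFin ⟨x, hxs⟩, by simp [a]⟩
    obtain ⟨g₀, hg₀⟩ := exists_factor_open g (O (a k)) (by rw [hk]; exact hxg)
    obtain ⟨W, hW, hW', φ, hφ, j, g', hg'⟩ := (hF k).lift V (g₀ ≫ h' k)
    refine ⟨W, hW, hW', φ, hφ, ⟨k, j⟩, pullback.lift (Spec.map φ ≫ g₀) g' (by rw [Category.assoc, hg']), ?_⟩
    change pullback.lift _ _ _ ≫ pullback.fst _ _ ≫ (O (a k)).ι = _
    rw [pullback.lift_fst_assoc, Category.assoc, hg₀]
  · obtain ⟨i, b, hb⟩ := hr kj.1 kj.2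
    refine ⟨i, pullback.snd _ _ ≫ b, ?_⟩
    change _ = (pullback.fst _ _ ≫ (O (a kj.1)).ι) ≫ h
    rw [Category.assoc, hb, ← reassoc_of% pullback.condition]
    simp [h']

theorem isVCover_pullback {T' : Scheme.{u}} (g : T' ⟶ T) {E : PreZeroHypercover.{w} T} (hE : HTop.IsVCover E) :
    HTop.IsVCover (E.pullback₁ g) := fun U => by
  haveI : IsAffine (U.1 : Scheme.{u}) := U.2
  obtain ⟨G, hG, hr⟩ := exists_standardV_refinesOver hE (U.1.ι ≫ g)
  refine ⟨G, hG, fun j => ?_⟩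
  obtain ⟨i, a, ha⟩ := hr j
  exact ⟨i, pullback.lift (G.f j ≫ U.1.ι) a (by rw [Category.assoc, ha]), pullback.lift_fst _ _ _⟩

theorem isVCover_bind {E : PreZeroHypercover.{w} T} (hE : HTop.IsVCover E)
    {F : ∀ i, PreZeroHypercover.{w'} (E.X i)} (hF : ∀ i, HTop.IsVCover (F i)) : HTop.IsVCover (E.bind F) := by
  intro U
  obtain ⟨G₀, hG₀, hr₀⟩ := hE U
  choose i a ha using hr₀
  haveI := hG₀.isAffine_obj
  choose G hG hr using fun k => exists_standardV_refinesOver (hF (i k)) (a k)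
  refine ⟨G₀.bind G, isStandardV_bind hG₀ hG, fun kj => ?_⟩
  obtain ⟨j, b, hb⟩ := hr kj.1 kj.2
  refine ⟨⟨i kj.1, j⟩, b, ?_⟩
  change b ≫ (F (i kj.1)).f j ≫ E.f (i kj.1) = ((G kj.1).f kj.2 ≫ G₀.f kj.1) ≫ U.1.ι
  rw [reassoc_of% hb, ha, Category.assoc]

theorem isVCover_singleton_of_hasValLift {X Y : Scheme.{u}} (f : X ⟶ Y) [QuasiCompact f]
    (h : HTop.HasValLift (PreZeroHypercover.singleton.{w'} f)) :
    HTop.IsVCover (PreZeroHypercover.singleton.{w} f) := by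
  intro U
  haveI : IsAffine (U.1 : Scheme.{u}) := U.2
  have hc : IsCompact (↑(f ⁻¹ᵁ U.1) : Set X) := f.isCompact_preimage U.2.isCompact
  obtain ⟨s, hs⟩ := hc.elim_finite_subcover
    (fun O : {O : X.Opens // IsAffineOpen O ∧ O ≤ f ⁻¹ᵁ U.1} => (O.1 : Set X))
    (fun O => O.1.isOpen) (fun x hx => by
      obtain ⟨_, ⟨O, hO, rfl⟩, hxO, hle⟩ :=
        X.isBasis_affineOpens.exists_subset_of_mem_open hx (f ⁻¹ᵁ U.1).isOpen
      exact Set.mem_iUnion.2 ⟨⟨O, hO, hle⟩, hxO⟩)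
  let o : Fin s.card → {O : X.Opens // IsAffineOpen O ∧ O ≤ f ⁻¹ᵁ U.1} := fun k => (s.equivFin.symm k).1
  let G : PreZeroHypercover.{0} (U.1 : Scheme.{u}) :=
    { I₀ := Fin s.card
      X := fun k => ((o k).1 : Scheme.{u})
      f := fun k => f.resLE U.1 (o k).1 (o k).2.2 }
  refine ⟨G, ⟨U.2, inferInstanceAs (Finite (Fin s.card)), fun k => (o k).2.1, ?_⟩,
    fun k => ⟨PUnit.unit, (o k).1.ι, (Scheme.Hom.resLE_comp_ι f (o k).2.2).symm⟩⟩
  intro V _ _ g
  obtain ⟨W, hW, hW', φ, hφ, ⟨⟩, g', hg'⟩ := h V (g ≫ U.1.ι)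
  change Spec W ⟶ X at g'
  change g' ≫ f = _ at hg'
  have hm : g' (closedPoint W) ∈ (↑(f ⁻¹ᵁ U.1) : Set X) := by
    change (g' ≫ f) (closedPoint W) ∈ U.1
    rw [hg', ← Category.assoc, Scheme.Hom.comp_apply]
    exact (((Spec.map φ ≫ g) (closedPoint W))).2
  obtain ⟨x, hx⟩ := Set.mem_iUnion.1 (hs hm)
  obtain ⟨hxs, hxg⟩ := Set.mem_iUnion.1 hx
  obtain ⟨k, hk⟩ : ∃ k, o k = x := ⟨s.equivFin ⟨x, hxs⟩, by simp [o]⟩
  obtain ⟨g'', hg''⟩ := exists_factor_open g' (o k).1 (by rw [hk]; exact hxg)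
  refine ⟨W, hW, hW', φ, hφ, k, g'', ?_⟩
  rw [← cancel_mono U.1.ι, Category.assoc, Category.assoc, Scheme.Hom.resLE_comp_ι, reassoc_of% hg'', hg']

theorem hasValLift_singleton_univ {X Y : Scheme.{u}} {f : X ⟶ Y}
    (h : HTop.HasValLift (PreZeroHypercover.singleton.{w} f)) :
    HTop.HasValLift (PreZeroHypercover.singleton.{w'} f) := by
  intro V _ _ g
  obtain ⟨W, hW, hW', φ, hφ, ⟨⟩, g', hg'⟩ := h V g
  exact ⟨W, hW, hW', φ, hφ, PUnit.unit, g', hg'⟩

end Groth.Agent.HTop16.VCover
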