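import Groth.Agent.FlatMorGeom.ClosedPointsFibre
import Mathlib.RingTheory.Jacobson.Ring
import Mathlib.FieldTheory.IsAlgClosed.Basic
import Mathlib.RingTheory.Valuation.ValuationRing

/-!
# Points over valuation rings with algebraically closed fraction field

A finite type algebra over a valuation ring with algebraically closed fraction field which has a point
with values in an extension of valuation rings has a point with values in the valuation ring itself.
-/

set_option autoImplicit false
set_option linter.all false

universe u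

open IsLocalRing

namespace Groth.Agent.HTop16.ValPoint

set_option maxHeartbeats 1600000 in
theorem exists_point {V W A : Type u} [CommRing V] [IsDomain V] [ValuationRing V]
    [IsAlgClosed (FractionRing V)] [CommRing W] [IsDomain W] [IsLocalRing W]
    [CommRing A] [Algebra V A] [Algebra.FiniteType V A] (φ : V →+* W) (hφ : Function.Injective φ)
    [IsLocalHom φ] (ψ : A →+* W) (hψ : ψ.comp (algebraMap V A) = φ) :
    Nonempty (A →ₐ[V] V) := by
  let K := FractionRing V
  let B := A ⧸ RingHom.ker ψ
  haveI : IsDomain B := (Ideal.Quotient.isDomain_iff_prime _).2 (RingHom.ker_isPrime ψ)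
  let ψ' : B →+* W := Ideal.Quotient.lift (RingHom.ker ψ) ψ fun a ha => ha
  have hψ' : ∀ v, ψ' (algebraMap V B v) = φ v := fun v => RingHom.congr_fun hψ v
  have hinj : Function.Injective (algebraMap V B) := fun a b h => hφ (by rw [← hψ', ← hψ', h])
  haveI : FaithfulSMul V B := (faithfulSMul_iff_algebraMap_injective V B).2 hinj
  haveI : Algebra.FiniteType V B := Algebra.FiniteType.trans (S := A) inferInstance inferInstance
  obtain ⟨n, hn, hqn⟩ := Ideal.exists_le_maximal ((maximalIdeal W).comap ψ') (Ideal.comap_ne_top _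
    (maximalIdeal.isMaximal W).ne_top)
  have hnV : n.comap (algebraMap V B) = maximalIdeal V := by
    refine ((maximalIdeal.isMaximal V).eq_of_le (Ideal.comap_ne_top _ hn.ne_top) fun v hv => hqn ?_).symm
    show ψ' (algebraMap V B v) ∈ maximalIdeal W
    rw [hψ']
    exact map_nonunit φ v hv
  haveI : n.LiesOver (maximalIdeal V) := ⟨hnV.symm⟩
  obtain ⟨P, hP, hPn, hP0, hPx⟩ : ∃ P : Ideal B, P.IsPrime ∧ P ≤ n ∧ P.comap (algebraMap V B) = ⊥ ∧
      ∀ x ∉ P, ∃ a : V, a ≠ 0 ∧ algebraMap V B a ∈ P ⊔ Ideal.span {x} := by
    by_cases hm : maximalIdeal V = ⊥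
    · refine ⟨n, hn.isPrime, le_rfl, hnV.trans hm, fun x hx => ⟨1, one_ne_zero, ?_⟩⟩
      rw [map_one]
      exact (Ideal.eq_top_iff_one _).1 (hn.1.2 _ (lt_of_le_of_ne le_sup_left fun h =>
        hx (h.symm.le (Ideal.mem_sup_right (Ideal.mem_span_singleton_self x)))))
    · obtain ⟨P, hP, hPn, -, hP0, hPx⟩ := FlatMorGeom.exists_prime_valuationRing hm n 1 one_ne_zero
      exact ⟨P, hP, hPn, hP0, hPx⟩
  let C := B ⧸ P
  haveI : IsDomain C := (Ideal.Quotient.isDomain_iff_prime P).2 hP
  let L := FractionRing C
  let i : V →+* L := (algebraMap C L).comp (algebraMap V C)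
  have hi : Function.Injective i := (IsFractionRing.injective C L).comp fun a b h => by
    have : a - b ∈ P.comap (algebraMap V B) := by
      rw [Ideal.mem_comap, map_sub, ← Ideal.Quotient.eq]
      exact h
    rw [hP0, Ideal.mem_bot, sub_eq_zero] at this
    exact this
  letI : Algebra K L := (IsFractionRing.lift (g := i) hi).toAlgebra
  haveI : IsScalarTower V K L :=
    IsScalarTower.of_algebraMap_eq fun v => by
      rw [RingHom.algebraMap_toAlgebra, IsFractionRing.lift_algebraMap]
      exact IsScalarTower.algebraMap_apply V C L v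
  haveI : Algebra.FiniteType K L := by
    obtain ⟨s, hs⟩ := (inferInstance : Algebra.FiniteType V C).out
    classical
    refine ⟨⟨s.image (algebraMap C L), eq_top_iff.2 fun z _ => ?_⟩⟩
    let T := Algebra.adjoin K ((s.image (algebraMap C L) : Finset L) : Set L)
    have hC : ∀ c : C, algebraMap C L c ∈ T := by
      intro c
      have hc : c ∈ Algebra.adjoin V (s : Set C) := hs ▸ trivial
      induction hc using Algebra.adjoin_induction with
      | mem x hx => exact Algebra.subset_adjoin (Finset.mem_coe.2 (Finset.mem_image_of_mem _ hx))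
      | algebraMap r =>
        rw [← IsScalarTower.algebraMap_apply V C L, IsScalarTower.algebraMap_apply V K L]
        exact T.algebraMap_mem _
      | add x y _ _ hx hy => rw [map_add]; exact T.add_mem hx hy
      | mul x y _ _ hx hy => rw [map_mul]; exact T.mul_mem hx hy
    obtain ⟨a, b, hb, rfl⟩ := IsFractionRing.div_surjective C z
    obtain ⟨b', rfl⟩ := Ideal.Quotient.mk_surjective b
    have hb' : b' ∉ P := fun h => nonZeroDivisors.ne_zero hb (Ideal.Quotient.eq_zero_iff_mem.2 h)
    obtain ⟨v, hv, hmem⟩ := hPx b' hb'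
    obtain ⟨p, hp, y, hy, hpy⟩ := Submodule.mem_sup.1 hmem
    obtain ⟨w, rfl⟩ := Ideal.mem_span_singleton'.1 hy
    have e : algebraMap V C v = Ideal.Quotient.mk P w * Ideal.Quotient.mk P b' := by
      rw [← map_mul]
      change Ideal.Quotient.mk P (algebraMap V B v) = _
      rw [← hpy, map_add, Ideal.Quotient.eq_zero_iff_mem.2 hp, zero_add]
    have hvK : algebraMap V K v ≠ 0 := fun h => hv (IsFractionRing.injective V K (h.trans (map_zero _).symm))
    have e2 : algebraMap C L a / algebraMap C L (Ideal.Quotient.mk P b') =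
        algebraMap C L a * algebraMap C L (Ideal.Quotient.mk P w) * algebraMap K L (algebraMap V K v)⁻¹ := by
      have hbL : algebraMap C L (Ideal.Quotient.mk P b') ≠ 0 := fun h =>
        hb' (Ideal.Quotient.eq_zero_iff_mem.1 (IsFractionRing.injective C L (h.trans (map_zero _).symm)))
      have hwL : algebraMap C L (Ideal.Quotient.mk P w) ≠ 0 := fun h => hv (hi (by
        rw [map_zero]
        change algebraMap C L (algebraMap V C v) = 0
        rw [e, map_mul, h, zero_mul]))
      rw [map_inv₀, ← IsScalarTower.algebraMap_apply V K L, IsScalarTower.algebraMap_apply V C L, e, map_mul]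
      rw [mul_inv, ← mul_assoc, mul_inv_cancel_right₀ hwL, div_eq_mul_inv]
    rw [e2]
    exact T.mul_mem (T.mul_mem (hC _) (hC _)) (T.algebraMap_mem _)
  haveI : Module.Finite K L := finite_of_finite_type_of_isJacobsonRing K L
  have hbij : Function.Bijective (algebraMap K L) := IsAlgClosed.algebraMap_bijective_of_isIntegral
  let ρ : B →+* K := ((RingEquiv.ofBijective _ hbij).symm.toRingHom.comp (algebraMap C L)).comp (Ideal.Quotient.mk P)
  have hρ : ∀ b, algebraMap K L (ρ b) = algebraMap C L (Ideal.Quotient.mk P b) := fun b =>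
    (RingEquiv.ofBijective _ hbij).apply_symm_apply _
  have hρV : ∀ v, ρ (algebraMap V B v) = algebraMap V K v := fun v => hbij.1 (by
    rw [hρ, ← IsScalarTower.algebraMap_apply V K L, IsScalarTower.algebraMap_apply V C L]
    rfl)
  have key : ∀ b, ∃ v : V, algebraMap V K v = ρ b := fun b => by
    rcases ValuationRing.isInteger_or_isInteger V (ρ b) with h | h
    · exact h
    · obtain ⟨μ, hμ⟩ := h
      rcases eq_or_ne μ 0 with rfl | hμ0
      · refine ⟨0, ?_⟩
        rw [map_zero] at hμ ⊢
        exact (inv_eq_zero.1 hμ.symm).symm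
      by_cases hu : IsUnit μ
      · obtain ⟨u, rfl⟩ := hu
        refine ⟨((u⁻¹ : Vˣ) : V), ?_⟩
        rw [← inv_inv (ρ b), ← hμ, eq_comm, inv_eq_iff_eq_inv, ← one_div, eq_div_iff, ← map_mul, Units.mul_inv,
          map_one]
        exact fun h0 => (u⁻¹).ne_zero (IsFractionRing.injective V K (h0.trans (map_zero _).symm))
      · exfalso
        have hz : Ideal.Quotient.mk P (algebraMap V B μ * b - 1) = 0 := by
          apply IsFractionRing.injective C L
          rw [map_sub, map_sub, map_mul, map_mul, map_one, map_one, ← hρ, ← hρ, hρV, hμ, ← map_mul,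
            inv_mul_cancel₀ (fun h0 => hμ0 (IsFractionRing.injective V K (by rw [hμ, h0, inv_zero, map_zero]))),
            map_one, sub_self, map_zero]
        have h1 : algebraMap V B μ * b - 1 ∈ n := hPn (Ideal.Quotient.eq_zero_iff_mem.1 hz)
        have h2 : algebraMap V B μ * b ∈ n :=
          Ideal.mul_mem_right _ _ (show μ ∈ n.comap (algebraMap V B) from hnV ▸ hu)
        have := n.sub_mem h2 h1
        rw [sub_sub_cancel] at this
        exact hn.ne_top ((Ideal.eq_top_iff_one _).2 this)
  choose r hr using key
  have inj := IsFractionRing.injective V K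
  let q : A →+* B := Ideal.Quotient.mk _
  have hr' : ∀ a, algebraMap V K (r (q a)) = ρ (q a) := fun a => hr _
  exact ⟨{
    toFun := fun a => r (q a)
    map_one' := inj ((hr' 1).trans (by rw [map_one q, map_one ρ, map_one]))
    map_mul' := fun a b => inj ((hr' _).trans (by rw [map_mul q, map_mul ρ, map_mul, hr', hr']))
    map_zero' := inj ((hr' 0).trans (by rw [map_zero q, map_zero ρ, map_zero]))
    map_add' := fun a b => inj ((hr' _).trans (by rw [map_add q, map_add ρ, map_add, hr', hr']))
    commutes' := fun v => inj ((hr' _).trans (hρV v)) }⟩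

end Groth.Agent.HTop16.ValPoint
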