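import Groth.Agent.HTop16.ValUltra
import Groth.Agent.HTop16.ValPoint
import Groth.Agent.H8Lim.ChowPn
import Groth.Agent.Props12.KerReduced
import Groth.Agent.HTop16.VCover
import Mathlib.RingTheory.Valuation.LocalSubring
import Mathlib.RingTheory.Adjoin.FG
import Mathlib.RingTheory.Ideal.MinimalPrime.Noetherian

/-!
# A valuation covering family of morphisms of finite presentation is refined by a proper surjection
-/

set_option autoImplicit false
set_option backward.isDefEq.respectTransparency false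
set_option linter.all false

universe w u

open CategoryTheory CategoryTheory.Limits AlgebraicGeometry TopologicalSpace IsLocalRing
open CohB1 (ProjSpaceOver)

namespace Groth.Agent.HTop16.PhRefine

/-- An immersion sends a reduced scheme whose generic point lands in it into itself. -/
theorem exists_lift_of_dense {B P O : Scheme.{u}} [IsReduced O] (i : B ⟶ P) [IsImmersion i] (g : O ⟶ P)
    (hg : ∀ x, g x ∈ i.coborderRange) (S : Set O) (hS : Dense S) (hSi : ∀ x ∈ S, g x ∈ Set.range i) :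
    ∃ a : O ⟶ B, a ≫ i = g := by
  let g' : O ⟶ (i.coborderRange : Scheme.{u}) := IsOpenImmersion.lift i.coborderRange.ι g (by
    rw [Scheme.Opens.range_ι]
    rintro _ ⟨x, rfl⟩
    exact hg x)
  have hg' : g' ≫ i.coborderRange.ι = g := IsOpenImmersion.lift_fac _ _ _
  haveI : Surjective (pullback.fst g' i.liftCoborder) := by
    refine ⟨fun x => ?_⟩
    have h : S ⊆ Set.range (pullback.fst g' i.liftCoborder) := fun y hy => by
      obtain ⟨b, hb⟩ := hSi y hy
      obtain ⟨q, hq, -⟩ := Scheme.Pullback.exists_preimage_pullback (f := g') (g := i.liftCoborder) y b (by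
        apply i.coborderRange.ι.isOpenEmbedding.injective
        rw [← Scheme.Hom.comp_apply, hg', ← Scheme.Hom.comp_apply, Scheme.Hom.liftCoborder_ι, hb])
      exact ⟨q, hq⟩
    have hc := (pullback.fst g' i.liftCoborder).isClosedMap.isClosed_range
    exact hc.closure_subset_iff.2 h (hS x)
  haveI := isIso_of_isClosedImmersion_of_surjective (pullback.fst g' i.liftCoborder)
  refine ⟨inv (pullback.fst g' i.liftCoborder) ≫ pullback.snd _ _, ?_⟩
  rw [Category.assoc, IsIso.inv_comp_eq, ← hg', pullback.condition_assoc, Scheme.Hom.liftCoborder_ι]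

variable {R : CommRingCat.{u}} {ι : Type} [Finite ι] {n : ι → ℕ}

/-- Near `x`, one of the systems has a solution. -/
def Good (F : ∀ k, Set (MvPolynomial (Fin (n k)) R)) {W : Scheme.{u}} (w : W ⟶ Spec R) (x : W) : Prop :=
  ∃ (A : CommRingCat.{u}) (χ : R ⟶ A) (j : Spec A ⟶ W),
    IsOpenImmersion j ∧ x ∈ Set.range j ∧ j ≫ w = Spec.map χ ∧ ValUltra.Pt F χ.hom

variable {F : ∀ k, Set (MvPolynomial (Fin (n k)) R)}

omit [Finite ι] in
theorem good_of_isOpenImmersion {W' W : Scheme.{u}} (e : W' ⟶ W) [IsOpenImmersion e] {w' : W' ⟶ Spec R}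
    {w : W ⟶ Spec R} (h : e ≫ w = w') {x : W'} (hx : Good F w' x) : Good F w (e x) := by
  obtain ⟨A, χ, j, hj, ⟨z, rfl⟩, hjw, hpt⟩ := hx
  exact ⟨A, χ, j ≫ e, inferInstance, ⟨z, rfl⟩, by rw [Category.assoc, h, hjw], hpt⟩

omit [Finite ι] in
theorem pt_comp {A A' : Type u} [CommRing A] [CommRing A'] {χ : R →+* A} (θ : A →+* A') (h : ValUltra.Pt F χ) :
    ValUltra.Pt F (θ.comp χ) := by
  obtain ⟨k, v, hv⟩ := h
  exact ⟨k, fun i => θ (v i), fun f hf => by
    have := MvPolynomial.eval₂_comp_left θ χ v f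
    rw [hv f hf, map_zero] at this
    exact this.symm⟩

theorem exists_component (hC : ValUltra.Cov F) (p : Spec R) :
    ∃ (W : Scheme.{u}) (w : W ⟶ Spec R), IsProper w ∧ p ∈ Set.range w ∧ ∀ x, Good F w x := by
  classical
  let D := R ⧸ p.asIdeal
  haveI : IsDomain D := (Ideal.Quotient.isDomain_iff_prime _).2 p.isPrime
  let Ω := AlgebraicClosure (FractionRing D)
  let χ : R →+* Ω := ((algebraMap (FractionRing D) Ω).comp (algebraMap D (FractionRing D))).comp (Ideal.Quotient.mk _)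
  have hχp : RingHom.ker χ = p.asIdeal := by
    have hinj : Function.Injective ((algebraMap (FractionRing D) Ω).comp (algebraMap D (FractionRing D))) :=
      (algebraMap (FractionRing D) Ω).injective.comp (IsFractionRing.injective D (FractionRing D))
    rw [RingHom.ker_comp_of_injective _ hinj, Ideal.mk_ker]
  obtain ⟨s, hs, hval⟩ := ValUltra.exists_finite_points F hC χ
  let c : Fin s.card → Σ k, Fin (n k) → Ω := fun m => (s.equivFin.symm m).1
  have hc : ∀ m, c m ∈ s := fun m => (s.equivFin.symm m).2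
  let B : ι → CommRingCat.{u} := fun k =>
    CommRingCat.of (MvPolynomial (Fin (n k)) R ⧸ Ideal.span (F k))
  let β : ∀ k, R ⟶ B k := fun k => CommRingCat.ofHom (algebraMap R _)
  haveI : ∀ k, LocallyOfFiniteType (Spec.map (β k)) := fun k =>
    (HasRingHomProperty.Spec_iff (P := @LocallyOfFiniteType)).2 (RingHom.finiteType_algebraMap.2
      (inferInstanceAs (Algebra.FiniteType R (MvPolynomial (Fin (n k)) R ⧸ Ideal.span (F k)))))
  choose N i hi hib using fun k => H8Lim.ChowPn.exists_affine_immersion_pn (Spec.map (β k))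
  let pt : ∀ m, B (c m).1 ⟶ CommRingCat.of Ω := fun m => CommRingCat.ofHom
    (Ideal.Quotient.lift _ (MvPolynomial.eval₂Hom χ (c m).2) fun a ha =>
      (Ideal.span_le.2 fun f hf => hs _ (hc m) f hf : Ideal.span (F (c m).1) ≤ RingHom.ker (MvPolynomial.eval₂Hom χ (c m).2)) ha)
  let χc : R ⟶ CommRingCat.of Ω := CommRingCat.ofHom χ
  have hpt : ∀ m, β (c m).1 ≫ pt m = χc := fun m => by
    ext r
    exact MvPolynomial.eval₂Hom_C χ (c m).2 r
  obtain ⟨Q, sQ, l, q, hQ, hl, hq⟩ := H8Lim.ChowPn.exists_hproj_prod (Spec.map χc) s.card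
    (fun m => N (c m).1) (fun m => Spec.map (pt m) ≫ i (c m).1) fun m => by
      rw [Category.assoc, hib, ← Spec.map_comp, hpt]
  haveI : IsProper sQ := H8Lim.ChowPn.isProper_of_isHProjective hQ
  haveI : QuasiCompact l := by
    haveI : QuasiCompact (l ≫ sQ) := by rw [hl]; infer_instance
    exact QuasiCompact.of_comp l sQ
  haveI : IsReduced l.image := by
    change IsReduced l.ker.subscheme
    rw [Props12.ker_eq_vanishingIdeal]
    exact Props12.isReduced_subscheme_vanishingIdeal _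
  let g := l.toImage
  let w := l.imageι ≫ sQ
  have hgw : g ≫ w = Spec.map χc := by rw [Scheme.Hom.toImage_imageι_assoc, hl]
  refine ⟨l.image, w, inferInstance, ⟨g (closedPoint Ω), ?_⟩, fun x => ?_⟩
  · rw [← Scheme.Hom.comp_apply, hgw]
    refine PrimeSpectrum.ext ?_
    change Ideal.comap χ (maximalIdeal Ω) = _
    rw [IsLocalRing.isField_iff_maximalIdeal_eq.1 (Field.toIsField Ω), ← RingHom.ker_eq_comap_bot, hχp]
  -- the generic point
  have hsp : g (closedPoint Ω) ⤳ x := by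
    rw [specializes_iff_mem_closure]
    have hr : Set.range g = {g (closedPoint Ω)} := by
      ext y
      exact ⟨fun ⟨z, hz⟩ => by rw [← hz, Subsingleton.elim z (closedPoint Ω)]; rfl, fun h => ⟨_, h.symm⟩⟩
    rw [← hr]
    exact g.denseRange x
  let φ : l.image.presheaf.stalk x →+* Ω :=
    (l.image.presheaf.stalkSpecializes hsp ≫ Scheme.stalkClosedPointTo (X := l.image) g).hom
  have hφ : Spec.map (CommRingCat.ofHom φ) ≫ l.image.fromSpecStalk x = g := by
    rw [CommRingCat.ofHom_hom, Spec.map_comp, Category.assoc, Scheme.SpecMap_stalkSpecializes_fromSpecStalk,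
      Scheme.Spec_stalkClosedPointTo_fromSpecStalk]
  obtain ⟨O, hO, hOl⟩ := (LocalSubring.range φ).exists_le_valuationSubring
  let φ' : l.image.presheaf.stalk x →+* O := φ.codRestrict O.toSubring fun a => hO ⟨a, rfl⟩
  haveI : IsLocalHom φ' := by
    haveI : IsLocalHom φ.rangeRestrict := IsLocalHom.of_surjective _ φ.rangeRestrict_surjective
    refine ⟨fun a ha => isUnit_of_map_unit φ.rangeRestrict a ?_⟩
    exact hOl.1 ⟨φ a, a, rfl⟩ ha
  let γ : Spec (CommRingCat.of O) ⟶ l.image := Spec.map (CommRingCat.ofHom φ') ≫ l.image.fromSpecStalk x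
  let ζ : CommRingCat.of O ⟶ CommRingCat.of Ω := CommRingCat.ofHom O.subtype
  have hγ : Spec.map ζ ≫ γ = g := by
    rw [← hφ, ← Category.assoc, ← Spec.map_comp]
    rfl
  have hγx : γ (closedPoint O) = x := by
    rw [Scheme.Hom.comp_apply,
      show Spec.map (CommRingCat.ofHom φ') (closedPoint O) = closedPoint (l.image.presheaf.stalk x) from
        IsLocalRing.comap_closedPoint φ']
    exact Scheme.fromSpecStalk_closedPoint
  haveI : IsDominant (Spec.map ζ) := ⟨(PrimeSpectrum.denseRange_comap_iff_ker_le_nilRadical O.subtype).2 (by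
    rw [(RingHom.injective_iff_ker_eq_bot O.subtype).1 Subtype.val_injective]; exact bot_le)⟩
  -- the map from the base lands in the valuation ring
  let χ₀ : R ⟶ CommRingCat.of O := Spec.preimage (γ ≫ w)
  have hχ₀ : χ₀ ≫ ζ = χc := Spec.map_injective (by
    rw [Spec.map_comp, Spec.map_preimage, reassoc_of% hγ, hgw])
  have hχO : ∀ r, χ r ∈ O := fun r => by
    have : O.subtype (χ₀.hom r) = χ r := congr($hχ₀ r)
    rw [← this]
    exact (χ₀.hom r).2
  obtain ⟨d, hd, hdO⟩ := hval O hχO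
  obtain ⟨m, rfl⟩ : ∃ m, c m = d := ⟨s.equivFin ⟨d, hd⟩, by simp [c]⟩
  let v' : Fin (n (c m).1) → O := fun j => ⟨(c m).2 j, hdO j⟩
  have hv' : O.subtype.comp (MvPolynomial.eval₂Hom χ₀.hom v') = MvPolynomial.eval₂Hom χ (c m).2 := by
    refine MvPolynomial.ringHom_ext (fun r => ?_) fun j => ?_
    · simp only [RingHom.comp_apply, MvPolynomial.eval₂Hom_C]
      exact congr($hχ₀ r)
    · simp only [RingHom.comp_apply, MvPolynomial.eval₂Hom_X']
      rfl
  let θ : B (c m).1 ⟶ CommRingCat.of O := CommRingCat.ofHom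
    (Ideal.Quotient.lift _ (MvPolynomial.eval₂Hom χ₀.hom v') fun a ha => by
      apply Subtype.val_injective
      have := RingHom.congr_fun hv' a
      exact this.trans
        ((Ideal.span_le.2 fun f hf => hs _ (hc m) f hf : Ideal.span (F (c m).1) ≤ RingHom.ker (MvPolynomial.eval₂Hom χ (c m).2)) ha))
  have hθ : θ ≫ ζ = pt m := by
    exact CommRingCat.hom_ext (Ideal.Quotient.ringHom_ext hv')
  have hθβ : β (c m).1 ≫ θ = χ₀ := by
    ext r
    exact congrArg Subtype.val (MvPolynomial.eval₂Hom_C χ₀.hom v' r)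
  let pr : l.image ⟶ ProjSpaceOver (N (c m).1) (Spec R) := l.imageι ≫ q m
  have hprw : pr ≫ ProjSpaceOver.toBase _ _ = w := by rw [Category.assoc, (hq m).2]
  have hgpr : g ≫ pr = Spec.map (pt m) ≫ i (c m).1 := by rw [Scheme.Hom.toImage_imageι_assoc, (hq m).1]
  haveI : IsProper (ProjSpaceOver.toBase (N (c m).1) (Spec R)) := RelVALib.isProper_toBase _ _
  have key : γ ≫ pr = Spec.map θ ≫ i (c m).1 := by
    refine ext_of_isDominant_of_isSeparated (ProjSpaceOver.toBase _ _) ?_ (Spec.map ζ) ?_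
    · rw [Category.assoc γ pr, hprw, Category.assoc (Spec.map θ), hib, ← Spec.map_comp, hθβ, Spec.map_preimage]
    · rw [reassoc_of% hγ, hgpr, ← Category.assoc, ← Spec.map_comp, hθ]
  haveI := hi (c m).1
  let U : l.image.Opens := pr ⁻¹ᵁ (i (c m).1).coborderRange
  have hxU : x ∈ U := by
    change pr x ∈ (i (c m).1).coborderRange
    rw [← hγx, ← Scheme.Hom.comp_apply, key]
    exact subset_coborder ⟨_, rfl⟩
  have hgU : g (closedPoint Ω) ∈ U := hsp.mem_open U.isOpen hxU
  obtain ⟨a, ha⟩ := exists_lift_of_dense (i (c m).1) (U.ι ≫ pr) (fun y => y.2) {⟨g (closedPoint Ω), hgU⟩} (by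
    intro y
    have hy : g (closedPoint Ω) ⤳ y.1 := by
      rw [specializes_iff_mem_closure]
      have hr : Set.range g = {g (closedPoint Ω)} := by
        ext z
        exact ⟨fun ⟨o, ho⟩ => by rw [← ho, Subsingleton.elim o (closedPoint Ω)]; rfl, fun h => ⟨_, h.symm⟩⟩
      rw [← hr]
      exact g.denseRange y.1
    exact specializes_iff_mem_closure.1 (U.ι.isOpenEmbedding.isEmbedding.isInducing.specializes_iff.1 hy))
    (fun y hy => by
      rw [Set.mem_singleton_iff.1 hy]
      exact ⟨Spec.map (pt m) (closedPoint Ω), congr($hgpr.symm (closedPoint Ω))⟩)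
  obtain ⟨_, ⟨V, hV, rfl⟩, hxV, hVU⟩ := l.image.isBasis_affineOpens.exists_subset_of_mem_open hxU U.isOpen
  let τ : B (c m).1 ⟶ Γ(l.image, V) := Spec.preimage (hV.isoSpec.inv ≫ l.image.homOfLE hVU ≫ a)
  refine ⟨Γ(l.image, V), β (c m).1 ≫ τ, hV.fromSpec, inferInstance, by rw [hV.range_fromSpec]; exact hxV, ?_,
    (c m).1, fun j => τ.hom (Ideal.Quotient.mk _ (MvPolynomial.X j)), fun f hf => ?_⟩
  · rw [Spec.map_comp, Spec.map_preimage, Category.assoc, Category.assoc, ← hib, reassoc_of% ha, hprw,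
      Scheme.homOfLE_ι_assoc, IsAffineOpen.isoSpec_inv_ι_assoc]
  · have e : τ.hom.comp (Ideal.Quotient.mk (Ideal.span (F (c m).1))) =
        MvPolynomial.eval₂Hom (β (c m).1 ≫ τ).hom (fun j => τ.hom (Ideal.Quotient.mk _ (MvPolynomial.X j))) := by
      refine MvPolynomial.ringHom_ext (fun r => ?_) fun j => ?_
      · rw [MvPolynomial.eval₂Hom_C]; rfl
      · rw [MvPolynomial.eval₂Hom_X']; rfl
    have h0 : Ideal.Quotient.mk (Ideal.span (F (c m).1)) f = 0 :=
      Ideal.Quotient.eq_zero_iff_mem.2 (Ideal.subset_span hf)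
    refine (RingHom.congr_fun e f).symm.trans ?_
    rw [RingHom.comp_apply, h0, map_zero]

theorem locallyOfFinitePresentation_of_noetherian {W T : Scheme.{u}} (f : W ⟶ T)
    [LocallyOfFiniteType f] [IsLocallyNoetherian T] : LocallyOfFinitePresentation f :=
  ⟨fun {U} hU {V} hV e => by
    have : IsNoetherianRing Γ(T, U) := IsLocallyNoetherian.component_noetherian ⟨U, hU⟩
    algebraize [(f.appLE U V e).hom]
    have := f.finiteType_appLE hU hV e
    exact Algebra.FinitePresentation.of_finiteType.1 this⟩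

theorem exists_union (hC : ValUltra.Cov F) (s : Finset (Spec R)) :
    ∃ (W : Scheme.{u}) (w : W ⟶ Spec R), IsProper w ∧ (∀ p ∈ s, p ∈ Set.range w) ∧ ∀ x, Good F w x := by
  classical
  induction s using Finset.induction_on with
  | empty => exact ⟨∅, Scheme.emptyTo _, inferInstance, fun p hp => absurd hp (Finset.notMem_empty p), fun x => isEmptyElim x⟩
  | @insert p s _ ih =>
    obtain ⟨W, w, hw, hws, hwg⟩ := ih
    obtain ⟨W', w', hw', hp, hwg'⟩ := exists_component hC p
    haveI h₁ : IsProper (coprod.map w w') := IsZariskiLocalAtTarget.coprodMap (P := @IsProper) w w' hw hw'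
    haveI : IsProper (coprod.desc w w') := by
      rw [← Category.comp_id w, ← Category.comp_id w', ← coprod.map_desc]
      infer_instance
    refine ⟨W ⨿ W', coprod.desc w w', inferInstance, fun q hq => ?_, fun x => ?_⟩
    · rcases Finset.mem_insert.1 hq with rfl | hq
      · obtain ⟨z, rfl⟩ := hp
        exact ⟨(coprod.inr : W' ⟶ W ⨿ W') z, congr($(coprod.inr_desc w w') z)⟩
      · obtain ⟨z, rfl⟩ := hws q hq
        exact ⟨(coprod.inl : W ⟶ W ⨿ W') z, congr($(coprod.inl_desc w w') z)⟩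
    · obtain ⟨y, rfl⟩ := (coprodMk W W').surjective x
      rcases y with y | y
      · rw [coprodMk_inl]
        exact good_of_isOpenImmersion _ (coprod.inl_desc w w') (hwg y)
      · rw [coprodMk_inr]
        exact good_of_isOpenImmersion _ (coprod.inr_desc w w') (hwg' y)

theorem exists_proper_of_noetherian [IsNoetherianRing R] (hC : ValUltra.Cov F) :
    ∃ (W : Scheme.{u}) (w : W ⟶ Spec R), IsProper w ∧ Surjective w ∧ LocallyOfFinitePresentation w ∧
      ∀ x, Good F w x := by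
  classical
  have hfin : {p : Spec R | p.asIdeal ∈ minimalPrimes R}.Finite :=
    (minimalPrimes.finite_of_isNoetherianRing R).preimage fun a _ b _ h => PrimeSpectrum.ext h
  obtain ⟨W, w, hw, hp, hg⟩ := exists_union hC hfin.toFinset
  refine ⟨W, w, hw, ⟨fun q => ?_⟩, locallyOfFinitePresentation_of_noetherian w, hg⟩
  haveI := q.isPrime
  obtain ⟨P, hP, hPq⟩ := Ideal.exists_minimalPrimes_le (bot_le : ⊥ ≤ q.asIdeal)
  have hPp : P.IsPrime := hP.1.1
  have hle : (⟨P, hPp⟩ : PrimeSpectrum R) ≤ q := hPq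
  exact ((PrimeSpectrum.le_iff_specializes _ _).1 hle).mem_closed w.isClosedMap.isClosed_range
    (hp _ (hfin.mem_toFinset.2 hP))

theorem exists_proper_of_cov (hF : ∀ k, (F k).Finite) (hC : ValUltra.Cov F) :
    ∃ (W : Scheme.{u}) (w : W ⟶ Spec R), IsProper w ∧ Surjective w ∧ LocallyOfFinitePresentation w ∧
      ∀ x, Good F w x := by
  obtain ⟨R₀, G, ⟨t, ht⟩, hG, hC₀⟩ := ValUltra.exists_fg_cov F hF hC
  haveI : IsNoetherianRing (CommRingCat.of R₀) := by
    subst ht
    exact is_noetherian_subring_closure _ t.finite_toSet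
  obtain ⟨W₀, w₀, h₁, h₂, h₃, hg⟩ := exists_proper_of_noetherian (R := CommRingCat.of R₀) (F := G) hC₀
  let inc : CommRingCat.of R₀ ⟶ R := CommRingCat.ofHom R₀.subtype
  refine ⟨pullback (Spec.map inc) w₀, pullback.fst _ _, inferInstance, inferInstance, inferInstance, fun x => ?_⟩
  obtain ⟨A₀, χ₀, j₀, hj₀, hx₀, hjw₀, hpt⟩ := hg (pullback.snd (Spec.map inc) w₀ x)
  let P := pullback (Spec.map inc) w₀
  obtain ⟨_, ⟨O, hO, rfl⟩, hxO, hle⟩ := P.isBasis_affineOpens.exists_subset_of_mem_open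
    (show x ∈ (↑(pullback.snd (Spec.map inc) w₀ ⁻¹ᵁ j₀.opensRange) : Set P) from hx₀)
    (pullback.snd (Spec.map inc) w₀ ⁻¹ᵁ j₀.opensRange).isOpen
  let lft : Spec Γ(P, O) ⟶ Spec A₀ := IsOpenImmersion.lift j₀ (hO.fromSpec ≫ pullback.snd _ _) (by
    rintro _ ⟨z, rfl⟩
    exact hle (hO.range_fromSpec.le ⟨z, rfl⟩))
  let χ : R ⟶ Γ(P, O) := Spec.preimage (hO.fromSpec ≫ pullback.fst _ _)
  have e : inc ≫ χ = χ₀ ≫ Spec.preimage lft := Spec.map_injective (by
    rw [Spec.map_comp, Spec.map_comp, Spec.map_preimage, Spec.map_preimage, Category.assoc, pullback.condition,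
      ← hjw₀, IsOpenImmersion.lift_fac_assoc, Category.assoc])
  refine ⟨Γ(P, O), χ, hO.fromSpec, inferInstance, by rw [hO.range_fromSpec]; exact hxO, (Spec.map_preimage _).symm, ?_⟩
  obtain ⟨k, v, hv⟩ := pt_comp (Spec.preimage lft).hom hpt
  refine ⟨k, v, fun f hf => ?_⟩
  obtain ⟨g, hgk, rfl⟩ := (hG k).ge hf
  rw [MvPolynomial.eval₂_map, show χ.hom.comp R₀.subtype = (Spec.preimage lft).hom.comp χ₀.hom from congrArg CommRingCat.Hom.hom e]
  exact hv g hgk

/-- Finitely many affine schemes of finite presentation with the valuation lifting property are dominated,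
locally, by one proper surjection of finite presentation. -/
theorem exists_proper_of_hasValLift {R : CommRingCat.{u}} {ι : Type} [Finite ι] (X : ι → Scheme.{u})
    [∀ k, IsAffine (X k)] (f : ∀ k, X k ⟶ Spec R) [∀ k, LocallyOfFinitePresentation (f k)]
    (h : HTop.HasValLift ({ I₀ := ι, X := X, f := f } : PreZeroHypercover.{0} (Spec R))) :
    ∃ (W : Scheme.{u}) (w : W ⟶ Spec R), IsProper w ∧ Surjective w ∧ LocallyOfFinitePresentation w ∧
      ∀ x : W, ∃ (k : ι) (O : W.Opens) (a : (O : Scheme.{u}) ⟶ X k), x ∈ O ∧ a ≫ f k = O.ι ≫ w := by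
  classical
  let β : ∀ k, R ⟶ Γ(X k, ⊤) := fun k => Spec.preimage ((X k).isoSpec.inv ≫ f k)
  have hβ : ∀ k, (X k).isoSpec.inv ≫ f k = Spec.map (β k) := fun k => (Spec.map_preimage _).symm
  letI alg : ∀ k, Algebra R Γ(X k, ⊤) := fun k => (β k).hom.toAlgebra
  have hfp : ∀ k, Algebra.FinitePresentation R Γ(X k, ⊤) := fun k => by
    have : LocallyOfFinitePresentation (Spec.map (β k)) := by rw [← hβ]; infer_instance
    exact (HasRingHomProperty.Spec_iff (P := @LocallyOfFinitePresentation)).1 this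
  choose n π hπ hker using fun k => (hfp k).out
  choose F hF using hker
  have hπ0 : ∀ k, ∀ p ∈ F k, π k p = 0 := fun k p hp => by
    have : p ∈ RingHom.ker (π k).toRingHom := (hF k).le (Ideal.subset_span hp)
    exact this
  have hC : ValUltra.Cov (R := R) (n := n) fun k => (F k : Set (MvPolynomial (Fin (n k)) R)) := by
    intro V _ _ _ _ χ
    obtain ⟨W', _, _, φ, hφ, k, g', hg'⟩ := h (CommRingCat.of V) (Spec.map (CommRingCat.ofHom χ))
    let g'' : Spec W' ⟶ X k := g'
    change g'' ≫ f k = _ at hg'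
    let ψ : Γ(X k, ⊤) ⟶ W' := Spec.preimage (g'' ≫ (X k).isoSpec.hom)
    have hψ : β k ≫ ψ = CommRingCat.ofHom χ ≫ φ := Spec.map_injective (by
      rw [Spec.map_comp, Spec.map_comp, Spec.map_preimage, ← hβ, Category.assoc, Iso.hom_inv_id_assoc, hg'])
    let v : Fin (n k) → W' := fun j => ψ.hom (π k (MvPolynomial.X j))
    let fφ : V →+* W' := φ.hom
    have e : ψ.hom.comp (π k).toRingHom = MvPolynomial.eval₂Hom (fφ.comp χ) v := by
      refine MvPolynomial.ringHom_ext (fun r => ?_) fun j => ?_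
      · rw [MvPolynomial.eval₂Hom_C, RingHom.comp_apply]
        exact (congrArg ψ.hom ((π k).commutes r)).trans congr($hψ r)
      · rw [MvPolynomial.eval₂Hom_X']
        rfl
    let I : Ideal (MvPolynomial (Fin (n k)) V) := Ideal.span (MvPolynomial.map χ '' (F k : Set _))
    have hI : ∀ a ∈ I, MvPolynomial.eval₂Hom fφ v a = 0 := fun a ha => by
      refine (Ideal.span_le.2 ?_ : I ≤ RingHom.ker (MvPolynomial.eval₂Hom fφ v)) ha
      rintro _ ⟨p, hp, rfl⟩
      rw [SetLike.mem_coe, RingHom.mem_ker, MvPolynomial.coe_eval₂Hom, MvPolynomial.eval₂_map]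
      refine (RingHom.congr_fun e p).symm.trans ?_
      rw [RingHom.comp_apply]
      exact (congrArg ψ.hom (hπ0 k p hp)).trans (map_zero _)
    haveI : IsLocalHom fφ := hφ.2
    obtain ⟨ρ⟩ := ValPoint.exists_point (A := MvPolynomial (Fin (n k)) V ⧸ I) fφ hφ.1
      (Ideal.Quotient.lift I (MvPolynomial.eval₂Hom fφ v) hI)
      (RingHom.ext fun r => MvPolynomial.eval₂Hom_C fφ v r)
    refine ⟨k, fun j => ρ (Ideal.Quotient.mk I (MvPolynomial.X j)), fun p hp => ?_⟩
    have e2 : (ρ.toRingHom.comp (Ideal.Quotient.mk I)).comp (MvPolynomial.map χ) =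
        MvPolynomial.eval₂Hom χ (fun j => ρ (Ideal.Quotient.mk I (MvPolynomial.X j))) := by
      refine MvPolynomial.ringHom_ext (fun r => ?_) fun j => ?_
      · rw [MvPolynomial.eval₂Hom_C, RingHom.comp_apply, MvPolynomial.map_C]
        exact ρ.commutes (χ r)
      · rw [MvPolynomial.eval₂Hom_X', RingHom.comp_apply, MvPolynomial.map_X]
        rfl
    refine (RingHom.congr_fun e2 p).symm.trans ?_
    rw [RingHom.comp_apply, RingHom.comp_apply,
      Ideal.Quotient.eq_zero_iff_mem.2 (show MvPolynomial.map χ p ∈ I from Ideal.subset_span ⟨p, hp, rfl⟩), map_zero]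
  obtain ⟨W, w, h₁, h₂, h₃, hg⟩ := exists_proper_of_cov (fun k => (F k).finite_toSet) hC
  refine ⟨W, w, h₁, h₂, h₃, fun x => ?_⟩
  obtain ⟨A, χ, j, hj, hx, hjw, k, v, hv⟩ := hg x
  have hle : RingHom.ker (π k).toRingHom ≤ RingHom.ker (MvPolynomial.eval₂Hom χ.hom v) :=
    (hF k).ge.trans (Ideal.span_le.2 fun p hp => hv p hp)
  let θ : Γ(X k, ⊤) ⟶ A := CommRingCat.ofHom (RingHom.liftOfSurjective (π k).toRingHom (hπ k) ⟨_, hle⟩)
  have hθ : β k ≫ θ = χ := by
    ext r
    have h1 : (β k).hom r = (π k) (MvPolynomial.C r) := ((π k).commutes r).symm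
    rw [CommRingCat.comp_apply, h1]
    exact (RingHom.liftOfRightInverse_comp_apply _ _ _ _ (MvPolynomial.C r)).trans (MvPolynomial.eval₂Hom_C χ.hom v r)
  refine ⟨k, j.opensRange, j.isoOpensRange.inv ≫ Spec.map θ ≫ (X k).isoSpec.inv, hx, ?_⟩
  rw [Category.assoc, Category.assoc, hβ, ← Spec.map_comp, hθ, ← hjw, Scheme.Hom.isoOpensRange_inv_comp_assoc]

/-- A V covering of an affine scheme by morphisms locally of finite presentation is refined, locally, by one
proper surjection of finite presentation. -/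
theorem exists_proper_of_isVCover {T : Scheme.{u}} [IsAffine T] {E : PreZeroHypercover.{w} T}
    (hlfp : ∀ i, LocallyOfFinitePresentation (E.f i)) (hE : HTop.IsVCover E) :
    ∃ (W : Scheme.{u}) (w : W ⟶ T), IsProper w ∧ Surjective w ∧ LocallyOfFinitePresentation w ∧
      ∀ x : W, ∃ (i : E.I₀) (O : W.Opens) (a : (O : Scheme.{u}) ⟶ E.X i), x ∈ O ∧ a ≫ E.f i = O.ι ≫ w := by
  classical
  obtain ⟨G, hG, hr⟩ := VCover.exists_standardV_refinesOver hE (𝟙 T)
  choose i a ha using hr
  have key : ∀ j, ∃ s : Finset (E.X (i j)).affineOpens, Set.range (a j) ⊆ ⋃ O ∈ s, (O.1 : Set (E.X (i j))) := fun j => by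
    haveI := hG.isAffine_obj j
    refine (isCompact_range (a j).continuous).elim_finite_subcover _ (fun O => O.1.isOpen) fun y _ => ?_
    obtain ⟨_, ⟨O, hO, rfl⟩, hyO, -⟩ :=
      (E.X (i j)).isBasis_affineOpens.exists_subset_of_mem_open (Set.mem_univ y) isOpen_univ
    exact Set.mem_iUnion.2 ⟨⟨O, hO⟩, hyO⟩
  choose s hs using key
  haveI := hG.finite_index
  let κ := Σ j : G.I₀, Fin (s j).card
  let op : ∀ k : κ, (E.X (i k.1)).affineOpens := fun k => ((s k.1).equivFin.symm k.2).1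
  haveI : ∀ k : κ, IsAffine ((op k).1 : Scheme.{u}) := fun k => (op k).2
  let X : κ → Scheme.{u} := fun k => ((op k).1 : Scheme.{u})
  let f : ∀ k, X k ⟶ Spec Γ(T, ⊤) := fun k => (op k).1.ι ≫ E.f (i k.1) ≫ T.isoSpec.hom
  haveI : ∀ k, LocallyOfFinitePresentation (f k) := fun k => by
    haveI := hlfp (i k.1)
    infer_instance
  obtain ⟨W, w, hw₁, hw₂, hw₃, hx⟩ := exists_proper_of_hasValLift X f (by
    intro V _ _ g
    obtain ⟨W', hW, hW', φ, hφ, j, g', hg'⟩ := hG.lift V (g ≫ T.isoSpec.inv)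
    obtain ⟨O, hO⟩ := Set.mem_iUnion.1 (hs j ⟨g' (closedPoint W'), rfl⟩)
    obtain ⟨hOs, hOg⟩ := Set.mem_iUnion.1 hO
    obtain ⟨m, hm⟩ : ∃ m : Fin (s j).card, op ⟨j, m⟩ = O := ⟨(s j).equivFin ⟨O, hOs⟩, by simp [op]⟩
    obtain ⟨g'', hg''⟩ := VCover.exists_factor_open (g' ≫ a j) (op ⟨j, m⟩).1 (by rw [hm]; exact hOg)
    refine ⟨W', hW, hW', φ, hφ, ⟨j, m⟩, g'', ?_⟩
    change g'' ≫ (op ⟨j, m⟩).1.ι ≫ E.f (i j) ≫ T.isoSpec.hom = _
    rw [reassoc_of% hg'', reassoc_of% (ha j), reassoc_of% hg']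
    simp)
  refine ⟨W, w ≫ T.isoSpec.inv, inferInstance, inferInstance, inferInstance, fun x => ?_⟩
  obtain ⟨k, O, c, hxO, hc⟩ := hx x
  refine ⟨i k.1, O, c ≫ (op k).1.ι, hxO, ?_⟩
  rw [← cancel_mono T.isoSpec.hom, Category.assoc, Category.assoc, Category.assoc, Category.assoc, Iso.inv_hom_id,
    Category.comp_id]
  exact hc

/-- Finitely many affine opens of one proper surjection refining a V covering. -/
theorem exists_proper_affineCover {T : Scheme.{u}} [IsAffine T] {E : PreZeroHypercover.{w} T}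
    (hlfp : ∀ i, LocallyOfFinitePresentation (E.f i)) (hE : HTop.IsVCover E) :
    ∃ (W : Scheme.{u}) (g : W ⟶ T) (n : ℕ) (V : Fin n → W.Opens), IsProper g ∧ Surjective g ∧
      LocallyOfFinitePresentation g ∧ (∀ j, IsAffineOpen (V j)) ∧ ⨆ j, V j = ⊤ ∧
      ∀ j, ∃ (i : E.I₀) (h : ((V j : W.Opens) : Scheme.{u}) ⟶ E.X i), h ≫ E.f i = (V j).ι ≫ g := by
  obtain ⟨W, g, hg₁, hg₂, hg₃, hx⟩ := exists_proper_of_isVCover hlfp hE
  haveI : CompactSpace W := QuasiCompact.compactSpace_of_compactSpace g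
  choose i O a hxO ha using hx
  have key : ∀ x, ∃ P : W.Opens, IsAffineOpen P ∧ x ∈ P ∧ P ≤ O x := fun x => by
    obtain ⟨_, ⟨P, hP, rfl⟩, hxP, hle⟩ := W.isBasis_affineOpens.exists_subset_of_mem_open (hxO x) (O x).isOpen
    exact ⟨P, hP, hxP, hle⟩
  choose P hP hxP hle using key
  obtain ⟨s, hs⟩ := isCompact_univ.elim_finite_subcover (fun x => (P x : Set W))
    (fun x => (P x).isOpen) fun x _ => Set.mem_iUnion.2 ⟨x, hxP x⟩
  let p : Fin s.card → W := fun m => (s.equivFin.symm m).1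
  refine ⟨W, g, s.card, fun m => P (p m), hg₁, hg₂, hg₃, fun m => hP _, top_unique fun y _ => ?_,
    fun m => ⟨i (p m), W.homOfLE (hle (p m)) ≫ a (p m), by rw [Category.assoc, ha, Scheme.homOfLE_ι_assoc]⟩⟩
  obtain ⟨z, hz⟩ := Set.mem_iUnion.1 (hs (Set.mem_univ y))
  obtain ⟨hzs, hzy⟩ := Set.mem_iUnion.1 hz
  exact Opens.mem_iSup.2 ⟨s.equivFin ⟨z, hzs⟩, by simpa [p] using hzy⟩

/-- A V covering by morphisms locally of finite presentation is a ph covering. -/
theorem isPhCover_of_isVCover {T : Scheme.{u}} {E : PreZeroHypercover.{w} T}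
    (hlfp : ∀ i, LocallyOfFinitePresentation (E.f i)) (hE : HTop.IsVCover E) : HTop.IsPhCover E := by
  refine ⟨fun i => haveI := hlfp i; inferInstance, fun U => ?_⟩
  haveI : IsAffine (U.1 : Scheme.{u}) := U.2
  obtain ⟨W, g, n, V, hg, hgs, -, hV, hcov, hfac⟩ := exists_proper_affineCover (E := E.pullback₁ U.1.ι)
    (fun i => by
      haveI := hlfp i
      exact inferInstanceAs (LocallyOfFinitePresentation (pullback.fst U.1.ι (E.f i))))
    (VCover.isVCover_pullback _ hE)
  refine ⟨{ I₀ := Fin n, X := fun j => (V j : Scheme.{u}), f := fun j => (V j).ι ≫ g },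
    ⟨‹_›, inferInstanceAs (Finite (Fin n)), hV, W, g, fun j => (V j).ι, hg, hgs,
      fun j => inferInstanceAs (IsOpenImmersion (V j).ι), fun j => rfl, fun y => ?_⟩, fun j => ?_⟩
  · obtain ⟨j, hj⟩ := Opens.mem_iSup.1 (hcov.ge (trivial : y ∈ (⊤ : W.Opens)))
    exact ⟨j, ⟨y, hj⟩, rfl⟩
  · obtain ⟨i, h, hh⟩ := hfac j
    refine ⟨i, h ≫ pullback.snd U.1.ι (E.f i), ?_⟩
    change _ = ((V j).ι ≫ g) ≫ U.1.ι
    rw [← hh]
    exact (Category.assoc _ _ _).trans ((congrArg (h ≫ ·) pullback.condition.symm).trans (Category.assoc _ _ _).symm)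

end Groth.Agent.HTop16.PhRefine
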