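import Groth.Agent.HTop16.TopT
import Groth.Agent.HTop16.PhRefine
import Groth.Agent.FlatMorAdm.Bir
import Groth.Agent.BlowUpLib.Proper
import Groth.Agent.H8Lim.IdealDescent
import Groth.Agent.ProjLib.IdealComap

/-!
# Base changes of blow-ups of Noetherian affine schemes in two sections give coverings
-/

set_option autoImplicit false
set_option backward.isDefEq.respectTransparency false
set_option linter.all false

universe w u

open CategoryTheory CategoryTheory.Limits AlgebraicGeometry TopologicalSpace Opposite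

namespace Groth.Agent.HTop16.PairSquare

theorem isAffineHom_awayFrom {X : Scheme.{u}} {I : X.IdealSheafData} (hI : HTop.IsLocPrincipal I) :
    IsAffineHom (ModPair.interior I).ι := by
  refine isAffineHom_of_forall_exists_isAffineOpen _ fun x => ?_
  obtain ⟨U, hxU, f, hfI⟩ := hI x
  refine ⟨U.1, hxU, U.2, ?_⟩
  have : (ModPair.interior I).ι ⁻¹ᵁ U.1 = (ModPair.interior I).ι ⁻¹ᵁ X.basicOpen f := by
    rw [← ModPairLib.inf_interior hfI]
    ext y
    exact ⟨fun hy => ⟨hy, y.2⟩, fun hy => hy.1⟩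
  rw [this]
  refine (U.2.basicOpen f).preimage_of_isOpenImmersion _ ?_
  rw [Scheme.Opens.opensRange_ι, ← ModPairLib.inf_interior hfI]
  exact inf_le_right

theorem isLocPrincipal_comap {X Y : Scheme.{u}} {I : X.IdealSheafData} (hI : HTop.IsLocPrincipal I) (f : Y ⟶ X) :
    HTop.IsLocPrincipal (I.comap f) := fun y => by
  obtain ⟨U, hxU, g, hg⟩ := hI (f y)
  obtain ⟨_, ⟨V, hV, rfl⟩, hyV, hVU⟩ :=
    Y.isBasis_affineOpens.exists_subset_of_mem_open (show y ∈ f ⁻¹ᵁ U.1 from hxU) (f ⁻¹ᵁ U.1).isOpen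
  exact ⟨⟨V, hV⟩, hyV, _, by rw [ProjLib.comap_ideal_eq I f U ⟨V, hV⟩ hVU, hg, Ideal.map_span, Set.image_singleton]⟩

theorem isLocPrincipal_of_isEffCartier {X : Scheme.{u}} {I : X.IdealSheafData} (hI : BlowUp.IsEffCartierIdeal I) :
    HTop.IsLocPrincipal I := fun x => by
  obtain ⟨U, hxU, f, -, hf⟩ := hI x
  exact ⟨U, hxU, f, hf⟩

/-- The base change of a blow-up along any morphism is an almost blow up square. -/
theorem isAlmostBlowUpSquare_baseChange {X₀ B Z : Scheme.{u}} {b : B ⟶ X₀} {i : Z ⟶ X₀} [IsClosedImmersion i]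
    [LocallyOfFinitePresentation i] [IsProper b] [LocallyOfFinitePresentation b]
    (hb : BlowUp.IsBlowUp b i.ker) {X : Scheme.{u}} (g : X ⟶ X₀) :
    HTop.IsAlmostBlowUpSquare (pullback.fst (pullback.fst g b) (pullback.fst g i))
      (pullback.snd (pullback.fst g b) (pullback.fst g i)) (pullback.fst g b) (pullback.fst g i) := by
  have hker : (pullback.fst g i).ker = i.ker.comap g := Scheme.IdealSheafData.ker_fst_of_isClosedImmersion i g
  have hlp : HTop.IsLocPrincipal ((pullback.fst g i).ker.comap (pullback.fst g b)) := by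
    rw [hker, ← Scheme.IdealSheafData.comap_comp, pullback.condition, Scheme.IdealSheafData.comap_comp]
    exact isLocPrincipal_comap (isLocPrincipal_of_isEffCartier hb.1) _
  refine ⟨inferInstance, inferInstance, IsPullback.of_hasPullback _ _, hlp, inferInstance, inferInstance, ?_⟩
  rw [hker] at hlp ⊢
  haveI := isAffineHom_awayFrom hlp
  exact FlatMorAdm.isBlowUp_strict g hb (IsPullback.of_hasPullback g b)
    (ModPair.interior ((i.ker.comap g).comap (pullback.fst g b))) rfl

/-- The centre of the base change is cut out by the images of the two sections. -/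
theorem exists_two_gens {A : CommRingCat.{u}} {I : Ideal Γ(Spec A, ⊤)} {a b : Γ(Spec A, ⊤)} (hI : I = Ideal.span {a, b})
    {X : Scheme.{u}} [IsAffine X] (g : X ⟶ Spec A) :
    ∃ f₁ f₂ : Γ(X, ⊤), (Scheme.IdealSheafData.ofIdealTop I).comap g =
      Scheme.IdealSheafData.ofIdealTop (Ideal.span {f₁, f₂}) := by
  subst hI
  refine ⟨g.appTop a, g.appTop b, Scheme.IdealSheafData.ext_of_isAffine ?_⟩
  rw [ProjLib.comap_ideal_eq _ g ⟨⊤, isAffineOpen_top _⟩ ⟨⊤, isAffineOpen_top X⟩ le_rfl,
    ← Scheme.IdealSheafData.equivOfIsAffine_apply, ← Scheme.IdealSheafData.equivOfIsAffine_apply,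
    ← Scheme.IdealSheafData.equivOfIsAffine_symm_apply, ← Scheme.IdealSheafData.equivOfIsAffine_symm_apply,
    OrderRingIso.apply_symm_apply, OrderRingIso.apply_symm_apply, Ideal.map_span, Set.image_insert_eq,
    Set.image_singleton]
  simp [Scheme.Hom.appTop, Scheme.Hom.appLE]

variable {S : Scheme.{u}} {F : (Over S)ᵒᵖ ⥤ Type w}

/-- The two gens squares give coverings. -/
theorem mem_J_pair (hz : Presieve.IsSheaf (Scheme.zariskiTopology.over S) F)
    (hsq : ∀ (E Z X' X : Over S) (e : E ⟶ X') (π : E ⟶ Z) (b : X' ⟶ X) (i : Z ⟶ X), IsAffine X.left →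
      HTop.IsAlmostBlowUpSquare e.left π.left b.left i.left →
      (∃ f₁ f₂ : Γ(X.left, ⊤), i.left.ker = Scheme.IdealSheafData.ofIdealTop (Ideal.span {f₁, f₂})) →
      ∀ (t : F.obj (op Z)) (s' : F.obj (op X')), F.map π.op t = F.map e.op s' →
        ∃! s : F.obj (op X), F.map i.op s = t ∧ F.map b.op s = s')
    {A : CommRingCat.{u}} [IsNoetherianRing A] (a c : Γ(Spec A, ⊤)) {B : Scheme.{u}} (β : B ⟶ Spec A)
    (hβ : BlowUp.IsBlowUp β (Scheme.IdealSheafData.ofIdealTop (Ideal.span {a, c})))
    (R : Sieve (Spec A)) (hR₁ : R.arrows (Scheme.IdealSheafData.ofIdealTop (Ideal.span {a, c})).subschemeι)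
    (hR₂ : R.arrows β) : R ∈ TopT.J F (Spec A) := by
  let 𝓘 := Scheme.IdealSheafData.ofIdealTop (Ideal.span {a, c})
  have hft : BlowUp.IsFiniteTypeIdeal 𝓘 := fun U => by
    haveI : IsNoetherianRing Γ(Spec A, U.1) := IsLocallyNoetherian.component_noetherian U
    exact IsNoetherian.noetherian _
  haveI : IsProper β := BlowUpLib.isProper_of_isBlowUp hβ hft
  haveI : LocallyOfFinitePresentation β := PhRefine.locallyOfFinitePresentation_of_noetherian β
  haveI : LocallyOfFinitePresentation 𝓘.subschemeι := PhRefine.locallyOfFinitePresentation_of_noetherian _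
  let P : Bool → Scheme.{u} := fun t => Bool.rec B 𝓘.subscheme t
  let p : ∀ t, P t ⟶ Spec A := fun t => Bool.rec β 𝓘.subschemeι t
  refine (TopT.J F).superset_covering (Sieve.generate_le_iff _ _ |>.2 fun W k hk => ?_)
    (TopT.mem_J_of_affine hz (Sieve.generate (Presieve.ofArrows P p)) fun X g hX => ?_)
  · obtain ⟨t⟩ := hk
    cases t
    · exact hR₂
    · exact hR₁
  let X' : Over S := Over.mk (pullback.fst g β ≫ X.hom)
  let Z : Over S := Over.mk (pullback.fst g 𝓘.subschemeι ≫ X.hom)
  let b : X' ⟶ X := Over.homMk (pullback.fst g β) rfl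
  let i : Z ⟶ X := Over.homMk (pullback.fst g 𝓘.subschemeι) rfl
  let E : Over S := Over.mk (pullback.fst (pullback.fst g β) (pullback.fst g 𝓘.subschemeι) ≫ X'.hom)
  let e : E ⟶ X' := Over.homMk (pullback.fst (pullback.fst g β) (pullback.fst g 𝓘.subschemeι)) rfl
  let π : E ⟶ Z := Over.homMk (pullback.snd (pullback.fst g β) (pullback.fst g 𝓘.subschemeι)) (by
    change _ ≫ pullback.fst g 𝓘.subschemeι ≫ X.hom = _ ≫ pullback.fst g β ≫ X.hom
    rw [← pullback.condition_assoc])
  have hsquare : HTop.IsAlmostBlowUpSquare e.left π.left b.left i.left :=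
    isAlmostBlowUpSquare_baseChange (i := 𝓘.subschemeι) (by rw [Scheme.IdealSheafData.ker_subschemeι]; exact hβ) g
  have hgens : ∃ f₁ f₂ : Γ(X.left, ⊤), i.left.ker = Scheme.IdealSheafData.ofIdealTop (Ideal.span {f₁, f₂}) := by
    haveI := hX
    change ∃ f₁ f₂ : Γ(X.left, ⊤), (pullback.fst g 𝓘.subschemeι).ker = _
    rw [Scheme.IdealSheafData.ker_fst_of_isClosedImmersion, Scheme.IdealSheafData.ker_subschemeι]
    exact exists_two_gens rfl g
  let O : Bool → Over S := PhSheaf.famObj Z X'
  let o : ∀ t, O t ⟶ X := PhSheaf.famHom i b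
  have eq : (Sieve.overEquiv X).symm ((Sieve.generate (Presieve.ofArrows P p)).pullback g) =
      Sieve.generate (Presieve.ofArrows O o) := by
    ext W k
    rw [Sieve.overEquiv_symm_iff]
    constructor
    · rintro ⟨_, l, _, ⟨t⟩, hl⟩
      cases t
      · refine ⟨X', Over.homMk (pullback.lift k.left l hl.symm) ?_, b, Presieve.ofArrows.mk false, ?_⟩
        · change pullback.lift k.left l _ ≫ pullback.fst g β ≫ X.hom = W.hom
          rw [pullback.lift_fst_assoc, Over.w k]
        · ext
          exact pullback.lift_fst _ _ _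
      · refine ⟨Z, Over.homMk (pullback.lift k.left l hl.symm) ?_, i, Presieve.ofArrows.mk true, ?_⟩
        · change pullback.lift k.left l _ ≫ pullback.fst g 𝓘.subschemeι ≫ X.hom = W.hom
          rw [pullback.lift_fst_assoc, Over.w k]
        · ext
          exact pullback.lift_fst _ _ _
    · rintro ⟨_, l, _, ⟨t⟩, rfl⟩
      cases t
      · refine ⟨_, l.left ≫ pullback.snd g β, β, Presieve.ofArrows.mk (f := p) false, ?_⟩
        change (l.left ≫ pullback.snd g β) ≫ β = (l.left ≫ pullback.fst g β) ≫ g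
        simp only [Category.assoc, pullback.condition]
      · refine ⟨_, l.left ≫ pullback.snd g 𝓘.subschemeι, 𝓘.subschemeι, Presieve.ofArrows.mk (f := p) true, ?_⟩
        change (l.left ≫ pullback.snd g _) ≫ 𝓘.subschemeι = (l.left ≫ pullback.fst g _) ≫ g
        simp only [Category.assoc, pullback.condition]
  rw [eq, ← Presieve.isSheafFor_iff_generate, Presieve.isSheafFor_arrows_iff]
  intro x hx
  obtain ⟨s, ⟨hs₁, hs₂⟩, hu⟩ := hsq E Z X' X e π b i hX hsquare hgens (x true) (x false)
    (hx true false E π e (by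
      ext
      exact pullback.condition.symm))
  exact ⟨s, fun t => by cases t; exacts [hs₂, hs₁], fun s' hs' => hu s' ⟨hs' true, hs' false⟩⟩

end Groth.Agent.HTop16.PairSquare
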