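import Groth.Agent.HTop16.VCover
import Mathlib.AlgebraicGeometry.Morphisms.UniversallyOpen
import Mathlib.AlgebraicGeometry.Sites.Fpqc

/-!
# Standard fpqc and ph coverings are standard V coverings
-/

set_option autoImplicit false
set_option backward.isDefEq.respectTransparency false
set_option linter.all false

universe w w' u

open CategoryTheory CategoryTheory.Limits AlgebraicGeometry TopologicalSpace IsLocalRing

namespace Groth.Agent.HTop16.VCover

variable {T : Scheme.{u}}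

theorem hasValLift_of_flat (E : PreZeroHypercover.{w} T) (hflat : ∀ j, Flat (E.f j))
    (hsurj : ∀ t : T, ∃ (j : E.I₀) (x : E.X j), E.f j x = t) : HTop.HasValLift E := by
  refine hasValLift_of_specializes E fun V _ _ g => ?_
  obtain ⟨i, x, hx⟩ := hsurj (g (closedPoint V))
  obtain ⟨z, hz, -⟩ := Scheme.Pullback.exists_preimage_pullback (f := g) (g := E.f i) (closedPoint V) x hx.symm
  haveI := hflat i
  have hb : (⟨⊥, Ideal.isPrime_bot⟩ : PrimeSpectrum V) ⤳ pullback.fst g (E.f i) z :=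
    (PrimeSpectrum.le_iff_specializes _ _).1 bot_le
  obtain ⟨z', hz', he⟩ := Flat.generalizingMap (pullback.fst g (E.f i)) hb
  exact ⟨i, z', z, hz', he, hz⟩

theorem isStandardV_of_flat [IsAffine T] (E : PreZeroHypercover.{w} T) (hfin : Finite E.I₀)
    (haff : ∀ j, IsAffine (E.X j)) (hflat : ∀ j, Flat (E.f j))
    (hsurj : ∀ t : T, ∃ (j : E.I₀) (x : E.X j), E.f j x = t) : HTop.IsStandardV E :=
  ⟨‹_›, hfin, haff, hasValLift_of_flat E hflat hsurj⟩

theorem isVCover_fpqc (𝒰 : Scheme.Cover Scheme.fpqcPrecoverage T) :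
    HTop.IsVCover 𝒰.toPreZeroHypercover := by
  intro U
  haveI : IsAffine (U.1 : Scheme.{u}) := U.2
  haveI : QuasiCompactCover 𝒰.toPreZeroHypercover := by
    rw [← Scheme.presieve₀_mem_qcPrecoverage_iff]
    exact 𝒰.mem₀.1
  obtain ⟨n, a, V, hV, he⟩ := QuasiCompactCover.exists_isAffineOpen_of_isCompact 𝒰.toPreZeroHypercover
    (U := U.1) U.2.isCompact
  have hle : ∀ k, V k ≤ 𝒰.f (a k) ⁻¹ᵁ U.1 := fun k x hx => he.le (Set.mem_iUnion.2 ⟨k, x, hx, rfl⟩)
  have hfl : ∀ i, Flat (𝒰.f i) := fun i => ((Scheme.presieve₀_mem_precoverage_iff _).1 𝒰.mem₀.2).2 i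
  let G : PreZeroHypercover.{0} (U.1 : Scheme.{u}) :=
    { I₀ := Fin n
      X := fun k => (V k : Scheme.{u})
      f := fun k => (𝒰.f (a k)).resLE U.1 (V k) (hle k) }
  refine ⟨G, isStandardV_of_flat G (inferInstanceAs (Finite (Fin n))) hV (fun k => ?_) fun t => ?_,
    fun k => ⟨a k, (V k).ι, (Scheme.Hom.resLE_comp_ι _ (hle k)).symm⟩⟩
  · haveI := hfl (a k)
    change Flat ((𝒰.f (a k)).resLE U.1 (V k) (hle k))
    infer_instance
  · obtain ⟨k, x, hx, hxt⟩ := Set.mem_iUnion.1 (he.ge t.2)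
    refine ⟨k, ⟨x, hx⟩, U.1.ι.isOpenEmbedding.injective ?_⟩
    change ((𝒰.f (a k)).resLE U.1 (V k) (hle k) ≫ U.1.ι) ⟨x, hx⟩ = _
    rw [Scheme.Hom.resLE_comp_ι]
    exact hxt

theorem hasValLift_of_isStandardPh {E : PreZeroHypercover.{w} T} (hE : HTop.IsStandardPh E) :
    HTop.HasValLift E := by
  obtain ⟨U, f, ι, _, _, hι, hιf, hcov⟩ := hE.exists_proper
  intro V _ _ g
  let π := pullback.fst g f
  obtain ⟨z', hz'⟩ := π.surjective (⟨⊥, Ideal.isPrime_bot⟩ : PrimeSpectrum V)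
  have hb : π z' ⤳ closedPoint V := by
    rw [hz']
    exact (PrimeSpectrum.le_iff_specializes _ _).1 bot_le
  obtain ⟨z, hz, hzc⟩ := π.isClosedMap.specializingMap hb
  obtain ⟨W, hW, hW', φ, hφ, k, hk⟩ := exists_extVal_of_specializes π hz hz' hzc
  obtain ⟨j, hj⟩ := hcov ((k ≫ pullback.snd g f) (closedPoint W))
  haveI := hι j
  obtain ⟨g', hg'⟩ := exists_factor_open (k ≫ pullback.snd g f) (ι j).opensRange hj
  refine ⟨W, hW, hW', φ, hφ, j, g' ≫ (ι j).isoOpensRange.inv, ?_⟩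
  rw [← hιf, Category.assoc, Scheme.Hom.isoOpensRange_inv_comp_assoc, reassoc_of% hg', ← pullback.condition,
    reassoc_of% hk]

theorem isStandardV_of_isStandardPh {E : PreZeroHypercover.{w} T} (hE : HTop.IsStandardPh E) :
    HTop.IsStandardV E :=
  ⟨hE.isAffine, hE.finite_index, hE.isAffine_obj, hasValLift_of_isStandardPh hE⟩

end Groth.Agent.HTop16.VCover
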