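import Groth.Agent.HTop16.PhSheaf
import Groth.Agent.HTop16.Std

/-!
# Sheaves on the big h site
-/

set_option autoImplicit false
set_option backward.isDefEq.respectTransparency false
set_option linter.all false

universe w w' u

open CategoryTheory CategoryTheory.Limits AlgebraicGeometry TopologicalSpace Opposite

namespace Groth.Agent.HTop16.HSheaf

variable {T : Scheme.{u}}

/-- A ph covering is a V covering. -/
theorem isVCover_of_isPhCover {E : PreZeroHypercover.{w} T} (hE : HTop.IsPhCover E) : HTop.IsVCover E := fun U => by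
  obtain ⟨G, hG, hr⟩ := hE.2 U
  exact ⟨G, VCover.isStandardV_of_isStandardPh hG, hr⟩

theorem isHCover_pair {A B : Scheme.{u}} (a : A ⟶ T) (b : B ⟶ T) [IsProper a] [IsProper b]
    [LocallyOfFinitePresentation a] [LocallyOfFinitePresentation b]
    (h : ∀ t : T, t ∈ Set.range a ∨ t ∈ Set.range b) : HTop.IsHCover (PhSheaf.pair a b) :=
  ⟨fun t => by cases t; exacts [inferInstanceAs (LocallyOfFinitePresentation b), inferInstanceAs (LocallyOfFinitePresentation a)], isVCover_of_isPhCover (PhSheaf.isPhCover_pair a b h)⟩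

/-- A sheaf on the big h site has the sheaf property for h covering families of `S`-schemes. -/
theorem isSheafFor_of_isHCover {S : Scheme.{u}} (F : HTop.ShH S) {X : Over S} {J : Type w} (Ys : J → Over S)
    (fs : ∀ j, Ys j ⟶ X) (h : HTop.IsHCover (T := X.left) { I₀ := J, X := fun j => (Ys j).left, f := fun j => (fs j).left }) :
    Presieve.IsSheafFor F.obj (Presieve.ofArrows Ys fs) := by
  refine (Presieve.isSheafFor_iff_generate _).2 ((isSheaf_iff_isSheaf_of_type _ _).1 F.property _ ?_)
  rw [HTop.Jh, GrothendieckTopology.mem_over_iff]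
  refine HTop.hTopology.superset_covering ?_
    (Precoverage.generate_mem_toGrothendieck ((HTop.presieve₀_mem_hPrecoverage_iff _).2 h))
  rw [Sieve.generate_le_iff]
  rintro Z g ⟨j⟩
  rw [Sieve.overEquiv_iff]
  refine ⟨Ys j, Over.homMk (𝟙 _) (by simp), fs j, Presieve.ofArrows.mk j, ?_⟩
  ext
  simp

theorem isSheafFor_pair {S : Scheme.{u}} (F : HTop.ShH S) {A B X : Over S} (a : A ⟶ X) (b : B ⟶ X)
    [IsProper a.left] [IsProper b.left] [LocallyOfFinitePresentation a.left] [LocallyOfFinitePresentation b.left]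
    (h : ∀ x : X.left, x ∈ Set.range a.left ∨ x ∈ Set.range b.left) :
    Presieve.IsSheafFor F.obj (Presieve.ofArrows (PhSheaf.famObj A B) (PhSheaf.famHom a b)) := by
  refine isSheafFor_of_isHCover F _ _ ?_
  obtain ⟨hl, hr⟩ := isHCover_pair a.left b.left h
  refine ⟨fun t => ?_, fun U => ?_⟩
  · cases t
    · exact hl false
    · exact hl true
  · obtain ⟨G, hG, hGr⟩ := hr U
    refine ⟨G, hG, fun j => ?_⟩
    obtain ⟨i, c, hc⟩ := hGr j
    cases i
    · exact ⟨false, c, hc⟩
    · exact ⟨true, c, hc⟩

end Groth.Agent.HTop16.HSheaf
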