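import Groth.Agent.ExtSS.SheafHomSupp
import Groth.Prelude.Def_ExtSupp
import Groth.Agent.SiteTen.Flat
import Groth.Agent.DerCompLib.RestrAdj
import Groth.Agent.S9107
import Mathlib.Algebra.Category.ModuleCat.Sheaf.Quasicoherent
import Mathlib.CategoryTheory.Sites.LocallyBijective

/-!
# The internal hom out of a finitely presented module commutes with filtered colimits
-/

set_option autoImplicit false
set_option backward.isDefEq.respectTransparency false
set_option backward.isDefEq.respectTransparency.types false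
set_option linter.all false

universe u

open CategoryTheory CategoryTheory.Limits Opposite

namespace Groth.Agent.HTop16.HomColim

variable {C : Type u} [SmallCategory C] {J : GrothendieckTopology C} {O : Sheaf J CommRingCat.{u}}

/-- Restrictions to a covering of the final object jointly detect isomorphisms. -/
theorem isIso_of_restr {ι : Type u} {X : ι → C} (hX : J.CoversTop X) {M N : ModSite.Mod O} (φ : M ⟶ N)
    (h : ∀ i, IsIso ((ModSite.restr O (X i)).map φ)) : IsIso φ := by
  let ψ := (SheafOfModules.toSheaf.{u} (ModSite.ringSh O)).map φ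
  have hbij : ∀ i (W : C) (a : W ⟶ X i), Function.Bijective (ψ.hom.app (op W)).hom := fun i W a => by
    haveI := h i
    haveI : IsIso (((SheafOfModules.toSheaf.{u} (ModSite.ringSh (O.over (X i)))).map ((ModSite.restr O (X i)).map φ)).hom.app (op (Over.mk a))) :=
      (inferInstance : IsIso (((sheafToPresheaf (J.over (X i)) AddCommGrpCat.{u}).map
        ((SheafOfModules.toSheaf.{u} (ModSite.ringSh (O.over (X i)))).map ((ModSite.restr O (X i)).map φ))).app (op (Over.mk a))))
    exact ConcreteCategory.bijective_of_isIso (C := AddCommGrpCat.{u})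
      (((SheafOfModules.toSheaf.{u} (ModSite.ringSh (O.over (X i)))).map ((ModSite.restr O (X i)).map φ)).hom.app (op (Over.mk a)))
  haveI : Presheaf.IsLocallyInjective J ψ.hom := ⟨fun {V} x y hxy => by
    refine J.superset_covering ?_ (hX V.unop)
    intro W g hg
    obtain ⟨i, ⟨a⟩⟩ := hg
    apply (hbij i W a).1
    exact (NatTrans.naturality_apply ψ.hom g.op x).trans
      ((congrArg _ hxy).trans (NatTrans.naturality_apply ψ.hom g.op y).symm)⟩
  haveI : Presheaf.IsLocallySurjective J ψ.hom := ⟨fun {V} s => by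
    refine J.superset_covering ?_ (hX V)
    intro W g hg
    obtain ⟨i, ⟨a⟩⟩ := hg
    exact (hbij i W a).2 _⟩
  haveI hψ : IsIso ψ := (Sheaf.isLocallyBijective_iff_isIso ψ).1 ⟨‹_›, ‹_›⟩
  exact @isIso_of_reflects_iso _ _ _ _ _ _ φ (SheafOfModules.toSheaf.{u} (ModSite.ringSh O)) hψ _

/-- Additivity of the tensor product in the left factor. -/
lemma additive_left (A : ModSite.Mod O) : ((ModSite.tensorBi O).obj A).Additive :=
  ExtSS.additive_tensorBi A

section Trans

variable {M M' : ModSite.Mod O} [ModSite.HasSheafHom M] [ModSite.HasSheafHom M'] (g : M' ⟶ M)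

theorem homEquiv_symm_comp_sheafHomMap {A N : ModSite.Mod O} (h : A ⟶ (ModSite.sheafHom M).obj N) :
    ((ModSite.sheafHomAdj M').homEquiv A N).symm (h ≫ (ExtSupp.sheafHomMap g).app N) =
      ((ModSite.tensorBi O).obj A).map g ≫ ((ModSite.sheafHomAdj M).homEquiv A N).symm h := by
  rw [Adjunction.homEquiv_counit, Adjunction.homEquiv_counit, Functor.map_comp, Category.assoc,
    conjugateEquiv_counit]
  exact (((ModSite.tensorBi O).flip.map g).naturality_assoc h _)

theorem sheafHomMap_comp_app_eq_zero {M'' : ModSite.Mod O} [ModSite.HasSheafHom M''] (g' : M'' ⟶ M')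
    (w : g' ≫ g = 0) [∀ A : ModSite.Mod O, ((ModSite.tensorBi O).obj A).PreservesZeroMorphisms]
    (N : ModSite.Mod O) :
    (ExtSupp.sheafHomMap g).app N ≫ (ExtSupp.sheafHomMap g').app N = 0 := by
  apply ((ModSite.sheafHomAdj M'').homEquiv _ N).symm.injective
  rw [homEquiv_symm_comp_sheafHomMap,
    show (ExtSupp.sheafHomMap g).app N = 𝟙 _ ≫ (ExtSupp.sheafHomMap g).app N from (Category.id_comp _).symm,
    homEquiv_symm_comp_sheafHomMap, ← Category.assoc, ← Functor.map_comp, w, Functor.map_zero, zero_comp,
    Adjunction.homEquiv_counit, Functor.map_zero, zero_comp]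

theorem preservesZero_tensorBi (A : ModSite.Mod O) : ((ModSite.tensorBi O).obj A).PreservesZeroMorphisms := by
  haveI := SiteTen.preservesFiniteColimits_tenLeft A
  haveI : ((ModSite.tensorBi O).obj A).Additive := by
    haveI := preservesBinaryBiproducts_of_preservesBinaryCoproducts ((ModSite.tensorBi O).obj A)
    exact Functor.additive_of_preservesBinaryBiproducts _
  infer_instance

end Trans

variable {M M' M'' : ModSite.Mod O} [ModSite.HasSheafHom M] [ModSite.HasSheafHom M'] [ModSite.HasSheafHom M'']

lemma sheafHomMap_comp (g : M' ⟶ M) (g' : M'' ⟶ M') :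
    ExtSupp.sheafHomMap (g' ≫ g) = ExtSupp.sheafHomMap g ≫ ExtSupp.sheafHomMap g' := by
  ext1; funext N
  apply ((ModSite.sheafHomAdj M'').homEquiv _ N).symm.injective
  rw [NatTrans.comp_app, homEquiv_symm_comp_sheafHomMap,
    show (ExtSupp.sheafHomMap (g' ≫ g)).app N = 𝟙 _ ≫ (ExtSupp.sheafHomMap (g' ≫ g)).app N from (Category.id_comp _).symm,
    show (ExtSupp.sheafHomMap g).app N = 𝟙 _ ≫ (ExtSupp.sheafHomMap g).app N from (Category.id_comp _).symm,
    homEquiv_symm_comp_sheafHomMap, homEquiv_symm_comp_sheafHomMap, Functor.map_comp, Category.assoc]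

lemma sheafHomMap_id : ExtSupp.sheafHomMap (𝟙 M) = 𝟙 (ModSite.sheafHom M) := by
  ext1; funext N
  apply ((ModSite.sheafHomAdj M).homEquiv _ N).symm.injective
  rw [show (ExtSupp.sheafHomMap (𝟙 M)).app N = 𝟙 _ ≫ (ExtSupp.sheafHomMap (𝟙 M)).app N from (Category.id_comp _).symm,
    homEquiv_symm_comp_sheafHomMap, CategoryTheory.Functor.map_id, Category.id_comp]
  rfl

lemma sheafHomMap_symm (g : M' ⟶ M) (N : ModSite.Mod O) :
    ((ModSite.sheafHomAdj M').homEquiv ((ModSite.sheafHom M).obj N) N).symm ((ExtSupp.sheafHomMap g).app N) =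
      ((ModSite.tensorBi O).obj ((ModSite.sheafHom M).obj N)).map g ≫ (ModSite.sheafHomAdj M).counit.app N := by
  have h := homEquiv_symm_comp_sheafHomMap g (N := N) (𝟙 ((ModSite.sheafHom M).obj N))
  rw [Category.id_comp, Adjunction.homEquiv_symm_id] at h
  exact h

/-- Transposition is additive. -/
lemma homEquiv_symm_add {A N : ModSite.Mod O} (x y : A ⟶ (ModSite.sheafHom M).obj N) :
    ((ModSite.sheafHomAdj M).homEquiv A N).symm (x + y) =
      ((ModSite.sheafHomAdj M).homEquiv A N).symm x + ((ModSite.sheafHomAdj M).homEquiv A N).symm y := by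
  haveI : ((ModSite.tensorBi O).flip.obj M).Additive := (ModSite.sheafHomAdj M).left_adjoint_additive
  rw [Adjunction.homEquiv_counit, Adjunction.homEquiv_counit, Adjunction.homEquiv_counit, Functor.map_add, Preadditive.add_comp]

lemma sheafHomMap_add (g g' : M' ⟶ M) (N : ModSite.Mod O) :
    (ExtSupp.sheafHomMap (g + g')).app N = (ExtSupp.sheafHomMap g).app N + (ExtSupp.sheafHomMap g').app N := by
  haveI := additive_left ((ModSite.sheafHom M).obj N)
  apply ((ModSite.sheafHomAdj M').homEquiv _ N).symm.injective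
  rw [homEquiv_symm_add, sheafHomMap_symm, sheafHomMap_symm, sheafHomMap_symm, Functor.map_add, Preadditive.add_comp]

variable {Λ : Type u} [SmallCategory Λ] (D : Λ ⥤ ModSite.Mod O)

lemma post_natural {A B : ModSite.Mod O ⥤ ModSite.Mod O} (η : A ⟶ B) :
    colimit.post D A ≫ η.app (colimit D) = colimMap (Functor.whiskerLeft D η) ≫ colimit.post D B := by
  refine colimit.hom_ext fun j => ?_
  rw [colimit.ι_post_assoc, ι_colimMap_assoc, colimit.ι_post]
  exact η.naturality _

lemma colimMap_sum {A B : Λ ⥤ ModSite.Mod O} {ι : Type u} (s : Finset ι) (f : ι → (A ⟶ B)) :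
    colimMap (∑ i ∈ s, f i) = ∑ i ∈ s, colimMap (f i) := by
  refine colimit.hom_ext fun j => ?_
  rw [ι_colimMap, NatTrans.app_sum, Preadditive.comp_sum, Preadditive.sum_comp]
  simp only [ι_colimMap]

omit [ModSite.HasSheafHom M''] in
/-- Preservation passes to summands. -/
theorem isIso_post_of_sum {ι : Type u} [Fintype ι] {E : ι → ModSite.Mod O} [∀ i, ModSite.HasSheafHom (E i)]
    (a : ∀ i, E i ⟶ M) (p : ∀ i, M ⟶ E i) (h : ∑ i, p i ≫ a i = 𝟙 M)
    (hE : ∀ i, IsIso (colimit.post D (ModSite.sheafHom (E i)))) :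
    IsIso (colimit.post D (ModSite.sheafHom M)) := by
  have hsum : ∀ N, ∑ i, (ExtSupp.sheafHomMap (a i)).app N ≫ (ExtSupp.sheafHomMap (p i)).app N = 𝟙 _ := fun N => by
    let φ : (M ⟶ M) →+ ((ModSite.sheafHom M).obj N ⟶ (ModSite.sheafHom M).obj N) :=
      AddMonoidHom.mk' (fun g => (ExtSupp.sheafHomMap g).app N) fun g g' => sheafHomMap_add g g' N
    refine Eq.trans ?_ ((congrArg φ h).trans ?_)
    · rw [map_sum]
      exact Finset.sum_congr rfl fun i _ => (NatTrans.congr_app (sheafHomMap_comp (a i) (p i)) N).symm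
    · exact NatTrans.congr_app sheafHomMap_id N
  refine ⟨⟨∑ i, (ExtSupp.sheafHomMap (a i)).app (colimit D) ≫ @inv _ _ _ _ _ (hE i) ≫
    colimMap (Functor.whiskerLeft D (ExtSupp.sheafHomMap (p i))), ?_, ?_⟩⟩
  · rw [Preadditive.comp_sum]
    have : ∀ i, colimit.post D (ModSite.sheafHom M) ≫ (ExtSupp.sheafHomMap (a i)).app (colimit D) ≫
        @inv _ _ _ _ _ (hE i) ≫ colimMap (Functor.whiskerLeft D (ExtSupp.sheafHomMap (p i))) =
        colimMap (Functor.whiskerLeft D (ExtSupp.sheafHomMap (a i)) ≫ Functor.whiskerLeft D (ExtSupp.sheafHomMap (p i))) := fun i => by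
      haveI := hE i
      rw [← Category.assoc, post_natural, Category.assoc, IsIso.hom_inv_id_assoc]
      exact (colim.map_comp _ _).symm
    rw [Finset.sum_congr rfl fun i _ => this i, ← colimMap_sum]
    refine colimit.hom_ext fun j => ?_
    rw [ι_colimMap, NatTrans.app_sum]
    simp only [NatTrans.comp_app, Functor.whiskerLeft_app]
    rw [hsum]
    exact (Category.id_comp _).trans (Category.comp_id _).symm
  · rw [Preadditive.sum_comp]
    refine Eq.trans (Finset.sum_congr rfl fun i _ => ?_) (hsum (colimit D))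
    haveI := hE i
    rw [Category.assoc, Category.assoc, ← post_natural, IsIso.inv_hom_id_assoc]

/-- The internal hom out of the structure sheaf is the identity. -/
theorem isIso_post_unit [ModSite.HasSheafHom (ModSite.unit O)] :
    IsIso (colimit.post D (ModSite.sheafHom (ModSite.unit O))) := by
  let e : 𝟭 (ModSite.Mod O) ≅ ModSite.sheafHom (ModSite.unit O) :=
    conjugateIsoEquiv Adjunction.id (ModSite.sheafHomAdj (ModSite.unit O))
      (SiteTen.tenFlipIso (ModSite.unit O) ≪≫ SiteTen.tenUnitNatIso O)
  haveI : PreservesColimit D (ModSite.sheafHom (ModSite.unit O)) := preservesColimit_of_natIso D e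
  infer_instance

variable [IsFiltered Λ]

/-- Preservation passes to kernels. -/
theorem isIso_post_of_kernel {R G F : ModSite.Mod O} [ModSite.HasSheafHom R] [ModSite.HasSheafHom G]
    [ModSite.HasSheafHom F] (r : R ⟶ G) (p : G ⟶ F) (w : r ≫ p = 0)
    (hc : IsColimit (CokernelCofork.ofπ p w))
    (hG : IsIso (colimit.post D (ModSite.sheafHom G))) (hR : IsIso (colimit.post D (ModSite.sheafHom R))) :
    IsIso (colimit.post D (ModSite.sheafHom F)) := by
  haveI := preservesZero_tensorBi (O := O)
  haveI : Epi p := Cofork.IsColimit.epi hc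
  have hk : ∀ N, IsLimit (KernelFork.ofι ((ExtSupp.sheafHomMap p).app N)
      (sheafHomMap_comp_app_eq_zero p r w N)) := fun N => by
    haveI : Mono ((ExtSupp.sheafHomMap p).app N) := by
      refine Preadditive.mono_of_cancel_zero _ fun {A} k hk => ?_
      apply ((ModSite.sheafHomAdj F).homEquiv A N).symm.injective
      haveI := SiteTen.preservesFiniteColimits_tenLeft A
      rw [← cancel_epi (((ModSite.tensorBi O).obj A).map p), ← homEquiv_symm_comp_sheafHomMap,
        ← homEquiv_symm_comp_sheafHomMap]
      exact congrArg _ (hk.trans zero_comp.symm)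
    refine KernelFork.IsLimit.ofι' _ _ fun {A} k hk => ?_
    haveI := SiteTen.preservesFiniteColimits_tenLeft A
    have hψ : ((ModSite.tensorBi O).obj A).map r ≫ ((ModSite.sheafHomAdj G).homEquiv A N).symm k = 0 := by
      rw [← homEquiv_symm_comp_sheafHomMap]
      refine (congrArg _ hk).trans ?_
      rw [Adjunction.homEquiv_counit, Functor.map_zero, zero_comp]
    have l := CokernelCofork.IsColimit.desc' (CokernelCofork.mapIsColimit _ hc ((ModSite.tensorBi O).obj A)) _ hψ
    refine ⟨(ModSite.sheafHomAdj F).homEquiv A N l.1, ?_⟩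
    apply ((ModSite.sheafHomAdj G).homEquiv A N).symm.injective
    rw [homEquiv_symm_comp_sheafHomMap, Equiv.symm_apply_apply]
    exact l.2
  haveI := S9107.result O Λ
  haveI : PreservesFiniteLimits (colim : (Λ ⥤ ModSite.Mod O) ⥤ _) := inferInstance
  haveI : (colim : (Λ ⥤ ModSite.Mod O) ⥤ _).PreservesZeroMorphisms := by
    exact ⟨fun A B => colimit.hom_ext fun j => by simp⟩
  have hw : Functor.whiskerLeft D (ExtSupp.sheafHomMap p) ≫ Functor.whiskerLeft D (ExtSupp.sheafHomMap r) = 0 :=
    NatTrans.ext (funext fun j => sheafHomMap_comp_app_eq_zero p r w (D.obj j))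
  have hkD : IsLimit (KernelFork.ofι (Functor.whiskerLeft D (ExtSupp.sheafHomMap p)) hw) :=
    evaluationJointlyReflectsLimits _ fun j =>
      (KernelFork.isLimitMapConeEquiv _ _).symm (hk (D.obj j))
  have hcol := KernelFork.mapIsLimit _ hkD (colim : (Λ ⥤ ModSite.Mod O) ⥤ _)
  haveI := hG
  haveI := hR
  have n₁ := post_natural D (ExtSupp.sheafHomMap p)
  have n₂ := post_natural D (ExtSupp.sheafHomMap r)
  haveI : Mono (colimMap (Functor.whiskerLeft D (ExtSupp.sheafHomMap p))) := Fork.IsLimit.mono hcol
  obtain ⟨l, hl⟩ := KernelFork.IsLimit.lift' hcol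
    ((ExtSupp.sheafHomMap p).app (colimit D) ≫ inv (colimit.post D (ModSite.sheafHom G))) (by
      show (_ ≫ _) ≫ colimMap (Functor.whiskerLeft D (ExtSupp.sheafHomMap r)) = 0
      rw [← cancel_mono (colimit.post D (ModSite.sheafHom R)), zero_comp, Category.assoc, Category.assoc,
        ← n₂, IsIso.inv_hom_id_assoc, sheafHomMap_comp_app_eq_zero p r w])
  haveI : Mono ((ExtSupp.sheafHomMap p).app (colimit D)) := Fork.IsLimit.mono (hk (colimit D))
  refine ⟨⟨l, ?_, ?_⟩⟩
  · rw [← cancel_mono (colimMap (Functor.whiskerLeft D (ExtSupp.sheafHomMap p))), Category.assoc, Category.id_comp]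
    refine (congrArg (_ ≫ ·) hl).trans ?_
    rw [← Category.assoc, n₁, Category.assoc, IsIso.hom_inv_id, Category.comp_id]
  · rw [← cancel_mono ((ExtSupp.sheafHomMap p).app (colimit D)), Category.assoc, n₁, ← Category.assoc, Category.id_comp]
    refine (congrArg (· ≫ _) hl).trans ?_
    rw [Category.assoc, IsIso.inv_hom_id, Category.comp_id]

/-- The internal hom out of a finite free module. -/
theorem isIso_post_free (I : Type u) [Finite I] [ModSite.HasSheafHom (SheafOfModules.free (R := ModSite.ringSh O) I)] :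
    IsIso (colimit.post D (ModSite.sheafHom (SheafOfModules.free (R := ModSite.ringSh O) I))) := by
  classical
  haveI := Fintype.ofFinite I
  haveI : ModSite.HasSheafHom (ModSite.unit O) := S6165.result O _
  refine isIso_post_of_sum D (E := fun _ : I => ModSite.unit O) (fun i => SheafOfModules.ιFree i)
    (fun i => Sigma.desc fun j => if j = i then 𝟙 _ else 0) ?_ fun _ => isIso_post_unit D
  refine Cofan.IsColimit.hom_ext (SheafOfModules.isColimitFreeCofan I) _ _ fun j => ?_
  rw [SheafOfModules.freeCofan_inj, Preadditive.comp_sum]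
  refine Eq.trans ?_ (Category.comp_id _).symm
  have e : ∀ i : I, SheafOfModules.ιFree j ≫ (Sigma.desc fun j => if j = i then 𝟙 _ else 0) ≫ SheafOfModules.ιFree i =
      if j = i then (SheafOfModules.ιFree (R := ModSite.ringSh O) i) else 0 := fun i => by
    refine (Sigma.ι_desc_assoc _ _ _).trans ?_
    split_ifs with h
    · exact Category.id_comp _
    · exact zero_comp
  refine (Finset.sum_congr rfl fun i _ => e i).trans ?_
  simp

end Groth.Agent.HTop16.HomColim

namespace Groth.Agent.HTop16.HomColim

variable {C : Type u} [SmallCategory C] {J : GrothendieckTopology C} {O : Sheaf J CommRingCat.{u}}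
  {Λ : Type u} [SmallCategory Λ] [IsFiltered Λ] (D : Λ ⥤ ModSite.Mod O)

/-- Restriction of the comparison map. -/
theorem isIso_restr_post {G : ModSite.Mod O ⥤ ModSite.Mod O} {X : C}
    [PreservesColimit (D ⋙ G) (ModSite.restr O X)] [PreservesColimit D (G ⋙ ModSite.restr O X)] :
    IsIso ((ModSite.restr O X).map (colimit.post D G)) := by
  have h₁ := isColimitOfPreserves (ModSite.restr O X) (colimit.isColimit (D ⋙ G))
  have h₂ := isColimitOfPreserves (G ⋙ ModSite.restr O X) (colimit.isColimit D)
  have e : (ModSite.restr O X).map (colimit.post D G) = (h₁.coconePointUniqueUpToIso h₂).hom := by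
    refine h₁.hom_ext fun j => ?_
    refine Eq.trans ?_ (h₁.comp_coconePointUniqueUpToIso_hom h₂ j).symm
    exact ((ModSite.restr O X).map_comp _ _).symm.trans (congrArg _ (colimit.ι_post D G j))
  rw [e]
  infer_instance

/-- The comparison over an object with a finite presentation. -/
theorem preservesColimit_of_presentation {FX : ModSite.Mod O} [ModSite.HasSheafHom FX]
    (P : SheafOfModules.Presentation (R := ModSite.ringSh O) FX) [Finite P.generators.I] [Finite P.relations.I] :
    PreservesColimit D (ModSite.sheafHom FX) := by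
  haveI : ModSite.HasSheafHom (SheafOfModules.free (R := ModSite.ringSh O) P.generators.I) := S6165.result _ _
  haveI : ModSite.HasSheafHom (SheafOfModules.free (R := ModSite.ringSh O) P.relations.I) := S6165.result _ _
  haveI := isIso_post_of_kernel D _ P.generators.π _ P.isColimit (isIso_post_free D _) (isIso_post_free D _)
  exact preservesColimit_of_isIso_post (ModSite.sheafHom FX) D

/-- `ℋom(F, -)` commutes with filtered colimits for `F` finitely presented. -/
theorem preservesColimit_sheafHom (F : ModSite.Mod O) [ModSite.HasSheafHom F]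
    (hF : SheafOfModules.IsFinitePresentation (R := ModSite.ringSh O) F) :
    PreservesColimit D (ModSite.sheafHom F) := by
  obtain ⟨σ, hσ⟩ := hF.exists_quasicoherentData
  haveI : IsIso (colimit.post D (ModSite.sheafHom F)) := isIso_of_restr σ.coversTop _ fun i => by
    haveI : ModSite.HasSheafHom ((ModSite.restr O (σ.X i)).obj F) := S6165.result _ _
    haveI := (hσ.isFinite_presentation i).isFiniteType_generators.finite
    haveI := (hσ.isFinite_presentation i).isFiniteType_relations.finite
    haveI := DerCompLib.preservesColimitsOfShape_restr O (σ.X i) Λ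
    haveI : PreservesColimit (D ⋙ ModSite.restr O (σ.X i)) (ModSite.sheafHom ((ModSite.restr O (σ.X i)).obj F)) :=
      preservesColimit_of_presentation _ (σ.presentation i)
    haveI : PreservesColimit D (ModSite.restr O (σ.X i) ⋙ ModSite.sheafHom ((ModSite.restr O (σ.X i)).obj F)) :=
      inferInstance
    haveI : PreservesColimit D (ModSite.sheafHom F ⋙ ModSite.restr O (σ.X i)) :=
      preservesColimit_of_natIso D (SiteHom16.restrSheafHomIso (σ.X i) F).symm
    exact isIso_restr_post D
  exact preservesColimit_of_isIso_post (ModSite.sheafHom F) D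

end Groth.Agent.HTop16.HomColim
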