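import Groth.Agent.HTop16.VCover
import Groth.Agent.HTop16.PhRefine
import Groth.Agent.SubtrLib.Noetherian

/-!
# Universally submersive morphisms of finite type over Noetherian schemes are `h` coverings
-/

set_option autoImplicit false
set_option backward.isDefEq.respectTransparency false
set_option linter.all false

universe w u

open CategoryTheory CategoryTheory.Limits AlgebraicGeometry TopologicalSpace IsLocalRing

namespace Groth.Agent.HTop16.SubmCover

theorem hasValLift_of_univSSubtrusive {X Y : Scheme.{u}} (f : X ⟶ Y) (hf : Subtr.UnivSSubtrusive f) :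
    HTop.HasValLift (PreZeroHypercover.singleton.{w} f) := by
  refine VCover.hasValLift_of_specializes _ fun V _ _ g => ?_
  obtain ⟨z, z', hz, hx, hx'⟩ := hf _ _ _ (IsPullback.of_hasPullback g f)
    (SubtrLib.spec_bot_specializes V (closedPoint V))
  exact ⟨PUnit.unit, z', z, hz, hx', hx⟩

theorem univSSubtrusive_of_univSubmersive {X Y : Scheme.{u}} [IsLocallyNoetherian Y] (f : X ⟶ Y) [QuasiCompact f]
    (hf : SGA1.UnivSubmersive f) : Subtr.UnivSSubtrusive f :=
  SubtrLib.univSSubtrusive_of_dvr f fun D _ _ _ g => SubtrLib.hasLift_of_submersive f hf D g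

theorem hasValLift_of_univSubmersive {X Y : Scheme.{u}} [IsLocallyNoetherian Y] (f : X ⟶ Y) [QuasiCompact f]
    (hf : SGA1.UnivSubmersive f) : HTop.HasValLift (PreZeroHypercover.singleton.{w} f) :=
  hasValLift_of_univSSubtrusive f (univSSubtrusive_of_univSubmersive f hf)

end Groth.Agent.HTop16.SubmCover
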