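import Groth.Agent.HTop16.PhPiece
import Groth.Agent.HTop16.VCover

/-!
# Standard ph coverings: base change and composition
-/

set_option autoImplicit false
set_option backward.isDefEq.respectTransparency false
set_option linter.all false

universe w w' u

open CategoryTheory CategoryTheory.Limits AlgebraicGeometry TopologicalSpace

namespace Groth.Agent.HTop16.PhComp

variable {T : Scheme.{u}}

theorem isStandardPh_pullback {T' : Scheme.{u}} [IsAffine T'] (g : T' ⟶ T) {E : PreZeroHypercover.{w} T}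
    (hE : HTop.IsStandardPh E) : HTop.IsStandardPh (E.pullback₁ g) := by
  obtain ⟨U, f, ι, hf, hfs, hι, hιf, hcov⟩ := hE.exists_proper
  refine ⟨‹_›, hE.finite_index, fun j => ?_, pullback g f, pullback.fst g f,
    fun j => pullback.lift (pullback.fst g (E.f j)) (pullback.snd g (E.f j) ≫ ι j) (by
      rw [Category.assoc, hιf, pullback.condition]), inferInstance, inferInstance, fun j => ?_,
    fun j => pullback.lift_fst _ _ _, fun x => ?_⟩
  · haveI := hE.isAffine
    haveI := hE.isAffine_obj j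
    exact inferInstanceAs (IsAffine (pullback g (E.f j)))
  · haveI := hι j
    have h : IsPullback (pullback.lift (pullback.fst g (E.f j)) (pullback.snd g (E.f j) ≫ ι j)
        (by rw [Category.assoc, hιf, pullback.condition])) (pullback.snd g (E.f j))
        (pullback.snd g f) (ι j) :=
      IsPullback.of_bot ((by simpa [hιf] using IsPullback.of_hasPullback g (E.f j) : IsPullback _ _ g (ι j ≫ f)).flip)
        (pullback.lift_snd _ _ _).symm (IsPullback.of_hasPullback g f).flip |>.flip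
    exact MorphismProperty.of_isPullback (P := @IsOpenImmersion) h.flip inferInstance
  · obtain ⟨j, hj⟩ := hcov (pullback.snd g f x)
    obtain ⟨y, hy⟩ := hj
    obtain ⟨z, hz1, hz2⟩ := Scheme.Pullback.exists_preimage_pullback (f := g) (g := E.f j) (pullback.fst g f x) y (by
      rw [← hιf, Scheme.Hom.comp_apply, hy, ← Scheme.Hom.comp_apply, ← Scheme.Hom.comp_apply, pullback.condition])
    refine ⟨j, ?_⟩
    let L : pullback g (E.f j) ⟶ pullback g f := pullback.lift (pullback.fst g (E.f j))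
      (pullback.snd g (E.f j) ≫ ι j) (by rw [Category.assoc, hιf, pullback.condition])
    haveI := hι j
    have h : IsPullback L (pullback.snd g (E.f j)) (pullback.snd g f) (ι j) :=
      IsPullback.of_bot ((by simpa [hιf] using IsPullback.of_hasPullback g (E.f j) : IsPullback _ _ g (ι j ≫ f)).flip)
        (pullback.lift_snd _ _ _).symm (IsPullback.of_hasPullback g f).flip |>.flip
    obtain ⟨q, hq, -⟩ := Scheme.Pullback.exists_preimage_pullback (f := pullback.snd g f) (g := ι j) x y hy.symm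
    exact ⟨h.isoPullback.inv q, by
      change (h.isoPullback.inv ≫ L) q = x
      rw [IsPullback.isoPullback_inv_fst, hq]⟩

/-- Finitely many proper surjective morphisms over open subschemes are dominated by one over the whole. -/
theorem exists_dominate {U : Scheme.{u}} [CompactSpace U] [QuasiSeparatedSpace U] :
    ∀ (k : ℕ) (O : Fin k → U.Opens) (V : Fin k → Scheme.{u}) (v : ∀ i, V i ⟶ (O i : Scheme.{u}))
      (_ : ∀ i, IsCompact (O i : Set U)) (_ : ∀ i, IsProper (v i)) (_ : ∀ i, Surjective (v i)),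
      ∃ (W : Scheme.{u}) (w : W ⟶ U), IsProper w ∧ Surjective w ∧
        ∀ i, ∃ a : ((w ⁻¹ᵁ O i) : Scheme.{u}) ⟶ V i, a ≫ v i = w ∣_ O i
  | 0, _, _, _, _, _, _ => ⟨U, 𝟙 U, inferInstance, inferInstance, fun i => i.elim0⟩
  | k + 1, O, V, v, hO, hv, hvs => by
    obtain ⟨W, w, hw, hws, ha⟩ := exists_dominate k (fun i => O i.succ) (fun i => V i.succ) (fun i => v i.succ)
      (fun i => hO _) (fun i => hv _) fun i => hvs _
    haveI := hv 0
    haveI := hvs 0
    obtain ⟨W₀, w₀, a₀, hw₀, hw₀s, ha₀⟩ := exists_extend (O 0) (hO 0) (v 0)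
    refine ⟨pullback w w₀, pullback.fst w w₀ ≫ w, inferInstance, inferInstance, fun i => ?_⟩
    refine Fin.cases ?_ (fun i => ?_) i
    · have hle : (pullback.fst w w₀ ≫ w) ⁻¹ᵁ O 0 ≤ pullback.snd w w₀ ⁻¹ᵁ (w₀ ⁻¹ᵁ O 0) := by
        rw [pullback.condition]; exact le_rfl
      refine ⟨(pullback.snd w w₀).resLE _ _ hle ≫ a₀, ?_⟩
      rw [Category.assoc, ha₀, ← cancel_mono (O 0).ι, Category.assoc, morphismRestrict_ι, morphismRestrict_ι,
        Scheme.Hom.resLE_comp_ι_assoc, pullback.condition]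
    · obtain ⟨a, ha⟩ := ha i
      refine ⟨(pullback.fst w w₀).resLE (w ⁻¹ᵁ O i.succ) _ le_rfl ≫ a, ?_⟩
      rw [Category.assoc, ha, ← cancel_mono (O i.succ).ι, Category.assoc, morphismRestrict_ι, morphismRestrict_ι,
        Scheme.Hom.resLE_comp_ι_assoc]

/-- A standard ph covering refining a composite of standard ph coverings. -/
theorem exists_standardPh_bind {E : PreZeroHypercover.{w} T} (hE : HTop.IsStandardPh E)
    {F : ∀ j, PreZeroHypercover.{w'} (E.X j)} (hF : ∀ j, HTop.IsStandardPh (F j)) :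
    ∃ F' : PreZeroHypercover.{0} T, HTop.IsStandardPh F' ∧ Nonempty (F'.Hom (E.bind F)) := by
  haveI := hE.isAffine
  haveI := hE.finite_index
  haveI := hE.isAffine_obj
  obtain ⟨U, f, ι, hf, hfs, hι, hιf, hcov⟩ := hE.exists_proper
  haveI : CompactSpace U := QuasiCompact.compactSpace_of_compactSpace f
  haveI : QuasiSeparatedSpace U := quasiSeparatedSpace_of_quasiSeparated f
  haveI := fun j => hι j
  choose Uj f' ι' hf' hfs' hι' hιf' hcov' using fun j => (hF j).exists_proper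
  obtain ⟨k, ⟨e⟩⟩ := Finite.exists_equiv_fin E.I₀
  haveI := hf'
  haveI := hfs'
  obtain ⟨W, w, hw, hws, ha⟩ := exists_dominate k (fun i => (ι (e.symm i)).opensRange) (fun i => Uj (e.symm i))
    (fun i => f' (e.symm i) ≫ (ι (e.symm i)).isoOpensRange.hom)
    (fun i => by
      rw [Scheme.Hom.coe_opensRange]
      exact isCompact_range (ι (e.symm i)).continuous)
    (fun i => inferInstance) fun i => inferInstance
  haveI : CompactSpace W := QuasiCompact.compactSpace_of_compactSpace (w ≫ f)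
  choose a ha using ha
  have key : ∀ x : W, ∃ (i : Fin k) (l : (F (e.symm i)).I₀) (O : W.Opens) (h : O ≤ w ⁻¹ᵁ (ι (e.symm i)).opensRange),
      x ∈ O ∧ IsAffineOpen O ∧ ∀ y : (O : Scheme.{u}),
        (W.homOfLE h ≫ a i) y ∈ Set.range (ι' (e.symm i) l) := by
    intro x
    obtain ⟨j, hj⟩ := hcov (w x)
    obtain ⟨i, rfl⟩ := e.symm.surjective j
    obtain ⟨l, hl⟩ := hcov' (e.symm i) (a i ⟨x, hj⟩)
    haveI := hι' (e.symm i) l
    let P : W.Opens := (w ⁻¹ᵁ (ι (e.symm i)).opensRange).ι ''ᵁ (a i ⁻¹ᵁ (ι' (e.symm i) l).opensRange)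
    obtain ⟨_, ⟨O, hO, rfl⟩, hxO, hOP⟩ :=
      W.isBasis_affineOpens.exists_subset_of_mem_open (show x ∈ (P : Set W) from ⟨⟨x, hj⟩, hl, rfl⟩) P.isOpen
    refine ⟨i, l, O, fun y hy => ?_, hxO, hO, fun y => ?_⟩
    · obtain ⟨z, -, rfl⟩ := hOP hy
      exact z.2
    · obtain ⟨z, hz, hzy⟩ := hOP y.2
      have : W.homOfLE (show O ≤ w ⁻¹ᵁ (ι (e.symm i)).opensRange from fun y hy => by
          obtain ⟨z, -, rfl⟩ := hOP hy; exact z.2) y = z := by
        apply (w ⁻¹ᵁ (ι (e.symm i)).opensRange).ι.isOpenEmbedding.injective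
        rw [← Scheme.Hom.comp_apply, Scheme.homOfLE_ι]
        exact hzy.symm
      rw [Scheme.Hom.comp_apply, this]
      exact hz
  choose i l O hle hxO hO hl using key
  obtain ⟨s, hs⟩ := isCompact_univ.elim_finite_subcover (fun x => (O x : Set W))
    (fun x => (O x).isOpen) fun x _ => Set.mem_iUnion.2 ⟨x, hxO x⟩
  let x : Fin s.card → W := fun m => (s.equivFin.symm m).1
  let G : PreZeroHypercover.{0} T :=
    { I₀ := Fin s.card
      X := fun m => (O (x m) : Scheme.{u})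
      f := fun m => (O (x m)).ι ≫ w ≫ f }
  refine ⟨G, ⟨‹_›, inferInstanceAs (Finite (Fin s.card)), fun m => hO _, W, w ≫ f, fun m => (O (x m)).ι,
    inferInstance, inferInstance, fun m => inferInstanceAs (IsOpenImmersion (O (x m)).ι), fun m => rfl,
    fun y => ?_⟩, ⟨?_⟩⟩
  · obtain ⟨z, hz⟩ := Set.mem_iUnion.1 (hs (Set.mem_univ y))
    obtain ⟨hzs, hzy⟩ := Set.mem_iUnion.1 hz
    exact ⟨s.equivFin ⟨z, hzs⟩, ⟨⟨y, by simpa [x] using hzy⟩, rfl⟩⟩
  · haveI := fun m => hι' (e.symm (i (x m))) (l (x m))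
    let g : ∀ m, G.X m ⟶ (F (e.symm (i (x m)))).X (l (x m)) := fun m =>
      IsOpenImmersion.lift (ι' (e.symm (i (x m))) (l (x m))) (W.homOfLE (hle (x m)) ≫ a (i (x m)))
        (Set.range_subset_iff.2 (hl (x m)))
    refine { s₀ := fun m => ⟨e.symm (i (x m)), l (x m)⟩, h₀ := g, w₀ := fun m => ?_ }
    change g m ≫ (F _).f (l (x m)) ≫ E.f _ = (O (x m)).ι ≫ w ≫ f
    rw [← hιf, ← hιf', Category.assoc, ← Scheme.Hom.isoOpensRange_hom_ι (f := ι (e.symm (i (x m)))), Category.assoc,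
      IsOpenImmersion.lift_fac_assoc, Category.assoc, reassoc_of% (ha (i (x m))), ← Category.assoc (_ ∣_ _),
      morphismRestrict_ι, Category.assoc, Scheme.homOfLE_ι_assoc]

theorem exists_standardPh_openCover [IsAffine T] {ι : Type*} (O : ι → T.Opens) (hO : ∀ t, ∃ i, t ∈ O i) :
    ∃ (n : ℕ) (a : Fin n → ι) (P : Fin n → T.Opens), (∀ m, P m ≤ O (a m)) ∧
      HTop.IsStandardPh ({ I₀ := Fin n, X := fun m => (P m : Scheme.{u}), f := fun m => (P m).ι } :
        PreZeroHypercover.{0} T) := by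
  choose j hj using hO
  have key : ∀ t : T, ∃ P : T.Opens, t ∈ P ∧ IsAffineOpen P ∧ P ≤ O (j t) := fun t => by
    obtain ⟨_, ⟨P, hP, rfl⟩, htP, hle⟩ :=
      T.isBasis_affineOpens.exists_subset_of_mem_open (hj t) (O (j t)).isOpen
    exact ⟨P, htP, hP, hle⟩
  choose P htP hP hle using key
  obtain ⟨s, hs⟩ := isCompact_univ.elim_finite_subcover (fun t => (P t : Set T))
    (fun t => (P t).isOpen) fun t _ => Set.mem_iUnion.2 ⟨t, htP t⟩
  let t : Fin s.card → T := fun m => (s.equivFin.symm m).1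
  refine ⟨s.card, fun m => j (t m), fun m => P (t m), fun m => hle _,
    ⟨‹_›, inferInstanceAs (Finite (Fin s.card)), fun m => hP _, T, 𝟙 T, fun m => (P (t m)).ι, inferInstance,
      inferInstance, fun m => inferInstanceAs (IsOpenImmersion (P (t m)).ι), fun m => Category.comp_id _,
      fun y => ?_⟩⟩
  obtain ⟨z, hz⟩ := Set.mem_iUnion.1 (hs (Set.mem_univ y))
  obtain ⟨hzs, hzy⟩ := Set.mem_iUnion.1 hz
  exact ⟨s.equivFin ⟨z, hzs⟩, ⟨⟨y, by simpa [t] using hzy⟩, rfl⟩⟩

theorem exists_standardPh_refinesOver {E : PreZeroHypercover.{w} T} (hE : HTop.IsPhCover E) {A : Scheme.{u}}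
    [IsAffine A] (h : A ⟶ T) :
    ∃ G : PreZeroHypercover.{0} A, HTop.IsStandardPh G ∧ HTop.RefinesOver h G E := by
  obtain ⟨n, a, P, hP, hG₀⟩ := exists_standardPh_openCover (T := A) (fun U : T.affineOpens => h ⁻¹ᵁ U.1) fun x => by
    obtain ⟨_, ⟨U, hU, rfl⟩, hxU, -⟩ :=
      T.isBasis_affineOpens.exists_subset_of_mem_open (Set.mem_univ (h x)) isOpen_univ
    exact ⟨⟨U, hU⟩, hxU⟩
  choose F hF hr using fun m => hE.2 (a m)
  let F' : ∀ m, PreZeroHypercover.{0} (P m : Scheme.{u}) := fun m =>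
    (F m).pullback₁ (h.resLE (a m).1 (P m) (hP m))
  obtain ⟨G, hG, ⟨e⟩⟩ := exists_standardPh_bind hG₀ (F := F') fun m => by
    haveI : IsAffine (P m : Scheme.{u}) := hG₀.isAffine_obj m
    exact isStandardPh_pullback _ (hF m)
  refine ⟨G, hG, fun k => ?_⟩
  obtain ⟨i, b, hb⟩ := hr (e.s₀ k).1 (e.s₀ k).2
  refine ⟨i, (e.h₀ k ≫ pullback.snd _ _) ≫ b, ?_⟩
  rw [← e.w₀ k, Category.assoc, Category.assoc, hb, ← pullback.condition_assoc]
  change _ = (e.h₀ k ≫ pullback.fst _ _ ≫ (P (e.s₀ k).1).ι) ≫ h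
  simp

theorem isPhCover_pullback {T' : Scheme.{u}} (g : T' ⟶ T) {E : PreZeroHypercover.{w} T} (hE : HTop.IsPhCover E) :
    HTop.IsPhCover (E.pullback₁ g) := by
  refine ⟨fun i => ?_, fun U => ?_⟩
  · haveI := hE.1 i
    exact inferInstanceAs (LocallyOfFiniteType (pullback.fst g (E.f i)))
  · haveI : IsAffine (U.1 : Scheme.{u}) := U.2
    obtain ⟨G, hG, hr⟩ := exists_standardPh_refinesOver hE (U.1.ι ≫ g)
    refine ⟨G, hG, fun j => ?_⟩
    obtain ⟨i, a, ha⟩ := hr j
    exact ⟨i, pullback.lift (G.f j ≫ U.1.ι) a (by rw [Category.assoc, ha]), pullback.lift_fst _ _ _⟩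

theorem isPhCover_bind {E : PreZeroHypercover.{w} T} (hE : HTop.IsPhCover E)
    {F : ∀ i, PreZeroHypercover.{w'} (E.X i)} (hF : ∀ i, HTop.IsPhCover (F i)) : HTop.IsPhCover (E.bind F) := by
  refine ⟨fun ij => ?_, fun U => ?_⟩
  · haveI := hE.1 ij.1
    haveI := (hF ij.1).1 ij.2
    exact inferInstanceAs (LocallyOfFiniteType ((F ij.1).f ij.2 ≫ E.f ij.1))
  obtain ⟨G₀, hG₀, hr₀⟩ := hE.2 U
  choose i a ha using hr₀
  haveI := hG₀.isAffine_obj
  choose G hG hr using fun k => exists_standardPh_refinesOver (hF (i k)) (a k)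
  obtain ⟨G', hG', ⟨e⟩⟩ := exists_standardPh_bind hG₀ hG
  refine ⟨G', hG', fun m => ?_⟩
  obtain ⟨j, b, hb⟩ := hr (e.s₀ m).1 (e.s₀ m).2
  refine ⟨⟨i (e.s₀ m).1, j⟩, e.h₀ m ≫ b, ?_⟩
  rw [← e.w₀ m]
  change (e.h₀ m ≫ b) ≫ (F (i (e.s₀ m).1)).f j ≫ E.f _ = (e.h₀ m ≫ (G _).f _ ≫ G₀.f _) ≫ U.1.ι
  simp only [Category.assoc]
  rw [reassoc_of% hb, ha]

end Groth.Agent.HTop16.PhComp
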