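import Mathlib.FieldTheory.IsAlgClosed.Basic
import Mathlib.RingTheory.Valuation.ValuationRing
import Mathlib.RingTheory.Bezout
import Mathlib.RingTheory.PrincipalIdealDomain
import Mathlib.Algebra.GCDMonoid.IntegrallyClosed
import Mathlib.RingTheory.Polynomial.ScaleRoots
import Mathlib.RingTheory.Localization.Integer
import Mathlib.RingTheory.Localization.FractionRing
import Mathlib.RingTheory.IntegralClosure.IntegrallyClosed
import Mathlib.Order.Filter.Ultrafilter.Basic
import Mathlib.RingTheory.Ideal.Quotient.Operations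
import Mathlib.FieldTheory.IsAlgClosed.AlgebraicClosure
import Mathlib.RingTheory.Valuation.ValuationSubring
import Mathlib.Algebra.MvPolynomial.Eval

/-!
# Systems of equations over valuation rings with algebraically closed fraction field
-/

set_option autoImplicit false
set_option linter.all false

universe u

open Polynomial

namespace Groth.Agent.HTop16.ValUltra

/-- Roots of monic polynomials in a domain give an algebraically closed fraction field. -/
theorem isAlgClosed_fractionRing {V : Type u} [CommRing V] [IsDomain V]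
    (h : ∀ p : V[X], p.Monic → 0 < p.natDegree → ∃ x, p.eval x = 0) : IsAlgClosed (FractionRing V) := by
  classical
  let K := FractionRing V
  refine IsAlgClosed.of_exists_root _ fun p hp hirr => ?_
  obtain ⟨d, hd⟩ := IsLocalization.exist_integer_multiples_of_finset (nonZeroDivisors V) p.coeffs
  have hd0 : algebraMap V K d ≠ 0 := IsFractionRing.to_map_ne_zero_of_mem_nonZeroDivisors d.2
  let q := p.scaleRoots (algebraMap V K d)
  have hq : q ∈ Polynomial.lifts (algebraMap V K) := by
    rw [Polynomial.lifts_iff_coeff_lifts]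
    intro n
    rw [Polynomial.coeff_scaleRoots]
    rcases eq_or_ne (p.coeff n) 0 with h0 | h0
    · exact ⟨0, by simp [h0]⟩
    rcases lt_or_eq_of_le (Polynomial.le_natDegree_of_ne_zero h0) with hn | hn
    · obtain ⟨c, hc⟩ := hd (p.coeff n) (Polynomial.coeff_mem_coeffs h0)
      refine ⟨c * (d : V) ^ (p.natDegree - n - 1), ?_⟩
      have hc' : algebraMap V K c = algebraMap V K d * p.coeff n := by rw [hc, Algebra.smul_def]
      rw [map_mul, map_pow, hc', mul_comm (algebraMap V K d), mul_assoc, ← pow_succ',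
        show p.natDegree - n - 1 + 1 = p.natDegree - n by omega]
    · exact ⟨1, by rw [map_one, hn, hp.coeff_natDegree, one_mul, Nat.sub_self, pow_zero]⟩
  obtain ⟨q₀, hq₀, hdeg, hmon⟩ :=
    Polynomial.lifts_and_natDegree_eq_and_monic hq ((Polynomial.monic_scaleRoots_iff _).2 hp)
  obtain ⟨x, hx⟩ := h q₀ hmon (by rw [hdeg, Polynomial.natDegree_scaleRoots]; exact hirr.natDegree_pos)
  refine ⟨algebraMap V K x / algebraMap V K d, ?_⟩
  have h1 : q.eval (algebraMap V K x) = 0 := by
    rw [← hq₀, Polynomial.eval_map_apply, hx, map_zero]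
  have h2 : q.eval (algebraMap V K d * (algebraMap V K x / algebraMap V K d)) =
      (algebraMap V K d) ^ p.natDegree * p.eval (algebraMap V K x / algebraMap V K d) := by
    have := Polynomial.scaleRoots_eval₂_mul (p := p) (RingHom.id K) (algebraMap V K x / algebraMap V K d) (algebraMap V K d)
    rw [Polynomial.eval₂_id, Polynomial.eval₂_id] at this
    exact this
  rw [mul_div_cancel₀ _ hd0, h1] at h2
  exact (mul_eq_zero.1 h2.symm).resolve_left (pow_ne_zero _ hd0)

theorem exists_root {V : Type u} [CommRing V] [IsDomain V] [ValuationRing V] [IsAlgClosed (FractionRing V)]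
    (p : V[X]) (hp : p.Monic) (hd : 0 < p.natDegree) : ∃ x, p.eval x = 0 := by
  let K := FractionRing V
  obtain ⟨z, hz⟩ := IsAlgClosed.exists_root (p.map (algebraMap V K)) (by
    rw [hp.degree_map]; exact (Polynomial.natDegree_pos_iff_degree_pos.1 hd).ne')
  have hint : IsIntegral V z := ⟨p, hp, by rwa [Polynomial.eval₂_eq_eval_map]⟩
  obtain ⟨x, rfl⟩ := IsIntegrallyClosed.isIntegral_iff.1 hint
  refine ⟨x, IsFractionRing.injective V K ?_⟩
  rw [map_zero, ← Polynomial.eval_map_apply]
  exact hz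

section Ultra

variable {T : Type u} (U : Ultrafilter T) (V : T → Type u) [∀ t, CommRing (V t)]

/-- The ideal of the ultraproduct. -/
def ultraIdeal : Ideal (∀ t, V t) where
  carrier := {x | ∀ᶠ t in (U : Filter T), x t = 0}
  zero_mem' := Filter.Eventually.of_forall fun t => rfl
  add_mem' := fun {a b} ha hb => by
    filter_upwards [ha, hb] with t h₁ h₂
    rw [Pi.add_apply, h₁, h₂, add_zero]
  smul_mem' := fun c {a} ha => by
    filter_upwards [ha] with t h₁
    rw [Pi.smul_apply', h₁, smul_zero]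

theorem mk_eq_mk {a b : ∀ t, V t} :
    Ideal.Quotient.mk (ultraIdeal U V) a = Ideal.Quotient.mk (ultraIdeal U V) b ↔ ∀ᶠ t in (U : Filter T), a t = b t := by
  rw [Ideal.Quotient.eq]
  exact Filter.eventually_congr (Filter.Eventually.of_forall fun t => sub_eq_zero)

theorem ultra_isDomain [∀ t, IsDomain (V t)] : IsDomain ((∀ t, V t) ⧸ ultraIdeal U V) := by
  refine (Ideal.Quotient.isDomain_iff_prime _).2 ⟨fun h => ?_, fun {a b} hab => Ultrafilter.eventually_or.1 ?_⟩
  · have h1 : (1 : ∀ t, V t) ∈ ultraIdeal U V := h ▸ Submodule.mem_top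
    obtain ⟨t, ht⟩ := (show ∀ᶠ t in (U : Filter T), (1 : ∀ t, V t) t = 0 from h1).exists
    exact one_ne_zero ht
  · filter_upwards [hab] with t ht using mul_eq_zero.1 ht

theorem ultra_valuationRing [∀ t, IsDomain (V t)] [∀ t, ValuationRing (V t)]
    [IsDomain ((∀ t, V t) ⧸ ultraIdeal U V)] : ValuationRing ((∀ t, V t) ⧸ ultraIdeal U V) := by
  refine ValuationRing.iff_dvd_total.2 ⟨fun a b => ?_⟩
  obtain ⟨a, rfl⟩ := Ideal.Quotient.mk_surjective a
  obtain ⟨b, rfl⟩ := Ideal.Quotient.mk_surjective b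
  choose c hc using fun t => ValuationRing.cond (a t) (b t)
  rcases Ultrafilter.eventually_or.1 (Filter.Eventually.of_forall (f := (U : Filter T)) hc) with h | h
  · exact Or.inl ⟨Ideal.Quotient.mk _ c, ((map_mul _ a c).symm.trans ((mk_eq_mk U V).2 h)).symm⟩
  · exact Or.inr ⟨Ideal.Quotient.mk _ c, ((map_mul _ b c).symm.trans ((mk_eq_mk U V).2 h)).symm⟩

theorem ultra_isAlgClosed [∀ t, IsDomain (V t)] [∀ t, ValuationRing (V t)] [∀ t, IsAlgClosed (FractionRing (V t))]
    [IsDomain ((∀ t, V t) ⧸ ultraIdeal U V)] : IsAlgClosed (FractionRing ((∀ t, V t) ⧸ ultraIdeal U V)) :=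
  isAlgClosed_fractionRing fun p hp hd => by
    obtain ⟨q, hq, hdeg, hmon⟩ := Polynomial.lifts_and_natDegree_eq_and_monic
      ((Polynomial.lifts_iff_coeff_lifts p).2 fun i => Ideal.Quotient.mk_surjective (p.coeff i)) hp
    have : ∀ t, ∃ x, (q.map (Pi.evalRingHom V t)).eval x = 0 := fun t =>
      exists_root _ (hmon.map _) (by rw [hmon.natDegree_map, hdeg]; exact hd)
    choose x hx using this
    refine ⟨Ideal.Quotient.mk _ x, ?_⟩
    rw [← hq, Polynomial.eval_map_apply]
    refine Ideal.Quotient.eq_zero_iff_mem.2 (Filter.Eventually.of_forall fun t => ?_)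
    rw [← hx t, ← Pi.evalRingHom_apply V t (q.eval x), ← Polynomial.eval_map_apply]
    rfl

theorem ultra_eval₂ {R₁ : Type*} [CommRing R₁] {m : ℕ} (ψ : R₁ →+* ∀ t, V t) (v' : Fin m → ∀ t, V t)
    (g : MvPolynomial (Fin m) R₁)
    (h : MvPolynomial.eval₂ ((Ideal.Quotient.mk (ultraIdeal U V)).comp ψ)
      (fun i => Ideal.Quotient.mk (ultraIdeal U V) (v' i)) g = 0) :
    ∀ᶠ t in (U : Filter T), MvPolynomial.eval₂ ((Pi.evalRingHom V t).comp ψ) (fun i => v' i t) g = 0 := by
  have h1 : Ideal.Quotient.mk (ultraIdeal U V) (MvPolynomial.eval₂ ψ v' g) = 0 :=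
    (MvPolynomial.eval₂_comp_left _ ψ v' g).trans h
  have h2 : ∀ᶠ t in (U : Filter T), MvPolynomial.eval₂ ψ v' g t = 0 := Ideal.Quotient.eq_zero_iff_mem.1 h1
  filter_upwards [h2] with t ht
  exact (MvPolynomial.eval₂_comp_left (Pi.evalRingHom V t) ψ v' g).symm.trans ht

/-- The ultraproduct valuation ring on a fixed field. -/
def ultraVal {Ω : Type u} [Field Ω] {T : Type*} (U : Ultrafilter T) (O : T → ValuationSubring Ω) :
    ValuationSubring Ω where
  carrier := {z | ∀ᶠ s in (U : Filter T), z ∈ O s}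
  mul_mem' := fun ha hb => by filter_upwards [ha, hb] with s h₁ h₂ using (O s).mul_mem _ _ h₁ h₂
  one_mem' := Filter.Eventually.of_forall fun s => (O s).one_mem
  add_mem' := fun ha hb => by filter_upwards [ha, hb] with s h₁ h₂ using (O s).add_mem _ _ h₁ h₂
  zero_mem' := Filter.Eventually.of_forall fun s => (O s).zero_mem
  neg_mem' := fun ha => by filter_upwards [ha] with s h₁ using (O s).neg_mem _ h₁
  mem_or_inv_mem' := fun z => (Ultrafilter.eventually_or).1 (Filter.Eventually.of_forall fun s =>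
    (O s).mem_or_inv_mem z)

end Ultra

variable {R : Type u} [CommRing R] {ι : Type} [Finite ι] {n : ι → ℕ}

omit [Finite ι] in
theorem eq_map_of_map_eq {S A₀ A : Type*} [CommRing S] [CommRing A₀] [CommRing A] {σ : Type*} {f : A →+* S} (hf : Function.Injective f)
    {f₀ : A₀ →+* S} {i : A₀ →+* A} (h : f.comp i = f₀) {g : MvPolynomial σ A} {g₀ : MvPolynomial σ A₀}
    (hg : MvPolynomial.map f g = MvPolynomial.map f₀ g₀) : g = MvPolynomial.map i g₀ :=
  MvPolynomial.map_injective f hf (hg.trans (by rw [MvPolynomial.map_map, h]))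

omit [Finite ι] in
theorem comp_inclusion {S T : Subring R} (h : S ≤ T) : T.subtype.comp (Subring.inclusion h) = S.subtype :=
  RingHom.ext fun r => rfl

/-- One of finitely many systems of equations has a solution in `V`. -/
def Pt (F : ∀ k, Set (MvPolynomial (Fin (n k)) R)) {V : Type u} [CommRing V] (χ : R →+* V) : Prop :=
  ∃ k, ∃ v : Fin (n k) → V, ∀ f ∈ F k, MvPolynomial.eval₂ χ v f = 0

/-- Solvability in every valuation ring with algebraically closed fraction field. -/
def Cov (F : ∀ k, Set (MvPolynomial (Fin (n k)) R)) : Prop :=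
  ∀ (V : Type u) [CommRing V] [IsDomain V] [ValuationRing V] [IsAlgClosed (FractionRing V)] (χ : R →+* V), Pt F χ

variable (F : ∀ k, Set (MvPolynomial (Fin (n k)) R))

/-- Finitely many algebraic points suffice for all valuation rings on an algebraic closure. -/
theorem exists_finite_points (hC : Cov F) {Ω : Type u} [Field Ω] [IsAlgClosed Ω] (χ : R →+* Ω) :
    ∃ s : Finset (Σ k, Fin (n k) → Ω), (∀ c ∈ s, ∀ f ∈ F c.1, MvPolynomial.eval₂ χ c.2 f = 0) ∧
      ∀ O : ValuationSubring Ω, (∀ r, χ r ∈ O) → ∃ c ∈ s, ∀ i, c.2 i ∈ O := by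
  classical
  by_contra hne
  push Not at hne
  let Cand := {c : Σ k, Fin (n k) → Ω // ∀ f ∈ F c.1, MvPolynomial.eval₂ χ c.2 f = 0}
  have key : ∀ s : Finset Cand, ∃ O : ValuationSubring Ω, (∀ r, χ r ∈ O) ∧ ∀ c ∈ s, ∃ i, c.1.2 i ∉ O := fun s => by
    obtain ⟨O, hO, hs⟩ := hne (s.image Subtype.val) fun c hc f hf => by
      obtain ⟨c', -, rfl⟩ := Finset.mem_image.1 hc
      exact c'.2 f hf
    exact ⟨O, hO, fun c hc => hs _ (Finset.mem_image_of_mem _ hc)⟩
  choose O hO hbad using key
  let U : Ultrafilter (Finset Cand) := Ultrafilter.of Filter.atTop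
  let O' : ValuationSubring Ω := ultraVal U O
  haveI : IsAlgClosed (FractionRing O') :=
    IsAlgClosed.of_ringEquiv Ω _ (FractionRing.algEquiv O' Ω).toRingEquiv.symm
  let χ' : R →+* O' := χ.codRestrict O'.toSubring fun r => Filter.Eventually.of_forall fun s => hO s r
  obtain ⟨k, v, hv⟩ := hC O' χ'
  let c : Cand := ⟨⟨k, fun i => (v i : Ω)⟩, fun f hf => by
    have := congrArg O'.subtype (hv f hf)
    rw [MvPolynomial.eval₂_comp_left, map_zero] at this
    exact this⟩
  have h1 : ∀ᶠ s in (U : Filter (Finset Cand)), c ∈ s :=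
    (Ultrafilter.of_le Filter.atTop) (by
      filter_upwards [Filter.eventually_ge_atTop ({c} : Finset Cand)] with s hs using hs (Finset.mem_singleton_self c))
  have h2 : ∀ᶠ s in (U : Filter _), ∀ i, (v i : Ω) ∈ O s := Filter.eventually_all.2 fun i => (v i).2
  obtain ⟨s, hs, hs'⟩ := (h1.and h2).exists
  obtain ⟨i, hi⟩ := hbad s c hs
  exact hi (hs' i)

/-- The systems are solvable already over a finitely generated subring. -/
theorem exists_fg_cov (hF : ∀ k, (F k).Finite) (hC : Cov F) :
    ∃ (R₀ : Subring R) (G : ∀ k, Set (MvPolynomial (Fin (n k)) R₀)),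
      (∃ t : Finset R, R₀ = Subring.closure (t : Set R)) ∧
        (∀ k, MvPolynomial.map R₀.subtype '' G k = F k) ∧ Cov G := by
  classical
  cases nonempty_fintype ι
  obtain ⟨t₀, ht₀⟩ : ∃ t₀ : Finset R, ∀ k, ∀ f ∈ F k, f.coeffs ⊆ t₀ :=
    ⟨Finset.univ.biUnion fun k => (hF k).toFinset.biUnion fun f => f.coeffs, fun k f hf r hr =>
      Finset.mem_biUnion.2 ⟨k, Finset.mem_univ k, Finset.mem_biUnion.2 ⟨f, (hF k).mem_toFinset.2 hf, hr⟩⟩⟩
  let Rt : Finset R → Subring R := fun t => Subring.closure (t : Set R)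
  let G : ∀ (t : Finset R) k, Set (MvPolynomial (Fin (n k)) (Rt t)) :=
    fun t k => MvPolynomial.map (Rt t).subtype ⁻¹' F k
  have hG : ∀ t, t₀ ⊆ t → ∀ k, MvPolynomial.map (Rt t).subtype '' G t k = F k := fun t ht k => by
    refine Set.image_preimage_eq_of_subset fun f hf => ?_
    refine MvPolynomial.mem_range_map_iff_coeffs_subset.2 fun r hr => ?_
    exact ⟨⟨r, Subring.subset_closure (ht (ht₀ k f hf hr))⟩, rfl⟩
  let T := {t : Finset R // t₀ ⊆ t}
  by_contra hne
  have key : ∀ t : T, ∃ (V : Type u) (_ : CommRing V) (_ : IsDomain V) (_ : ValuationRing V)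
      (_ : IsAlgClosed (FractionRing V)) (χ : Rt t.1 →+* V), ¬ Pt (G t.1) χ := fun t => by
    by_contra h
    exact hne ⟨Rt t.1, G t.1, ⟨t.1, rfl⟩, hG t.1 t.2, fun V _ _ _ _ χ => by
      by_contra h'
      exact h ⟨V, inferInstance, inferInstance, inferInstance, inferInstance, χ, h'⟩⟩
  choose V hV1 hV2 hV3 hV4 χ hbad using key
  haveI : Nonempty T := ⟨⟨t₀, subset_rfl⟩⟩
  haveI : IsDirectedOrder T :=
    ⟨fun a b => ⟨⟨a.1 ∪ b.1, a.2.trans Finset.subset_union_left⟩, Finset.subset_union_left, Finset.subset_union_right⟩⟩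
  let U := Ultrafilter.of (Filter.atTop : Filter T)
  let W := (∀ t, V t) ⧸ ultraIdeal U V
  let mk : (∀ t, V t) →+* W := Ideal.Quotient.mk _
  haveI : IsDomain W := ultra_isDomain U V
  haveI : ValuationRing W := ultra_valuationRing U V
  haveI : IsAlgClosed (FractionRing W) := ultra_isAlgClosed U V
  -- the limit map
  have hmem : ∀ r, ∀ᶠ t : T in (U : Filter T), r ∈ Rt t.1 := fun r => Ultrafilter.of_le _ (by
    filter_upwards [Filter.eventually_ge_atTop (⟨insert r t₀, Finset.subset_insert _ _⟩ : T)] with t ht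
      using Subring.subset_closure (ht (Finset.mem_insert_self r t₀)))
  let e : R → ∀ t, V t := fun r t => if h : r ∈ Rt t.1 then χ t ⟨r, h⟩ else 0
  have he : ∀ (t : T) (r : Rt t.1), e r.1 t = χ t r := fun t r => dif_pos r.2
  let χ' : R →+* W :=
    { toFun := fun r => mk (e r)
      map_one' := by
        rw [← map_one mk]
        exact (mk_eq_mk U V).2 (Filter.Eventually.of_forall fun t => (he t 1).trans (map_one _))
      map_zero' := by
        rw [← map_zero mk]
        exact (mk_eq_mk U V).2 (Filter.Eventually.of_forall fun t => (he t 0).trans (map_zero _))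
      map_mul' := fun a b => by
        rw [← map_mul mk]
        refine (mk_eq_mk U V).2 ?_
        filter_upwards [hmem a, hmem b] with t ha hb
        exact (((he t (⟨a, ha⟩ * ⟨b, hb⟩)).trans (map_mul _ _ _)).trans
          (congrArg₂ (· * ·) (he t ⟨a, ha⟩).symm (he t ⟨b, hb⟩).symm))
      map_add' := fun a b => by
        rw [← map_add mk]
        refine (mk_eq_mk U V).2 ?_
        filter_upwards [hmem a, hmem b] with t ha hb
        exact (((he t (⟨a, ha⟩ + ⟨b, hb⟩)).trans (map_add _ _ _)).trans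
          (congrArg₂ (· + ·) (he t ⟨a, ha⟩).symm (he t ⟨b, hb⟩).symm)) }
  obtain ⟨k, v, hv⟩ := hC W χ'
  choose v' hv' using fun i => Ideal.Quotient.mk_surjective (v i)
  have hev : ∀ f ∈ F k, ∀ᶠ t : T in (U : Filter T), ∀ g : MvPolynomial (Fin (n k)) (Rt t.1),
      MvPolynomial.map (Rt t.1).subtype g = f → MvPolynomial.eval₂ (χ t) (fun i => v' i t) g = 0 := by
    intro f hf
    obtain ⟨g₀, -, rfl⟩ := (hG t₀ subset_rfl k).ge hf
    let inc : ∀ t : T, Rt t₀ →+* Rt t.1 := fun t => Subring.inclusion (Subring.closure_mono (Finset.coe_subset.2 t.2))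
    let ψ : Rt t₀ →+* ∀ t, V t := Pi.ringHom fun t => (χ t).comp (inc t)
    have h1 : χ'.comp (Rt t₀).subtype = mk.comp ψ := RingHom.ext fun r => congrArg mk (funext fun t => he t (inc t r))
    have h2 := hv _ hf
    rw [MvPolynomial.eval₂_map, h1, show v = fun i => mk (v' i) from funext fun i => (hv' i).symm] at h2
    filter_upwards [ultra_eval₂ U V ψ v' g₀ h2] with t ht g hg
    have hg' : g = MvPolynomial.map (inc t) g₀ :=
      eq_map_of_map_eq (Rt t.1).subtype_injective (i := inc t) (comp_inclusion _) hg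
    have h3 : (Pi.evalRingHom V t).comp ψ = (χ t).comp (inc t) := RingHom.ext fun r => rfl
    rw [hg', MvPolynomial.eval₂_map, ← h3]
    exact ht
  obtain ⟨t, ht⟩ := ((Filter.eventually_all_finite (hF k)).2 hev).exists
  exact hbad t ⟨k, fun i => v' i t, fun g hg => ht _ hg g rfl⟩

end Groth.Agent.HTop16.ValUltra
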