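import Groth.Prelude.Def_HTop2
import Groth.Agent.UnivHomeo.Scheme
import Groth.Agent.UnivHomeo.Ring
import Groth.Agent.UnivHomeo.Tower
import Groth.Agent.UnivHomeo.Adjoin
import Mathlib.FieldTheory.IsAlgClosed.AlgebraicClosure
import Mathlib.RingTheory.Nilpotent.Lemmas
import Mathlib.RingTheory.Localization.Away.Basic

/-!
Seminormal and absolutely weakly normal rings, and the absolute weak normalization as the
closure of the image of `A` in a product of algebraically closed fields.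
-/

set_option autoImplicit false
set_option linter.unusedSectionVars false

namespace Groth.Agent.HTop16

universe u

open UnivHomeo

variable {A : Type u} [CommRing A]

/-- two elements of a reduced ring equal in all fields are equal -/
lemma eq_of_fields [IsReduced A] {a b : A}
    (h : ∀ (K : Type u) [Field K] (g : A →+* K), g a = g b) : a = b := by
  rw [← sub_eq_zero]
  refine IsReduced.eq_zero _ (mem_nilradical.1 ?_)
  rw [nilradical_eq_sInf, Submodule.mem_sInf]
  intro P (hP : Ideal.IsPrime P)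
  have := h (FractionRing (A ⧸ P)) ((algebraMap _ _).comp (Ideal.Quotient.mk P))
  rw [RingHom.comp_apply, RingHom.comp_apply] at this
  exact Ideal.Quotient.eq.1 (IsFractionRing.injective (A ⧸ P) _ this)

lemma eq_of_sq_cube_reduced [IsReduced A] {a b : A} (h2 : a ^ 2 = b ^ 2) (h3 : a ^ 3 = b ^ 3) :
    a = b :=
  eq_of_fields fun K _ g => eq_of_sq_cube (by rw [← map_pow, h2, map_pow]) (by rw [← map_pow, h3, map_pow])

lemma eq_of_mul_pow_reduced [IsReduced A] {p : ℕ} (hp : p.Prime) {a b : A}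
    (h1 : (p : A) * a = (p : A) * b) (h2 : a ^ p = b ^ p) : a = b :=
  eq_of_fields fun K _ g => eq_of_mul_pow hp
    (by rw [← map_natCast g, ← map_mul, h1, map_mul]) (by rw [← map_pow, h2, map_pow])

lemma isReduced_of_seminormal (h : HTop.IsSeminormalRing A) : IsReduced A := by
  refine isReduced_iff_pow_one_lt 2 one_lt_two |>.2 fun x hx => ?_
  obtain ⟨a, -, hu⟩ := h 0 0 (by simp)
  have h1 : x = a := hu x ⟨by rw [hx], by rw [pow_succ, hx, zero_mul]⟩
  have h2 : (0 : A) = a := hu 0 ⟨by simp, by simp⟩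
  rw [h1, ← h2]

lemma seminormal_iff : HTop.IsSeminormalRing A ↔
    IsReduced A ∧ ∀ x y : A, x ^ 3 = y ^ 2 → ∃ a : A, x = a ^ 2 ∧ y = a ^ 3 := by
  refine ⟨fun h => ⟨isReduced_of_seminormal h, fun x y hxy => (h x y hxy).exists⟩, ?_⟩
  rintro ⟨hr, h⟩ x y hxy
  obtain ⟨a, ha⟩ := h x y hxy
  exact ⟨a, ha, fun b hb => eq_of_sq_cube_reduced (hb.1.symm.trans ha.1) (hb.2.symm.trans ha.2)⟩

lemma awn_iff : HTop.IsAWNRing A ↔
    IsReduced A ∧ (∀ x y : A, x ^ 3 = y ^ 2 → ∃ a : A, x = a ^ 2 ∧ y = a ^ 3) ∧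
      ∀ p : ℕ, p.Prime → ∀ x y : A, (p : A) ^ p * x = y ^ p → ∃ a : A, x = a ^ p ∧ y = (p : A) * a := by
  constructor
  · rintro ⟨h1, h2⟩
    exact ⟨isReduced_of_seminormal h1, (seminormal_iff.1 h1).2,
      fun p hp x y hxy => (h2 p hp x y hxy).exists⟩
  · rintro ⟨hr, h1, h2⟩
    refine ⟨seminormal_iff.2 ⟨hr, h1⟩, fun p hp x y hxy => ?_⟩
    obtain ⟨a, ha⟩ := h2 p hp x y hxy
    exact ⟨a, ha, fun b hb => eq_of_mul_pow_reduced hp (hb.2.symm.trans ha.2) (hb.1.symm.trans ha.1)⟩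

lemma seminormal_of_equiv {B : Type u} [CommRing B] (e : A ≃+* B) (h : HTop.IsSeminormalRing A) :
    HTop.IsSeminormalRing B := by
  obtain ⟨hr, h⟩ := seminormal_iff.1 h
  refine seminormal_iff.2 ⟨isReduced_of_injective e.symm e.symm.injective, fun x y hxy => ?_⟩
  obtain ⟨a, h2, h3⟩ := h (e.symm x) (e.symm y) (by rw [← map_pow, hxy, map_pow])
  exact ⟨e a, by rw [← map_pow, ← h2, e.apply_symm_apply],
    by rw [← map_pow, ← h3, e.apply_symm_apply]⟩

lemma awn_of_equiv {B : Type u} [CommRing B] (e : A ≃+* B) (h : HTop.IsAWNRing A) :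
    HTop.IsAWNRing B := by
  obtain ⟨hr, -, hp⟩ := awn_iff.1 h
  obtain ⟨hr', hs⟩ := seminormal_iff.1 (seminormal_of_equiv e h.1)
  refine awn_iff.2 ⟨hr', hs, fun p hp' x y hxy => ?_⟩
  obtain ⟨a, h2, h3⟩ := hp p hp' (e.symm x) (e.symm y) (by
    rw [← map_natCast e.symm, ← map_pow, ← map_mul, hxy, map_pow])
  exact ⟨e a, by rw [← map_pow, ← h2, e.apply_symm_apply],
    by rw [← map_natCast e, ← map_mul, ← h3, e.apply_symm_apply]⟩

/-- a universal homeomorphism from an absolutely weakly normal ring to a reduced ring is bijective -/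
lemma bijective_of_awn {B : Type u} [CommRing B] [IsReduced B] {φ : A →+* B} (hA : HTop.IsAWNRing A)
    (hφ : UH φ) : Function.Bijective φ := by
  obtain ⟨hr, h23, hp⟩ := awn_iff.1 hA
  have hinj : Function.Injective φ := (injective_iff_map_eq_zero φ).2 fun a ha =>
    IsReduced.eq_zero _ (mem_nilradical.1 (hφ.2.2 (RingHom.mem_ker.2 ha)))
  refine ⟨hinj, RingHom.range_eq_top.1 (eq_top_of_closed φ _ hφ.1 hφ.2.1 le_rfl ?_ (Or.inr ?_))⟩
  · rintro b ⟨x, hx⟩ ⟨y, hy⟩
    obtain ⟨a, rfl, rfl⟩ := h23 x y (hinj (by rw [map_pow, map_pow, hx, hy, ← pow_mul, ← pow_mul]))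
    exact ⟨a, eq_of_sq_cube_reduced (by rw [← map_pow, hx]) (by rw [← map_pow, hy])⟩
  · rintro p hp' b ⟨y, hy⟩ ⟨x, hx⟩
    obtain ⟨a, rfl, rfl⟩ := hp p hp' x y (hinj (by
      rw [map_mul, map_pow, map_pow, map_natCast, hx, hy, mul_pow]))
    exact ⟨a, eq_of_mul_pow_reduced hp' (by rw [← map_natCast φ, ← map_mul, hy, map_natCast])
      (by rw [← map_pow, hx])⟩

section closure

/-- closed under square-cube and `p`-th root steps -/
def Closed {P : Type u} [CommRing P] (C : Subring P) : Prop :=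
  (∀ x : P, x ^ 2 ∈ C → x ^ 3 ∈ C → x ∈ C) ∧
    ∀ p : ℕ, p.Prime → ∀ x : P, (p : P) * x ∈ C → x ^ p ∈ C → x ∈ C

variable (A)

/-- the product of the algebraic closures of all residue fields -/
abbrev Big : Type u := (p : PrimeSpectrum A) → AlgebraicClosure (FractionRing (A ⧸ p.asIdeal))

/-- the map to a factor -/
noncomputable def toFactor (p : PrimeSpectrum A) :
    A →+* AlgebraicClosure (FractionRing (A ⧸ p.asIdeal)) :=
  (algebraMap (A ⧸ p.asIdeal) _).comp (Ideal.Quotient.mk p.asIdeal)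

/-- the map to the product -/
noncomputable def toBig : A →+* Big A := RingHom.pi (toFactor A)

/-- the absolute weak normalization -/
noncomputable def awn : Subring (Big A) :=
  sInf {C | (toBig A).range ≤ C ∧ Closed C}

/-- the structure map -/
noncomputable def toAwn : A →+* awn A :=
  (toBig A).codRestrict (awn A) fun a =>
    Subring.mem_sInf.2 fun _ hC => hC.1 ⟨a, rfl⟩

lemma awn_closed : Closed (awn A) :=
  ⟨fun x h2 h3 => Subring.mem_sInf.2 fun C hC =>
      hC.2.1 x (Subring.mem_sInf.1 h2 C hC) (Subring.mem_sInf.1 h3 C hC),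
    fun p hp x h2 h3 => Subring.mem_sInf.2 fun C hC =>
      hC.2.2 p hp x (Subring.mem_sInf.1 h2 C hC) (Subring.mem_sInf.1 h3 C hC)⟩

lemma isAWN_awn : HTop.IsAWNRing (awn A) := by
  have hr : IsReduced (Big A) := inferInstance
  refine awn_iff.2 ⟨isReduced_of_injective (awn A).subtype Subtype.val_injective, ?_, ?_⟩
  · intro x y hxy
    have hxy' : ∀ q, (x.1 q) ^ 3 = (y.1 q) ^ 2 := fun q => congrFun (congrArg Subtype.val hxy) q
    have key : ∀ q, ∃ c, x.1 q = c ^ 2 ∧ y.1 q = c ^ 3 := by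
      intro q
      rcases eq_or_ne (x.1 q) 0 with h | h
      · refine ⟨0, by simp [h], ?_⟩
        have := hxy' q
        rw [h, zero_pow (by norm_num)] at this
        simpa using this.symm
      · refine ⟨y.1 q / x.1 q, ?_, ?_⟩
        · field_simp
          linear_combination hxy' q
        · field_simp
          linear_combination (y.1 q) * hxy' q
    choose c hc2 hc3 using key
    have hc : c ∈ awn A := (awn_closed A).1 c
      (by rw [show c ^ 2 = x.1 from funext fun q => (hc2 q).symm]; exact x.2)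
      (by rw [show c ^ 3 = y.1 from funext fun q => (hc3 q).symm]; exact y.2)
    exact ⟨⟨c, hc⟩, Subtype.ext (funext hc2), Subtype.ext (funext hc3)⟩
  · intro p hp x y hxy
    have hxy' : ∀ q, (p : AlgebraicClosure (FractionRing (A ⧸ q.asIdeal))) ^ p * x.1 q = (y.1 q) ^ p :=
      fun q => congrFun (congrArg Subtype.val hxy) q
    have key : ∀ q, ∃ c, x.1 q = c ^ p ∧
        y.1 q = (p : AlgebraicClosure (FractionRing (A ⧸ q.asIdeal))) * c := by
      intro q
      rcases eq_or_ne (p : AlgebraicClosure (FractionRing (A ⧸ q.asIdeal))) 0 with h | h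
      · obtain ⟨c, hc⟩ := IsAlgClosed.exists_pow_nat_eq (x.1 q) hp.pos
        refine ⟨c, hc.symm, ?_⟩
        have := hxy' q
        rw [h, zero_pow hp.ne_zero, zero_mul] at this
        rw [h, zero_mul]
        exact eq_zero_of_pow_eq_zero this.symm
      · refine ⟨y.1 q / p, ?_, ?_⟩
        · rw [div_pow, eq_div_iff (pow_ne_zero _ h), mul_comm]; exact hxy' q
        · field_simp
    choose c hc2 hc3 using key
    have hc : c ∈ awn A := (awn_closed A).2 p hp c
      (by rw [show (p : Big A) * c = y.1 from funext fun q => (hc3 q).symm]; exact y.2)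
      (by rw [show c ^ p = x.1 from funext fun q => (hc2 q).symm]; exact x.2)
    exact ⟨⟨c, hc⟩, Subtype.ext (funext hc2), Subtype.ext (funext hc3)⟩

lemma closed_comap_aux {C : Subring (awn A)} (hr : (toAwn A).range ≤ C)
    (h2 : ∀ x : awn A, x ^ 2 ∈ C → x ^ 3 ∈ C → x ∈ C)
    (hp : ∀ p : ℕ, p.Prime → ∀ x : awn A, (p : awn A) * x ∈ C → x ^ p ∈ C → x ∈ C) : C = ⊤ := by
  have h : awn A ≤ C.map (awn A).subtype := by
    refine sInf_le ⟨?_, ?_, ?_⟩
    · rintro _ ⟨a, rfl⟩
      exact ⟨toAwn A a, hr ⟨a, rfl⟩, rfl⟩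
    · rintro x ⟨u, hu, hu'⟩ ⟨v, hv, hv'⟩
      have hx : x ∈ awn A := (awn_closed A).1 x (hu' ▸ u.2) (hv' ▸ v.2)
      exact ⟨⟨x, hx⟩, h2 _ ((Subtype.ext hu' : u = ⟨x, hx⟩ ^ 2) ▸ hu)
        ((Subtype.ext hv' : v = ⟨x, hx⟩ ^ 3) ▸ hv), rfl⟩
    · rintro p hp' x ⟨u, hu, hu'⟩ ⟨v, hv, hv'⟩
      have hx : x ∈ awn A := (awn_closed A).2 p hp' x (hu' ▸ u.2) (hv' ▸ v.2)
      exact ⟨⟨x, hx⟩, hp p hp' _ ((Subtype.ext hu' : u = (p : awn A) * ⟨x, hx⟩) ▸ hu)
        ((Subtype.ext hv' : v = ⟨x, hx⟩ ^ p) ▸ hv), rfl⟩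
  rw [eq_top_iff]
  rintro x -
  obtain ⟨y, hy, hyx⟩ := h x.2
  rwa [(Subtype.ext hyx : y = x)] at hy

lemma uh_toAwn : UH (toAwn A) := by
  refine ⟨fun b => ?_, fun K _ g₁ g₂ hg => ?_, fun a ha => ?_⟩
  · letI := (toAwn A).toAlgebra
    let C := (integralClosure A (awn A)).toSubring
    have := closed_comap_aux A (C := C) (by
      rintro _ ⟨a, rfl⟩; exact Subalgebra.algebraMap_mem (integralClosure A (awn A)) a)
      (fun x hx _ => IsIntegral.of_pow two_pos hx)
      (fun p hp x _ hx => IsIntegral.of_pow hp.pos hx)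
    exact (this ▸ Subring.mem_top b : b ∈ C)
  · have := closed_comap_aux A (C := g₁.eqLocus g₂) (by
      rintro _ ⟨a, rfl⟩; exact RingHom.congr_fun hg a)
      (fun x h2 h3 => by
        change g₁ _ = g₂ _ at h2 h3 ⊢
        rw [map_pow, map_pow] at h2 h3
        exact eq_of_sq_cube h2 h3)
      (fun p hp x h1 h2 => by
        change g₁ _ = g₂ _ at h1 h2 ⊢
        rw [map_pow, map_pow] at h2
        rw [map_mul, map_mul, map_natCast, map_natCast] at h1
        exact eq_of_mul_pow hp h1 h2)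
    exact RingHom.ext fun x => (this ▸ Subring.mem_top x : x ∈ g₁.eqLocus g₂)
  · rw [nilradical_eq_sInf, Submodule.mem_sInf]
    intro P (hP : Ideal.IsPrime P)
    have h0 : toFactor A ⟨P, hP⟩ a = 0 :=
      congrFun (congrArg Subtype.val (RingHom.mem_ker.1 ha)) ⟨P, hP⟩
    rw [toFactor, RingHom.comp_apply, map_eq_zero_iff _ (algebraMap_algClosure_injective _),
      Ideal.Quotient.eq_zero_iff_mem] at h0
    exact h0

lemma existsUnique_lift {C : Type u} [CommRing C] {ψ : A →+* C} (hψ : UH ψ) :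
    ∃! χ : C →+* awn A, χ.comp ψ = toAwn A := by
  choose G hG using fun p => hψ.exists_lift (toFactor A p)
  let Γ : C →+* Big A := RingHom.pi G
  have hΓ : Γ.comp ψ = toBig A := RingHom.ext fun a => funext fun p => RingHom.congr_fun (hG p) a
  have hmem : (awn A).comap Γ = ⊤ := by
    refine eq_top_of_closed ψ _ hψ.1 hψ.2.1 ?_ (fun x h2 h3 => ?_) (Or.inr fun p hp x h2 h3 => ?_)
    · rintro _ ⟨a, rfl⟩
      show Γ (ψ a) ∈ awn A
      rw [← RingHom.comp_apply, hΓ]
      exact (toAwn A a).2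
    · show Γ x ∈ awn A
      rw [Subring.mem_comap, map_pow] at h2 h3
      exact (awn_closed A).1 _ h2 h3
    · show Γ x ∈ awn A
      rw [Subring.mem_comap, map_pow] at h3
      rw [Subring.mem_comap, map_mul, map_natCast] at h2
      exact (awn_closed A).2 p hp _ h2 h3
  refine ⟨Γ.codRestrict (awn A) fun c => (hmem ▸ Subring.mem_top c : c ∈ (awn A).comap Γ), ?_, ?_⟩
  · exact RingHom.ext fun a => Subtype.ext (RingHom.congr_fun hΓ a)
  · intro χ hχ
    refine RingHom.ext fun c => Subtype.ext (funext fun p => ?_)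
    exact RingHom.congr_fun (hψ.2.1 _ ((Pi.evalRingHom _ p).comp ((awn A).subtype.comp χ)) (G p)
      (by rw [hG p, RingHom.comp_assoc, RingHom.comp_assoc, hχ]; rfl)) c

lemma isRingAWN_toAwn : HTop.IsRingAWN (toAwn A) :=
  ⟨(isUnivHomeo_iff _).2 (uh_toAwn A), fun _ _ _ hψ =>
    existsUnique_lift A ((isUnivHomeo_iff _).1 hψ)⟩

end closure

lemma isAWN_of_isRingAWN {W : Type u} [CommRing W] {φ : A →+* W} (h : HTop.IsRingAWN φ) :
    HTop.IsAWNRing W := by
  obtain ⟨f, hf, -⟩ := h.2 (awn A) (toAwn A) (isRingAWN_toAwn A).1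
  obtain ⟨g, hg, -⟩ := (isRingAWN_toAwn A).2 W φ h.1
  have e1 : g.comp f = RingHom.id _ :=
    ((isRingAWN_toAwn A).2 _ _ (isRingAWN_toAwn A).1).unique
      (by rw [RingHom.comp_assoc, hf, hg]) (RingHom.id_comp _)
  have e2 : f.comp g = RingHom.id _ :=
    (h.2 _ _ h.1).unique (by rw [RingHom.comp_assoc, hg, hf]) (RingHom.id_comp _)
  exact awn_of_equiv (RingEquiv.ofRingHom f g e2 e1) (isAWN_awn A)

lemma UH.of_comp {B D : Type u} [CommRing B] [CommRing D] {ψ : A →+* B} {χ : B →+* D}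
    (hψ : UH ψ) (h : UH (χ.comp ψ)) : UH χ := by
  refine ⟨RingHom.IsIntegral.tower_top ψ χ h.1, fun K _ g₁ g₂ hg => h.2.1 K g₁ g₂ ?_, ?_⟩
  · rw [← RingHom.comp_assoc, hg, RingHom.comp_assoc]
  · refine ker_le_nilradical_of_lifts fun L _ _ g => ?_
    obtain ⟨G, hG⟩ := h.exists_lift (g.comp ψ)
    exact ⟨G, hψ.2.1 L _ g (by rw [RingHom.comp_assoc, hG])⟩

end Groth.Agent.HTop16
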