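import Groth.Agent.HTop16.BlowCrit

/-!
# The criterion for sheaves on the big h site by affine coverings

A Zariski sheaf satisfying descent along proper flat surjections is an h sheaf as soon as it turns two kinds of
affine families into coverings: two closed subschemes `V(J)`, `V(f)` with `J` killed by a power of `f`, and the
centre of two elements together with the two charts `A[t]/(at - b)`, `A[s]/(bs - a)`.
-/

set_option autoImplicit false
set_option backward.isDefEq.respectTransparency false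
set_option linter.all false
set_option maxHeartbeats 1000000

universe w u

open CategoryTheory CategoryTheory.Limits AlgebraicGeometry TopologicalSpace Opposite HomogeneousLocalization
open CohB1 (ProjSpaceOver)

namespace Groth.Agent.HTop16.AffCrit

open BlowCrit (𝒜 ev ev_X exists_coord hom_ext_frac awayLift_frac X_mem frac)

/-- The chart `A[t]/(at - b)`. -/
abbrev Chart {A : Type u} [CommRing A] (a b : A) : Type u :=
  Polynomial A ⧸ Ideal.span {Polynomial.C a * Polynomial.X - Polynomial.C b}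

/-- The structure map of the chart. -/
noncomputable abbrev chartMap {A : Type u} [CommRing A] (a b : A) : A →+* Chart a b :=
  (Ideal.Quotient.mk _).comp Polynomial.C

/-- Closed subscheme of an ideal. -/
noncomputable abbrev cutI {A : Type u} [CommRing A] (I : Ideal A) :
    Spec (CommRingCat.of (A ⧸ I)) ⟶ Spec (CommRingCat.of A) :=
  Spec.map (CommRingCat.ofHom (Ideal.Quotient.mk I))

/-- Two closed subschemes. -/
noncomputable def pairObj {A : Type u} [CommRing A] (I I' : Ideal A) (t : Bool) : Scheme.{u} :=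
  Spec (CommRingCat.of (A ⧸ cond t I' I))

/-- Two closed subschemes, the morphisms. -/
noncomputable def pairHom {A : Type u} [CommRing A] (I I' : Ideal A) (t : Bool) :
    pairObj I I' t ⟶ Spec (CommRingCat.of A) :=
  cutI (cond t I' I)

variable {S : Scheme.{u}}

/-- The two kinds of affine coverings. -/
structure AffCov (F : (Over S)ᵒᵖ ⥤ Type w) : Prop where
  closed : ∀ (A : CommRingCat.{u}) (J : Ideal A) (f : A) (n : ℕ), (∀ x ∈ J, x * f ^ n = 0) →
    Sieve.generate (Presieve.ofArrows (pairObj J (Ideal.span {f})) (pairHom J (Ideal.span {f}))) ∈ TopT.J F _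
  charts : ∀ (A : CommRingCat.{u}) (a b : A) (R : Sieve (Spec (CommRingCat.of A))),
    R.arrows (cutI (Ideal.span {a, b})) → R.arrows (Spec.map (CommRingCat.ofHom (chartMap a b))) →
    R.arrows (Spec.map (CommRingCat.ofHom (chartMap b a))) → R ∈ TopT.J F _

variable {F : (Over S)ᵒᵖ ⥤ Type w} (hz : Presieve.IsSheaf (Scheme.zariskiTopology.over S) F)
  (hflat : ∀ (X Y : Over S) (f : X ⟶ Y), IsAffine Y.left → Surjective f.left → Flat f.left → IsProper f.left →
    LocallyOfFinitePresentation f.left → Presieve.IsSheafFor F (Presieve.singleton f))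
  (hcov : AffCov F)

section Frac

variable {K : Type u} [Field K]

include hcov

/-- A chart is covered by the chart inside the fraction field and the hyperplane. -/
theorem mem_J_chart (S₀ : Subring K) [IsNoetherianRing S₀] (a b : S₀) (ha : (a : K) ≠ 0)
    (R : Sieve (Spec (CommRingCat.of S₀))) (hA : R.pullback (BirCover.cut a) ∈ TopT.J F _)
    (h₁ : R.arrows (BirCover.incl (BirCover.le_ext S₀ ((b : K) / a)))) :
    R.pullback (Spec.map (CommRingCat.ofHom (chartMap a b))) ∈ TopT.J F _ := by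
  let C : Type u := Chart a b
  letI : CommRing C := inferInstanceAs (CommRing (Chart a b))
  let θ : S₀ →+* C := chartMap a b
  let J : Ideal C :=
    { carrier := {x | ∃ n : ℕ, x * θ a ^ n = 0}
      zero_mem' := ⟨0, zero_mul _⟩
      add_mem' := by
        rintro x y ⟨m, hm⟩ ⟨n, hn⟩
        exact ⟨m + n, by rw [add_mul, pow_add, ← mul_assoc, hm, mul_comm (θ a ^ m), ← mul_assoc y, hn, zero_mul, zero_mul, add_zero]⟩
      smul_mem' := by
        rintro c x ⟨n, hn⟩
        exact ⟨n, by rw [smul_eq_mul, mul_assoc, hn, mul_zero]⟩ }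
  haveI : IsNoetherianRing C := inferInstanceAs (IsNoetherianRing (Chart a b))
  obtain ⟨s, hs⟩ := IsNoetherian.noetherian J
  have hbound : ∀ x : s, ∃ n : ℕ, (x : C) * θ a ^ n = 0 := fun x =>
    (hs ▸ Submodule.subset_span x.2 : (x : C) ∈ J)
  choose nx hnx using hbound
  let N := Finset.univ.sup nx
  have hJ : ∀ x ∈ J, x * θ a ^ N = 0 := fun x hx => by
    rw [← hs] at hx
    induction hx using Submodule.span_induction with
    | mem y hy =>
      obtain ⟨d, hd⟩ := Nat.exists_eq_add_of_le (Finset.le_sup (f := nx) (Finset.mem_univ (⟨y, hy⟩ : s)))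
      rw [show N = nx ⟨y, hy⟩ + d from hd, pow_add, ← mul_assoc, hnx ⟨y, hy⟩, zero_mul]
    | zero => exact zero_mul _
    | add y z _ _ hy hz => rw [add_mul, hy, hz, add_zero]
    | smul c y _ hy => rw [smul_eq_mul, mul_assoc, hy, mul_zero]
  refine (TopT.J F).transitive (hcov.closed (CommRingCat.of C) J (θ a) N hJ) _ ?_
  rintro W h ⟨_, k, _, ⟨t⟩, rfl⟩
  cases t <;> rw [Sieve.pullback_comp] <;> refine (TopT.J F).pullback_stable k ?_
  · -- the part without torsion maps into the chart inside the field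
    rw [← Sieve.pullback_comp]
    let θ' : S₀ →+* C ⧸ J := (Ideal.Quotient.mk J).comp θ
    have hnz : θ' a ∈ nonZeroDivisors (C ⧸ J) := mem_nonZeroDivisors_iff_right.2 fun z hz' => by
      obtain ⟨z, rfl⟩ := Ideal.Quotient.mk_surjective z
      rw [show θ' a = Ideal.Quotient.mk J (θ a) from rfl, ← map_mul, Ideal.Quotient.eq_zero_iff_mem] at hz'
      obtain ⟨n, hn⟩ := hz'
      exact Ideal.Quotient.eq_zero_iff_mem.2 ⟨n + 1, by rw [pow_succ', ← mul_assoc, hn]⟩
    obtain ⟨φ, hφ⟩ := BirCover.exists_chartHom θ' a b ha hnz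
      (c := Ideal.Quotient.mk J (Ideal.Quotient.mk _ Polynomial.X)) (by
        change Ideal.Quotient.mk J (θ a) * _ = Ideal.Quotient.mk J (θ b)
        rw [← map_mul]
        refine congrArg _ ?_
        change Ideal.Quotient.mk _ (Polynomial.C a) * _ = Ideal.Quotient.mk _ (Polynomial.C b)
        rw [← map_mul, Ideal.Quotient.eq]
        exact Ideal.mem_span_singleton_self _)
    have e : pairHom J (Ideal.span {θ a}) false ≫ Spec.map (CommRingCat.ofHom θ) =
        Spec.map (CommRingCat.ofHom φ) ≫ BirCover.incl (BirCover.le_ext S₀ ((b : K) / a)) := by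
      change Spec.map _ ≫ Spec.map _ = Spec.map _ ≫ Spec.map _
      rw [← Spec.map_comp, ← Spec.map_comp, ← CommRingCat.ofHom_comp, ← CommRingCat.ofHom_comp]
      exact congrArg (fun q => Spec.map (CommRingCat.ofHom q)) hφ.symm
    rw [e, Sieve.pullback_comp, Sieve.pullback_eq_top_of_mem R h₁, Sieve.pullback_top]
    exact (TopT.J F).top_mem _
  · rw [← Sieve.pullback_comp]
    let l : S₀ ⧸ Ideal.span {a} →+* C ⧸ Ideal.span {θ a} :=
      Ideal.Quotient.lift _ ((Ideal.Quotient.mk _).comp θ) fun y hy => by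
        obtain ⟨c, rfl⟩ := Ideal.mem_span_singleton'.1 hy
        refine (map_mul _ _ _).trans (mul_eq_zero_of_right _ ?_)
        exact Ideal.Quotient.eq_zero_iff_mem.2 (Ideal.mem_span_singleton_self _)
    have e : pairHom J (Ideal.span {θ a}) true ≫ Spec.map (CommRingCat.ofHom θ) =
        Spec.map (CommRingCat.ofHom l) ≫ BirCover.cut a := by
      change Spec.map _ ≫ Spec.map _ = Spec.map _ ≫ Spec.map _
      rw [← Spec.map_comp, ← Spec.map_comp]
      rfl
    rw [e, Sieve.pullback_comp]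
    exact (TopT.J F).pullback_stable _ hA

include hz

/-- A sieve containing the two charts of the blow-up and covering the first coordinate hyperplane is covering. -/
theorem mem_J_of_charts (S₀ : Subring K) [IsNoetherianRing S₀] (a b : S₀) (ha : (a : K) ≠ 0) (hb : (b : K) ≠ 0)
    (R : Sieve (Spec (CommRingCat.of S₀))) (hA : R.pullback (BirCover.cut a) ∈ TopT.J F _)
    (hB : R.pullback (BirCover.cut b) ∈ TopT.J F _)
    (h₁ : R.arrows (BirCover.incl (BirCover.le_ext S₀ ((b : K) / a))))
    (h₂ : R.arrows (BirCover.incl (BirCover.le_ext S₀ ((a : K) / b)))) :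
    R ∈ TopT.J F _ := by
  let c₀ := cutI (Ideal.span {a, b})
  let c₁ := Spec.map (CommRingCat.ofHom (chartMap a b))
  let c₂ := Spec.map (CommRingCat.ofHom (chartMap b a))
  let R₀ : Sieve (Spec (CommRingCat.of S₀)) :=
    Sieve.generate (Presieve.singleton c₀) ⊔ Sieve.generate (Presieve.singleton c₁) ⊔ Sieve.generate (Presieve.singleton c₂)
  refine (TopT.J F).transitive (hcov.charts (CommRingCat.of S₀) a b R₀
    (Or.inl (Or.inl (Sieve.le_generate _ _ _ (Presieve.singleton_self _))))
    (Or.inl (Or.inr (Sieve.le_generate _ _ _ (Presieve.singleton_self _))))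
    (Or.inr (Sieve.le_generate _ _ _ (Presieve.singleton_self _)))) R ?_
  rintro W h ((⟨_, k, _, ⟨⟩, rfl⟩ | ⟨_, k, _, ⟨⟩, rfl⟩) | ⟨_, k, _, ⟨⟩, rfl⟩) <;> rw [Sieve.pullback_comp] <;>
    refine (TopT.J F).pullback_stable k ?_
  · let l : S₀ ⧸ Ideal.span {a} →+* S₀ ⧸ Ideal.span {a, b} :=
      Ideal.Quotient.factor (Ideal.span_mono (Set.singleton_subset_iff.2 (Set.mem_insert _ _)))
    have e : c₀ = Spec.map (CommRingCat.ofHom l) ≫ BirCover.cut a := by
      rw [← Spec.map_comp]
      rfl
    rw [e, Sieve.pullback_comp]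
    exact (TopT.J F).pullback_stable _ hA
  · exact mem_J_chart hcov S₀ a b ha R hA h₁
  · exact mem_J_chart hcov S₀ b a hb R hB h₂

/-- Fractions become regular after coverings: if the sieve covers every principal closed subset and contains the
spectra of the Noetherian subrings in which one of the `x k` divides all the others, it is covering. -/
theorem mem_J_of_fractions {ι : Type*} [Finite ι] (x : ι → K) (S₀ : Subring K) [IsNoetherianRing S₀]
    (hx : ∀ j, x j ∈ S₀) (hx0 : ∃ k, x k ≠ 0)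
    (R : Sieve (Spec (CommRingCat.of S₀))) (hcl : ∀ a : S₀, (a : K) ≠ 0 → R.pullback (BirCover.cut a) ∈ TopT.J F _)
    (hch : ∀ (S₁ : Subring K) (h : S₀ ≤ S₁) [IsNoetherianRing S₁],
      ∀ k, x k ≠ 0 → (∀ j, x j / x k ∈ S₁) → R.arrows (BirCover.incl h)) :
    R ∈ TopT.J F _ := by
  classical
  cases nonempty_fintype ι
  obtain ⟨k, hk⟩ := hx0
  suffices H : ∀ (m : ℕ) (S₀ : Subring K) [IsNoetherianRing S₀] (hx : ∀ j, x j ∈ S₀)
      (R : Sieve (Spec (CommRingCat.of S₀))),
      (∀ a : S₀, (a : K) ≠ 0 → R.pullback (BirCover.cut a) ∈ TopT.J F _) →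
      (∀ (S₁ : Subring K) (h : S₀ ≤ S₁) [IsNoetherianRing S₁],
        ∀ k, x k ≠ 0 → (∀ j, x j / x k ∈ S₁) → R.arrows (BirCover.incl h)) →
      ∀ k, x k ≠ 0 → (Finset.univ.filter fun j => x j / x k ∉ S₀).card ≤ m → R ∈ TopT.J F _ from
    H _ S₀ hx R hcl hch k hk le_rfl
  intro m
  induction m with
  | zero =>
    intro S₀ _ hx R hcl hch k hk hcard
    have h : ∀ j, x j / x k ∈ S₀ := fun j => by
      by_contra hj
      have : 0 < (Finset.univ.filter fun j => x j / x k ∉ S₀).card :=
        Finset.card_pos.2 ⟨j, by simpa using hj⟩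
      omega
    have h1 := hch S₀ le_rfl k hk h
    have e : BirCover.incl (le_refl S₀) = 𝟙 (Spec (CommRingCat.of S₀)) := Spec.map_id _
    rw [e] at h1
    rw [Sieve.id_mem_iff_eq_top.1 h1]
    exact (TopT.J F).top_mem _
  | succ m ih =>
    intro S₀ _ hx R hcl hch k hk hcard
    by_cases hall : ∀ j, x j / x k ∈ S₀
    · exact ih S₀ hx R hcl hch k hk
        (by rw [Finset.filter_eq_empty_iff.2 fun j _ => not_not.2 (hall j)]; exact Nat.zero_le _)
    push Not at hall
    obtain ⟨j, hj⟩ := hall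
    have hj0 : x j ≠ 0 := fun h => hj (by rw [h, zero_div]; exact S₀.zero_mem)
    -- one step
    have step : ∀ (z : K) (k' : ι), (∃ p ∈ S₀, ∃ q ∈ S₀, q ≠ 0 ∧ z * q = p) → x k' ≠ 0 →
        (Finset.univ.filter fun i => x i / x k' ∉ BirCover.ext S₀ z).card ≤ m →
        R.pullback (BirCover.incl (BirCover.le_ext S₀ z)) ∈ TopT.J F _ := by
      intro z k' hzq hk' hc
      haveI := BirCover.isNoetherianRing_ext S₀ z
      refine ih (BirCover.ext S₀ z) (fun i => BirCover.le_ext S₀ z (hx i)) _ (fun a ha => ?_) (fun S₁ h _ i hi hdiv => ?_)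
        k' hk' hc
      · obtain ⟨p, hp, q, hq, hq0, hpq⟩ := BirCover.exists_mul_mem_of_mem_ext hzq a.2
        have hp0 : p ≠ 0 := hpq ▸ mul_ne_zero ha hq0
        let l : CommRingCat.of (S₀ ⧸ Ideal.span {(⟨p, hp⟩ : S₀)}) ⟶ CommRingCat.of (BirCover.ext S₀ z ⧸ Ideal.span {a}) :=
          CommRingCat.ofHom (Ideal.Quotient.lift _ ((Ideal.Quotient.mk _).comp (Subring.inclusion (BirCover.le_ext S₀ z))) fun y hy => by
            obtain ⟨c, rfl⟩ := Ideal.mem_span_singleton'.1 hy
            rw [map_mul, RingHom.comp_apply, RingHom.comp_apply, Ideal.Quotient.eq_zero_iff_mem.2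
              (Ideal.mem_span_singleton.2 ⟨⟨q, BirCover.le_ext S₀ z hq⟩, Subtype.ext hpq.symm⟩ :
                Subring.inclusion (BirCover.le_ext S₀ z) (⟨p, hp⟩ : S₀) ∈ Ideal.span {a}), mul_zero])
        have e : BirCover.cut a ≫ BirCover.incl (BirCover.le_ext S₀ z) = Spec.map l ≫ BirCover.cut (⟨p, hp⟩ : S₀) := by
          rw [← Spec.map_comp, ← Spec.map_comp]
          rfl
        rw [← Sieve.pullback_comp, e, Sieve.pullback_comp]
        exact (TopT.J F).pullback_stable _ (hcl _ hp0)
      · change R.arrows (BirCover.incl h ≫ BirCover.incl (BirCover.le_ext S₀ z))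
        rw [← Spec.map_comp]
        exact hch S₁ ((BirCover.le_ext S₀ z).trans h) i hi hdiv
    have hlt : ∀ (S₁ : Subring K) (k' : ι), (∀ i, x i / x k ∈ S₀ → x i / x k' ∈ S₁) → x j / x k' ∈ S₁ →
        (Finset.univ.filter fun i => x i / x k' ∉ S₁).card ≤ m := by
      intro S₁ k' h h'
      have hss : (Finset.univ.filter fun i => x i / x k' ∉ S₁) ⊂ (Finset.univ.filter fun i => x i / x k ∉ S₀) := by
        rw [Finset.ssubset_iff_of_subset (fun i hi => by
          simp only [Finset.mem_filter, Finset.mem_univ, true_and] at hi ⊢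
          exact fun hi' => hi (h i hi'))]
        exact ⟨j, by simpa using hj, by simpa using h'⟩
      have := Finset.card_lt_card hss
      omega
    let R' : Sieve (Spec (CommRingCat.of S₀)) :=
      Sieve.generate (Presieve.singleton (BirCover.cut (⟨x k, hx k⟩ : S₀))) ⊔
        Sieve.generate (Presieve.singleton (BirCover.cut (⟨x j, hx j⟩ : S₀))) ⊔
        Sieve.generate (Presieve.singleton (BirCover.incl (BirCover.le_ext S₀ (x j / x k)))) ⊔
          Sieve.generate (Presieve.singleton (BirCover.incl (BirCover.le_ext S₀ (x k / x j))))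
    refine (TopT.J F).transitive (mem_J_of_charts hz hcov S₀ ⟨x k, hx k⟩ ⟨x j, hx j⟩ hk hj0 R' ?_
      ?_ (Or.inl (Or.inr (Sieve.le_generate _ _ _ (Presieve.singleton_self _))))
      (Or.inr (Sieve.le_generate _ _ _ (Presieve.singleton_self _)))) R ?_
    · rw [Sieve.pullback_eq_top_of_mem R' (Or.inl (Or.inl (Or.inl (Sieve.le_generate _ _ _ (Presieve.singleton_self _)))))]
      exact (TopT.J F).top_mem _
    · rw [Sieve.pullback_eq_top_of_mem R' (Or.inl (Or.inl (Or.inr (Sieve.le_generate _ _ _ (Presieve.singleton_self _)))))]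
      exact (TopT.J F).top_mem _
    rintro W h (((⟨_, l, _, ⟨⟩, rfl⟩ | ⟨_, l, _, ⟨⟩, rfl⟩) | ⟨_, l, _, ⟨⟩, rfl⟩) | ⟨_, l, _, ⟨⟩, rfl⟩) <;> rw [Sieve.pullback_comp] <;>
      refine (TopT.J F).pullback_stable l ?_
    · exact hcl _ hk
    · exact hcl _ hj0
    · exact step _ k ⟨_, hx j, _, hx k, hk, div_mul_cancel₀ _ hk⟩ hk (hlt _ k (fun i hi => BirCover.le_ext S₀ _ hi) (BirCover.mem_ext S₀ _))
    · refine step _ j ⟨_, hx k, _, hx j, hj0, div_mul_cancel₀ _ hj0⟩ hj0 (hlt _ j (fun i hi => ?_) (by rw [div_self hj0]; exact Subring.one_mem _))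
      rw [← div_mul_div_cancel₀ hk (a := x i) (c := x j)]
      exact Subring.mul_mem _ (BirCover.le_ext S₀ _ hi) (BirCover.mem_ext S₀ _)

end Frac

include hz hflat hcov

theorem mem_J_of_domain {Ω : Type u} [Field Ω] [IsAlgClosed Ω] (S₀ : Subring Ω) [IsNoetherianRing S₀]
    (halg : ∀ z, Tower.IsAlg S₀ z) (R : Sieve (Spec (CommRingCat.of S₀)))
    (hcl : ∀ a : S₀, (a : Ω) ≠ 0 → R.pullback (BirCover.cut a) ∈ TopT.J F _)
    {V : Scheme.{u}} (g : V ⟶ Spec (CommRingCat.of S₀)) [IsProper g] [Surjective g] (hR : R.arrows g) :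
    R ∈ TopT.J F _ := by
  classical
  obtain ⟨n, X', π, j, hj, hjf, hπ, hπs⟩ := H8Lim.ChowPn.exists_chow_pn_surjective (f := g)
  haveI : IsProper (ProjSpaceOver.toBase n (Spec (CommRingCat.of S₀))) := RelVALib.isProper_toBase _ _
  haveI : UniversallyClosed (j ≫ ProjSpaceOver.toBase n (Spec (CommRingCat.of S₀))) := by rw [hjf]; infer_instance
  haveI : UniversallyClosed j :=
    UniversallyClosed.of_comp_of_isSeparated j (ProjSpaceOver.toBase n (Spec (CommRingCat.of S₀)))
  haveI : IsClosedImmersion j := IsClosedImmersion.of_isPreimmersion j j.isClosedMap.isClosed_range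
  -- a point of the modification
  let χ : Spec (CommRingCat.of Ω) ⟶ Spec (CommRingCat.of S₀) := Spec.map (CommRingCat.ofHom S₀.subtype)
  let Q := pullback (π ≫ g) χ
  haveI : CompactSpace Q := QuasiCompact.compactSpace_of_compactSpace (pullback.snd (π ≫ g) χ)
  obtain ⟨q₀, -⟩ := (pullback.snd (π ≫ g) χ).surjective (IsLocalRing.closedPoint Ω)
  obtain ⟨q, -, hq⟩ := IsClosed.exists_closed_singleton (isClosed_univ (X := Q)) ⟨q₀, trivial⟩
  let pt := pointOfClosedPoint (pullback.snd (π ≫ g) χ) q hq ≫ pullback.fst (π ≫ g) χ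
  have hpt : pt ≫ π ≫ g = χ := by
    rw [Category.assoc, pullback.condition, pointOfClosedPoint_comp_assoc]
  obtain ⟨z, ⟨i₀, hi₀⟩, hzl⟩ := exists_coord (pt ≫ j ≫ pullback.fst _ _)
  refine Tower.mem_J_of_tower hz hflat (List.ofFn z) S₀ (fun a _ => halg a) R hcl fun S₁ h _ hd hcl₁ => ?_
  choose d hd hd0 hdz using fun j => hd (z j) (List.mem_ofFn.2 ⟨j, rfl⟩)
  let x : Fin (n + 1) → Ω := fun j => (∏ i, d i) * z j
  have hD : (∏ i, d i) ≠ 0 := Finset.prod_ne_zero_iff.2 fun i _ => hd0 i
  refine mem_J_of_fractions hz hcov x S₁ (fun j => ?_) ⟨i₀, mul_ne_zero hD hi₀⟩ _ hcl₁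
    fun S₂ h₂ _ k hk hdiv => ?_
  · change (∏ i, d i) * z j ∈ S₁
    rw [← Finset.prod_erase_mul Finset.univ d (Finset.mem_univ j), mul_assoc]
    exact S₁.mul_mem (Subring.prod_mem _ fun i _ => hd i) (hdz j)
  have hzk : z k ≠ 0 := fun h0 => hk (by simp [x, h0])
  have hratio : ∀ j, x j / x k = z j / z k := fun j => mul_div_mul_left _ _ hD
  let z' : Fin (n + 1) → S₂ := fun j => ⟨x j / x k, hdiv j⟩
  have hz'k : z' k = 1 := Subtype.ext (div_self hk)
  have hu' : IsUnit (ev z' (MvPolynomial.X k)) := by rw [ev_X, hz'k]; exact isUnit_one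
  have hu : IsUnit (ev z (MvPolynomial.X k)) := by
    rw [ev_X]; exact isUnit_iff_ne_zero.2 hzk
  let ψ := RelConeLib.awayLift (ℬ := 𝒜.{u} n) (ev z') (MvPolynomial.X k) hu'
  have hψ : S₂.subtype.comp ψ = RelConeLib.awayLift (ℬ := 𝒜.{u} n) (ev z) (MvPolynomial.X k) hu :=
    hom_ext_frac k fun j => by
      have h1 := awayLift_frac z' k j hu'
      rw [hz'k, mul_one] at h1
      have h2 := awayLift_frac z k j hu
      rw [RingHom.comp_apply]
      refine mul_right_cancel₀ hzk (Eq.trans ?_ h2.symm)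
      rw [show ψ (frac k j) = z' j from h1]
      change x j / x k * z k = z j
      rw [hratio, div_mul_cancel₀ _ hzk]
  let m : Spec (CommRingCat.of S₂) ⟶ ProjSpaceOver n (Spec (CommRingCat.of S₀)) :=
    pullback.lift (Spec.map (CommRingCat.ofHom ψ) ≫ Proj.awayι (𝒜.{u} n) (MvPolynomial.X k) (X_mem k) one_pos)
      (BirCover.incl (h.trans h₂)) (specULiftZIsTerminal.hom_ext _ _)
  let η : Spec (CommRingCat.of Ω) ⟶ Spec (CommRingCat.of S₂) := Spec.map (CommRingCat.ofHom S₂.subtype)
  have hηm : η ≫ m = pt ≫ j := by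
    refine pullback.hom_ext ?_ ?_
    · rw [Category.assoc, pullback.lift_fst, ← Category.assoc, ← Spec.map_comp, ← CommRingCat.ofHom_comp, hψ, hzl]
      simp [pt]
    · rw [Category.assoc, pullback.lift_snd, Category.assoc]
      change _ = pt ≫ j ≫ ProjSpaceOver.toBase n _
      rw [hjf, hpt, ← Spec.map_comp]
      rfl
  haveI : IsDominant η := ⟨(PrimeSpectrum.denseRange_comap_iff_ker_le_nilRadical S₂.subtype).2 (by
    rw [(RingHom.injective_iff_ker_eq_bot S₂.subtype).1 Subtype.val_injective]; exact bot_le)⟩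
  haveI : Surjective (pullback.fst m j) := ⟨fun y => by
    have hsub : Set.range η ⊆ Set.range (pullback.fst m j) := by
      rintro _ ⟨o, rfl⟩
      exact ⟨pullback.lift η pt hηm o, congr($(pullback.lift_fst η pt hηm) o)⟩
    exact ((pullback.fst m j).isClosedMap.isClosed_range.closure_subset_iff.2 hsub) (η.denseRange y)⟩
  haveI := isIso_of_isClosedImmersion_of_surjective (pullback.fst m j)
  have e : (inv (pullback.fst m j) ≫ pullback.snd m j ≫ π) ≫ g = BirCover.incl (h.trans h₂) := by
    rw [Category.assoc, Category.assoc, ← hjf, IsIso.inv_comp_eq, ← pullback.condition_assoc]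
    exact congrArg (pullback.fst m j ≫ ·) (pullback.lift_snd _ _ _)
  change R.arrows (BirCover.incl h₂ ≫ BirCover.incl h)
  rw [show BirCover.incl h₂ ≫ BirCover.incl h = BirCover.incl (h.trans h₂) by rw [← Spec.map_comp]; rfl, ← e]
  exact R.downward_closed hR _

theorem mem_J_of_step {B : CommRingCat.{u}} [IsNoetherianRing B] (R : Sieve (Spec B))
    (hcl : ∀ b : B, b ≠ 0 → R.pullback (BirCover.cut b) ∈ TopT.J F _)
    {V : Scheme.{u}} (g : V ⟶ Spec B) [IsProper g] [Surjective g] (hR : R.arrows g) : R ∈ TopT.J F _ := by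
  rcases subsingleton_or_nontrivial B with hB | hB
  · haveI : IsEmpty (Spec B) := inferInstanceAs (IsEmpty (PrimeSpectrum B))
    haveI : IsIso g := inferInstance
    exact TopT.mem_J_flat hz hflat g R hR
  by_cases hdom : IsDomain B
  · let K := FractionRing B
    let Ω := AlgebraicClosure K
    let e : B →+* Ω := (algebraMap K Ω).comp (algebraMap B K)
    have he : Function.Injective e := (algebraMap K Ω).injective.comp (IsFractionRing.injective B K)
    let S₀ : Subring Ω := e.range
    let ε : B ≃+* S₀ := RingEquiv.ofBijective e.rangeRestrict ⟨fun a b h => he (congrArg Subtype.val h),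
      e.rangeRestrict_surjective⟩
    haveI : IsNoetherianRing S₀ := isNoetherianRing_of_surjective B S₀ ε.toRingHom ε.surjective
    let σ : Spec (CommRingCat.of S₀) ⟶ Spec B := Spec.map (CommRingCat.ofHom ε.toRingHom)
    haveI : IsIso (CommRingCat.ofHom ε.toRingHom) := inferInstanceAs (IsIso ε.toCommRingCatIso.hom)
    haveI : IsIso σ := inferInstanceAs (IsIso (Spec.map _))
    have halg : ∀ a : Ω, Tower.IsAlg S₀ a := fun a => by
      obtain ⟨q, hq0, hq⟩ := (IsFractionRing.isAlgebraic_iff B K Ω).2 (Algebra.IsAlgebraic.isAlgebraic (R := K) a)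
      refine ⟨q.map ε.toRingHom, fun h0 => hq0 (Polynomial.map_injective _ ε.injective ?_), ?_⟩
      · exact h0.trans (Polynomial.map_zero _).symm
      · rw [Polynomial.eval₂_map, show S₀.subtype.comp ε.toRingHom = algebraMap B Ω from ?_]
        · exact hq
        · exact RingHom.ext fun b => (IsScalarTower.algebraMap_apply B K Ω b).symm
    suffices hmem : R.pullback σ ∈ TopT.J F _ by
      have := (TopT.J F).pullback_stable (inv σ) hmem
      rwa [← Sieve.pullback_comp, IsIso.inv_hom_id, Sieve.pullback_id] at this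
    refine mem_J_of_domain hz hflat hcov S₀ halg _ (fun a ha => ?_) (pullback.fst σ g) ?_
    · obtain ⟨b, rfl⟩ := ε.surjective a
      let m : CommRingCat.of (B ⧸ Ideal.span {b}) ⟶ CommRingCat.of (S₀ ⧸ Ideal.span {ε b}) :=
        CommRingCat.ofHom (Ideal.Quotient.lift _ ((Ideal.Quotient.mk _).comp ε.toRingHom) fun y hy => by
          obtain ⟨c, rfl⟩ := Ideal.mem_span_singleton'.1 hy
          rw [map_mul, RingHom.comp_apply, RingHom.comp_apply,
            Ideal.Quotient.eq_zero_iff_mem.2 (show ε.toRingHom b ∈ Ideal.span {ε b} from Ideal.mem_span_singleton_self _),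
            mul_zero])
      have e' : BirCover.cut (ε b) ≫ σ = Spec.map m ≫ BirCover.cut b := by
        rw [← Spec.map_comp, ← Spec.map_comp]
        rfl
      rw [← Sieve.pullback_comp, e', Sieve.pullback_comp]
      exact (TopT.J F).pullback_stable _ (hcl b fun h0 => ha (by rw [h0, map_zero]; rfl))
    · change R.arrows (pullback.fst σ g ≫ σ)
      rw [pullback.condition]
      exact R.downward_closed hR _
  · obtain ⟨a, b, ha, hb, hab⟩ : ∃ a b : B, a ≠ 0 ∧ b ≠ 0 ∧ a * b = 0 := by
      by_contra hne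
      push Not at hne
      haveI : NoZeroDivisors B := ⟨fun {a b} h => or_iff_not_imp_left.2 fun ha => by_contra fun hb => hne a b ha hb h⟩
      exact hdom (NoZeroDivisors.to_isDomain B)
    refine (TopT.J F).transitive (hcov.closed B (Ideal.span {a}) b 1 fun x hx => ?_) R ?_
    · obtain ⟨c, rfl⟩ := Ideal.mem_span_singleton'.1 hx
      rw [pow_one, mul_assoc, hab, mul_zero]
    rintro W h ⟨_, k, _, ⟨t⟩, rfl⟩
    cases t <;> rw [Sieve.pullback_comp] <;> refine (TopT.J F).pullback_stable k ?_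
    · exact hcl a ha
    · exact hcl b hb

/-- Proper surjections onto Noetherian affine schemes are coverings. -/
theorem mem_J_of_noetherian {A : CommRingCat.{u}} [IsNoetherianRing A] {V : Scheme.{u}} (f : V ⟶ Spec A)
    [IsProper f] [Surjective f] (R : Sieve (Spec A)) (hR : R.arrows f) : R ∈ TopT.J F _ := by
  have key : ∀ I : Ideal A, R.pullback (Spec.map (CommRingCat.ofHom (Ideal.Quotient.mk I))) ∈ TopT.J F _ := by
    intro I
    induction I using WellFoundedGT.induction with
    | ind I ih =>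
      let ρ : Spec (CommRingCat.of (A ⧸ I)) ⟶ Spec A := Spec.map (CommRingCat.ofHom (Ideal.Quotient.mk I))
      haveI : IsNoetherianRing (CommRingCat.of (A ⧸ I)) := inferInstanceAs (IsNoetherianRing (A ⧸ I))
      refine mem_J_of_step hz hflat hcov (R.pullback ρ) (fun b hb => ?_) (pullback.fst ρ f) ?_
      · obtain ⟨a, rfl⟩ := Ideal.Quotient.mk_surjective b
        let J' : Ideal A := (Ideal.span {Ideal.Quotient.mk I a}).comap (Ideal.Quotient.mk I)
        have haJ : a ∈ J' := Ideal.mem_span_singleton_self _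
        have hlt : I < J' := lt_of_le_of_ne (fun x hx => by
          change Ideal.Quotient.mk I x ∈ Ideal.span {Ideal.Quotient.mk I a}
          rw [Ideal.Quotient.eq_zero_iff_mem.2 hx]; exact zero_mem _) fun h => hb (Ideal.Quotient.eq_zero_iff_mem.2 (h ▸ haJ))
        let l : CommRingCat.of (A ⧸ J') ⟶ CommRingCat.of ((A ⧸ I) ⧸ Ideal.span {Ideal.Quotient.mk I a}) :=
          CommRingCat.ofHom (Ideal.Quotient.lift J' ((Ideal.Quotient.mk _).comp (Ideal.Quotient.mk I))
            fun x hx => Ideal.Quotient.eq_zero_iff_mem.2 hx)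
        have e : BirCover.cut (Ideal.Quotient.mk I a) ≫ ρ = Spec.map l ≫ Spec.map (CommRingCat.ofHom (Ideal.Quotient.mk J')) := by
          rw [← Spec.map_comp, ← Spec.map_comp]
          rfl
        rw [← Sieve.pullback_comp, e, Sieve.pullback_comp]
        exact (TopT.J F).pullback_stable _ (ih J' hlt)
      · change R.arrows (pullback.fst ρ f ≫ ρ)
        rw [pullback.condition]
        exact R.downward_closed hR _
  haveI : IsIso (CommRingCat.ofHom (Ideal.Quotient.mk (⊥ : Ideal A))) :=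
    inferInstanceAs (IsIso (RingEquiv.quotientBot A).symm.toCommRingCatIso.hom)
  have h := (TopT.J F).pullback_stable (inv (Spec.map (CommRingCat.ofHom (Ideal.Quotient.mk (⊥ : Ideal A))))) (key ⊥)
  rwa [← Sieve.pullback_comp, IsIso.inv_hom_id, Sieve.pullback_id] at h

theorem hTopology_le : HTop.hTopology ≤ TopT.J F := by
  refine Precoverage.toGrothendieck_le_iff_le_toPrecoverage.2 fun Z R hR => ?_
  rw [GrothendieckTopology.mem_toPrecoverage_iff]
  obtain ⟨E, rfl⟩ := R.exists_eq_preZeroHypercover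
  have hE : HTop.IsHCover E := (HTop.presieve₀_mem_hPrecoverage_iff E).1 hR
  let 𝒰 := Z.openCoverOfIsOpenCover (fun U : Z.affineOpens => U.1) (iSup_affineOpens_eq_top Z)
  refine (TopT.J F).transitive (TopT.zariski_le hz _ (Precoverage.generate_mem_toGrothendieck 𝒰.mem₀)) _ ?_
  rintro W h ⟨_, k, _, ⟨U⟩, rfl⟩
  rw [Sieve.pullback_comp]
  refine (TopT.J F).pullback_stable k ?_
  let U' : Z.affineOpens := U
  haveI : IsAffine (U'.1 : Scheme.{u}) := U'.2
  obtain ⟨V, v, hv₁, hv₂, hv₃, hloc⟩ := PhRefine.exists_proper_of_isVCover (E := E.pullback₁ U'.1.ι)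
    (fun i => by
      haveI := hE.1 i
      exact inferInstanceAs (LocallyOfFinitePresentation (pullback.fst U'.1.ι (E.f i))))
    (VCover.isVCover_pullback U'.1.ι hE.2)
  let T₀ := (U'.1 : Scheme.{u})
  let A : CommRingCat.{u} := Γ(T₀, ⊤)
  obtain ⟨s, X₀, f₀, g, hf₀, hf₀', hpb⟩ := H8Lim.exists_noetherian_model_proper (R := A) (v ≫ T₀.isoSpec.hom)
  haveI : IsNoetherianRing (CommRingCat.of (H8Lim.fgSub A s)) :=
    isNoetherianRing_of_fg (R := ℤ) ⟨s, rfl⟩
  haveI : Surjective f₀ := ⟨fun y => by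
    let inc : Spec A ⟶ Spec (CommRingCat.of (H8Lim.fgSub A s)) :=
      Spec.map (CommRingCat.ofHom (H8Lim.fgSub A s).val.toRingHom)
    haveI : IsDominant inc := ⟨(PrimeSpectrum.denseRange_comap_iff_ker_le_nilRadical (H8Lim.fgSub A s).val.toRingHom).2 (by
      rw [(RingHom.injective_iff_ker_eq_bot (H8Lim.fgSub A s).val.toRingHom).1 Subtype.val_injective]; exact bot_le)⟩
    have hsub : Set.range inc ⊆ Set.range f₀ := by
      rintro _ ⟨x, rfl⟩
      obtain ⟨p, rfl⟩ := (v ≫ T₀.isoSpec.hom).surjective x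
      exact ⟨g p, congr($(hpb.w) p)⟩
    exact (f₀.isClosedMap.isClosed_range.closure_subset_iff.2 hsub) (inc.denseRange y)⟩
  have h₀ := (TopT.J F).pullback_stable (T₀.isoSpec.hom ≫ Spec.map (CommRingCat.ofHom (H8Lim.fgSub A s).val.toRingHom))
    (mem_J_of_noetherian hz hflat hcov f₀ (Sieve.generate (Presieve.singleton f₀)) (Sieve.le_generate _ _ _ (Presieve.singleton_self _)))
  refine (TopT.J F).transitive h₀ _ ?_
  rintro W' h' ⟨_, l, _, ⟨⟩, hl⟩
  obtain ⟨q, rfl⟩ : ∃ q : W' ⟶ V, q ≫ v = h' :=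
    ⟨hpb.lift l (h' ≫ T₀.isoSpec.hom) (by rw [hl, Category.assoc]), by
      rw [← cancel_mono T₀.isoSpec.hom, Category.assoc, hpb.lift_snd]⟩
  rw [Sieve.pullback_comp]
  refine (TopT.J F).pullback_stable q ?_
  choose i O a hxO ha using hloc
  let 𝒱 := V.openCoverOfIsOpenCover O (by
    rw [IsOpenCover, eq_top_iff]
    exact fun x _ => Opens.mem_iSup.2 ⟨x, hxO x⟩)
  refine (TopT.J F).superset_covering ?_ (TopT.zariski_le hz _ (Precoverage.generate_mem_toGrothendieck 𝒱.mem₀))
  rw [Sieve.generate_le_iff]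
  rintro W'' h'' ⟨x⟩
  refine ⟨_, a x ≫ pullback.snd U'.1.ι (E.f (i x)), E.f (i x), ⟨i x⟩, ?_⟩
  rw [Category.assoc, ← pullback.condition]
  exact ((Category.assoc _ _ _).symm.trans (congrArg (· ≫ U'.1.ι) (ha x))).trans (Category.assoc _ _ _)

theorem isSheaf_Jh : Presieve.IsSheaf (HTop.Jh S) F :=
  Presieve.isSheaf_of_le F (TopT.le_T_of_hTopology_le (hTopology_le hz hflat hcov))
    (Sheaf.sheaf_for_finestTopology _ (Set.mem_singleton F))

end Groth.Agent.HTop16.AffCrit
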