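import Groth.Agent.HTop16.PairSquare
import Mathlib.RingTheory.Polynomial.ScaleRoots

/-!
# Making fractions regular by coverings in the topology of a presheaf
-/

set_option autoImplicit false
set_option backward.isDefEq.respectTransparency false
set_option linter.all false

universe w u

open CategoryTheory CategoryTheory.Limits AlgebraicGeometry TopologicalSpace Opposite

namespace Groth.Agent.HTop16.BirCover

variable {K : Type u} [Field K]

/-- `S₀[z]` inside the field. -/
noncomputable def ext (S₀ : Subring K) (z : K) : Subring K := (Polynomial.eval₂RingHom S₀.subtype z).range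

theorem le_ext (S₀ : Subring K) (z : K) : S₀ ≤ ext S₀ z := fun a ha =>
  ⟨Polynomial.C ⟨a, ha⟩, Polynomial.eval₂_C _ _⟩

theorem mem_ext (S₀ : Subring K) (z : K) : z ∈ ext S₀ z := ⟨Polynomial.X, Polynomial.eval₂_X _ _⟩

theorem exists_mul_mem_of_mem_ext {S₀ : Subring K} {z : K} (hz : ∃ p ∈ S₀, ∃ q ∈ S₀, q ≠ 0 ∧ z * q = p) {e : K}
    (he : e ∈ ext S₀ z) : ∃ p ∈ S₀, ∃ q ∈ S₀, q ≠ 0 ∧ e * q = p := by
  obtain ⟨r, rfl⟩ := he
  obtain ⟨p, hp, q, hq, hq0, hpq⟩ := hz
  refine ⟨((r.scaleRoots (⟨q, hq⟩ : S₀)).eval (⟨p, hp⟩ : S₀) : S₀), SetLike.coe_mem _, q ^ r.natDegree, pow_mem hq _, pow_ne_zero _ hq0, ?_⟩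
  have h1 := Polynomial.scaleRoots_eval₂_mul (p := r) S₀.subtype z ⟨q, hq⟩
  rw [show S₀.subtype ⟨q, hq⟩ * z = S₀.subtype ⟨p, hp⟩ from (mul_comm q z).trans hpq, Polynomial.eval₂_at_apply] at h1
  exact (mul_comm _ _).trans h1.symm

theorem isNoetherianRing_ext (S₀ : Subring K) [IsNoetherianRing S₀] (z : K) : IsNoetherianRing (ext S₀ z) :=
  isNoetherianRing_range (Polynomial.eval₂RingHom S₀.subtype z)

/-- The morphism of spectra given by an inclusion of subrings. -/
noncomputable abbrev incl {S₀ S₁ : Subring K} (h : S₀ ≤ S₁) :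
    Spec (CommRingCat.of S₁) ⟶ Spec (CommRingCat.of S₀) :=
  Spec.map (CommRingCat.ofHom (Subring.inclusion h))

/-- The closed subscheme cut out by one element. -/
noncomputable abbrev cut {A : Type u} [CommRing A] (a : A) :
    Spec (CommRingCat.of (A ⧸ Ideal.span {a})) ⟶ Spec (CommRingCat.of A) :=
  Spec.map (CommRingCat.ofHom (Ideal.Quotient.mk (Ideal.span {a})))

/-- The universal property of the chart `S₀[b/a]`. -/
theorem exists_chartHom {S₀ : Subring K} {C : Type u} [CommRing C] (θ : S₀ →+* C) (a b : S₀) (ha : (a : K) ≠ 0)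
    (hθ : θ a ∈ nonZeroDivisors C) {c : C} (hc : θ a * c = θ b) :
    ∃ φ : ext S₀ ((b : K) / a) →+* C, φ.comp (Subring.inclusion (le_ext S₀ _)) = θ := by
  let ev := Polynomial.eval₂RingHom S₀.subtype ((b : K) / a)
  have hker : RingHom.ker ev.rangeRestrict ≤ RingHom.ker (Polynomial.eval₂RingHom θ c) := fun p hp => by
    have hp' : Polynomial.eval₂ S₀.subtype ((b : K) / a) p = 0 := congrArg Subtype.val hp
    have h1 := Polynomial.scaleRoots_eval₂_mul (p := p) S₀.subtype ((b : K) / a) a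
    rw [hp', mul_zero, show S₀.subtype a * ((b : K) / a) = S₀.subtype b from mul_div_cancel₀ _ ha,
      Polynomial.eval₂_at_apply] at h1
    have h2 := Polynomial.scaleRoots_eval₂_mul (p := p) θ c a
    rw [hc, Polynomial.eval₂_at_apply, (Subtype.ext h1 : Polynomial.eval b (p.scaleRoots a) = 0), map_zero] at h2
    rw [RingHom.mem_ker]
    exact (mem_nonZeroDivisors_iff.1 (pow_mem hθ _)).1 _ h2.symm
  refine ⟨RingHom.liftOfSurjective ev.rangeRestrict ev.rangeRestrict_surjective ⟨_, hker⟩, RingHom.ext fun r => ?_⟩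
  have e : Subring.inclusion (le_ext S₀ ((b : K) / a)) r = ev.rangeRestrict (Polynomial.C r) :=
    Subtype.ext (Polynomial.eval₂_C (S₀.subtype) _ (a := r)).symm
  rw [RingHom.comp_apply, e]
  exact (RingHom.liftOfRightInverse_comp_apply _ _ _ _ (Polynomial.C r)).trans (Polynomial.eval₂_C θ c)

variable {S : Scheme.{u}} {F : (Over S)ᵒᵖ ⥤ Type w}
  (hz : Presieve.IsSheaf (Scheme.zariskiTopology.over S) F)
  (hsq : ∀ (E Z X' X : Over S) (e : E ⟶ X') (π : E ⟶ Z) (b : X' ⟶ X) (i : Z ⟶ X), IsAffine X.left →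
    HTop.IsAlmostBlowUpSquare e.left π.left b.left i.left →
    (∃ f₁ f₂ : Γ(X.left, ⊤), i.left.ker = Scheme.IdealSheafData.ofIdealTop (Ideal.span {f₁, f₂})) →
    ∀ (t : F.obj (op Z)) (s' : F.obj (op X')), F.map π.op t = F.map e.op s' →
      ∃! s : F.obj (op X), F.map i.op s = t ∧ F.map b.op s = s')

include hz hsq

/-- A sieve containing the two charts of the blow-up and covering the first coordinate hyperplane is covering. -/
theorem mem_J_of_charts (S₀ : Subring K) [IsNoetherianRing S₀] (a b : S₀) (ha : (a : K) ≠ 0) (hb : (b : K) ≠ 0)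
    (R : Sieve (Spec (CommRingCat.of S₀))) (hA : R.pullback (cut a) ∈ TopT.J F _)
    (h₁ : R.arrows (incl (le_ext S₀ ((b : K) / a)))) (h₂ : R.arrows (incl (le_ext S₀ ((a : K) / b)))) :
    R ∈ TopT.J F _ := by
  let A : CommRingCat.{u} := CommRingCat.of S₀
  haveI : IsNoetherianRing A := ‹IsNoetherianRing S₀›
  let γ := (Scheme.ΓSpecIso A).inv
  let I : Ideal Γ(Spec A, ⊤) := Ideal.span {γ.hom a, γ.hom b}
  let 𝓘 := Scheme.IdealSheafData.ofIdealTop I
  have hI : 𝓘.ideal ⟨⊤, isAffineOpen_top _⟩ = I := Scheme.IdealSheafData.equivOfIsAffine.apply_symm_apply I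
  obtain ⟨B, β, hβ⟩ := BlowUpLib.exists_isBlowUp (I := 𝓘)
  let R₀ : Sieve (Spec A) := Sieve.generate (Presieve.singleton 𝓘.subschemeι) ⊔ Sieve.generate (Presieve.singleton β)
  refine (TopT.J F).transitive (PairSquare.mem_J_pair hz hsq _ _ β hβ R₀
    (Or.inl (Sieve.le_generate _ _ _ (Presieve.singleton_self _))) (Or.inr (Sieve.le_generate _ _ _ (Presieve.singleton_self _)))) R ?_
  rintro W h (⟨_, k, _, ⟨⟩, rfl⟩ | ⟨_, k, _, ⟨⟩, rfl⟩)
  · -- the centre lies in the first hyperplane
    haveI : IsAffine 𝓘.subscheme := isAffine_of_isAffineHom 𝓘.subschemeι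
    let q : A ⟶ Γ(𝓘.subscheme, ⊤) := γ ≫ 𝓘.subschemeι.appTop
    have hq : q.hom a = 0 := by
      have h' : γ.hom a ∈ 𝓘.subschemeι.ker.ideal ⟨⊤, isAffineOpen_top _⟩ := by
        rw [Scheme.IdealSheafData.ker_subschemeι, hI]
        exact Ideal.subset_span (Set.mem_insert _ _)
      rw [Scheme.Hom.ker_apply] at h'
      exact h'
    let l : 𝓘.subscheme ⟶ Spec (CommRingCat.of (S₀ ⧸ Ideal.span {a})) :=
      𝓘.subscheme.toSpecΓ ≫ Spec.map (CommRingCat.ofHom (Ideal.Quotient.lift (Ideal.span {a}) q.hom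
        (fun x hx => (Ideal.span_le.2 (Set.singleton_subset_iff.2 hq) : Ideal.span {a} ≤ RingHom.ker q.hom) hx)))
    have el : 𝓘.subschemeι = l ≫ cut a := by
      rw [Category.assoc, ← Spec.map_comp,
        show CommRingCat.ofHom (Ideal.Quotient.mk (Ideal.span {a})) ≫ CommRingCat.ofHom
          (Ideal.Quotient.lift (Ideal.span {a}) q.hom _) = γ ≫ 𝓘.subschemeι.appTop from rfl,
        Spec.map_comp, ← Scheme.toSpecΓ_naturality_assoc]
      simp [γ]
    rw [el, ← Category.assoc, Sieve.pullback_comp]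
    exact (TopT.J F).pullback_stable _ hA
  · rw [Sieve.pullback_comp]
    refine (TopT.J F).pullback_stable k ?_
    -- the blow-up is locally in one of the two charts
    have key : ∀ x : B, ∃ O : B.Opens, x ∈ O ∧ R.arrows (O.ι ≫ β) := by
      intro x
      obtain ⟨U, hxU, g, hgn, hg⟩ := hβ.1 x
      let θ : A ⟶ Γ(B, U.1) := γ ≫ β.appLE ⊤ U.1 le_top
      have hspan : Ideal.span {θ.hom a, θ.hom b} = Ideal.span {g} := by
        rw [← hg, ProjLib.comap_ideal_eq 𝓘 β ⟨⊤, isAffineOpen_top _⟩ U le_top, hI, Ideal.map_span,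
          Set.image_insert_eq, Set.image_singleton]
        rfl
      obtain ⟨a', ha'⟩ := Ideal.mem_span_singleton'.1 (hspan.le (Ideal.subset_span (Set.mem_insert _ _)))
      obtain ⟨b', hb'⟩ := Ideal.mem_span_singleton'.1 (hspan.le (Ideal.subset_span (Set.mem_insert_of_mem _ rfl)))
      obtain ⟨r, s, hrs⟩ := Ideal.mem_span_pair.1 (hspan.ge (Ideal.mem_span_singleton_self g))
      have hone : r * a' + s * b' = 1 := by
        refine sub_eq_zero.1 ((mem_nonZeroDivisors_iff.1 hgn).2 _ ?_)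
        rw [sub_mul, one_mul, add_mul, mul_assoc, ha', mul_assoc, hb', hrs, sub_self]
      have main : ∀ (p q : S₀) (hp : (p : K) ≠ 0) (p' q' : Γ(B, U.1)) (e₁ : p' * g = θ.hom p) (e₂ : q' * g = θ.hom q),
          x ∈ B.basicOpen p' → R.arrows (incl (le_ext S₀ ((q : K) / p))) → ∃ O : B.Opens, x ∈ O ∧ R.arrows (O.ι ≫ β) := by
        intro p q hp p' q' e₁ e₂ hxp hR
        let V : B.Opens := B.basicOpen p'
        have hV : IsAffineOpen V := U.2.basicOpen p'
        have hle : V ≤ U.1 := B.basicOpen_le p'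
        let res := B.presheaf.map (homOfLE hle).op
        have hu : IsUnit (res.hom p') := RingedSpace.isUnit_res_basicOpen B.toLocallyRingedSpace.toRingedSpace p'
        have hnz : res.hom (θ.hom p) ∈ nonZeroDivisors Γ(B, V) := by
          rw [← e₁, map_mul]
          exact mul_mem hu.mem_nonZeroDivisors (ModPairLib.res_mem_nonZeroDivisors (U := U) (V := ⟨V, hV⟩) hle hgn)
        obtain ⟨φ, hφ⟩ := exists_chartHom (res.hom.comp θ.hom) p q hp hnz (c := ↑hu.unit⁻¹ * res.hom q') (by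
          rw [RingHom.comp_apply, RingHom.comp_apply, ← e₁, ← e₂, map_mul, map_mul]
          calc res.hom p' * res.hom g * (↑hu.unit⁻¹ * res.hom q')
              = (res.hom p' * ↑hu.unit⁻¹) * (res.hom q' * res.hom g) := by ring
            _ = res.hom q' * res.hom g := by rw [IsUnit.mul_val_inv, one_mul])
        refine ⟨V, hxp, ?_⟩
        have e : V.ι ≫ β = (hV.isoSpec.hom ≫ Spec.map (CommRingCat.ofHom φ)) ≫ incl (le_ext S₀ ((q : K) / p)) := by
          rw [← cancel_epi hV.isoSpec.inv, IsAffineOpen.isoSpec_inv_ι_assoc, Category.assoc, Iso.inv_hom_id_assoc,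
            ← Spec.map_comp, show CommRingCat.ofHom (Subring.inclusion (le_ext S₀ ((q : K) / p))) ≫ CommRingCat.ofHom φ =
              γ ≫ (β.appLE ⊤ U.1 le_top ≫ res) from CommRingCat.hom_ext hφ,
            Scheme.Hom.appLE_map, Spec.map_comp,
            ← IsAffineOpen.SpecMap_appLE_fromSpec β (isAffineOpen_top _) hV le_top, IsAffineOpen.fromSpec_top,
            Scheme.isoSpec_Spec_inv]
        rw [e]
        exact R.downward_closed hR _
      by_cases hxa : x ∈ B.basicOpen a'
      · exact main a b ha a' b' ha' hb' hxa h₁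
      · refine main b a hb b' a' hb' ha' ?_ h₂
        have h1 : (B.presheaf.germ U.1 x hxU).hom a' ∈ IsLocalRing.maximalIdeal _ := by
          rw [IsLocalRing.mem_maximalIdeal]
          exact fun hu => hxa ((B.mem_basicOpen a' x hxU).2 hu)
        refine (B.mem_basicOpen b' x hxU).2 ?_
        by_contra h2
        have h3 : (B.presheaf.germ U.1 x hxU).hom (r * a' + s * b') ∈ IsLocalRing.maximalIdeal _ := by
          rw [map_add, map_mul, map_mul]
          exact add_mem (Ideal.mul_mem_left _ _ h1) (Ideal.mul_mem_left _ _ ((IsLocalRing.mem_maximalIdeal _).2 h2))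
        rw [hone, map_one] at h3
        exact (IsLocalRing.maximalIdeal.isMaximal _).ne_top ((Ideal.eq_top_iff_one _).2 h3)
    choose O hxO hO using key
    let 𝒰 := B.openCoverOfIsOpenCover O (by
      rw [IsOpenCover, eq_top_iff]
      exact fun x _ => Opens.mem_iSup.2 ⟨x, hxO x⟩)
    refine (TopT.J F).superset_covering ?_ (TopT.zariski_le hz _ (Precoverage.generate_mem_toGrothendieck 𝒰.mem₀))
    rw [Sieve.generate_le_iff]
    rintro W' k' ⟨x⟩
    exact hO x

/-- Fractions become regular after coverings: if the sieve covers every principal closed subset and contains the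
spectra of the Noetherian subrings in which one of the `x k` divides all the others, it is covering. -/
theorem mem_J_of_fractions {ι : Type*} [Finite ι] (x : ι → K) (S₀ : Subring K) [IsNoetherianRing S₀]
    (hx : ∀ j, x j ∈ S₀) (hx0 : ∃ k, x k ≠ 0)
    (R : Sieve (Spec (CommRingCat.of S₀))) (hcl : ∀ a : S₀, (a : K) ≠ 0 → R.pullback (cut a) ∈ TopT.J F _)
    (hch : ∀ (S₁ : Subring K) (h : S₀ ≤ S₁) [IsNoetherianRing S₁],
      ∀ k, x k ≠ 0 → (∀ j, x j / x k ∈ S₁) → R.arrows (incl h)) :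
    R ∈ TopT.J F _ := by
  classical
  cases nonempty_fintype ι
  obtain ⟨k, hk⟩ := hx0
  suffices H : ∀ (m : ℕ) (S₀ : Subring K) [IsNoetherianRing S₀] (hx : ∀ j, x j ∈ S₀)
      (R : Sieve (Spec (CommRingCat.of S₀))),
      (∀ a : S₀, (a : K) ≠ 0 → R.pullback (cut a) ∈ TopT.J F _) →
      (∀ (S₁ : Subring K) (h : S₀ ≤ S₁) [IsNoetherianRing S₁],
        ∀ k, x k ≠ 0 → (∀ j, x j / x k ∈ S₁) → R.arrows (incl h)) →
      ∀ k, x k ≠ 0 → (Finset.univ.filter fun j => x j / x k ∉ S₀).card ≤ m → R ∈ TopT.J F _ from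
    H _ S₀ hx R hcl hch k hk le_rfl
  intro m
  induction m with
  | zero =>
    intro S₀ _ hx R hcl hch k hk hcard
    have h : ∀ j, x j / x k ∈ S₀ := fun j => by
      by_contra hj
      have : 0 < (Finset.univ.filter fun j => x j / x k ∉ S₀).card :=
        Finset.card_pos.2 ⟨j, by simpa using hj⟩
      omega
    have h1 := hch S₀ le_rfl k hk h
    have e : incl (le_refl S₀) = 𝟙 (Spec (CommRingCat.of S₀)) := Spec.map_id _
    rw [e] at h1
    rw [Sieve.id_mem_iff_eq_top.1 h1]
    exact (TopT.J F).top_mem _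
  | succ m ih =>
    intro S₀ _ hx R hcl hch k hk hcard
    by_cases hall : ∀ j, x j / x k ∈ S₀
    · exact ih S₀ hx R hcl hch k hk
        (by rw [Finset.filter_eq_empty_iff.2 fun j _ => not_not.2 (hall j)]; exact Nat.zero_le _)
    push Not at hall
    obtain ⟨j, hj⟩ := hall
    have hj0 : x j ≠ 0 := fun h => hj (by rw [h, zero_div]; exact S₀.zero_mem)
    -- one step
    have step : ∀ (z : K) (k' : ι), (∃ p ∈ S₀, ∃ q ∈ S₀, q ≠ 0 ∧ z * q = p) → x k' ≠ 0 →
        (Finset.univ.filter fun i => x i / x k' ∉ ext S₀ z).card ≤ m →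
        R.pullback (incl (le_ext S₀ z)) ∈ TopT.J F _ := by
      intro z k' hzq hk' hc
      haveI := isNoetherianRing_ext S₀ z
      refine ih (ext S₀ z) (fun i => le_ext S₀ z (hx i)) _ (fun a ha => ?_) (fun S₁ h _ i hi hdiv => ?_)
        k' hk' hc
      · obtain ⟨p, hp, q, hq, hq0, hpq⟩ := exists_mul_mem_of_mem_ext hzq a.2
        have hp0 : p ≠ 0 := hpq ▸ mul_ne_zero ha hq0
        let l : CommRingCat.of (S₀ ⧸ Ideal.span {(⟨p, hp⟩ : S₀)}) ⟶ CommRingCat.of (ext S₀ z ⧸ Ideal.span {a}) :=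
          CommRingCat.ofHom (Ideal.Quotient.lift _ ((Ideal.Quotient.mk _).comp (Subring.inclusion (le_ext S₀ z))) fun y hy => by
            obtain ⟨c, rfl⟩ := Ideal.mem_span_singleton'.1 hy
            rw [map_mul, RingHom.comp_apply, RingHom.comp_apply, Ideal.Quotient.eq_zero_iff_mem.2
              (Ideal.mem_span_singleton.2 ⟨⟨q, le_ext S₀ z hq⟩, Subtype.ext hpq.symm⟩ :
                Subring.inclusion (le_ext S₀ z) (⟨p, hp⟩ : S₀) ∈ Ideal.span {a}), mul_zero])
        have e : cut a ≫ incl (le_ext S₀ z) = Spec.map l ≫ cut (⟨p, hp⟩ : S₀) := by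
          rw [← Spec.map_comp, ← Spec.map_comp]
          rfl
        rw [← Sieve.pullback_comp, e, Sieve.pullback_comp]
        exact (TopT.J F).pullback_stable _ (hcl _ hp0)
      · change R.arrows (incl h ≫ incl (le_ext S₀ z))
        rw [← Spec.map_comp]
        exact hch S₁ ((le_ext S₀ z).trans h) i hi hdiv
    have hlt : ∀ (S₁ : Subring K) (k' : ι), (∀ i, x i / x k ∈ S₀ → x i / x k' ∈ S₁) → x j / x k' ∈ S₁ →
        (Finset.univ.filter fun i => x i / x k' ∉ S₁).card ≤ m := by
      intro S₁ k' h h'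
      have hss : (Finset.univ.filter fun i => x i / x k' ∉ S₁) ⊂ (Finset.univ.filter fun i => x i / x k ∉ S₀) := by
        rw [Finset.ssubset_iff_of_subset (fun i hi => by
          simp only [Finset.mem_filter, Finset.mem_univ, true_and] at hi ⊢
          exact fun hi' => hi (h i hi'))]
        exact ⟨j, by simpa using hj, by simpa using h'⟩
      have := Finset.card_lt_card hss
      omega
    let R' : Sieve (Spec (CommRingCat.of S₀)) :=
      Sieve.generate (Presieve.singleton (cut (⟨x k, hx k⟩ : S₀))) ⊔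
        Sieve.generate (Presieve.singleton (incl (le_ext S₀ (x j / x k)))) ⊔
          Sieve.generate (Presieve.singleton (incl (le_ext S₀ (x k / x j))))
    refine (TopT.J F).transitive (mem_J_of_charts hz hsq S₀ ⟨x k, hx k⟩ ⟨x j, hx j⟩ hk hj0 R' ?_
      (Or.inl (Or.inr (Sieve.le_generate _ _ _ (Presieve.singleton_self _))))
      (Or.inr (Sieve.le_generate _ _ _ (Presieve.singleton_self _)))) R ?_
    · rw [Sieve.pullback_eq_top_of_mem R' (Or.inl (Or.inl (Sieve.le_generate _ _ _ (Presieve.singleton_self _))))]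
      exact (TopT.J F).top_mem _
    rintro W h ((⟨_, l, _, ⟨⟩, rfl⟩ | ⟨_, l, _, ⟨⟩, rfl⟩) | ⟨_, l, _, ⟨⟩, rfl⟩) <;> rw [Sieve.pullback_comp] <;>
      refine (TopT.J F).pullback_stable l ?_
    · exact hcl _ hk
    · exact step _ k ⟨_, hx j, _, hx k, hk, div_mul_cancel₀ _ hk⟩ hk (hlt _ k (fun i hi => le_ext S₀ _ hi) (mem_ext S₀ _))
    · refine step _ j ⟨_, hx k, _, hx j, hj0, div_mul_cancel₀ _ hj0⟩ hj0 (hlt _ j (fun i hi => ?_) (by rw [div_self hj0]; exact Subring.one_mem _))
      rw [← div_mul_div_cancel₀ hk (a := x i) (c := x j)]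
      exact Subring.mul_mem _ (le_ext S₀ _ hi) (mem_ext S₀ _)

end Groth.Agent.HTop16.BirCover
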