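import Groth.Prelude.Def_HTop3
import Groth.Agent.HTop16.HSheaf
import Groth.Agent.SDiv28.BlowUp
import Groth.Agent.H8Lim.Unramified

/-!
# h sheaves and almost blow up squares
-/

set_option autoImplicit false
set_option backward.isDefEq.respectTransparency false
set_option linter.all false

universe w u

open CategoryTheory CategoryTheory.Limits AlgebraicGeometry TopologicalSpace Opposite

namespace Groth.Agent.HTop16.Square

/-- Off the centre the vertical map of an almost blow up square is an isomorphism onto the base. -/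
theorem mono_and_surjective_off_center {X' X : Scheme.{u}} {b : X' ⟶ X} {I : X.IdealSheafData}
    (hb : BlowUp.IsBlowUp ((HTop.supportedOn (I.comap b)).subschemeι ≫ b) I) :
    Mono (b ∣_ I.support.compl) ∧ ∀ x ∈ I.support.compl, ∃ y, b y = x := by
  let O : X.Opens := I.support.compl
  let J := HTop.supportedOn (I.comap b)
  let c := J.subschemeι ≫ b
  haveI : IsIso (c ∣_ O) := SDiv28.isIso_off_center hb
  have hle : b ⁻¹ᵁ O ≤ HTop.awayFrom (I.comap b) := fun y hy h => hy (by
    rw [SetLike.mem_coe, Scheme.IdealSheafData.support_comap] at h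
    exact h)
  let j : (HTop.awayFrom (I.comap b) : Scheme.{u}) ⟶ J.subscheme :=
    IsClosedImmersion.lift J.subschemeι (HTop.awayFrom (I.comap b)).ι (by
      rw [Scheme.IdealSheafData.ker_subschemeι]; exact le_rfl)
  have hj : X'.homOfLE hle ≫ j ≫ J.subschemeι = (b ⁻¹ᵁ O).ι := by
    rw [IsClosedImmersion.lift_fac, Scheme.homOfLE_ι]
  let s : (b ⁻¹ᵁ O : Scheme.{u}) ⟶ (c ⁻¹ᵁ O : Scheme.{u}) :=
    IsOpenImmersion.lift (c ⁻¹ᵁ O).ι (X'.homOfLE hle ≫ j) (by
      rw [Scheme.Opens.range_ι]
      rintro _ ⟨y, rfl⟩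
      change b ((X'.homOfLE hle ≫ j ≫ J.subschemeι) y) ∈ O
      rw [hj]
      exact y.2)
  have hs : s ≫ (c ⁻¹ᵁ O).ι ≫ J.subschemeι = (b ⁻¹ᵁ O).ι := by
    rw [IsOpenImmersion.lift_fac_assoc, Category.assoc, hj]
  have hsc : s ≫ (c ∣_ O) = b ∣_ O := by
    rw [← cancel_mono O.ι, Category.assoc, morphismRestrict_ι, morphismRestrict_ι, reassoc_of% hs]
  refine ⟨⟨fun {W} p q h => ?_⟩, fun x hx => ?_⟩
  · have h2 : p ≫ s = q ≫ s := by
      rw [← cancel_mono (c ∣_ O), Category.assoc, hsc, Category.assoc, hsc, h]
    have := h2 =≫ ((c ⁻¹ᵁ O).ι ≫ J.subschemeι)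
    simp only [Category.assoc, hs] at this
    exact (cancel_mono (b ⁻¹ᵁ O).ι).1 this
  · obtain ⟨y, hy⟩ := (c ∣_ O).surjective ⟨x, hx⟩
    refine ⟨((c ⁻¹ᵁ O).ι ≫ J.subschemeι) y, ?_⟩
    change ((c ⁻¹ᵁ O).ι ≫ c) y = x
    rw [← morphismRestrict_ι, Scheme.Hom.comp_apply, hy]
    rfl

variable {S : Scheme.{u}} {F : (Over S)ᵒᵖ ⥤ Type w}

theorem generate_mem_Jh {X : Over S} {J : Type} (Ys : J → Over S) (fs : ∀ j, Ys j ⟶ X)
    (h : HTop.IsHCover (T := X.left) { I₀ := J, X := fun j => (Ys j).left, f := fun j => (fs j).left }) :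
    Sieve.generate (Presieve.ofArrows Ys fs) ∈ HTop.Jh S X := by
  rw [HTop.Jh, GrothendieckTopology.mem_over_iff]
  refine HTop.hTopology.superset_covering ?_
    (Precoverage.generate_mem_toGrothendieck ((HTop.presieve₀_mem_hPrecoverage_iff _).2 h))
  rw [Sieve.generate_le_iff]
  rintro Z g ⟨j⟩
  rw [Sieve.overEquiv_iff]
  refine ⟨Ys j, Over.homMk (𝟙 _) (by simp), fs j, Presieve.ofArrows.mk j, ?_⟩
  ext
  simp

theorem isSheafFor_pair (hF : Presieve.IsSheaf (HTop.Jh S) F) {A B X : Over S} (a : A ⟶ X) (b : B ⟶ X)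
    [IsProper a.left] [IsProper b.left] [LocallyOfFinitePresentation a.left] [LocallyOfFinitePresentation b.left]
    (h : ∀ x : X.left, x ∈ Set.range a.left ∨ x ∈ Set.range b.left) :
    Presieve.IsSheafFor F (Presieve.ofArrows (PhSheaf.famObj A B) (PhSheaf.famHom a b)) := by
  refine (Presieve.isSheafFor_iff_generate _).2 (hF _ (generate_mem_Jh _ _ ?_))
  obtain ⟨hl, hr⟩ := HSheaf.isHCover_pair a.left b.left h
  refine ⟨fun t => ?_, fun U => ?_⟩
  · cases t
    · exact hl false
    · exact hl true
  · obtain ⟨G, hG, hGr⟩ := hr U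
    refine ⟨G, hG, fun j => ?_⟩
    obtain ⟨i, c, hc⟩ := hGr j
    cases i
    · exact ⟨false, c, hc⟩
    · exact ⟨true, c, hc⟩

set_option maxHeartbeats 800000 in
/-- An h sheaf turns almost blow up squares into cartesian squares. -/
theorem existsUnique_of_square (hF : Presieve.IsSheaf (HTop.Jh S) F) {E Z X' X : Over S} (e : E ⟶ X') (π : E ⟶ Z)
    (b : X' ⟶ X) (i : Z ⟶ X) (hsq : HTop.IsAlmostBlowUpSquare e.left π.left b.left i.left) (t : F.obj (op Z))
    (s' : F.obj (op X')) (hts : F.map π.op t = F.map e.op s') :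
    ∃! s : F.obj (op X), F.map i.op s = t ∧ F.map b.op s = s' := by
  haveI := hsq.isClosedImmersion
  haveI := hsq.finitePresentation_base
  haveI := hsq.isProper
  haveI := hsq.finitePresentation
  have hE := hsq.isPullback
  let O : X.left.Opens := i.left.ker.support.compl
  have hO : ∀ x : X.left, x ∉ Set.range i.left → x ∈ O := fun x hx hx' => by
    have hx' := (Scheme.Hom.support_ker i.left).le hx'
    change x ∈ closure (Set.range i.left) at hx'
    rw [i.left.isClosedEmbedding.isClosed_range.closure_eq] at hx'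
    exact hx hx'
  obtain ⟨hmono, hsurj⟩ := mono_and_surjective_off_center hsq.isBlowUp
  haveI : Mono (b.left ∣_ O) := hmono
  haveI := H8Lim.locallyOfFinitePresentation_diagonal b.left
  have hcov : ∀ x : X.left, x ∈ Set.range i.left ∨ x ∈ Set.range b.left := fun x => by
    by_cases hx : x ∈ Set.range i.left
    · exact Or.inl hx
    · obtain ⟨y, hy⟩ := hsurj x (hO x hx)
      exact Or.inr ⟨y, hy⟩
  have main : ∀ {W : Over S} (g g' : W ⟶ X'), g ≫ b = g' ≫ b → F.map g.op s' = F.map g'.op s' := by
    intro W g g' e'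
    have el : g.left ≫ b.left = g'.left ≫ b.left := congr($(e').left)
    -- the part over the centre and the part where the two maps agree
    let A : Scheme.{u} := pullback (g.left ≫ b.left) i.left
    haveI : IsSeparated b.left := inferInstance
    let B : Scheme.{u} := pullback (pullback.lift g.left g'.left el) (pullback.diagonal b.left)
    let a : A ⟶ W.left := pullback.fst _ _
    let d : B ⟶ W.left := pullback.fst _ _
    have hWcov : ∀ w : W.left, w ∈ Set.range a ∨ w ∈ Set.range d := fun w => by
      by_cases hw : b.left (g.left w) ∈ Set.range i.left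
      · obtain ⟨z, hz⟩ := hw
        obtain ⟨q, hq, -⟩ := Scheme.Pullback.exists_preimage_pullback (f := g.left ≫ b.left) (g := i.left) w z hz.symm
        exact Or.inl ⟨q, hq⟩
      · have hwO : w ∈ g.left ⁻¹ᵁ (b.left ⁻¹ᵁ O) := hO _ hw
        let P := g.left ⁻¹ᵁ (b.left ⁻¹ᵁ O)
        have hP' : P ≤ g'.left ⁻¹ᵁ (b.left ⁻¹ᵁ O) := fun v hv => by
          change (g'.left ≫ b.left) v ∈ O
          rw [← el]
          exact hv
        have hagree : P.ι ≫ g.left = P.ι ≫ g'.left := by
          have h2 : g.left.resLE (b.left ⁻¹ᵁ O) P le_rfl = g'.left.resLE (b.left ⁻¹ᵁ O) P hP' := by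
            rw [← cancel_mono (b.left ∣_ O), ← cancel_mono O.ι]
            simp only [Category.assoc, morphismRestrict_ι, Scheme.Hom.resLE_comp_ι_assoc, el]
          have := congr($h2 ≫ (b.left ⁻¹ᵁ O).ι)
          simpa only [Scheme.Hom.resLE_comp_ι] using this
        let r : (P : Scheme.{u}) ⟶ B := pullback.lift P.ι (P.ι ≫ g.left) (by
          apply pullback.hom_ext
          · simp only [Category.assoc, pullback.diagonal_fst, Category.comp_id]
            rw [pullback.lift_fst]
          · simp only [Category.assoc, pullback.diagonal_snd, Category.comp_id]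
            rw [pullback.lift_snd]
            exact hagree.symm)
        exact Or.inr ⟨r ⟨w, hwO⟩, congr($(pullback.lift_fst P.ι (P.ι ≫ g.left) _) ⟨w, hwO⟩)⟩
    let AO : Over S := Over.mk (a ≫ W.hom)
    let BO : Over S := Over.mk (d ≫ W.hom)
    haveI : IsProper (Over.homMk (U := AO) (V := W) a rfl).left := inferInstanceAs (IsProper a)
    haveI : IsProper (Over.homMk (U := BO) (V := W) d rfl).left := inferInstanceAs (IsProper d)
    haveI : LocallyOfFinitePresentation (Over.homMk (U := AO) (V := W) a rfl).left := inferInstanceAs (LocallyOfFinitePresentation a)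
    haveI : LocallyOfFinitePresentation (Over.homMk (U := BO) (V := W) d rfl).left := inferInstanceAs (LocallyOfFinitePresentation d)
    refine (isSheafFor_pair hF (Over.homMk (U := AO) (V := W) a rfl)
      (Over.homMk (U := BO) (V := W) d rfl) hWcov).isSeparatedFor.ext fun Y q hq => ?_
    obtain ⟨t'⟩ := hq
    simp only [← ConcreteCategory.comp_apply, ← Functor.map_comp, ← op_comp]
    rcases t' with _ | _
    · have : Over.homMk (V := W) d rfl ≫ g = Over.homMk (U := BO) (V := W) d rfl ≫ g' := by
        ext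
        have h1 := congr($(pullback.condition (f := pullback.lift g.left g'.left el) (g := pullback.diagonal b.left)) ≫ pullback.fst b.left b.left)
        have h2 := congr($(pullback.condition (f := pullback.lift g.left g'.left el) (g := pullback.diagonal b.left)) ≫ pullback.snd b.left b.left)
        simp only [Category.assoc, pullback.lift_fst, pullback.lift_snd, pullback.diagonal_fst, pullback.diagonal_snd, Category.comp_id] at h1 h2
        exact h1.trans h2.symm
      exact congrArg (fun φ => F.map (Quiver.Hom.op φ) s') this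
    · let k : AO ⟶ Z := Over.homMk (pullback.snd _ _) (by
        change pullback.snd (g.left ≫ b.left) i.left ≫ Z.hom = a ≫ W.hom
        rw [← Over.w i, ← pullback.condition_assoc, Category.assoc]
        simp [a])
      have key : ∀ φ : W ⟶ X', φ.left ≫ b.left = g.left ≫ b.left →
          F.map (Over.homMk (U := AO) (V := W) a rfl ≫ φ).op s' = F.map k.op t := fun φ hφ => by
        have hc : (a ≫ φ.left) ≫ b.left = pullback.snd _ _ ≫ i.left := by
          rw [Category.assoc, hφ]
          exact pullback.condition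
        let l : AO ⟶ E := Over.homMk (hE.lift _ _ hc) (by
          rw [← Over.w e, hE.lift_fst_assoc, Category.assoc, Over.w φ]
          rfl)
        have l1 : l ≫ e = Over.homMk (U := AO) (V := W) a rfl ≫ φ := by
          ext
          exact hE.lift_fst _ _ _
        have l2 : l ≫ π = k := by
          ext
          exact hE.lift_snd _ _ _
        rw [← l1, ← l2, op_comp, op_comp, Functor.map_comp, Functor.map_comp, ConcreteCategory.comp_apply,
          ConcreteCategory.comp_apply, hts]
      exact (key g rfl).trans (key g' el.symm).symm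
  haveI : Mono i := Over.mono_of_mono_left i
  have mixed : ∀ {W : Over S} (g : W ⟶ Z) (g' : W ⟶ X'), g ≫ i = g' ≫ b →
      F.map g.op t = F.map g'.op s' := fun {W} g g' hgg => by
    have el : g'.left ≫ b.left = g.left ≫ i.left := congr($(hgg.symm).left)
    let l : W ⟶ E := Over.homMk (hE.lift _ _ el) (by rw [← Over.w e, hE.lift_fst_assoc, Over.w])
    have l1 : l ≫ e = g' := by ext; exact hE.lift_fst _ _ _
    have l2 : l ≫ π = g := by ext; exact hE.lift_snd _ _ _
    rw [← l1, ← l2, op_comp, op_comp, Functor.map_comp, Functor.map_comp, ConcreteCategory.comp_apply,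
      ConcreteCategory.comp_apply, hts]
  let x : ∀ t', F.obj (op (PhSheaf.famObj Z X' t')) := fun t' => Bool.rec s' t t'
  obtain ⟨s, hs, hu⟩ := (Presieve.isSheafFor_arrows_iff F (PhSheaf.famHom i b)).1
      (isSheafFor_pair hF i b hcov) x (fun p q W g g' hgg => by
    cases p <;> cases q
    · exact main g g' hgg
    · exact (mixed g' g hgg.symm).symm
    · exact mixed g g' hgg
    · change g ≫ i = g' ≫ i at hgg
      rw [(cancel_mono i).1 hgg])
  exact ⟨s, ⟨hs true, hs false⟩, fun s₂ h₂ => hu s₂ fun t' => by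
    cases t'
    · exact h₂.2
    · exact h₂.1⟩

end Groth.Agent.HTop16.Square
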