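import Groth.Agent.HTop16.Tower
import Groth.Agent.HTop16.Square
import Groth.Agent.H8Lim.ChowPn
import Groth.Agent.H8Lim.NoetherianModel
import Groth.Agent.RelConeLib.RetrFibre
import Groth.Agent.PnEmb.Segre
import Mathlib.AlgebraicGeometry.AlgClosed.Basic

/-!
# The criterion for sheaves on the big h site by blow-up squares in two sections

No flattening is used: over a Noetherian domain a proper surjection acquires a section after finite free
extensions and repeated blow-ups in two sections, up to proper closed subsets handled by Noetherian induction.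
-/

set_option autoImplicit false
set_option backward.isDefEq.respectTransparency false
set_option linter.all false

universe w u

open CategoryTheory CategoryTheory.Limits AlgebraicGeometry TopologicalSpace Opposite HomogeneousLocalization
open CohB1 (ProjSpaceOver)

namespace Groth.Agent.HTop16.BlowCrit

section Chart

variable {n : ℕ}

/-- The grading of the homogeneous coordinate ring over the integers. -/
noncomputable abbrev 𝒜 (n : ℕ) := CohB1.polyGrading n (ULift.{u} ℤ)

theorem X_mem (i : Fin (n + 1)) : (MvPolynomial.X i : MvPolynomial (Fin (n + 1)) (ULift.{u} ℤ)) ∈ 𝒜.{u} n 1 :=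
  MvPolynomial.isHomogeneous_X _ i

/-- The fraction `X j / X i`. -/
noncomputable def frac (i j : Fin (n + 1)) : Away (𝒜.{u} n) (MvPolynomial.X i) :=
  Away.mk _ (X_mem i) 1 (MvPolynomial.X j) (by rw [smul_eq_mul, mul_one]; exact X_mem j)

theorem hom_ext_frac {C : Type u} [CommRing C] (i : Fin (n + 1)) {φ ψ : Away (𝒜.{u} n) (MvPolynomial.X i) →+* C}
    (h : ∀ j, φ (frac i j) = ψ (frac i j)) : φ = ψ :=
  RingHom.ext fun x => (show x ∈ φ.eqLocus ψ from
    (PnEmb.away_subring_eq_top n i (φ.eqLocus ψ) h).symm ▸ Subring.mem_top x)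

theorem frac_self (i : Fin (n + 1)) : frac.{u} i i = 1 := by
  refine HomogeneousLocalization.val_injective _ ?_
  rw [HomogeneousLocalization.val_one, frac, Away.val_mk]
  exact (congrArg (Localization.mk _) (Subtype.ext (pow_one _) :
    (⟨MvPolynomial.X i ^ 1, 1, rfl⟩ : Submonoid.powers (MvPolynomial.X i : MvPolynomial (Fin (n + 1)) (ULift.{u} ℤ))) =
      ⟨MvPolynomial.X i, 1, pow_one _⟩)).trans (Localization.mk_self (⟨MvPolynomial.X i, 1, pow_one _⟩ :
        Submonoid.powers (MvPolynomial.X i : MvPolynomial (Fin (n + 1)) (ULift.{u} ℤ))))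

/-- Coordinates of a point with values in a ring. -/
noncomputable def ev {C : Type u} [CommRing C] (z : Fin (n + 1) → C) : MvPolynomial (Fin (n + 1)) (ULift.{u} ℤ) →+* C :=
  MvPolynomial.eval₂Hom ((Int.castRingHom C).comp ULift.ringEquiv.toRingHom) z

theorem ev_X {C : Type u} [CommRing C] (z : Fin (n + 1) → C) (j : Fin (n + 1)) : ev z (MvPolynomial.X j) = z j :=
  MvPolynomial.eval₂Hom_X' _ _ _

theorem awayLift_frac {C : Type u} [CommRing C] (z : Fin (n + 1) → C) (i j : Fin (n + 1))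
    (hu : IsUnit (ev z (MvPolynomial.X i))) :
    RelConeLib.awayLift (ℬ := 𝒜.{u} n) (ev z) (MvPolynomial.X i) hu (frac i j) * z i = z j := by
  have h := RelConeLib.awayLift_mk (ℬ := 𝒜.{u} n) (ev z) (X_mem i) hu 1 (MvPolynomial.X j)
    (by rw [smul_eq_mul, mul_one]; exact X_mem j)
  rwa [pow_one, ev_X, ev_X] at h

/-- Every point with values in a field has homogeneous coordinates. -/
theorem exists_coord {Ω : Type u} [Field Ω] (l : Spec (CommRingCat.of Ω) ⟶ CohB1.ProjSpace n (ULift.{u} ℤ)) :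
    ∃ z : Fin (n + 1) → Ω, (∃ i, z i ≠ 0) ∧ ∀ (k : Fin (n + 1)) (hu : IsUnit (ev z (MvPolynomial.X k))),
      Spec.map (CommRingCat.ofHom (RelConeLib.awayLift (ℬ := 𝒜.{u} n) (ev z) (MvPolynomial.X k) hu)) ≫
        Proj.awayι (𝒜.{u} n) (MvPolynomial.X k) (X_mem k) one_pos = l := by
  obtain ⟨i, hi⟩ : ∃ i, l (IsLocalRing.closedPoint Ω) ∈ Proj.basicOpen (𝒜.{u} n) (MvPolynomial.X i) :=
    Opens.mem_iSup.1 ((ProjLib.iSup_basicOpen_X n (ULift.{u} ℤ)).symm ▸ trivial)
  let ι := Proj.awayι (𝒜.{u} n) (MvPolynomial.X i) (X_mem i) one_pos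
  have hrange : Set.range l ⊆ Set.range ι := by
    rintro _ ⟨x, rfl⟩
    obtain rfl : x = IsLocalRing.closedPoint Ω := Subsingleton.elim (α := PrimeSpectrum Ω) _ _
    show l (IsLocalRing.closedPoint Ω) ∈ ι.opensRange
    rw [Proj.opensRange_awayι]
    exact hi
  obtain ⟨φ, hφ⟩ : ∃ φ, Spec.map φ ≫ ι = l :=
    ⟨Spec.preimage (IsOpenImmersion.lift ι l hrange), by rw [Spec.map_preimage, IsOpenImmersion.lift_fac]⟩
  let z : Fin (n + 1) → Ω := fun j => φ.hom (frac i j)
  have hzi : z i = 1 := (congrArg φ.hom (frac_self i)).trans (map_one _)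
  have hui : IsUnit (ev z (MvPolynomial.X i)) := by rw [ev_X, hzi]; exact isUnit_one
  have e : φ.hom = RelConeLib.awayLift (ℬ := 𝒜.{u} n) (ev z) (MvPolynomial.X i) hui := hom_ext_frac i fun j => by
    have := awayLift_frac z i j hui
    rw [hzi, mul_one] at this
    exact this.symm
  refine ⟨z, ⟨i, by rw [hzi]; exact one_ne_zero⟩, fun k hu => ?_⟩
  have hx : (MvPolynomial.X i * MvPolynomial.X k : MvPolynomial (Fin (n + 1)) (ULift.{u} ℤ)) =
      MvPolynomial.X k * MvPolynomial.X i := mul_comm _ _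
  have hxu : IsUnit (ev z (MvPolynomial.X i * MvPolynomial.X k)) := by rw [map_mul]; exact hui.mul hu
  have h₁ := RelConeLib.awayLift_comp_awayMap (ℬ := 𝒜.{u} n) (ev z) (X_mem i) (X_mem k) rfl hui hxu
  have h₂ := RelConeLib.awayLift_comp_awayMap (ℬ := 𝒜.{u} n) (ev z) (X_mem k) (X_mem i) hx hu hxu
  rw [← h₂, ← hφ, show φ = CommRingCat.ofHom φ.hom from (CommRingCat.ofHom_hom φ).symm, e, ← h₁,
    CommRingCat.ofHom_comp, CommRingCat.ofHom_comp, Spec.map_comp, Spec.map_comp, Category.assoc, Category.assoc,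
    Proj.SpecMap_awayMap_awayι, Proj.SpecMap_awayMap_awayι]

end Chart

variable {S : Scheme.{u}} {F : (Over S)ᵒᵖ ⥤ Type w}
  (hz : Presieve.IsSheaf (Scheme.zariskiTopology.over S) F)
  (hflat : ∀ (X Y : Over S) (f : X ⟶ Y), IsAffine Y.left → Surjective f.left → Flat f.left → IsProper f.left →
    LocallyOfFinitePresentation f.left → Presieve.IsSheafFor F (Presieve.singleton f))
  (hsq : ∀ (E Z X' X : Over S) (e : E ⟶ X') (π : E ⟶ Z) (b : X' ⟶ X) (i : Z ⟶ X), IsAffine X.left →
    HTop.IsAlmostBlowUpSquare e.left π.left b.left i.left →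
    (∃ f₁ f₂ : Γ(X.left, ⊤), i.left.ker = Scheme.IdealSheafData.ofIdealTop (Ideal.span {f₁, f₂})) →
    ∀ (t : F.obj (op Z)) (s' : F.obj (op X')), F.map π.op t = F.map e.op s' →
      ∃! s : F.obj (op X), F.map i.op s = t ∧ F.map b.op s = s')

include hz hflat hsq

theorem mem_J_of_domain {Ω : Type u} [Field Ω] [IsAlgClosed Ω] (S₀ : Subring Ω) [IsNoetherianRing S₀]
    (halg : ∀ z, Tower.IsAlg S₀ z) (R : Sieve (Spec (CommRingCat.of S₀)))
    (hcl : ∀ a : S₀, (a : Ω) ≠ 0 → R.pullback (BirCover.cut a) ∈ TopT.J F _)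
    {V : Scheme.{u}} (g : V ⟶ Spec (CommRingCat.of S₀)) [IsProper g] [Surjective g] (hR : R.arrows g) :
    R ∈ TopT.J F _ := by
  classical
  obtain ⟨n, X', π, j, hj, hjf, hπ, hπs⟩ := H8Lim.ChowPn.exists_chow_pn_surjective (f := g)
  haveI : IsProper (ProjSpaceOver.toBase n (Spec (CommRingCat.of S₀))) := RelVALib.isProper_toBase _ _
  haveI : UniversallyClosed (j ≫ ProjSpaceOver.toBase n (Spec (CommRingCat.of S₀))) := by rw [hjf]; infer_instance
  haveI : UniversallyClosed j :=
    UniversallyClosed.of_comp_of_isSeparated j (ProjSpaceOver.toBase n (Spec (CommRingCat.of S₀)))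
  haveI : IsClosedImmersion j := IsClosedImmersion.of_isPreimmersion j j.isClosedMap.isClosed_range
  -- a point of the modification
  let χ : Spec (CommRingCat.of Ω) ⟶ Spec (CommRingCat.of S₀) := Spec.map (CommRingCat.ofHom S₀.subtype)
  let Q := pullback (π ≫ g) χ
  haveI : CompactSpace Q := QuasiCompact.compactSpace_of_compactSpace (pullback.snd (π ≫ g) χ)
  obtain ⟨q₀, -⟩ := (pullback.snd (π ≫ g) χ).surjective (IsLocalRing.closedPoint Ω)
  obtain ⟨q, -, hq⟩ := IsClosed.exists_closed_singleton (isClosed_univ (X := Q)) ⟨q₀, trivial⟩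
  let pt := pointOfClosedPoint (pullback.snd (π ≫ g) χ) q hq ≫ pullback.fst (π ≫ g) χ
  have hpt : pt ≫ π ≫ g = χ := by
    rw [Category.assoc, pullback.condition, pointOfClosedPoint_comp_assoc]
  obtain ⟨z, ⟨i₀, hi₀⟩, hzl⟩ := exists_coord (pt ≫ j ≫ pullback.fst _ _)
  refine Tower.mem_J_of_tower hz hflat (List.ofFn z) S₀ (fun a _ => halg a) R hcl fun S₁ h _ hd hcl₁ => ?_
  choose d hd hd0 hdz using fun j => hd (z j) (List.mem_ofFn.2 ⟨j, rfl⟩)
  let x : Fin (n + 1) → Ω := fun j => (∏ i, d i) * z j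
  have hD : (∏ i, d i) ≠ 0 := Finset.prod_ne_zero_iff.2 fun i _ => hd0 i
  refine BirCover.mem_J_of_fractions hz hsq x S₁ (fun j => ?_) ⟨i₀, mul_ne_zero hD hi₀⟩ _ hcl₁
    fun S₂ h₂ _ k hk hdiv => ?_
  · change (∏ i, d i) * z j ∈ S₁
    rw [← Finset.prod_erase_mul Finset.univ d (Finset.mem_univ j), mul_assoc]
    exact S₁.mul_mem (Subring.prod_mem _ fun i _ => hd i) (hdz j)
  have hzk : z k ≠ 0 := fun h0 => hk (by simp [x, h0])
  have hratio : ∀ j, x j / x k = z j / z k := fun j => mul_div_mul_left _ _ hD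
  let z' : Fin (n + 1) → S₂ := fun j => ⟨x j / x k, hdiv j⟩
  have hz'k : z' k = 1 := Subtype.ext (div_self hk)
  have hu' : IsUnit (ev z' (MvPolynomial.X k)) := by rw [ev_X, hz'k]; exact isUnit_one
  have hu : IsUnit (ev z (MvPolynomial.X k)) := by
    rw [ev_X]; exact isUnit_iff_ne_zero.2 hzk
  let ψ := RelConeLib.awayLift (ℬ := 𝒜.{u} n) (ev z') (MvPolynomial.X k) hu'
  have hψ : S₂.subtype.comp ψ = RelConeLib.awayLift (ℬ := 𝒜.{u} n) (ev z) (MvPolynomial.X k) hu :=
    hom_ext_frac k fun j => by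
      have h1 := awayLift_frac z' k j hu'
      rw [hz'k, mul_one] at h1
      have h2 := awayLift_frac z k j hu
      rw [RingHom.comp_apply]
      refine mul_right_cancel₀ hzk (Eq.trans ?_ h2.symm)
      rw [show ψ (frac k j) = z' j from h1]
      change x j / x k * z k = z j
      rw [hratio, div_mul_cancel₀ _ hzk]
  let m : Spec (CommRingCat.of S₂) ⟶ ProjSpaceOver n (Spec (CommRingCat.of S₀)) :=
    pullback.lift (Spec.map (CommRingCat.ofHom ψ) ≫ Proj.awayι (𝒜.{u} n) (MvPolynomial.X k) (X_mem k) one_pos)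
      (BirCover.incl (h.trans h₂)) (specULiftZIsTerminal.hom_ext _ _)
  let η : Spec (CommRingCat.of Ω) ⟶ Spec (CommRingCat.of S₂) := Spec.map (CommRingCat.ofHom S₂.subtype)
  have hηm : η ≫ m = pt ≫ j := by
    refine pullback.hom_ext ?_ ?_
    · rw [Category.assoc, pullback.lift_fst, ← Category.assoc, ← Spec.map_comp, ← CommRingCat.ofHom_comp, hψ, hzl]
      simp [pt]
    · rw [Category.assoc, pullback.lift_snd, Category.assoc]
      change _ = pt ≫ j ≫ ProjSpaceOver.toBase n _
      rw [hjf, hpt, ← Spec.map_comp]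
      rfl
  haveI : IsDominant η := ⟨(PrimeSpectrum.denseRange_comap_iff_ker_le_nilRadical S₂.subtype).2 (by
    rw [(RingHom.injective_iff_ker_eq_bot S₂.subtype).1 Subtype.val_injective]; exact bot_le)⟩
  haveI : Surjective (pullback.fst m j) := ⟨fun y => by
    have hsub : Set.range η ⊆ Set.range (pullback.fst m j) := by
      rintro _ ⟨o, rfl⟩
      exact ⟨pullback.lift η pt hηm o, congr($(pullback.lift_fst η pt hηm) o)⟩
    exact ((pullback.fst m j).isClosedMap.isClosed_range.closure_subset_iff.2 hsub) (η.denseRange y)⟩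
  haveI := isIso_of_isClosedImmersion_of_surjective (pullback.fst m j)
  have e : (inv (pullback.fst m j) ≫ pullback.snd m j ≫ π) ≫ g = BirCover.incl (h.trans h₂) := by
    rw [Category.assoc, Category.assoc, ← hjf, IsIso.inv_comp_eq, ← pullback.condition_assoc]
    exact congrArg (pullback.fst m j ≫ ·) (pullback.lift_snd _ _ _)
  change R.arrows (BirCover.incl h₂ ≫ BirCover.incl h)
  rw [show BirCover.incl h₂ ≫ BirCover.incl h = BirCover.incl (h.trans h₂) by rw [← Spec.map_comp]; rfl, ← e]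
  exact R.downward_closed hR _

theorem mem_J_of_step {B : CommRingCat.{u}} [IsNoetherianRing B] (R : Sieve (Spec B))
    (hcl : ∀ b : B, b ≠ 0 → R.pullback (BirCover.cut b) ∈ TopT.J F _)
    {V : Scheme.{u}} (g : V ⟶ Spec B) [IsProper g] [Surjective g] (hR : R.arrows g) : R ∈ TopT.J F _ := by
  rcases subsingleton_or_nontrivial B with hB | hB
  · haveI : IsEmpty (Spec B) := inferInstanceAs (IsEmpty (PrimeSpectrum B))
    haveI : IsIso g := inferInstance
    exact TopT.mem_J_flat hz hflat g R hR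
  by_cases hdom : IsDomain B
  · let K := FractionRing B
    let Ω := AlgebraicClosure K
    let e : B →+* Ω := (algebraMap K Ω).comp (algebraMap B K)
    have he : Function.Injective e := (algebraMap K Ω).injective.comp (IsFractionRing.injective B K)
    let S₀ : Subring Ω := e.range
    let ε : B ≃+* S₀ := RingEquiv.ofBijective e.rangeRestrict ⟨fun a b h => he (congrArg Subtype.val h),
      e.rangeRestrict_surjective⟩
    haveI : IsNoetherianRing S₀ := isNoetherianRing_of_surjective B S₀ ε.toRingHom ε.surjective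
    let σ : Spec (CommRingCat.of S₀) ⟶ Spec B := Spec.map (CommRingCat.ofHom ε.toRingHom)
    haveI : IsIso (CommRingCat.ofHom ε.toRingHom) := inferInstanceAs (IsIso ε.toCommRingCatIso.hom)
    haveI : IsIso σ := inferInstanceAs (IsIso (Spec.map _))
    have halg : ∀ a : Ω, Tower.IsAlg S₀ a := fun a => by
      obtain ⟨q, hq0, hq⟩ := (IsFractionRing.isAlgebraic_iff B K Ω).2 (Algebra.IsAlgebraic.isAlgebraic (R := K) a)
      refine ⟨q.map ε.toRingHom, fun h0 => hq0 (Polynomial.map_injective _ ε.injective ?_), ?_⟩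
      · exact h0.trans (Polynomial.map_zero _).symm
      · rw [Polynomial.eval₂_map, show S₀.subtype.comp ε.toRingHom = algebraMap B Ω from ?_]
        · exact hq
        · exact RingHom.ext fun b => (IsScalarTower.algebraMap_apply B K Ω b).symm
    suffices hmem : R.pullback σ ∈ TopT.J F _ by
      have := (TopT.J F).pullback_stable (inv σ) hmem
      rwa [← Sieve.pullback_comp, IsIso.inv_hom_id, Sieve.pullback_id] at this
    refine mem_J_of_domain hz hflat hsq S₀ halg _ (fun a ha => ?_) (pullback.fst σ g) ?_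
    · obtain ⟨b, rfl⟩ := ε.surjective a
      let m : CommRingCat.of (B ⧸ Ideal.span {b}) ⟶ CommRingCat.of (S₀ ⧸ Ideal.span {ε b}) :=
        CommRingCat.ofHom (Ideal.Quotient.lift _ ((Ideal.Quotient.mk _).comp ε.toRingHom) fun y hy => by
          obtain ⟨c, rfl⟩ := Ideal.mem_span_singleton'.1 hy
          rw [map_mul, RingHom.comp_apply, RingHom.comp_apply,
            Ideal.Quotient.eq_zero_iff_mem.2 (show ε.toRingHom b ∈ Ideal.span {ε b} from Ideal.mem_span_singleton_self _),
            mul_zero])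
      have e' : BirCover.cut (ε b) ≫ σ = Spec.map m ≫ BirCover.cut b := by
        rw [← Spec.map_comp, ← Spec.map_comp]
        rfl
      rw [← Sieve.pullback_comp, e', Sieve.pullback_comp]
      exact (TopT.J F).pullback_stable _ (hcl b fun h0 => ha (by rw [h0, map_zero]; rfl))
    · change R.arrows (pullback.fst σ g ≫ σ)
      rw [pullback.condition]
      exact R.downward_closed hR _
  · obtain ⟨a, b, ha, hb, hab⟩ : ∃ a b : B, a ≠ 0 ∧ b ≠ 0 ∧ a * b = 0 := by
      by_contra hne
      push Not at hne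
      haveI : NoZeroDivisors B := ⟨fun {a b} h => or_iff_not_imp_left.2 fun ha => by_contra fun hb => hne a b ha hb h⟩
      exact hdom (NoZeroDivisors.to_isDomain B)
    let γ := (Scheme.ΓSpecIso B).inv
    let 𝓘 := Scheme.IdealSheafData.ofIdealTop (Ideal.span {γ.hom a, γ.hom a})
    have hI : 𝓘.ideal ⟨⊤, isAffineOpen_top _⟩ = Ideal.span {γ.hom a, γ.hom a} :=
      Scheme.IdealSheafData.equivOfIsAffine.apply_symm_apply _
    obtain ⟨B', β, hβ⟩ := BlowUpLib.exists_isBlowUp (I := 𝓘)
    let R₀ : Sieve (Spec B) := Sieve.generate (Presieve.singleton 𝓘.subschemeι) ⊔ Sieve.generate (Presieve.singleton β)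
    refine (TopT.J F).transitive (PairSquare.mem_J_pair hz hsq _ _ β hβ R₀
      (Or.inl (Sieve.le_generate _ _ _ (Presieve.singleton_self _))) (Or.inr (Sieve.le_generate _ _ _ (Presieve.singleton_self _)))) R ?_
    -- morphisms killing `c` factor through its zero locus
    have factor : ∀ {W : Scheme.{u}} (h : W ⟶ Spec B) (c : B), c ≠ 0 → (γ ≫ h.appTop).hom c = 0 →
        R.pullback h ∈ TopT.J F _ := by
      intro W h c hc h0
      let l : W ⟶ Spec (CommRingCat.of (B ⧸ Ideal.span {c})) :=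
        W.toSpecΓ ≫ Spec.map (CommRingCat.ofHom (Ideal.Quotient.lift (Ideal.span {c}) (γ ≫ h.appTop).hom
          (fun x hx => (Ideal.span_le.2 (Set.singleton_subset_iff.2 h0) : Ideal.span {c} ≤ RingHom.ker (γ ≫ h.appTop).hom) hx)))
      have el : h = l ≫ BirCover.cut c := by
        rw [Category.assoc, ← Spec.map_comp,
          show CommRingCat.ofHom (Ideal.Quotient.mk (Ideal.span {c})) ≫ CommRingCat.ofHom
            (Ideal.Quotient.lift (Ideal.span {c}) (γ ≫ h.appTop).hom _) = γ ≫ h.appTop from rfl,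
          Spec.map_comp, ← Scheme.toSpecΓ_naturality_assoc]
        simp [γ]
      rw [el, Sieve.pullback_comp]
      exact (TopT.J F).pullback_stable _ (hcl c hc)
    rintro W h (⟨_, k, _, ⟨⟩, rfl⟩ | ⟨_, k, _, ⟨⟩, rfl⟩) <;> rw [Sieve.pullback_comp] <;>
      refine (TopT.J F).pullback_stable k ?_
    · refine factor 𝓘.subschemeι a ha ?_
      have h' : γ.hom a ∈ 𝓘.subschemeι.ker.ideal ⟨⊤, isAffineOpen_top _⟩ := by
        rw [Scheme.IdealSheafData.ker_subschemeι, hI]
        exact Ideal.subset_span (Set.mem_insert _ _)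
      rw [Scheme.Hom.ker_apply] at h'
      exact h'
    · refine factor β b hb ?_
      have key : ∀ x : B', ∃ U : B'.Opens, x ∈ U ∧ B'.presheaf.map (homOfLE (le_top : U ≤ ⊤)).op (β.appTop (γ.hom b)) = 0 := by
        intro x
        obtain ⟨U, hxU, g', hgn, hg⟩ := hβ.1 x
        refine ⟨U.1, hxU, ?_⟩
        have hspan : Ideal.span {(β.appLE ⊤ U.1 le_top).hom (γ.hom a)} = Ideal.span {g'} := by
          rw [← hg, ProjLib.comap_ideal_eq 𝓘 β ⟨⊤, isAffineOpen_top _⟩ U le_top, hI, Ideal.map_span,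
            Set.image_insert_eq, Set.image_singleton, Set.pair_eq_singleton]
        obtain ⟨c, hc⟩ := Ideal.mem_span_singleton'.1 (hspan.ge (Ideal.mem_span_singleton_self g'))
        change (β.appLE ⊤ U.1 le_top).hom (γ.hom b) = 0
        refine (mem_nonZeroDivisors_iff.1 hgn).2 _ ?_
        rw [← hc, mul_left_comm, ← map_mul, ← map_mul, mul_comm b a, hab, map_zero, map_zero, mul_zero]
      choose U hxU hU using key
      exact B'.IsSheaf.section_ext fun x _ => ⟨U x, le_top, hxU x, (hU x).trans (map_zero _).symm⟩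

/-- Proper surjections onto Noetherian affine schemes are coverings. -/
theorem mem_J_of_noetherian {A : CommRingCat.{u}} [IsNoetherianRing A] {V : Scheme.{u}} (f : V ⟶ Spec A)
    [IsProper f] [Surjective f] (R : Sieve (Spec A)) (hR : R.arrows f) : R ∈ TopT.J F _ := by
  have key : ∀ I : Ideal A, R.pullback (Spec.map (CommRingCat.ofHom (Ideal.Quotient.mk I))) ∈ TopT.J F _ := by
    intro I
    induction I using WellFoundedGT.induction with
    | ind I ih =>
      let ρ : Spec (CommRingCat.of (A ⧸ I)) ⟶ Spec A := Spec.map (CommRingCat.ofHom (Ideal.Quotient.mk I))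
      haveI : IsNoetherianRing (CommRingCat.of (A ⧸ I)) := inferInstanceAs (IsNoetherianRing (A ⧸ I))
      refine mem_J_of_step hz hflat hsq (R.pullback ρ) (fun b hb => ?_) (pullback.fst ρ f) ?_
      · obtain ⟨a, rfl⟩ := Ideal.Quotient.mk_surjective b
        let J' : Ideal A := (Ideal.span {Ideal.Quotient.mk I a}).comap (Ideal.Quotient.mk I)
        have haJ : a ∈ J' := Ideal.mem_span_singleton_self _
        have hlt : I < J' := lt_of_le_of_ne (fun x hx => by
          change Ideal.Quotient.mk I x ∈ Ideal.span {Ideal.Quotient.mk I a}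
          rw [Ideal.Quotient.eq_zero_iff_mem.2 hx]; exact zero_mem _) fun h => hb (Ideal.Quotient.eq_zero_iff_mem.2 (h ▸ haJ))
        let l : CommRingCat.of (A ⧸ J') ⟶ CommRingCat.of ((A ⧸ I) ⧸ Ideal.span {Ideal.Quotient.mk I a}) :=
          CommRingCat.ofHom (Ideal.Quotient.lift J' ((Ideal.Quotient.mk _).comp (Ideal.Quotient.mk I))
            fun x hx => Ideal.Quotient.eq_zero_iff_mem.2 hx)
        have e : BirCover.cut (Ideal.Quotient.mk I a) ≫ ρ = Spec.map l ≫ Spec.map (CommRingCat.ofHom (Ideal.Quotient.mk J')) := by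
          rw [← Spec.map_comp, ← Spec.map_comp]
          rfl
        rw [← Sieve.pullback_comp, e, Sieve.pullback_comp]
        exact (TopT.J F).pullback_stable _ (ih J' hlt)
      · change R.arrows (pullback.fst ρ f ≫ ρ)
        rw [pullback.condition]
        exact R.downward_closed hR _
  haveI : IsIso (CommRingCat.ofHom (Ideal.Quotient.mk (⊥ : Ideal A))) :=
    inferInstanceAs (IsIso (RingEquiv.quotientBot A).symm.toCommRingCatIso.hom)
  have h := (TopT.J F).pullback_stable (inv (Spec.map (CommRingCat.ofHom (Ideal.Quotient.mk (⊥ : Ideal A))))) (key ⊥)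
  rwa [← Sieve.pullback_comp, IsIso.inv_hom_id, Sieve.pullback_id] at h

theorem hTopology_le : HTop.hTopology ≤ TopT.J F := by
  refine Precoverage.toGrothendieck_le_iff_le_toPrecoverage.2 fun Z R hR => ?_
  rw [GrothendieckTopology.mem_toPrecoverage_iff]
  obtain ⟨E, rfl⟩ := R.exists_eq_preZeroHypercover
  have hE : HTop.IsHCover E := (HTop.presieve₀_mem_hPrecoverage_iff E).1 hR
  let 𝒰 := Z.openCoverOfIsOpenCover (fun U : Z.affineOpens => U.1) (iSup_affineOpens_eq_top Z)
  refine (TopT.J F).transitive (TopT.zariski_le hz _ (Precoverage.generate_mem_toGrothendieck 𝒰.mem₀)) _ ?_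
  rintro W h ⟨_, k, _, ⟨U⟩, rfl⟩
  rw [Sieve.pullback_comp]
  refine (TopT.J F).pullback_stable k ?_
  let U' : Z.affineOpens := U
  haveI : IsAffine (U'.1 : Scheme.{u}) := U'.2
  obtain ⟨V, v, hv₁, hv₂, hv₃, hloc⟩ := PhRefine.exists_proper_of_isVCover (E := E.pullback₁ U'.1.ι)
    (fun i => by
      haveI := hE.1 i
      exact inferInstanceAs (LocallyOfFinitePresentation (pullback.fst U'.1.ι (E.f i))))
    (VCover.isVCover_pullback U'.1.ι hE.2)
  let T₀ := (U'.1 : Scheme.{u})
  let A : CommRingCat.{u} := Γ(T₀, ⊤)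
  obtain ⟨s, X₀, f₀, g, hf₀, hf₀', hpb⟩ := H8Lim.exists_noetherian_model_proper (R := A) (v ≫ T₀.isoSpec.hom)
  haveI : IsNoetherianRing (CommRingCat.of (H8Lim.fgSub A s)) :=
    isNoetherianRing_of_fg (R := ℤ) ⟨s, rfl⟩
  haveI : Surjective f₀ := ⟨fun y => by
    let inc : Spec A ⟶ Spec (CommRingCat.of (H8Lim.fgSub A s)) :=
      Spec.map (CommRingCat.ofHom (H8Lim.fgSub A s).val.toRingHom)
    haveI : IsDominant inc := ⟨(PrimeSpectrum.denseRange_comap_iff_ker_le_nilRadical (H8Lim.fgSub A s).val.toRingHom).2 (by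
      rw [(RingHom.injective_iff_ker_eq_bot (H8Lim.fgSub A s).val.toRingHom).1 Subtype.val_injective]; exact bot_le)⟩
    have hsub : Set.range inc ⊆ Set.range f₀ := by
      rintro _ ⟨x, rfl⟩
      obtain ⟨p, rfl⟩ := (v ≫ T₀.isoSpec.hom).surjective x
      exact ⟨g p, congr($(hpb.w) p)⟩
    exact (f₀.isClosedMap.isClosed_range.closure_subset_iff.2 hsub) (inc.denseRange y)⟩
  have h₀ := (TopT.J F).pullback_stable (T₀.isoSpec.hom ≫ Spec.map (CommRingCat.ofHom (H8Lim.fgSub A s).val.toRingHom))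
    (mem_J_of_noetherian hz hflat hsq f₀ (Sieve.generate (Presieve.singleton f₀)) (Sieve.le_generate _ _ _ (Presieve.singleton_self _)))
  refine (TopT.J F).transitive h₀ _ ?_
  rintro W' h' ⟨_, l, _, ⟨⟩, hl⟩
  obtain ⟨q, rfl⟩ : ∃ q : W' ⟶ V, q ≫ v = h' :=
    ⟨hpb.lift l (h' ≫ T₀.isoSpec.hom) (by rw [hl, Category.assoc]), by
      rw [← cancel_mono T₀.isoSpec.hom, Category.assoc, hpb.lift_snd]⟩
  rw [Sieve.pullback_comp]
  refine (TopT.J F).pullback_stable q ?_
  choose i O a hxO ha using hloc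
  let 𝒱 := V.openCoverOfIsOpenCover O (by
    rw [IsOpenCover, eq_top_iff]
    exact fun x _ => Opens.mem_iSup.2 ⟨x, hxO x⟩)
  refine (TopT.J F).superset_covering ?_ (TopT.zariski_le hz _ (Precoverage.generate_mem_toGrothendieck 𝒱.mem₀))
  rw [Sieve.generate_le_iff]
  rintro W'' h'' ⟨x⟩
  refine ⟨_, a x ≫ pullback.snd U'.1.ι (E.f (i x)), E.f (i x), ⟨i x⟩, ?_⟩
  rw [Category.assoc, ← pullback.condition]
  exact ((Category.assoc _ _ _).symm.trans (congrArg (· ≫ U'.1.ι) (ha x))).trans (Category.assoc _ _ _)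

theorem isSheaf_Jh : Presieve.IsSheaf (HTop.Jh S) F :=
  Presieve.isSheaf_of_le F (TopT.le_T_of_hTopology_le (hTopology_le hz hflat hsq))
    (Sheaf.sheaf_for_finestTopology _ (Set.mem_singleton F))

omit hz hflat hsq in
/-- The conditions hold for sheaves on the big h site. -/
theorem conds_of_isSheaf_Jh (h : Presieve.IsSheaf (HTop.Jh S) F) :
    Presieve.IsSheaf (Scheme.zariskiTopology.over S) F ∧
      (∀ (X Y : Over S) (f : X ⟶ Y), IsAffine Y.left → Surjective f.left → Flat f.left → IsProper f.left →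
        LocallyOfFinitePresentation f.left → Presieve.IsSheafFor F (Presieve.singleton f)) ∧
      ∀ (E Z X' X : Over S) (e : E ⟶ X') (π : E ⟶ Z) (b : X' ⟶ X) (i : Z ⟶ X),
        HTop.IsAlmostBlowUpSquare e.left π.left b.left i.left →
        ∀ (t : F.obj (op Z)) (s' : F.obj (op X')), F.map π.op t = F.map e.op s' →
          ∃! s : F.obj (op X), F.map i.op s = t ∧ F.map b.op s = s' := by
  obtain ⟨h1, h2⟩ := (HCrit.isSheaf_Jh_iff F).1 h
  exact ⟨h1, fun X Y f hY hs _ hp hl => h2 Y X f hY hp hs hl,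
    fun E Z X' X e π b i hsq t s' hts => Square.existsUnique_of_square h e π b i hsq t s' hts⟩

end Groth.Agent.HTop16.BlowCrit
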