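import Groth.Agent.SiteCoh.CechAcyclic
import Groth.Agent.SiteCoh.SieveCohomology

/-!
# Cech cohomology of a family is the cohomology of its sieve in presheaves
-/

set_option autoImplicit false

universe w v u₁ u

open CategoryTheory CategoryTheory.Limits CategoryTheory.Abelian Opposite

namespace Groth.Agent.HTop16.CechSieve

open Groth.Agent.SiteCoh

section

variable {A : Type u₁} [Category.{v} A] [Abelian A] [HasExt.{w} A]

/-- The connecting map on morphisms. -/
noncomputable def homDelta (X : A) {S : ShortComplex A} (hS : S.ShortExact) :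
    (X ⟶ S.X₃) →+ Ext X S.X₁ 1 :=
  (hS.extClass.postcomp X (zero_add 1)).comp
    (Ext.addEquiv₀ (X := X) (Y := S.X₃)).symm.toAddMonoidHom

/-- First Ext as a quotient of morphisms. -/
noncomputable def homQuotientEquiv (X : A) {S : ShortComplex A} (hS : S.ShortExact)
    (h : Subsingleton (Ext X S.X₂ 1)) :
    (X ⟶ S.X₃) ⧸ (Preadditive.rightComp X S.g).range ≃+ Ext X S.X₁ 1 :=
  (QuotientAddGroup.quotientAddEquivOfEq (AddSubgroup.ext fun a => by
    change (∃ b, b ≫ S.g = a) ↔ (Ext.mk₀ a).comp hS.extClass (zero_add 1) = 0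
    constructor
    · rintro ⟨b, rfl⟩
      rw [← Ext.mk₀_comp_mk₀, Ext.comp_assoc_of_second_deg_zero, hS.comp_extClass, Ext.comp_zero]
    · intro h0
      obtain ⟨y, hy⟩ := Ext.covariant_sequence_exact₃ X hS (Ext.mk₀ a) (zero_add 1) h0
      obtain ⟨g, rfl⟩ := (Ext.mk₀_bijective X S.X₂).2 y
      rw [Ext.mk₀_comp_mk₀] at hy
      exact ⟨g, (Ext.mk₀_bijective X S.X₃).1 hy⟩)).trans
    (QuotientAddGroup.quotientKerEquivOfSurjective (homDelta X hS) fun x => by
      obtain ⟨y, rfl⟩ := Ext.covariant_sequence_exact₁ X hS x (@Subsingleton.elim _ h _ _) (zero_add 1)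
      obtain ⟨f, rfl⟩ := (Ext.mk₀_bijective X S.X₃).2 y
      exact ⟨f, rfl⟩)

end

variable {C : Type u} [SmallCategory C]

lemma surjective_sections_bot {F G : Sheaf (⊥ : GrothendieckTopology C) AddCommGrpCat.{u}}
    (g : F ⟶ G) [Epi g] (V : C) : Function.Surjective (g.hom.app (op V)) := by
  intro x
  obtain ⟨S, hS, h⟩ := exists_local_lift g x
  have hS' : S = ⊤ := GrothendieckTopology.bot_covering.1 hS
  obtain ⟨y, hy⟩ := h (𝟙 V) (hS' ▸ trivial)
  exact ⟨y, hy.trans (ConcreteCategory.congr_hom (G.obj.map_id _) x)⟩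

section Gen

/-- A sieve as a sheaf of sets for the trivial topology. -/
abbrev sieveSheaf {X : C} (R : Sieve X) : Sheaf (⊥ : GrothendieckTopology C) (Type u) :=
  ⟨R.functor, Presheaf.isSheaf_bot _⟩

variable {L : Sheaf (⊥ : GrothendieckTopology C) (Type u) ⥤
    Sheaf (⊥ : GrothendieckTopology C) AddCommGrpCat.{u}}
  (adj : L ⊣ sheafCompose (⊥ : GrothendieckTopology C) (forget AddCommGrpCat.{u}))
  (K : Sheaf (⊥ : GrothendieckTopology C) (Type u))

/-- The generator attached to an element. -/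
noncomputable def genOf (V : C) (x : K.obj.obj (op V)) : (L.obj K).obj.obj (op V) :=
  (adj.unit.app K).hom.app (op V) x

lemma map_genOf {V W : C} (k : W ⟶ V) (x : K.obj.obj (op V)) :
    (L.obj K).obj.map k.op (genOf adj K V x) = genOf adj K W (K.obj.map k.op x) :=
  (ConcreteCategory.congr_hom ((adj.unit.app K).hom.naturality k.op) x).symm

variable {F : Sheaf (⊥ : GrothendieckTopology C) AddCommGrpCat.{u}}

lemma homEquiv_genOf (φ : L.obj K ⟶ F) (V : C) (x : K.obj.obj (op V)) :
    (adj.homEquiv K F φ).hom.app (op V) x = φ.hom.app (op V) (genOf adj K V x) := by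
  rw [Adjunction.homEquiv_unit]
  rfl

lemma hom_ext_genOf {φ φ' : L.obj K ⟶ F}
    (h : ∀ V x, φ.hom.app (op V) (genOf adj K V x) = φ'.hom.app (op V) (genOf adj K V x)) :
    φ = φ' := by
  refine (adj.homEquiv K F).injective (InducedCategory.hom_ext (NatTrans.ext (funext fun V => ?_)))
  refine ConcreteCategory.hom_ext _ _ fun x => ?_
  exact (homEquiv_genOf adj K φ V.unop x).trans
    ((h V.unop x).trans (homEquiv_genOf adj K φ' V.unop x).symm)

lemma exists_hom_genOf (τ : K ⟶ (sheafCompose _ (forget AddCommGrpCat.{u})).obj F) :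
    ∃ φ : L.obj K ⟶ F, ∀ V x, φ.hom.app (op V) (genOf adj K V x) = τ.hom.app (op V) x :=
  ⟨(adj.homEquiv K F).symm τ, fun V x => by
    rw [← homEquiv_genOf adj K, Equiv.apply_symm_apply]⟩

variable {X : C} (R : Sieve X)

/-- The free sheaf on a sieve. -/
noncomputable abbrev FS : Sheaf (⊥ : GrothendieckTopology C) AddCommGrpCat.{u} :=
  (Sheaf.composeAndSheafify (⊥ : GrothendieckTopology C) AddCommGrpCat.free.{u}).obj (sieveSheaf R)

/-- The generator attached to an arrow of a sieve. -/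
noncomputable def gen (V : C) (g : V ⟶ X) (hg : R g) : (FS R).obj.obj (op V) :=
  genOf (freeShAdj (⊥ : GrothendieckTopology C)) (sieveSheaf R) V ⟨g, hg⟩

omit K adj in
lemma gen_congr {V : C} {g g' : V ⟶ X} (hg : R g) (hg' : R g') (h : g = g') :
    gen R V g hg = gen R V g' hg' := by
  subst h; rfl

omit K adj in
lemma map_gen {V W : C} (k : W ⟶ V) (g : V ⟶ X) (hg : R g) :
    (FS R).obj.map k.op (gen R V g hg) = gen R W (k ≫ g) (R.downward_closed hg k) :=
  map_genOf (freeShAdj (⊥ : GrothendieckTopology C)) (sieveSheaf R) k ⟨g, hg⟩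

omit K adj in
lemma hom_ext_gen {φ φ' : FS R ⟶ F}
    (h : ∀ V g hg, φ.hom.app (op V) (gen R V g hg) = φ'.hom.app (op V) (gen R V g hg)) :
    φ = φ' :=
  hom_ext_genOf (freeShAdj (⊥ : GrothendieckTopology C)) (sieveSheaf R)
    fun V x => h V x.1 x.2

omit K adj in
lemma exists_hom_gen (t : ∀ (V : C) (g : V ⟶ X), R g → F.obj.obj (op V))
    (ht : ∀ (V W : C) (k : W ⟶ V) (g : V ⟶ X) (hg : R g),
      F.obj.map k.op (t V g hg) = t W (k ≫ g) (R.downward_closed hg k)) :
    ∃ φ : FS R ⟶ F, ∀ V g hg, φ.hom.app (op V) (gen R V g hg) = t V g hg := by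
  obtain ⟨φ, hφ⟩ := exists_hom_genOf (freeShAdj (⊥ : GrothendieckTopology C)) (sieveSheaf R)
    (F := F) ⟨{ app := fun V => TypeCat.ofHom fun g => t V.unop g.1 g.2
                naturality := fun V W k => by
                  ext g
                  exact (ht V.unop W.unop k.unop g.1 g.2).symm }⟩
  exact ⟨φ, fun V g hg => hφ V ⟨g, hg⟩⟩

end Gen

section Family

variable {E : Type u} [SmallCategory E] [HasFiniteProducts E] (G : E ⥤ C) {X : C} {ι : Type u}
  (W : ι → E) (π : ∀ i, G.obj (W i) ⟶ X)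

/-- The sieve generated by a family. -/
abbrev fam : Sieve X := Sieve.ofArrows (fun i => G.obj (W i)) π

omit [HasFiniteProducts E] in
lemma mem_fam {Z : E} {i : ι} (f : Z ⟶ W i) : fam G W π (G.map f ≫ π i) :=
  (fam G W π).downward_closed (Sieve.ofArrows_mk _ _ i) _

/-- Cohomology of the free sheaf on the sieve in degree zero maps to zero cochains. -/
noncomputable def aug (F : Sheaf (⊥ : GrothendieckTopology C) AddCommGrpCat.{u}) :
    AddCommGrpCat.of (FS (fam G W π) ⟶ F) ⟶ (Cech.cx (pullPsh G F) W).X 0 :=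
  AddCommGrpCat.ofHom (AddMonoidHom.mk'
    (fun φ => Cech.mk _ W fun a => φ.hom.app (op (G.obj (Cech.inter W a)))
      (gen (fam G W π) _ _ (mem_fam G W π (Pi.π (fun k => W (a k)) 0))))
    fun _ _ => Cech.mk_add W _ _ _ _ fun _ => rfl)

lemma ev_aug (F : Sheaf (⊥ : GrothendieckTopology C) AddCommGrpCat.{u})
    (φ : FS (fam G W π) ⟶ F) (a : Fin 1 → ι) :
    Cech.ev (pullPsh G F) W a (aug G W π F φ) =
      φ.hom.app (op (G.obj (Cech.inter W a)))
        (gen (fam G W π) _ _ (mem_fam G W π (Pi.π (fun k => W (a k)) 0))) :=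
  Cech.ev_mk ..

lemma val_aug (F : Sheaf (⊥ : GrothendieckTopology C) AddCommGrpCat.{u})
    (φ : FS (fam G W π) ⟶ F) {Z : E} (t : Fin 1 → (i : ι) × (Z ⟶ W i)) :
    Cech.val (pullPsh G F) W (aug G W π F φ) t =
      φ.hom.app (op (G.obj Z)) (gen (fam G W π) _ _ (mem_fam G W π (t 0).2)) := by
  rw [Cech.val, ev_aug]
  refine (NatTrans.naturality_apply φ.hom _ _).symm.trans (congrArg (φ.hom.app _) ?_)
  refine (map_gen (fam G W π) _ _ _).trans (gen_congr _ _ _ ?_)
  rw [← Category.assoc, ← G.map_comp]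
  exact congrArg (fun m => G.map m ≫ π (t 0).1) (Pi.lift_π _ _)

lemma aug_naturality {F F' : Sheaf (⊥ : GrothendieckTopology C) AddCommGrpCat.{u}} (f : F ⟶ F') :
    AddCommGrpCat.ofHom (Preadditive.rightComp (FS (fam G W π)) f) ≫ aug G W π F' =
      aug G W π F ≫ (Cech.cxMap W (Functor.whiskerLeft G.op f.hom)).f 0 := by
  ext φ
  refine Cech.ext _ W fun a => (ev_aug G W π F' _ a).trans ?_
  exact ((Cech.ev_map W (Functor.whiskerLeft G.op f.hom) _ a).trans
    (congrArg ((Functor.whiskerLeft G.op f.hom).app _) (ev_aug G W π F φ a))).symm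

variable (hcomm : ∀ (Z : E) i j (f : Z ⟶ W i) (g : Z ⟶ W j), G.map f ≫ π i = G.map g ≫ π j)
include hcomm

lemma aug_d (F : Sheaf (⊥ : GrothendieckTopology C) AddCommGrpCat.{u}) :
    aug G W π F ≫ (Cech.cx (pullPsh G F) W).d 0 1 = 0 := by
  ext φ
  refine Cech.ext _ W fun a => ?_
  rw [ConcreteCategory.comp_apply, Cech.ev_eq_val_taut, Cech.val_d, Fin.sum_univ_two, val_aug,
    val_aug]
  simp only [Fin.val_zero, pow_zero, one_zsmul, Fin.val_one, pow_one, neg_smul]
  rw [gen_congr (fam G W π) (mem_fam G W π _) (mem_fam G W π _) (hcomm (Cech.inter W a) _ _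
    ((Cech.taut W a ∘ (0 : Fin 2).succAbove) 0).2 ((Cech.taut W a ∘ (1 : Fin 2).succAbove) 0).2),
    add_neg_cancel]
  exact (map_zero (Cech.ev (pullPsh G F) W a)).symm

variable (hpair : ∀ (Z : C) i j (f : Z ⟶ G.obj (W i)) (g : Z ⟶ G.obj (W j)), f ≫ π i = g ≫ π j →
    ∃ (Z' : E) (e : Z ⟶ G.obj Z') (f' : Z' ⟶ W i) (g' : Z' ⟶ W j),
      e ≫ G.map f' = f ∧ e ≫ G.map g' = g)
include hpair

omit hcomm in
lemma map_val_eq (F : Sheaf (⊥ : GrothendieckTopology C) AddCommGrpCat.{u})
    (c : (Cech.cx (pullPsh G F) W).X 0)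
    (hc : (Cech.cx (pullPsh G F) W).d 0 1 c = 0) {Z : C} {i j : ι}
    (f : Z ⟶ G.obj (W i)) (g : Z ⟶ G.obj (W j)) (h : f ≫ π i = g ≫ π j) :
    F.obj.map f.op (Cech.val (pullPsh G F) W c (fun _ => ⟨i, 𝟙 (W i)⟩)) =
      F.obj.map g.op (Cech.val (pullPsh G F) W c (fun _ => ⟨j, 𝟙 (W j)⟩)) := by
  obtain ⟨Z', z, f', g', rfl, rfl⟩ := hpair Z i j f g h
  have := Cech.val_d (pullPsh G F) W c
    (Fin.cons ⟨j, g'⟩ fun _ : Fin 1 => (⟨i, f'⟩ : (i : ι) × (Z' ⟶ W i)))
  rw [hc, Fin.sum_univ_two] at this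
  simp only [Fin.val_zero, pow_zero, one_zsmul, Fin.val_one, pow_one, neg_smul, Cech.val,
    map_zero] at this
  have h' := eq_of_sub_eq_zero ((sub_eq_add_neg _ _).trans this.symm)
  rw [op_comp, F.obj.map_comp, ConcreteCategory.comp_apply, op_comp, F.obj.map_comp,
    ConcreteCategory.comp_apply]
  refine congrArg (F.obj.map z.op) ?_
  refine (Cech.map_val (pullPsh G F) W c f' _).trans
    (Eq.trans ?_ (Cech.map_val (pullPsh G F) W c g' _).symm)
  simp only [Category.comp_id]
  refine Eq.trans ?_ (h'.trans ?_)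
  · exact congrArg (Cech.val (pullPsh G F) W c) (funext fun k => by fin_cases k; rfl)
  · exact congrArg (Cech.val (pullPsh G F) W c) (funext fun k => by fin_cases k; rfl)

lemma isIso_aug_lift (F : Sheaf (⊥ : GrothendieckTopology C) AddCommGrpCat.{u}) :
    IsIso ((Cech.cx (pullPsh G F) W).liftCycles (aug G W π F) 1 (by simp)
      (aug_d G W π hcomm F)) := by
  rw [CochainComplex.isIso_liftCycles_iff]
  constructor
  · rw [ShortComplex.ab_exact_iff]
    intro (c : (Cech.cx (pullPsh G F) W).X 0) (hc : (Cech.cx (pullPsh G F) W).d 0 1 c = 0)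
    choose idx l hl using fun (V : C) (g : V ⟶ X) (hg : fam G W π g) =>
      (Sieve.mem_ofArrows_iff _ _ _).1 hg
    let t : ∀ (V : C) (g : V ⟶ X), fam G W π g → F.obj.obj (op V) := fun V g hg =>
      F.obj.map (l V g hg).op (Cech.val (pullPsh G F) W c (fun _ => ⟨idx V g hg, 𝟙 _⟩))
    obtain ⟨φ, hφ⟩ := exists_hom_gen (F := F) (fam G W π) t fun V V' k g hg => by
      refine Eq.trans ?_ (map_val_eq G W π hpair F c hc (k ≫ l V g hg) _ (by
        rw [← hl, Category.assoc, ← hl]))
      rw [op_comp, F.obj.map_comp, ConcreteCategory.comp_apply]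
    refine ⟨φ, Cech.ext _ W fun a => (ev_aug G W π F φ a).trans ?_⟩
    rw [hφ]
    refine (map_val_eq G W π hpair F c hc _ (G.map (Pi.π (fun k => W (a k)) 0)) (hl ..).symm).trans
      ?_
    refine (Cech.map_val (pullPsh G F) W c _ _).trans ?_
    refine Eq.trans ?_ (Cech.val_taut (pullPsh G F) W c a)
    exact congrArg (Cech.val (pullPsh G F) W c) (funext fun k => by
      fin_cases k; simp [Cech.taut])
  · refine (AddCommGrpCat.mono_iff_injective _).2 fun φ φ' h => hom_ext_gen _ fun V g hg => ?_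
    obtain ⟨i, l, hl⟩ := (Sieve.mem_ofArrows_iff _ _ _).1 hg
    have e : gen (fam G W π) V g hg = (FS (fam G W π)).obj.map l.op
        (gen (fam G W π) _ _ (mem_fam G W π (𝟙 (W i)))) := by
      rw [map_gen]
      exact gen_congr _ _ _ (by simp [hl])
    have := congrArg (fun c => Cech.val (pullPsh G F) W c (fun _ => ⟨i, 𝟙 (W i)⟩)) h
    have h2 := congrArg (F.obj.map l.op)
      ((val_aug G W π F φ fun _ => ⟨i, 𝟙 (W i)⟩).symm.trans
        (this.trans (val_aug G W π F φ' fun _ => ⟨i, 𝟙 (W i)⟩)))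
    rw [e]
    exact (NatTrans.naturality_apply φ.hom _ _).trans
      (h2.trans (NatTrans.naturality_apply φ'.hom _ _).symm)

/-- Cech cohomology in degree zero. -/
noncomputable def h0Iso (F : Sheaf (⊥ : GrothendieckTopology C) AddCommGrpCat.{u}) :
    AddCommGrpCat.of (FS (fam G W π) ⟶ F) ≅ (Cech.cx (pullPsh G F) W).homology 0 :=
  haveI := isIso_aug_lift G W π hcomm hpair F
  asIso ((Cech.cx (pullPsh G F) W).liftCycles (aug G W π F) 1 _ (aug_d G W π hcomm F)) ≪≫
    (Cech.cx (pullPsh G F) W).isoHomologyπ₀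

lemma h0Iso_naturality {F F' : Sheaf (⊥ : GrothendieckTopology C) AddCommGrpCat.{u}} (f : F ⟶ F') :
    AddCommGrpCat.ofHom (Preadditive.rightComp (FS (fam G W π)) f) ≫
        (h0Iso G W π hcomm hpair F').hom =
      (h0Iso G W π hcomm hpair F).hom ≫
        HomologicalComplex.homologyMap (Cech.cxMap W (Functor.whiskerLeft G.op f.hom)) 0 := by
  rw [← cancel_mono ((Cech.cx (pullPsh G F') W).isoHomologyπ₀.inv)]
  simp only [h0Iso, Iso.trans_hom, asIso_hom, Category.assoc, Iso.hom_inv_id, Category.comp_id,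
    CochainComplex.isoHomologyπ₀_inv_naturality, Iso.hom_inv_id_assoc]
  rw [← cancel_mono ((Cech.cx (pullPsh G F') W).iCycles 0)]
  simp only [Category.assoc, HomologicalComplex.cyclesMap_i, HomologicalComplex.liftCycles_i,
    HomologicalComplex.liftCycles_i_assoc]
  exact aug_naturality G W π f

/-- Cech cohomology of a presheaf is Ext out of the free presheaf on the sieve. -/
theorem nonempty_equiv_gen
    (hI : ∀ (I : Sheaf (⊥ : GrothendieckTopology C) AddCommGrpCat.{u}), Injective I → ∀ q,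
      IsZero ((Cech.cx (pullPsh G I) W).homology (q + 1)))
    (F : Sheaf (⊥ : GrothendieckTopology C) AddCommGrpCat.{u}) (p : ℕ) :
    Nonempty ((Cech.cx (pullPsh G F) W).homology p ≃+ Ext (FS (fam G W π)) F p) := by
  induction p generalizing F with
  | zero =>
    exact ⟨(h0Iso G W π hcomm hpair F).symm.addCommGroupIsoToAddEquiv.trans
      (Ext.addEquiv₀ (X := FS (fam G W π)) (Y := F)).symm⟩
  | succ p ih =>
    have hS := injEmbed_shortExact F
    have hInj : Injective (injEmbed F).X₂ := inferInstanceAs (Injective (Injective.under F))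
    have := hS.mono_f
    have := hS.epi_g
    obtain ⟨w, hK⟩ := Cech.shortExact_cxMap W
      (Functor.whiskerLeft G.op (injEmbed F).f.hom) (Functor.whiskerLeft G.op (injEmbed F).g.hom)
      (by ext Z x; exact sections_comp_eq_zero _ x)
      (fun a => sections_injective (injEmbed F).f _)
      (fun a => surjective_sections_bot (injEmbed F).g _)
      (fun a y hy => sections_exact hS _ y hy)
    cases p with
    | zero =>
      let δ' : AddCommGrpCat.of (FS (fam G W π) ⟶ (injEmbed F).X₃) ⟶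
          (Cech.cx (pullPsh G F) W).homology 1 :=
        (h0Iso G W π hcomm hpair _).hom ≫ hK.δ 0 1 rfl
      have hsur : Function.Surjective δ' := by
        intro y
        obtain ⟨z, hz⟩ := (ShortComplex.ab_exact_iff _).1 (hK.homology_exact₁ 0 1 rfl) y
          ((AddCommGrpCat.subsingleton_of_isZero (hI _ hInj 0)).elim _ _)
        obtain ⟨x, rfl⟩ := (AddCommGrpCat.epi_iff_surjective
          (h0Iso G W π hcomm hpair (injEmbed F).X₃).hom).1 inferInstance z
        exact ⟨x, hz⟩
      have hker : ∀ x, δ' x = 0 ↔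
          x ∈ (Preadditive.rightComp (FS (fam G W π)) (injEmbed F).g).range := by
        intro x
        constructor
        · intro hx
          obtain ⟨z, hz⟩ := (ShortComplex.ab_exact_iff _).1 (hK.homology_exact₃ 0 1 rfl)
            ((h0Iso G W π hcomm hpair (injEmbed F).X₃).hom x) hx
          obtain ⟨b, rfl⟩ := (AddCommGrpCat.epi_iff_surjective
            (h0Iso G W π hcomm hpair (injEmbed F).X₂).hom).1 inferInstance z
          exact ⟨b, (AddCommGrpCat.mono_iff_injective
            (h0Iso G W π hcomm hpair (injEmbed F).X₃).hom).1 inferInstance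
              ((ConcreteCategory.congr_hom
                (h0Iso_naturality G W π hcomm hpair (injEmbed F).g) b).trans hz)⟩
        · rintro ⟨b, rfl⟩
          refine (congrArg (hK.δ 0 1 rfl) (ConcreteCategory.congr_hom
            (h0Iso_naturality G W π hcomm hpair (injEmbed F).g) b)).trans ?_
          exact ConcreteCategory.congr_hom (hK.comp_δ 0 1 rfl) _
      exact ⟨((QuotientAddGroup.quotientKerEquivOfSurjective δ'.hom hsur).symm.trans
        (QuotientAddGroup.quotientAddEquivOfEq (AddSubgroup.ext fun a => hker a))).trans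
          (homQuotientEquiv _ hS (Ext.subsingleton_of_injective _ _ 0))⟩
    | succ q =>
      obtain ⟨e⟩ := ih (injEmbed F).X₃
      exact ⟨(hK.δIso (q + 1) (q + 2) rfl (hI _ hInj q) (hI _ hInj (q + 1))).symm.addCommGroupIsoToAddEquiv.trans
        (e.trans (extShiftEquiv hS (q + 1) (Ext.subsingleton_of_injective _ _ q)
          (Ext.subsingleton_of_injective _ _ (q + 1))))⟩

end Family

/-- Cech cohomology of a presheaf for a family over an object. -/
theorem nonempty_equiv [HasPullbacks C] {X : C} {ι : Type u} (Y : ι → Over X)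
    (F : Sheaf (⊥ : GrothendieckTopology C) AddCommGrpCat.{u}) (p : ℕ) :
    Nonempty ((Cech.cx (pullPsh (Over.forget X) F) Y).homology p ≃+
      Ext (FS (fam (Over.forget X) Y fun i => (Y i).hom)) F p) :=
  nonempty_equiv_gen (Over.forget X) Y (fun i => (Y i).hom)
    (fun Z i j f g => (Over.w f).trans (Over.w g).symm)
    (fun Z i j f g e => ⟨Over.mk (f ≫ (Y i).hom), 𝟙 Z, Over.homMk f rfl, Over.homMk g e.symm,
      Category.id_comp _, Category.id_comp _⟩)
    (fun I _ q => isZero_cechH_of_injective I Y q) F p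

end Groth.Agent.HTop16.CechSieve
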