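import Groth.Agent.HTop16.AWN
import Mathlib.FieldTheory.PerfectClosure

/-!
Absolutely weakly normal rings of prime characteristic are the perfect ones.
-/

set_option autoImplicit false

namespace Groth.Agent.HTop16

universe u

open UnivHomeo

variable {A : Type u} [CommRing A] {p : ℕ}

lemma awn_of_perfect (hp : p.Prime) (h0 : (p : A) = 0) (hb : Function.Bijective fun x : A => x ^ p) :
    HTop.IsAWNRing A := by
  haveI : IsReduced A := (isReduced_iff_pow_one_lt 2 one_lt_two).2 fun x hx => hb.1 (by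
    show x ^ p = 0 ^ p
    obtain ⟨q, hq⟩ : ∃ q, p = 2 + q := ⟨p - 2, by have := hp.two_le; omega⟩
    rw [hq, pow_add, hx, zero_mul, zero_pow (by omega)])
  have hinj : Function.Injective (toAwn A) := (injective_iff_map_eq_zero _).2 fun z hz =>
    IsReduced.eq_zero z (mem_nilradical.1 ((uh_toAwn A).2.2 hz))
  haveI : IsReduced (awn A) := isReduced_of_seminormal (isAWN_awn A).1
  have hw0 : (p : awn A) = 0 := by rw [← map_natCast (toAwn A), h0, map_zero]
  have hroot : ∀ b : awn A, b ^ p ∈ (toAwn A).range → b ∈ (toAwn A).range := by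
    rintro b ⟨a, ha⟩
    obtain ⟨c, rfl⟩ := hb.2 a
    exact ⟨c, eq_of_mul_pow_reduced hp (by rw [hw0, zero_mul, zero_mul]) (by rw [← map_pow, ← ha])⟩
  have hr : (toAwn A).range = ⊤ := by
    refine closed_comap_aux A le_rfl (fun b h2 h3 => hroot b ?_) (fun l hl b h1 h2 => ?_)
    · rcases Nat.even_or_odd p with ⟨k, hk⟩ | ⟨k, hk⟩
      · rw [hk, ← two_mul, pow_mul]; exact Subring.pow_mem _ h2 _
      · obtain ⟨j, rfl⟩ : ∃ j, k = j + 1 := ⟨k - 1, by have := hp.two_le; omega⟩
        rw [hk, show 2 * (j + 1) + 1 = 3 + 2 * j by ring, pow_add, pow_mul]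
        exact Subring.mul_mem _ h3 (Subring.pow_mem _ h2 _)
    · by_cases hlp : l = p
      · exact hroot b (hlp ▸ h2)
      · obtain ⟨a, c, hac⟩ := (Int.isCoprime_iff_gcd_eq_one (m := (l : ℤ)) (n := (p : ℤ))).2
          ((Nat.coprime_primes hl hp).2 hlp)
        have e : b = toAwn A (a : A) * ((l : awn A) * b) := by
          have h := congrArg (fun z : ℤ => ((z : awn A)) * b) hac
          simp only [Int.cast_add, Int.cast_mul, Int.cast_natCast, hw0, mul_zero, add_zero,
            Int.cast_one, one_mul] at h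
          rw [map_intCast, ← mul_assoc, h]
        rw [e]
        exact Subring.mul_mem _ ⟨_, rfl⟩ h1
  exact awn_of_equiv (RingEquiv.ofBijective (toAwn A) ⟨hinj, RingHom.range_eq_top.1 hr⟩).symm
    (isAWN_awn A)

lemma perfect_of_awn (hp : p.Prime) (h0 : (p : A) = 0) (h : HTop.IsAWNRing A) :
    Function.Bijective fun x : A => x ^ p := by
  obtain ⟨hr, -, hP⟩ := awn_iff.1 h
  haveI := hr
  refine ⟨fun x y hxy => eq_of_mul_pow_reduced hp (by rw [h0, zero_mul, zero_mul]) hxy, fun x => ?_⟩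
  obtain ⟨a, ha, -⟩ := hP p hp x 0 (by rw [h0, zero_pow hp.ne_zero, zero_mul])
  exact ⟨a, ha.symm⟩

/-- a universal homeomorphism to an absolutely weakly normal ring is an absolute weak normalization -/
lemma isRingAWN_of_uh_awn {W : Type u} [CommRing W] {φ : A →+* W} (hW : HTop.IsAWNRing W)
    (hφ : UH φ) : HTop.IsRingAWN φ := by
  haveI : IsReduced W := isReduced_of_seminormal hW.1
  haveI : IsReduced (awn A) := isReduced_of_seminormal (isAWN_awn A).1
  obtain ⟨χ, hχ, -⟩ := existsUnique_lift A hφ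
  let e := RingEquiv.ofBijective χ (bijective_of_awn hW (UH.of_comp hφ (hχ.symm ▸ uh_toAwn A)))
  refine ⟨(isUnivHomeo_iff φ).2 hφ, fun C _ ψ hψ => ?_⟩
  obtain ⟨Γ, hΓ, hu⟩ := existsUnique_lift A ((isUnivHomeo_iff ψ).1 hψ)
  refine ⟨e.symm.toRingHom.comp Γ, ?_, fun g hg => ?_⟩
  · show (e.symm.toRingHom.comp Γ).comp ψ = φ
    rw [RingHom.comp_assoc, hΓ, ← hχ, ← RingHom.comp_assoc]
    exact RingHom.ext fun a => e.symm_apply_apply (φ a)
  · have : χ.comp g = Γ := hu _ (by show (χ.comp g).comp ψ = _; rw [RingHom.comp_assoc, hg, hχ])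
    exact RingHom.ext fun c => e.injective ((RingHom.congr_fun this c).trans (e.apply_symm_apply _).symm)

end Groth.Agent.HTop16
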