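import Groth.Agent.HTop16.SiteStalkSpace
import Mathlib.CategoryTheory.Sites.LocallySurjective
import Mathlib.CategoryTheory.Adjunction.FullyFaithful
import Mathlib.Algebra.Homology.ShortComplex.ExactFunctor

/-!
# Modules along closed embeddings of ringed spaces

For a closed embedding with surjective map of structure sheaves the direct image of modules is exact
and fully faithful, with image the modules killed by the ideal.
-/

set_option autoImplicit false
set_option backward.isDefEq.respectTransparency false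
set_option backward.isDefEq.respectTransparency.types false
set_option linter.all false

universe u

open CategoryTheory CategoryTheory.Limits Opposite TopologicalSpace

namespace Groth.Agent.HTop16.ClosedPushMod

open SiteStalk

variable {Z X : TopCat.{u}} (i : Z ⟶ X)
  (O_Z : TopCat.Sheaf CommRingCat.{u} Z) (O_X : TopCat.Sheaf CommRingCat.{u} X)
  (c : O_X ⟶ ((TopologicalSpace.Opens.map i).sheafPushforwardContinuous CommRingCat.{u}
    (Opens.grothendieckTopology X) (Opens.grothendieckTopology Z)).obj O_Z)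

/-- The morphism of ringed sites. -/
noncomputable abbrev φ := ModSite.RMor.ofFlat (TopologicalSpace.Opens.map i) c

/-- A module killed by the ideal. -/
def Killed (G : ModSite.Mod O_X) : Prop :=
  ∀ (U : Opens X) (a : (ModSite.ringSh O_X).obj.obj (op U)),
    ((φ i O_Z O_X c).sharpR.hom.app (op U)).hom a = 0 → ∀ s : ModSite.sect G U, a • s = 0

theorem killed_push (F : ModSite.Mod O_Z) : Killed i O_Z O_X c ((φ i O_Z O_X c).push.obj F) :=
  fun U a ha s => by
    show ((φ i O_Z O_X c).sharpR.hom.app (op U)).hom a • (show ModSite.sect F ((Opens.map i).obj U) from s) = 0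
    rw [ha]
    exact zero_smul _ _

theorem killed_of_iso {G G' : ModSite.Mod O_X} (e : G ≅ G') (h : Killed i O_Z O_X c G) : Killed i O_Z O_X c G' :=
  fun U a ha s => by
    have hs : e.hom.val.app (op U) (e.inv.val.app (op U) s) = s :=
      ConcreteCategory.congr_hom (congrArg (fun k : G' ⟶ G' => k.val.app (op U)) e.inv_hom_id) s
    rw [← hs]
    exact ((map_smul (e.hom.val.app (op U)).hom a _).symm.trans
      (congrArg (fun t => (e.hom.val.app (op U)).hom t) (h U a ha _))).trans (map_zero _)

/-- Sections over the empty set vanish. -/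
lemma eq_zero_of_bot {F : ModSite.Mod O_Z} {W : Opens Z} (hW : ∀ z, z ∉ W) (s : ModSite.sect F W) : s = 0 := by
  have hs := (CategoryTheory.isSheaf_iff_isSheaf_of_type _ _).1
    ((Presheaf.isSheaf_iff_isSheaf_forget _ F.val.presheaf (forget AddCommGrpCat.{u})).1 F.isSheaf)
    (⊥ : Sieve W) (fun x hx => absurd hx (hW x))
  exact hs.isSeparatedFor.ext fun V g hg => False.elim hg

lemma one_eq_zero_of_bot {W : Opens Z} (hW : ∀ z, z ∉ W) : (1 : O_Z.obj.obj (op W)) = 0 :=
  eq_zero_of_bot O_Z (F := ModSite.unit O_Z) hW (1 : O_Z.obj.obj (op W))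

variable (hi : Topology.IsClosedEmbedding i)

include hi

lemma exists_opens (W : Opens Z) : ∃ U : Opens X, (Opens.map i).obj U = W := by
  obtain ⟨U, hU, hUW⟩ := hi.isEmbedding.isInducing.isOpen_iff.1 W.2
  exact ⟨⟨U, hU⟩, Opens.ext hUW⟩

lemma stalk_eq_zero {G : ModSite.Mod O_X} (hG : Killed i O_Z O_X c G) {x : X} (hx : x ∉ Set.range i)
    (m : ModSite.stalkAb (Opens.pointGrothendieckTopology x) G) : m = 0 := by
  obtain ⟨U, hU, s, rfl⟩ := exists_germ _ G m
  let V : Opens X := U ⊓ ⟨(Set.range i)ᶜ, hi.isClosed_range.isOpen_compl⟩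
  let j : V ⟶ U := homOfLE inf_le_left
  have hV : ∀ z, z ∉ (Opens.map i).obj V := fun z hz => hz.2 ⟨z, rfl⟩
  have h1 : ((φ i O_Z O_X c).sharpR.hom.app (op V)).hom (1 : (ModSite.ringSh O_X).obj.obj (op V)) = 0 := by
    rw [map_one]
    exact one_eq_zero_of_bot O_Z hV
  have h2 : (G.val.map j.op s : ModSite.sect G V) = 0 :=
    (one_smul _ _).symm.trans (hG V 1 h1 _)
  calc ModSite.germ (Opens.pointGrothendieckTopology x) G U hU s =
        ModSite.germ (Opens.pointGrothendieckTopology x) G V ⟨⟨hU.down.down, hx⟩⟩ (G.val.map j.op s) :=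
        (germ_res (Opens.pointGrothendieckTopology x) G j ⟨⟨hU.down.down, hx⟩⟩ s).symm
    _ = 0 := by rw [h2]; exact map_zero _

/-- From the stalk of a direct image to the stalk. -/
noncomputable def beta (F : ModSite.Mod O_Z) (z : Z) :
    ModSite.stalkAb (Opens.pointGrothendieckTopology (i z)) ((φ i O_Z O_X c).push.obj F) ⟶
      ModSite.stalkAb (Opens.pointGrothendieckTopology z) F :=
  (Opens.pointGrothendieckTopology (i z)).presheafFiberDesc
    (fun U h => (Opens.pointGrothendieckTopology z).toPresheafFiber ((Opens.map i).obj U) h (ModSite.toAb F).obj)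
    (fun U V g h => (Opens.pointGrothendieckTopology z).toPresheafFiber_w ((Opens.map i).map g) h (ModSite.toAb F).obj)

omit hi in
lemma beta_germ (F : ModSite.Mod O_Z) (z : Z) (U : Opens X)
    (h : (Opens.pointGrothendieckTopology (i z)).fiber.obj U) (s : ModSite.sect ((φ i O_Z O_X c).push.obj F) U) :
    (beta i O_Z O_X c F z).hom (ModSite.germ (Opens.pointGrothendieckTopology (i z)) _ U h s) =
      ModSite.germ (Opens.pointGrothendieckTopology z) F ((Opens.map i).obj U) h s := by
  show ((Opens.pointGrothendieckTopology (i z)).toPresheafFiber U h _ ≫ beta i O_Z O_X c F z).hom s = _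
  simp only [beta, GrothendieckTopology.Point.toPresheafFiber_presheafFiberDesc]
  rfl

theorem bijective_beta (F : ModSite.Mod O_Z) (z : Z) : Function.Bijective (beta i O_Z O_X c F z).hom := by
  constructor
  · rw [injective_iff_map_eq_zero]
    intro m hm
    obtain ⟨U, h, s, rfl⟩ := exists_germ _ _ m
    rw [beta_germ] at hm
    obtain ⟨W, g, w, -, hw⟩ := ((Opens.pointGrothendieckTopology z).toPresheafFiber_eq_iff'
      (P := (ModSite.toAb F).obj) ((Opens.map i).obj U) h s (0 : ModSite.sect F ((Opens.map i).obj U))).1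
      (hm.trans (map_zero _).symm)
    obtain ⟨U', hU'⟩ := exists_opens i hi W
    subst hU'
    let j : U ⊓ U' ⟶ U := homOfLE inf_le_left
    have hh : (Opens.pointGrothendieckTopology (i z)).fiber.obj (U ⊓ U') := ⟨⟨h.down.down, w.down.down⟩⟩
    have h0 : F.val.map ((Opens.map i).map j).op s = 0 := by
      have e : ((Opens.map i).map j) = (Opens.map i).map (homOfLE inf_le_right : U ⊓ U' ⟶ U') ≫ g := Subsingleton.elim _ _
      rw [e, op_comp]
      refine (ConcreteCategory.congr_hom ((ModSite.toAb F).obj.map_comp g.op _) s).trans ?_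
      refine (congrArg (fun t => ((ModSite.toAb F).obj.map _).hom t) hw).trans ?_
      simp
    refine (germ_res _ ((φ i O_Z O_X c).push.obj F) j hh s).symm.trans ?_
    refine (congrArg (ModSite.germ (Opens.pointGrothendieckTopology (i z)) ((φ i O_Z O_X c).push.obj F) (U ⊓ U') hh)
      (show _ = (0 : ModSite.sect ((φ i O_Z O_X c).push.obj F) (U ⊓ U')) from h0)).trans ?_
    exact map_zero _
  · intro m
    obtain ⟨W, w, s, rfl⟩ := exists_germ _ F m
    obtain ⟨U, hU⟩ := exists_opens i hi W
    subst hU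
    exact ⟨_, beta_germ i O_Z O_X c F z U w s⟩

variable (hc : Sheaf.IsLocallySurjective c)

include hc

/-- The map of stalks at a point of the closed subset. -/
noncomputable abbrev rz (z : Z) := stalkRingMap (φ i O_Z O_X c) (Opens.pointGrothendieckTopology z)
  (Opens.pointGrothendieckTopology (i z)) (opensPointIso i z)

theorem surjective_rz (z : Z) : Function.Surjective (stalkRingMap (φ i O_Z O_X c) (Opens.pointGrothendieckTopology z)
    (Opens.pointGrothendieckTopology (i z)) (opensPointIso i z)).hom := by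
  intro r
  obtain ⟨W, w, b, rfl⟩ := (Opens.pointGrothendieckTopology z).toPresheafFiber_jointly_surjective (P := O_Z.obj) r
  obtain ⟨U, hU⟩ := exists_opens i hi W
  subst hU
  haveI : Presheaf.IsLocallySurjective (Opens.grothendieckTopology X) c.hom := hc
  obtain ⟨V, g, ⟨a, ha⟩, hV⟩ := Presheaf.imageSieve_mem (Opens.grothendieckTopology X) c.hom b (i z) w.down.down
  refine ⟨ModSite.germRing (Opens.pointGrothendieckTopology (i z)) V ⟨⟨hV⟩⟩ a, ?_⟩
  refine (stalkRingMap_germ (φ i O_Z O_X c) (Opens.pointGrothendieckTopology z) (Opens.pointGrothendieckTopology (i z))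
    (opensPointIso i z) V ⟨⟨hV⟩⟩ a).trans ?_
  refine (congrArg (ModSite.germRing (Opens.pointGrothendieckTopology z) _ _) ha).trans ?_
  exact germRing_res (Opens.pointGrothendieckTopology z) O_Z ((Opens.map i).map g) ⟨⟨hV⟩⟩ b

omit hc

theorem ker_rz_kills {G : ModSite.Mod O_X} (hG : Killed i O_Z O_X c G) (z : Z)
    (r : ModSite.stalkRing (Opens.pointGrothendieckTopology (i z)) O_X)
    (hr : (stalkRingMap (φ i O_Z O_X c) (Opens.pointGrothendieckTopology z)
      (Opens.pointGrothendieckTopology (i z)) (opensPointIso i z)).hom r = 0)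
    (m : ModSite.stalkAb (Opens.pointGrothendieckTopology (i z)) G) : r • m = 0 := by
  obtain ⟨U, h, a, s, rfl, rfl⟩ := exists_germ_pair _ G r m
  rw [stalkRingMap_germ] at hr
  obtain ⟨W, g, w, -, hw⟩ := ((Opens.pointGrothendieckTopology z).toPresheafFiber_eq_iff'
    (P := O_Z.obj) ((Opens.map i).obj U) h (c.hom.app (op U) a) 0).1 (hr.trans (map_zero _).symm)
  obtain ⟨U', hU'⟩ := exists_opens i hi W
  subst hU'
  let j : U ⊓ U' ⟶ U := homOfLE inf_le_left
  have hh : (Opens.pointGrothendieckTopology (i z)).fiber.obj (U ⊓ U') := ⟨⟨h.down.down, w.down.down⟩⟩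
  have ha : ((φ i O_Z O_X c).sharpR.hom.app (op (U ⊓ U'))).hom (O_X.obj.map j.op a) = 0 := by
    refine (ConcreteCategory.congr_hom (c.hom.naturality j.op) a).trans ?_
    show (O_Z.obj.map ((Opens.map i).map j).op).hom (c.hom.app (op U) a) = 0
    have e : ((Opens.map i).map j) = (Opens.map i).map (homOfLE inf_le_right : U ⊓ U' ⟶ U') ≫ g := Subsingleton.elim _ _
    rw [e, op_comp]
    refine (ConcreteCategory.congr_hom (O_Z.obj.map_comp g.op _) _).trans ?_
    refine (congrArg (fun t => (O_Z.obj.map _).hom t) hw).trans ?_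
    simp
  refine Eq.trans ?_ ((congrArg (ModSite.germ (Opens.pointGrothendieckTopology (i z)) G (U ⊓ U') hh)
    (hG (U ⊓ U') _ ha (G.val.map j.op s))).trans (map_zero _))
  refine Eq.trans ?_ (ModSite.germ_smul _ G (U ⊓ U') hh (O_X.obj.map j.op a) (G.val.map j.op s)).symm
  exact congrArg₂ (fun x y => x • y) (germRing_res _ O_X j hh a).symm (germ_res _ G j hh s).symm

include hc

omit hi hc in
/-- Base change along a surjection killing the module. -/
lemma bijective_unit {R S : Type u} [CommRing R] [CommRing S] (r : R →+* S) (hr : Function.Surjective r)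
    (M : ModuleCat.{u} R) (hM : ∀ a, r a = 0 → ∀ m : M, a • m = 0) :
    Function.Bijective ((ModuleCat.extendRestrictScalarsAdj r).unit.app M).hom := by
  letI := r.toAlgebra
  let g := Function.surjInv hr
  have hg : ∀ b, r (g b) = b := Function.surjInv_eq hr
  have key : ∀ a b : R, r a = r b → ∀ m : M, a • m = b • m := fun a b h m => by
    rw [← sub_eq_zero, ← sub_smul]
    exact hM _ (by rw [map_sub, h, sub_self]) m
  let L : TensorProduct R S M →ₗ[R] M := TensorProduct.lift
    (LinearMap.mk₂ R (fun b m => g b • m)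
      (fun b b' m => by rw [← add_smul]; exact key _ _ (by rw [map_add, hg, hg, hg]) m)
      (fun a b m => by rw [← mul_smul]; exact key _ _ (by rw [map_mul, hg, hg]; rfl) m)
      (fun b m m' => smul_add _ _ _)
      (fun a b m => smul_comm _ _ _))
  constructor
  · refine Function.LeftInverse.injective (g := fun t => L t) fun m => ?_
    show L ((1 : S) ⊗ₜ[R] m) = m
    simp only [L, TensorProduct.lift.tmul, LinearMap.mk₂_apply]
    exact (key _ 1 (by rw [hg, map_one]) m).trans (one_smul R m)
  · intro t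
    change ∃ m : M, ((1 : S) ⊗ₜ[R] m) = (show TensorProduct R S M from t)
    induction (show TensorProduct R S M from t) using TensorProduct.induction_on with
    | zero => exact ⟨0, TensorProduct.tmul_zero _ _⟩
    | tmul b m =>
      refine ⟨g b • m, ?_⟩
      rw [← TensorProduct.smul_tmul, Algebra.smul_def, mul_one]
      exact congrArg (fun x => x ⊗ₜ[R] m) (hg b)
    | add a b ha hb =>
      obtain ⟨m, rfl⟩ := ha
      obtain ⟨n, rfl⟩ := hb
      exact ⟨m + n, TensorProduct.tmul_add _ _ _⟩

theorem isIso_unit {G : ModSite.Mod O_X} (hG : Killed i O_Z O_X c G) :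
    IsIso ((φ i O_Z O_X c).adj.unit.app G) := by
  refine isIso_of_stalks (Opens.isConservativeFamilyOfPoints_pointsGrothendieckTopology X) _ ?_
  rintro ⟨_, ⟨x⟩⟩
  rw [ConcreteCategory.isIso_iff_bijective]
  by_cases hx : x ∈ Set.range i
  · obtain ⟨z, rfl⟩ := hx
    let p := Opens.pointGrothendieckTopology z
    let q := Opens.pointGrothendieckTopology (i z)
    let F := (φ i O_Z O_X c).pull.obj G
    let e := (pullStalkIso (φ i O_Z O_X c) p q (opensPointIso i z)).app G
    have he : Function.Bijective e.hom.hom :=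
      (ConcreteCategory.isIso_iff_bijective e.hom).1 inferInstance
    have hu := bijective_unit _ (surjective_rz i O_Z O_X c hi hc z) ((stalkM q).obj G)
      (fun a ha m => ker_rz_kills i O_Z O_X c hi hG z a ha m)
    have hb := bijective_beta i O_Z O_X c hi F z
    have comp : ∀ m, e.hom.hom ((beta i O_Z O_X c F z).hom ((stalkM q).map ((φ i O_Z O_X c).adj.unit.app G) m)) =
        ((ModuleCat.extendRestrictScalarsAdj _).unit.app ((stalkM q).obj G)).hom m := by
      intro m
      obtain ⟨U, h, s, rfl⟩ := exists_germ q G m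
      refine (congrArg (fun t => e.hom.hom ((beta i O_Z O_X c F z).hom t))
        (stalkM_map_germ q ((φ i O_Z O_X c).adj.unit.app G) U h s)).trans ?_
      refine (congrArg e.hom.hom (beta_germ i O_Z O_X c F z U h _)).trans ?_
      exact pullStalkIso_germ (φ i O_Z O_X c) p q (opensPointIso i z) G h s
    refine ⟨fun a b hab => hu.1 ?_, fun t => ?_⟩
    · rw [← comp, ← comp, hab]
    · obtain ⟨m, hm⟩ := hu.2 (e.hom.hom ((beta i O_Z O_X c F z).hom t))
      exact ⟨m, hb.1 (he.1 ((comp m).trans hm))⟩
  · exact ⟨fun a b _ => (stalk_eq_zero i O_Z O_X c hi hG hx a).trans (stalk_eq_zero i O_Z O_X c hi hG hx b).symm,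
      fun t => ⟨0, (map_zero _).trans (stalk_eq_zero i O_Z O_X c hi (killed_push i O_Z O_X c _) hx t).symm⟩⟩

theorem isIso_counit (F : ModSite.Mod O_Z) : IsIso ((φ i O_Z O_X c).adj.counit.app F) := by
  haveI := isIso_unit i O_Z O_X c hi hc (killed_push i O_Z O_X c F)
  haveI hpush : IsIso ((φ i O_Z O_X c).push.map ((φ i O_Z O_X c).adj.counit.app F)) :=
    IsIso.of_isIso_fac_left ((φ i O_Z O_X c).adj.right_triangle_components F)
  haveI : IsIso ((SheafOfModules.toSheaf (ModSite.ringSh O_Z)).map ((φ i O_Z O_X c).adj.counit.app F)) := by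
    haveI : ∀ W : (Opens Z)ᵒᵖ, IsIso (((sheafToPresheaf _ _).map
        ((SheafOfModules.toSheaf (ModSite.ringSh O_Z)).map ((φ i O_Z O_X c).adj.counit.app F))).app W) := by
      intro W
      obtain ⟨U, hU⟩ := exists_opens i hi W.unop
      have e : W = op ((Opens.map i).obj U) := by rw [hU]
      subst e
      exact (inferInstance : IsIso (((sheafToPresheaf _ _).map ((SheafOfModules.toSheaf (ModSite.ringSh O_X)).map
        ((φ i O_Z O_X c).push.map ((φ i O_Z O_X c).adj.counit.app F)))).app (op U)))
    haveI := NatIso.isIso_of_isIso_app ((sheafToPresheaf _ _).map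
      ((SheafOfModules.toSheaf (ModSite.ringSh O_Z)).map ((φ i O_Z O_X c).adj.counit.app F)))
    exact isIso_of_reflects_iso _ (sheafToPresheaf _ _)
  exact isIso_of_reflects_iso _ (SheafOfModules.toSheaf (ModSite.ringSh O_Z))

theorem main :
    PreservesFiniteColimits (φ i O_Z O_X c).push ∧ (φ i O_Z O_X c).push.Full ∧ (φ i O_Z O_X c).push.Faithful ∧
      ∀ G, (φ i O_Z O_X c).push.essImage G ↔ Killed i O_Z O_X c G := by
  haveI := isIso_counit i O_Z O_X c hi hc
  haveI : IsIso (φ i O_Z O_X c).adj.counit := NatIso.isIso_of_isIso_app _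
  let ff := (φ i O_Z O_X c).adj.fullyFaithfulROfIsIsoCounit
  refine ⟨?_, ff.full, ff.faithful, fun G => ⟨fun ⟨F, ⟨e⟩⟩ => killed_of_iso i O_Z O_X c e (killed_push i O_Z O_X c F),
    fun hG => ⟨_, ⟨(@asIso _ _ _ _ _ (isIso_unit i O_Z O_X c hi hc hG)).symm⟩⟩⟩⟩
  haveI : (φ i O_Z O_X c).push.IsRightAdjoint := (φ i O_Z O_X c).adj.isRightAdjoint
  haveI : (φ i O_Z O_X c).pull.IsLeftAdjoint := (φ i O_Z O_X c).adj.isLeftAdjoint
  haveI : (φ i O_Z O_X c).push.Additive :=
    haveI : HasFiniteBiproducts (ModSite.Mod O_Z) := Abelian.hasFiniteBiproducts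
    Functor.additive_of_preserves_binary_products _
  haveI : (φ i O_Z O_X c).push.PreservesEpimorphisms := ⟨fun {F F'} g _ => by
    refine epi_of_stalks (Opens.isConservativeFamilyOfPoints_pointsGrothendieckTopology X) _ ?_
    rintro ⟨_, ⟨x⟩⟩
    rw [ModuleCat.epi_iff_surjective]
    intro t
    by_cases hx : x ∈ Set.range i
    · obtain ⟨z, rfl⟩ := hx
      obtain ⟨m, hm⟩ := (ModuleCat.epi_iff_surjective ((stalkM (Opens.pointGrothendieckTopology z)).map g)).1
        inferInstance ((beta i O_Z O_X c F' z).hom t)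
      obtain ⟨n, rfl⟩ := (bijective_beta i O_Z O_X c hi F z).2 m
      refine ⟨n, (bijective_beta i O_Z O_X c hi F' z).1 (Eq.trans ?_ hm)⟩
      obtain ⟨U, h, s, rfl⟩ := exists_germ _ _ n
      rw [stalkM_map_germ, beta_germ, beta_germ, stalkM_map_germ]
      rfl
    · exact ⟨0, (map_zero _).trans (stalk_eq_zero i O_Z O_X c hi (killed_push i O_Z O_X c F') hx t).symm⟩⟩
  haveI := Functor.preservesHomology_of_preservesEpis_and_kernels (φ i O_Z O_X c).push
  exact Functor.preservesFiniteColimits_of_preservesHomology _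

end Groth.Agent.HTop16.ClosedPushMod
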