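import Groth.Agent.CohColim.Inst
import Groth.Agent.SiteCoh.Criterion
import Groth.Agent.SiteCoh.Sections
import Groth.Agent.ToposFinLib.Eps
import Mathlib.CategoryTheory.Sites.IsSheafFor

/-!
# Cohomology on a collection with finite coverings commutes with filtered colimits
-/

set_option autoImplicit false
set_option backward.isDefEq.respectTransparency false
set_option backward.isDefEq.respectTransparency.types false
set_option linter.all false

universe u

open CategoryTheory CategoryTheory.Limits Opposite CategoryTheory.Abelian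

namespace Groth.Agent.HTop16.CollColim

open ToposFinLib

variable {C : Type u} [SmallCategory C] {J : GrothendieckTopology C} {Λ : Type u} [SmallCategory Λ] [IsFiltered Λ]
  (D : Λ ⥤ Sheaf J AddCommGrpCat.{u})

/-- Sections killed in the colimit are killed at a stage. -/
lemma eventually_zero {V : C} (hV : ToposFin.IsQCSite J V) (i : Λ) (x : (D.obj i).obj.obj (op V))
    (h : (colimit.ι D i).hom.app (op V) x = 0) : ∃ (j : Λ) (f : i ⟶ j), (D.map f).hom.app (op V) x = 0 := by
  let φ := (CohColim.freeShEpsIso V).hom ≫ (SiteCoh.homEquiv V (D.obj i)).symm x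
  have hφ : φ ≫ colimit.ι D i = 0 := by
    have e : (SiteCoh.homEquiv V (D.obj i)).symm x ≫ colimit.ι D i = 0 := by
      refine (SiteCoh.homEquiv V (colimit D)).injective ?_
      rw [SiteCoh.homEquiv_postcomp, AddEquiv.apply_symm_apply, map_zero, h]
    rw [Category.assoc, e, comp_zero]
  obtain ⟨j, f, hf⟩ := CohColim.hom_eventually_zero ((isQC_eps_iff V).2 hV) D i φ hφ
  refine ⟨j, f, ?_⟩
  rw [Category.assoc, ← comp_zero (f := (CohColim.freeShEpsIso V).hom), cancel_epi] at hf
  have := congrArg (SiteCoh.homEquiv V (D.obj j)) hf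
  rw [SiteCoh.homEquiv_postcomp, AddEquiv.apply_symm_apply, map_zero] at this
  exact this

/-- A section of the colimit locally comes from a stage. -/
lemma locally_stage {V : C} (x : (colimit D).obj.obj (op V)) :
    ∃ S ∈ J V, ∀ ⦃W : C⦄ (g : W ⟶ V), S g → ∃ (i : Λ) (z : (D.obj i).obj.obj (op W)),
      (colimit.ι D i).hom.app (op W) z = (colimit D).obj.map g.op x := by
  let T := sheafCompose J (forget AddCommGrpCat.{u})
  have hι : EFam (fun i => T.map (colimit.ι D i)) := fun Z a b h =>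
    (isColimitOfPreserves T (colimit.isColimit D)).hom_ext h
  exact ⟨_, (efam_iff_famSieve _).1 hι (op V) x, fun W g hg => hg⟩

lemma map_app_comp {i j k : Λ} (f : i ⟶ j) (g : j ⟶ k) (V : C) (z : (D.obj i).obj.obj (op V)) :
    (D.map (f ≫ g)).hom.app (op V) z = (D.map g).hom.app (op V) ((D.map f).hom.app (op V) z) := by
  rw [D.map_comp]
  rfl

lemma ι_app_map {i j : Λ} (f : i ⟶ j) (V : C) (z : (D.obj i).obj.obj (op V)) :
    (colimit.ι D j).hom.app (op V) ((D.map f).hom.app (op V) z) = (colimit.ι D i).hom.app (op V) z :=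
  congrArg (fun φ => φ.hom.app (op V) z) (colimit.w D f)

/-- Finitely many sections killed in the colimit die at one stage. -/
lemma eventually_zero_finite {κ : Type u} [Finite κ] (V : κ → C) (hV : ∀ a, ToposFin.IsQCSite J (V a)) (i : Λ)
    (x : ∀ a, (D.obj i).obj.obj (op (V a))) (h : ∀ a, (colimit.ι D i).hom.app (op (V a)) (x a) = 0) :
    ∃ (j : Λ) (f : i ⟶ j), ∀ a, (D.map f).hom.app (op (V a)) (x a) = 0 := by
  classical
  cases nonempty_fintype κ
  suffices H : ∀ s : Finset κ, ∃ (j : Λ) (f : i ⟶ j), ∀ a ∈ s, (D.map f).hom.app (op (V a)) (x a) = 0 by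
    obtain ⟨j, f, hf⟩ := H Finset.univ
    exact ⟨j, f, fun a => hf a (Finset.mem_univ a)⟩
  intro s
  induction s using Finset.induction_on with
  | empty => exact ⟨i, 𝟙 i, fun a ha => absurd ha (Finset.notMem_empty a)⟩
  | @insert a s ha ih =>
    obtain ⟨j, f, hf⟩ := ih
    obtain ⟨k, g, hg⟩ := eventually_zero D (hV a) j ((D.map f).hom.app (op (V a)) (x a))
      ((ι_app_map D f _ _).trans (h a))
    refine ⟨k, f ≫ g, fun b hb => ?_⟩
    rw [map_app_comp]
    rcases Finset.mem_insert.1 hb with rfl | hb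
    · exact hg
    · rw [hf b hb, map_zero]

variable [HasPullbacks C] (B : Set C) (Cov : ∀ (U : C) (ι : Type u), (ι → Over U) → Prop)
  (h1 : ∀ (U : C) (ι : Type u) (Y : ι → Over U), Cov U ι Y → Finite ι ∧ U ∈ B ∧
    Sieve.ofArrows (fun i => (Y i).left) (fun i => (Y i).hom) ∈ J U ∧
    ∀ (p : ℕ) (a : Fin (p + 1) → ι), (∏ᶜ fun k => Y (a k)).left ∈ B)
  (h2 : ∀ U ∈ B, ∀ T ∈ J U, ∃ (ι : Type u) (Y : ι → Over U), Cov U ι Y ∧ ∀ i, T.arrows (Y i).hom)

include h1 h2

lemma qc {U : C} (hU : U ∈ B) : ToposFin.IsQCSite J U := by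
  intro S hS
  obtain ⟨ι, Y, hY, hYS⟩ := h2 U hU S hS
  obtain ⟨hfin, -, hcov, -⟩ := h1 U ι Y hY
  obtain ⟨n, ⟨e⟩⟩ := Finite.exists_equiv_fin ι
  refine ⟨n, fun k => (Y (e.symm k)).left, fun k => (Y (e.symm k)).hom, fun k => hYS _, J.superset_covering ?_ hcov⟩
  intro W g hg
  obtain ⟨i, a, rfl⟩ := (Sieve.mem_ofArrows_iff _ _ _).1 hg
  have key : ∀ (i' : ι) (h : i = i'), (a ≫ eqToHom (by rw [h])) ≫ (Y i').hom = a ≫ (Y i).hom := by
    rintro i' rfl; simp
  exact (Sieve.mem_ofArrows_iff _ _ _).2 ⟨e i, _, (key _ (e.symm_apply_apply i).symm).symm⟩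

/-- Sections over a member of the collection come from a stage. -/
theorem exists_stage {U : C} (hU : U ∈ B) (x : (colimit D).obj.obj (op U)) :
    ∃ (i : Λ) (z : (D.obj i).obj.obj (op U)), (colimit.ι D i).hom.app (op U) z = x := by
  classical
  obtain ⟨S, hS, hloc⟩ := locally_stage D x
  obtain ⟨ι, Y, hY, hYS⟩ := h2 U hU S hS
  obtain ⟨hfin, -, hcov, hinter⟩ := h1 U ι Y hY
  choose i z hz using fun k => hloc (Y k).hom (hYS k)
  cases nonempty_fintype ι
  obtain ⟨m, hm⟩ := IsFiltered.sup_objs_exists (Finset.univ.image i)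
  let t : ∀ k, i k ⟶ m := fun k => (hm (Finset.mem_image_of_mem i (Finset.mem_univ k))).some
  let z' : ∀ k, (D.obj m).obj.obj (op (Y k).left) := fun k => (D.map (t k)).hom.app _ (z k)
  have hz' : ∀ k, (colimit.ι D m).hom.app _ (z' k) = (colimit D).obj.map (Y k).hom.op x := fun k =>
    (ι_app_map D (t k) _ _).trans (hz k)
  let V : (Fin 2 → ι) → C := fun a => (∏ᶜ fun n => Y (a n)).left
  let pr : ∀ (a : Fin 2 → ι) (n : Fin 2), V a ⟶ (Y (a n)).left := fun a n => (Pi.π (fun n => Y (a n)) n).left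
  have hd : ∀ a, (colimit.ι D m).hom.app (op (V a))
      ((D.obj m).obj.map (pr a 0).op (z' (a 0)) - (D.obj m).obj.map (pr a 1).op (z' (a 1))) = 0 := fun a => by
    have e : ∀ n, (colimit.ι D m).hom.app (op (V a)) ((D.obj m).obj.map (pr a n).op (z' (a n))) =
        (colimit D).obj.map (∏ᶜ fun n => Y (a n)).hom.op x := fun n => by
      rw [NatTrans.naturality_apply, hz', ← ConcreteCategory.comp_apply, ← Functor.map_comp, ← op_comp]
      rw [Over.w]
    rw [map_sub, e, e, sub_self]
  obtain ⟨m', f, hf⟩ := eventually_zero_finite D V (fun a => qc B Cov h1 h2 (hinter 1 a)) m _ hd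
  let w : ∀ k, (D.obj m').obj.obj (op (Y k).left) := fun k => (D.map f).hom.app _ (z' k)
  have hcomp : Presieve.Arrows.Compatible ((D.obj m').obj ⋙ forget _) (fun k => (Y k).hom) w := by
    intro k l Z gk gl h
    let a : Fin 2 → ι := ![k, l]
    let Z' : Over U := Over.mk (gk ≫ (Y k).hom)
    let q : ∀ n, Z' ⟶ Y (a n) := Fin.cases (Over.homMk gk rfl)
      (fun n => Fin.cases (Over.homMk gl h.symm) (fun n => n.elim0) n)
    let φ : Z ⟶ V a := (Pi.lift q).left
    have hφ : ∀ n, φ ≫ pr a n = (q n).left := fun n => by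
      change (Pi.lift q ≫ Pi.π (fun n => Y (a n)) n).left = _
      rw [Pi.lift_π]
    have := hf a
    rw [map_sub, sub_eq_zero, NatTrans.naturality_apply, NatTrans.naturality_apply] at this
    have h' := congrArg ((D.obj m').obj.map φ.op) this
    have e : ∀ (n : Fin 2) (v : (D.obj m').obj.obj (op (Y (a n)).left)),
        (D.obj m').obj.map φ.op ((D.obj m').obj.map (pr a n).op v) = (D.obj m').obj.map (q n).left.op v := fun n v => by
      rw [← ConcreteCategory.comp_apply, ← Functor.map_comp, ← op_comp, hφ]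
      rfl
    rw [e, e] at h'
    exact h'
  obtain ⟨y, hy, -⟩ := (Presieve.isSheafFor_arrows_iff _ _).1 ((Presieve.isSheafFor_iff_generate _).2
    (((isSheaf_iff_isSheaf_of_type _ _).1 ((sheafCompose J (forget AddCommGrpCat.{u})).obj (D.obj m')).property)
      _ hcov)) w hcomp
  refine ⟨m', y, ?_⟩
  refine (((isSheaf_iff_isSheaf_of_type _ _).1 ((sheafCompose J (forget AddCommGrpCat.{u})).obj (colimit D)).property)
    _ hcov).isSeparatedFor.ext fun W g hg => ?_
  obtain ⟨k, c, rfl⟩ := (Sieve.mem_ofArrows_iff _ _ _).1 hg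
  show (colimit D).obj.map (c ≫ (Y k).hom).op _ = (colimit D).obj.map (c ≫ (Y k).hom).op x
  rw [op_comp, Functor.map_comp, ConcreteCategory.comp_apply, ConcreteCategory.comp_apply]
  refine congrArg _ ?_
  rw [← NatTrans.naturality_apply, ← hz' k, ← ι_app_map D f _ (z' k)]
  exact congrArg _ (hy k)

open SiteCoh in
/-- Čech acyclicity passes to filtered colimits. -/
theorem isZero_cechH_colimit {U : C} {ι : Type u} (Y : ι → Over U) (hY : Cov U ι Y) (p : ℕ)
    (hD : ∀ i, IsZero (CohCx.cechH (D.obj i).obj Y (p + 1))) :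
    IsZero (CohCx.cechH (colimit D).obj Y (p + 1)) := by
  classical
  obtain ⟨hfin, -, -, hinter⟩ := h1 U ι Y hY
  refine (Cech.isZero_homology_succ_iff ((Over.forget U).op ⋙ (colimit D).obj) Y p).2 fun x hx => ?_
  let φ : ∀ i, (Over.forget U).op ⋙ (D.obj i).obj ⟶ (Over.forget U).op ⋙ (colimit D).obj := fun i =>
    Functor.whiskerLeft _ (colimit.ι D i).hom
  choose i z hz using fun a : Fin (p + 2) → ι =>
    exists_stage D B Cov h1 h2 (hinter (p + 1) a) (Cech.ev _ Y a x)
  cases nonempty_fintype ι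
  obtain ⟨m, hm⟩ := IsFiltered.sup_objs_exists (Finset.univ.image i)
  let t : ∀ a, i a ⟶ m := fun a => (hm (Finset.mem_image_of_mem i (Finset.mem_univ a))).some
  let y := Cech.mk ((Over.forget U).op ⋙ (D.obj m).obj) Y fun a => (D.map (t a)).hom.app _ (z a)
  have hy : Cech.map Y (φ m) y = x := Cech.ext _ Y fun a => by
    rw [Cech.ev_map, Cech.ev_mk]
    exact (ι_app_map D (t a) _ _).trans (hz a)
  let dy := (Cech.cx ((Over.forget U).op ⋙ (D.obj m).obj) Y).d (p + 1) (p + 2) y
  have hd : ∀ a : Fin (p + 3) → ι, (colimit.ι D m).hom.app (op (Cech.inter Y a).left) (Cech.ev _ Y a dy) = 0 :=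
    fun a => by
      have := Cech.map_d Y (φ m) y
      rw [hy, hx] at this
      have h' := congrArg (Cech.ev _ Y a) this
      rw [Cech.ev_map, map_zero] at h'
      exact h'
  obtain ⟨m', f, hf⟩ := eventually_zero_finite D (fun a : Fin (p + 3) → ι => (Cech.inter Y a).left)
    (fun a => qc B Cov h1 h2 (hinter (p + 2) a)) m _ hd
  let ψ : (Over.forget U).op ⋙ (D.obj m).obj ⟶ (Over.forget U).op ⋙ (D.obj m').obj :=
    Functor.whiskerLeft _ (D.map f).hom
  obtain ⟨w, hw⟩ := (Cech.isZero_homology_succ_iff ((Over.forget U).op ⋙ (D.obj m').obj) Y p).1 (hD m')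
    (Cech.map Y ψ y) (by
      rw [← Cech.map_d]
      exact Cech.ext _ Y fun a => by rw [Cech.ev_map, map_zero]; exact hf a)
  refine ⟨Cech.map Y (φ m') w, ?_⟩
  rw [← Cech.map_d, hw, ← hy]
  refine Cech.ext _ Y fun a => ?_
  rw [Cech.ev_map, Cech.ev_map, Cech.ev_map]
  exact ι_app_map D f _ _

omit D in
/-- Cohomology over a member of the collection commutes with filtered colimits. -/
theorem preservesColimit_H {U : C} (hU : U ∈ B) (p : ℕ) (F : Λ ⥤ Sheaf J AddCommGrpCat.{u}) :
    PreservesColimit F ((Sheaf.cohomologyPresheafFunctor J p).flip.obj (op U)) := by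
  have h₀ : ∀ G : Λ ⥤ Sheaf J AddCommGrpCat.{u},
      CohColim.ExtSurj (CohCx.freeSheaf J U) 0 G ∧ CohColim.ExtInj (CohCx.freeSheaf J U) 0 G := fun G =>
    CohColim.extSurj_and_extInj_zero G
      (fun a => by
        obtain ⟨i, z, hz⟩ := exists_stage G B Cov h1 h2 hU (SiteCoh.homEquiv U _ a)
        refine ⟨i, (SiteCoh.homEquiv U _).symm z, (SiteCoh.homEquiv U _).injective ?_⟩
        rw [SiteCoh.homEquiv_postcomp, AddEquiv.apply_symm_apply, hz])
      (fun i b hb => by
        obtain ⟨j, f, hf⟩ := eventually_zero G (qc B Cov h1 h2 hU) i (SiteCoh.homEquiv U _ b) (by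
          rw [← SiteCoh.homEquiv_postcomp, hb, map_zero])
        refine ⟨j, f, (SiteCoh.homEquiv U _).injective ?_⟩
        rw [SiteCoh.homEquiv_postcomp, hf, map_zero])
  have hac : ∀ G : Λ ⥤ Sheaf J AddCommGrpCat.{u}, (∀ i, Injective (G.obj i)) →
      ∀ q, Subsingleton (Ext (CohCx.freeSheaf J U) (colimit G) (q + 1)) := fun G hG q =>
    SiteCoh.subsingleton_HU_of_cech B Cov (fun V ι Y h => (h1 V ι Y h).2) h2 (colimit G)
      (fun V ι Y h r => isZero_cechH_colimit G B Cov h1 h2 Y h r fun i =>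
        haveI := hG i
        SiteCoh.isZero_cechH_of_injective (G.obj i) Y r) U hU q
  haveI := (CohColim.preservesColimitsOfShape_ext h₀ hac p).preservesColimit (K := F)
  exact preservesColimit_of_natIso F
    (NatIso.ofComponents (fun G => Iso.refl _) (fun f => (Category.comp_id _).trans (Category.id_comp _).symm) :
      (extFunctor.{u} p).obj (op (CohCx.freeSheaf J U)) ≅ (Sheaf.cohomologyPresheafFunctor J p).flip.obj (op U))

end Groth.Agent.HTop16.CollColim
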