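import Groth.Agent.HTop16.CompactBdd
import Mathlib.Algebra.Homology.DerivedCategory.Ext.ExactSequences
import Mathlib.Algebra.Homology.DerivedCategory.Ext.EnoughInjectives
import Mathlib.CategoryTheory.Abelian.Refinements
import Mathlib.CategoryTheory.Sites.SheafCohomology.Basic

/-!
# Objects of finite Ext dimension
-/

set_option autoImplicit false
set_option backward.isDefEq.respectTransparency false
set_option backward.defeqAttrib.useBackward true
set_option linter.all false

universe v u

open CategoryTheory CategoryTheory.Limits CategoryTheory.Pretriangulated DerivedCategory HomologicalComplex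
open CategoryTheory.Abelian

namespace Groth.Agent.HTop16.CompactBdd

variable {A : Type u} [Category.{v} A] [Abelian A]

/-- Cycles, terms, cycles. -/
noncomputable def cycSeq (I : CochainComplex A ℤ) (k k' : ℤ) : ShortComplex A :=
  ShortComplex.mk (I.iCycles k) (I.toCycles k k') (by rw [← cancel_mono (I.iCycles k')]; simp)

lemma cycSeq_shortExact (I : CochainComplex A ℤ) (k k' : ℤ) (hk : k + 1 = k') (hI : I.ExactAt k') :
    (cycSeq I k k').ShortExact := by
  haveI : Mono (cycSeq I k k').f := inferInstanceAs (Mono (I.iCycles k))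
  haveI : Epi (cycSeq I k k').g := by
    rw [epi_iff_surjective_up_to_refinements]
    intro Z z
    have hS := (I.exactAt_iff' k k' (k' + 1) (by simp [← hk]) (by simp)).1 hI
    obtain ⟨Z', p, hp, x, hx⟩ := hS.exact_up_to_refinements (z ≫ I.iCycles k')
      (by change (z ≫ I.iCycles k') ≫ I.d k' (k' + 1) = 0; simp)
    refine ⟨Z', p, hp, x, ?_⟩
    rw [← cancel_mono (I.iCycles k')]
    change (p ≫ z) ≫ I.iCycles k' = (x ≫ I.toCycles k k') ≫ I.iCycles k'
    simpa using hx
  refine { exact := ?_ }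
  rw [ShortComplex.exact_iff_exact_up_to_refinements]
  intro Z x hx
  have hx' : x ≫ I.d k k' = 0 := by
    have h := congrArg (fun z => z ≫ I.iCycles k') hx
    simpa [cycSeq] using h
  refine ⟨Z, 𝟙 Z, inferInstance, I.liftCycles x k' (by simp [← hk]) hx', ?_⟩
  simp [cycSeq]

variable [HasExt.{v} A] {P₀ : A} (d : ℕ) (hd : ∀ (F : A) (p : ℕ), d < p → Subsingleton (Ext P₀ F p))

include hd

lemma ext_cycles_eq_zero (I : CochainComplex A ℤ) (hinj : ∀ n, Injective (I.X n))
    (hI : ∀ k : ℤ, -(d : ℤ) ≤ k → I.ExactAt k) :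
    ∀ (r q : ℕ) (k : ℤ), 1 ≤ q → d + 1 ≤ q + r → (0 < r → -(d : ℤ) + r - 1 ≤ k) →
      ∀ x : Ext P₀ (I.cycles k) q, x = 0 := by
  intro r
  induction r with
  | zero =>
    intro q k _ hq _ x
    haveI := hd (I.cycles k) q (by omega)
    exact Subsingleton.elim x 0
  | succ r ih =>
    intro q k hq₁ hq hk x
    have hk' := hk (Nat.succ_pos r)
    have hse := cycSeq_shortExact I (k - 1) k (by omega) (hI k (by omega))
    have hδ : x.comp hse.extClass (rfl : q + 1 = q + 1) = 0 :=
      ih (q + 1) (k - 1) (by omega) (by omega) (fun _ => by omega) _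
    obtain ⟨y, hy⟩ := Ext.covariant_sequence_exact₃ P₀ hse x rfl hδ
    obtain ⟨q', rfl⟩ := Nat.exists_eq_add_of_le hq₁
    haveI : Injective (cycSeq I (k - 1) k).X₂ := hinj (k - 1)
    haveI : Injective (I.X (k - 1)) := hinj (k - 1)
    have key : ∀ (n : ℕ) (z : Ext P₀ (cycSeq I (k - 1) k).X₂ n), 1 ≤ n → z = 0 := fun n => by
      cases n with
      | zero => intro z h; omega
      | succ n => intro z _; exact Ext.eq_zero_of_injective z
    have hy0 : y = 0 := key _ y (by omega)
    rw [← hy, hy0, Ext.zero_comp]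

variable [IsGrothendieckAbelian.{v} A] [HasDerivedCategory.{v} A]

theorem hom_eq_zero_of_isLE (E : DerivedCategory A) [E.IsLE (-(d : ℤ) - 1)]
    (α : (singleFunctor A 0).obj P₀ ⟶ E) : α = 0 := by
  obtain ⟨I, s, hI, hs, -, hinj⟩ := DCat.exists_kInj_res (Q.objPreimage E)
  haveI := hI
  haveI := hs
  haveI : IsIso (Q.map s) := by rwa [isIso_Q_map_iff_quasiIso]
  let e : E ≅ Q.obj I := (Q.objObjPreimageIso E).symm ≪≫ asIso (Q.map s)
  have hex : ∀ k : ℤ, -(d : ℤ) ≤ k → I.ExactAt k := fun k hk => by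
    rw [exactAt_iff_isZero_homology]
    exact ((DerivedCategory.isZero_of_isLE E (-(d : ℤ) - 1) k (by omega)).of_iso
      ((homologyFunctor A k).mapIso e).symm).of_iso ((homologyFunctorFactors A k).symm.app I)
  let K := (CochainComplex.singleFunctor A 0).obj P₀
  let i₀ := (singleFunctorIsoCompQ A 0).app P₀
  let β : Q.obj K ⟶ Q.obj I := i₀.inv ≫ α ≫ e.hom
  obtain ⟨g', hg'⟩ := (CochainComplex.IsKInjective.Qh_map_bijective
    ((HomotopyCategory.quotient A (ComplexShape.up ℤ)).obj K) I).surjective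
    ((quotientCompQhIso A).hom.app K ≫ β ≫ (quotientCompQhIso A).inv.app I)
  obtain ⟨g, rfl⟩ := (HomotopyCategory.quotient A (ComplexShape.up ℤ)).map_surjective g'
  have hg : Q.map g = β := by
    have hn := (quotientCompQhIso A).hom.naturality g
    simp only [Functor.comp_map] at hn
    rw [hg'] at hn
    rw [← cancel_epi ((quotientCompQhIso A).hom.app K), ← hn]
    simp
  suffices H : Nonempty (Homotopy g 0) by
    obtain ⟨H⟩ := H
    have h0 : Q.map g = 0 := by
      have hq := HomotopyCategory.eq_of_homotopy g 0 H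
      rw [Functor.map_zero] at hq
      have hn := (quotientCompQhIso A).hom.naturality g
      simp only [Functor.comp_map] at hn
      rw [hq, Functor.map_zero, zero_comp] at hn
      exact (cancel_epi ((quotientCompQhIso A).hom.app K)).1 (hn.symm.trans comp_zero.symm)
    rw [hg] at h0
    rw [← cancel_mono e.hom, ← cancel_epi i₀.inv, zero_comp, comp_zero]
    exact h0
  let g₀ : P₀ ⟶ I.X 0 := (singleObjXSelf (ComplexShape.up ℤ) 0 P₀).inv ≫ g.f 0
  have hg₀ : g₀ ≫ I.d 0 1 = 0 := by
    rw [Category.assoc, g.comm]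
    change _ ≫ ((single A (ComplexShape.up ℤ) 0).obj P₀).d 0 1 ≫ _ = 0
    simp
  let x := I.liftCycles g₀ 1 (by simp) hg₀
  have hse := cycSeq_shortExact I (-1) 0 (by omega) (hex 0 (by omega))
  have hδ : (Ext.mk₀ x).comp hse.extClass (zero_add 1) = 0 :=
    ext_cycles_eq_zero d hd I hinj hex d 1 (-1) le_rfl (by omega) (fun _ => by omega) _
  obtain ⟨y, hy⟩ := Ext.covariant_sequence_exact₃ P₀ hse (Ext.mk₀ x) (zero_add 1) hδ
  obtain ⟨h, rfl⟩ := (Ext.mk₀_bijective _ _).2 y
  rw [Ext.mk₀_comp_mk₀] at hy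
  have hh : h ≫ I.d (-1) 0 = g₀ := by
    have h' := congrArg (fun z => z ≫ I.iCycles 0) ((Ext.mk₀_bijective _ _).1 hy)
    simpa [cycSeq, x] using h'
  let hom : ∀ i j, K.X i ⟶ I.X j := fun i j =>
    if hij : i = 0 ∧ j = -1 then
      eqToHom (congrArg K.X hij.1) ≫ (singleObjXSelf (ComplexShape.up ℤ) 0 P₀).hom ≫ h ≫ eqToHom (congrArg I.X hij.2.symm)
    else 0
  refine ⟨{ hom := hom, zero := fun i j hij => ?_, comm := fun i => ?_ }⟩
  · refine dif_neg ?_
    rintro ⟨rfl, rfl⟩
    exact hij (by simp)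
  · by_cases hi : i = 0
    · subst hi
      rw [dNext_eq hom (show (ComplexShape.up ℤ).Rel 0 1 by simp), prevD_eq hom (show (ComplexShape.up ℤ).Rel (-1) 0 by simp)]
      rw [show K.d 0 1 = 0 from by change ((single A (ComplexShape.up ℤ) 0).obj P₀).d 0 1 = 0; simp]
      simp only [hom, zero_comp, zero_add, HomologicalComplex.zero_f, add_zero, and_self, ↓reduceDIte, eqToHom_refl,
        Category.id_comp, Category.comp_id, Category.assoc, hh, g₀, Iso.hom_inv_id_assoc]
    · exact (isZero_single_obj_X (ComplexShape.up ℤ) 0 P₀ i hi).eq_of_src _ _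

variable [HasCoproducts.{v} A]

attribute [local instance] hasCoproducts_derived

local notation "t₀" => (DerivedCategory.TStructure.t : CategoryTheory.Triangulated.TStructure (DerivedCategory A))

omit hd in
theorem isLE_sigma {ι : Type v} (K : ι → DerivedCategory A) (a : ℤ) (h : ∀ i, (K i).IsLE a) : (∐ K).IsLE a := by
  rw [DerivedCategory.isLE_iff]
  intro j hj
  obtain ⟨G, hG, ⟨e⟩⟩ := DQCoh.exists_homology_sigma_derived K j
  refine IsZero.of_iso ((IsZero.iff_id_eq_zero _).2 (colimit.hom_ext fun ⟨i⟩ => ?_)) e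
  haveI := h i
  exact ((DerivedCategory.isZero_of_isLE (K i) a j hj).of_iso (hG i).some).eq_of_src _ _

theorem fin'_all (hP : ∀ (p : ℕ) (ι : Type v), PreservesColimitsOfShape (Discrete ι) (extFunctorObj P₀ p))
    {ι : Type v} (K : ι → DerivedCategory A) (m : ℤ) : Fin' K ((singleFunctor A 0).obj P₀) m := by
  let b : ℤ := m - d
  let T : ι → Triangle (DerivedCategory A) := fun i => ((t₀).triangleLTGE b).obj (K i)
  have hT : ∀ i, T i ∈ distTriang _ := fun i => (t₀).triangleLTGE_distinguished b (K i)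
  refine fin'_of_triangles T hT (fin'_of_zero fun α => ?_)
    (fin'_pt hP _ b (fun i => (t₀).isGE_truncGE_obj (K i) b b (by omega)) m)
  haveI : (∐ fun i => (T i).obj₁).IsLE (b - 1) :=
    isLE_sigma _ _ fun i => (t₀).isLE_truncLT_obj (K i) b (b - 1) (by omega)
  haveI : ((∐ fun i => (T i).obj₁)⟦m⟧).IsLE (-(d : ℤ) - 1) := (t₀).isLE_shift _ (b - 1) m _ (by omega)
  exact hom_eq_zero_of_isLE d hd _ α

end Groth.Agent.HTop16.CompactBdd

namespace Groth.Agent.HTop16.CompactBdd

variable {C : Type u} [SmallCategory C] {J : GrothendieckTopology C}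

/-- Ext out of the free sheaf is cohomology. -/
theorem preservesColimits_ext_free (U : C)
    (h : ∀ (p : ℕ) (ι : Type u), PreservesColimitsOfShape (Discrete ι)
      ((Sheaf.cohomologyPresheafFunctor J p).flip.obj (Opposite.op U))) (p : ℕ) (ι : Type u) :
    PreservesColimitsOfShape (Discrete ι)
      (extFunctorObj ((presheafToSheaf J AddCommGrpCat.{u}).obj (yoneda.obj U ⋙ AddCommGrpCat.free.{u})) p) :=
  haveI := h p ι
  preservesColimitsOfShape_of_natIso
    (NatIso.ofComponents (fun F => Iso.refl _) (fun f => (Category.comp_id _).trans (Category.id_comp _).symm) :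
      (Sheaf.cohomologyPresheafFunctor J p).flip.obj (Opposite.op U) ≅
        extFunctorObj ((presheafToSheaf J AddCommGrpCat.{u}).obj (yoneda.obj U ⋙ AddCommGrpCat.free.{u})) p)

end Groth.Agent.HTop16.CompactBdd
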