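import Groth.Prelude.Def_ModSite
import Mathlib.Algebra.Category.ModuleCat.Sheaf.Colimits
import Mathlib.Algebra.Category.ModuleCat.Presheaf.Colimits
import Mathlib.CategoryTheory.Limits.Preserves.Shapes.Products
import Mathlib.Topology.Sets.Opens

/-!
Sections of a direct sum of sheaves of modules over a quasi-compact open are finite sums.
-/

set_option autoImplicit false

namespace Groth.Agent.HTop16.ModSum

universe u v

open CategoryTheory CategoryTheory.Limits Opposite TopologicalSpace

lemma eq_top_of_cofan {R : Type u} [Ring R] {I : Type u} (M : I → ModuleCat.{u} R) {c : Cofan M}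
    (hc : IsColimit c) : ⨆ i, LinearMap.range (c.inj i).hom = (⊤ : Submodule R c.pt) := by
  by_contra hne
  set N := ⨆ i, LinearMap.range (c.inj i).hom
  have h : (ModuleCat.ofHom N.mkQ : c.pt ⟶ ModuleCat.of R (c.pt ⧸ N)) = 0 := hc.hom_ext fun ⟨i⟩ => by
    ext x
    have hx : (c.inj i).hom x ∈ N := le_iSup (fun i => LinearMap.range (c.inj i).hom) i ⟨x, rfl⟩
    exact (Submodule.Quotient.mk_eq_zero N).2 hx
  refine hne (eq_top_iff.2 fun x _ => (Submodule.Quotient.mk_eq_zero N).1 ?_)
  exact congrArg (fun φ => φ.hom x) h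

lemma exists_sum_of_eq_top {R : Type u} [Ring R] {I : Type u} (M : I → ModuleCat.{u} R) (c : Cofan M)
    (h : ⨆ i, LinearMap.range (c.inj i).hom = (⊤ : Submodule R c.pt)) (z : c.pt) :
    ∃ (S : Finset I) (a : ∀ i, M i), z = ∑ i ∈ S, (c.inj i).hom (a i) := by
  obtain ⟨f, hf, hsum⟩ := (Submodule.mem_iSup_iff_exists_finsupp _ z).1 (h.symm ▸ Submodule.mem_top)
  choose a ha using hf
  exact ⟨f.support, a, hsum.symm.trans (Finset.sum_congr rfl fun i _ => (ha i).symm)⟩

variable {X : TopCat.{u}} (O : TopCat.Sheaf CommRingCat.{u} X) {I : Type u} (F : I → ModSite.Mod O)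

lemma locally_sum [HasCoproduct F] (U : Opens X) (s : ModSite.sect (∐ F) U) (x : X) (hx : x ∈ U) :
    ∃ (V : Opens X) (hV : V ≤ U), x ∈ V ∧ ∃ (S : Finset I) (t : ∀ i, ModSite.sect (F i) V),
      ((∐ F).val.map (homOfLE hV).op).hom s = ∑ i ∈ S, ((Sigma.ι F i).val.app (op V)).hom (t i) := by
  classical
  let R := ModSite.ringSh O
  let G : ModSite.Mod O ⥤ PresheafOfModules.{u} R.obj :=
    SheafOfModules.forget R ⋙ PresheafOfModules.restrictScalars (𝟙 R.obj)
  let L := PresheafOfModules.sheafification.{u} (𝟙 R.obj)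
  let adj : L ⊣ G := PresheafOfModules.sheafificationAdjunction (𝟙 R.obj)
  let P : PresheafOfModules.{u} R.obj := ∐ fun i => G.obj (F i)
  let g : L.obj P ⟶ ∐ F := (adj.homEquiv _ _).symm (Sigma.desc fun i => G.map (Sigma.ι F i))
  let h : ∐ F ⟶ L.obj P :=
    Sigma.desc fun i => G.preimage (Sigma.ι (fun i => G.obj (F i)) i ≫ adj.unit.app P)
  have hg : adj.unit.app P ≫ G.map g = Sigma.desc fun i => G.map (Sigma.ι F i) := by
    exact (adj.homEquiv_unit _ _ _).symm.trans (Equiv.apply_symm_apply _ _)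
  have hhg : h ≫ g = 𝟙 _ := Sigma.hom_ext _ _ fun i => G.map_injective (by
    rw [Sigma.ι_desc_assoc, Category.comp_id, Functor.map_comp, Functor.map_preimage, Category.assoc,
      hg, Sigma.ι_desc])
  let t := (h.val.app (op U)).hom s
  have ht : (g.val.app (op U)).hom t = s :=
    congrArg (fun φ : ∐ F ⟶ ∐ F => (φ.val.app (op U)).hom s) hhg
  obtain ⟨V, f, ⟨p, hp⟩, hxV⟩ : ∃ (V : Opens X) (f : V ⟶ U),
      (Presheaf.imageSieve (CategoryTheory.toSheafify (Opens.grothendieckTopology X) P.presheaf) t).arrows f ∧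
        x ∈ V :=
    Presheaf.imageSieve_mem (Opens.grothendieckTopology X)
      (CategoryTheory.toSheafify (Opens.grothendieckTopology X) P.presheaf) t x hx
  refine ⟨V, leOfHom f, hxV, ?_⟩
  let q : P.obj (op V) := p
  have hsum : ∃ (S : Finset I) (a : ∀ i, ModSite.sect (F i) V),
      q = ∑ i ∈ S, ((Sigma.ι (fun i => G.obj (F i)) i).app (op V)).hom (a i) := by
    have htop := eq_top_of_cofan _
      (isColimitCofanMkObjOfIsColimit (PresheafOfModules.evaluation R.obj (op V)) _ _
        (coproductIsCoproduct fun i => G.obj (F i)))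
    exact exists_sum_of_eq_top _ _ htop q
  obtain ⟨S, a, hsum⟩ := hsum
  refine ⟨S, a, ?_⟩
  have e1 : (g.val.app (op V)).hom (((L.obj P).val.map f.op).hom t) =
      ((∐ F).val.map f.op).hom ((g.val.app (op U)).hom t) :=
    PresheafOfModules.naturality_apply g.val f.op t
  rw [ht] at e1
  have e2 : ((adj.unit.app P).app (op V)).hom q = ((L.obj P).val.map f.op).hom t := hp
  rw [show (homOfLE (leOfHom f)) = f from Subsingleton.elim _ _, ← e1, ← e2]
  refine (congrArg (fun φ => (PresheafOfModules.Hom.app φ (op V)).hom q) hg).trans ?_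
  rw [hsum, map_sum]
  refine Finset.sum_congr rfl fun i _ => ?_
  exact congrArg (fun φ => (PresheafOfModules.Hom.app φ (op V)).hom (a i))
    (Sigma.ι_desc (fun i => G.map (Sigma.ι F i)) i)

/-- the projection to a summand -/
noncomputable def proj [HasCoproduct F] (j : I) : ∐ F ⟶ F j := by
  classical
  exact Sigma.desc fun i => if h : i = j then eqToHom (congrArg F h) else 0

lemma proj_sum [HasCoproduct F] (U : Opens X) (S : Finset I) (t : ∀ i, ModSite.sect (F i) U) (j : I)
    [Decidable (j ∈ S)] :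
    ((proj O F j).val.app (op U)).hom (∑ i ∈ S, ((Sigma.ι F i).val.app (op U)).hom (t i)) =
      if j ∈ S then t j else 0 := by
  classical
  rw [map_sum]
  have key : ∀ i, ((proj O F j).val.app (op U)).hom (((Sigma.ι F i).val.app (op U)).hom (t i)) =
      if i = j then t j else 0 := fun i => by
    change ((Sigma.ι F i ≫ proj O F j).val.app (op U)).hom (t i) = _
    rw [show Sigma.ι F i ≫ proj O F j = _ from Sigma.ι_desc _ i]
    by_cases h : i = j
    · subst h; rw [dif_pos rfl, if_pos rfl]; rfl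
    · rw [dif_neg h, if_neg h]; rfl
  simp only [key, Finset.sum_ite_eq']
  split_ifs <;> rfl

lemma exists_sum [HasCoproduct F] (U : Opens X) (hU : IsCompact (U : Set X))
    (s : ModSite.sect (∐ F) U) : ∃ (S : Finset I) (t : ∀ i, ModSite.sect (F i) U),
      s = ∑ i ∈ S, ((Sigma.ι F i).val.app (op U)).hom (t i) := by
  classical
  choose V hV hxV S a hs using fun x : U => locally_sum O F U s x.1 x.2
  obtain ⟨T, hT⟩ := hU.elim_finite_subcover (fun x => (V x : Set X)) (fun x => (V x).isOpen)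
    fun x hx => Set.mem_iUnion.2 ⟨⟨x, hx⟩, hxV ⟨x, hx⟩⟩
  refine ⟨T.biUnion S, fun i => ((proj O F i).val.app (op U)).hom s, ?_⟩
  have hF := (∐ F).isSheaf
  refine TopCat.Sheaf.eq_of_locally_eq' (X := X) ⟨(∐ F).val.presheaf, hF⟩ (fun x : T => V x.1) U
    (fun x => homOfLE (hV x.1)) (fun y hy => ?_) _ _ fun x => ?_
  · obtain ⟨z, hz, hy'⟩ := Set.mem_iUnion₂.1 (hT hy)
    exact Opens.mem_iSup.2 ⟨⟨z, hz⟩, hy'⟩
  let f : op U ⟶ op (V x.1) := (homOfLE (hV x.1)).op
  show ((∐ F).val.map f).hom s = ((∐ F).val.map f).hom _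
  rw [map_sum]
  have e : ∀ i, ((∐ F).val.map f).hom
      (((Sigma.ι F i).val.app (op U)).hom (((proj O F i).val.app (op U)).hom s)) =
      ((Sigma.ι F i).val.app (op (V x.1))).hom (if i ∈ S x.1 then a x.1 i else 0) := fun i => by
    refine (PresheafOfModules.naturality_apply (Sigma.ι F i).val f _).symm.trans (congrArg _ ?_)
    refine (PresheafOfModules.naturality_apply (proj O F i).val f _).symm.trans ?_
    rw [show ((∐ F).val.map f).hom s = _ from hs x.1]
    exact proj_sum O F _ _ _ _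
  refine Eq.trans ?_ (Finset.sum_congr rfl fun i _ => (e i).symm)
  rw [show ((∐ F).val.map f).hom s = _ from hs x.1]
  refine (Finset.sum_subset (Finset.subset_biUnion_of_mem S x.2) fun i _ hi => by
    rw [if_neg hi]; exact map_zero _).symm.trans ?_ |>.symm
  exact Finset.sum_congr rfl fun i hi => by rw [if_pos hi]

end Groth.Agent.HTop16.ModSum
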