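import Groth.Agent.HTop16.FinPresB
import Groth.Agent.DCat.CompactEnv
import Groth.Agent.HTop16.ModDirectSum
import Mathlib.Algebra.Category.ModuleCat.Presheaf.Colimits

/-!
# Sections over quasi-compact objects commute with direct sums
-/

set_option autoImplicit false
set_option backward.isDefEq.respectTransparency false
set_option backward.isDefEq.respectTransparency.types false
set_option linter.all false

universe v u

open CategoryTheory CategoryTheory.Limits Opposite

namespace Groth.Agent.HTop16.QcSum

/-- Elements of a sum of abelian groups have finite support. -/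
lemma ab_finite_support {ι : Type u} (M : ι → AddCommGrpCat.{u}) (z : (∐ M : AddCommGrpCat.{u})) :
    ∃ s : Finset ι, DCat.finProj M s z = z := by
  classical
  let H : AddSubgroup (∐ M : AddCommGrpCat.{u}) :=
    { carrier := {y | ∃ s : Finset ι, DCat.finProj M s y = y}
      zero_mem' := ⟨∅, map_zero _⟩
      add_mem' := by
        rintro a b ⟨s, hs⟩ ⟨t, ht⟩
        refine ⟨s ∪ t, ?_⟩
        have k1 : DCat.finProj M (s ∪ t) a = a := by
          rw [← hs, ← ConcreteCategory.comp_apply, DCat.finProj_comp M Finset.subset_union_left]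
        have k2 : DCat.finProj M (s ∪ t) b = b := by
          rw [← ht, ← ConcreteCategory.comp_apply, DCat.finProj_comp M Finset.subset_union_right]
        rw [map_add, k1, k2]
      neg_mem' := by
        rintro a ⟨s, hs⟩
        exact ⟨s, by rw [map_neg, hs]⟩ }
  have h0 : AddCommGrpCat.ofHom (QuotientAddGroup.mk' H) =
      (0 : (∐ M : AddCommGrpCat.{u}) ⟶ AddCommGrpCat.of ((∐ M : AddCommGrpCat.{u}) ⧸ H)) :=
    Limits.Sigma.hom_ext _ _ fun j => by
      ext (y : M j)
      refine (QuotientAddGroup.eq_zero_iff _).2 ⟨{j}, ?_⟩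
      show DCat.finProj M {j} (Limits.Sigma.ι M j y) = Limits.Sigma.ι M j y
      rw [← ConcreteCategory.comp_apply, DCat.ι_finProj, if_pos (Finset.mem_singleton_self j)]
  exact (QuotientAddGroup.eq_zero_iff z).1 (ConcreteCategory.congr_hom h0 z)

lemma sum_apply {κ : Type*} {M N : AddCommGrpCat.{u}} (s : Finset κ) (f : κ → (M ⟶ N)) (x : M) :
    (∑ i ∈ s, f i : M ⟶ N) x = ∑ i ∈ s, f i x := by
  classical
  induction s using Finset.induction_on with
  | empty => rfl
  | @insert a s ha ih =>
    rw [Finset.sum_insert ha, Finset.sum_insert ha, ← ih]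
    rfl

/-- An additive functor to abelian groups with finite supports commutes with sums. -/
theorem preservesCoproducts_of_finite_support {A : Type v} [Category.{u} A] [Preadditive A] [HasCoproducts.{u} A]
    (G : A ⥤ AddCommGrpCat.{u}) [G.Additive] (ι : Type u)
    (h : ∀ (F : ι → A) (x : G.obj (∐ F)), ∃ s : Finset ι, G.map (DCat.finProj F s) x = x) :
    PreservesColimitsOfShape (Discrete ι) G := by
  classical
  suffices hiso : ∀ F : ι → A, IsIso (sigmaComparison G F) by
    haveI : ∀ F : ι → A, PreservesColimit (Discrete.functor F) G := fun F =>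
      haveI := hiso F
      PreservesCoproduct.of_iso_comparison G F
    exact preservesColimitsOfShape_of_discrete G
  intro F
  have hc : ∀ i, sigmaComparison G F ≫ G.map (DCat.coordProj F i) = DCat.coordProj (fun i => G.obj (F i)) i := by
    intro i
    refine Limits.Sigma.hom_ext _ _ fun k => ?_
    rw [ι_comp_sigmaComparison_assoc, ← G.map_comp]
    simp only [DCat.coordProj, Limits.Sigma.ι_desc]
    split_ifs with hk
    · subst hk; simp
    · simp
  rw [ConcreteCategory.isIso_iff_bijective]
  refine ⟨(injective_iff_map_eq_zero (sigmaComparison G F).hom).2 fun z hz => ?_, fun x => ?_⟩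
  · obtain ⟨s, hs⟩ := ab_finite_support _ z
    rw [← hs, DCat.finProj_eq_sum, sum_apply]
    refine Finset.sum_eq_zero fun i _ => ?_
    have : DCat.coordProj (fun i => G.obj (F i)) i z = 0 := by
      rw [← hc i, ConcreteCategory.comp_apply]
      exact (congrArg (G.map (DCat.coordProj F i)) hz).trans (map_zero _)
    show Limits.Sigma.ι (fun i => G.obj (F i)) i (DCat.coordProj (fun i => G.obj (F i)) i z) = 0
    rw [this, map_zero]
  · obtain ⟨s, hs⟩ := h F x
    refine ⟨∑ i ∈ s, Limits.Sigma.ι (fun i => G.obj (F i)) i (G.map (DCat.coordProj F i) x), ?_⟩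
    rw [map_sum]
    conv_rhs => rw [← hs, DCat.finProj_eq_sum, G.map_sum, sum_apply]
    refine Finset.sum_congr rfl fun i _ => ?_
    rw [← ConcreteCategory.comp_apply, ι_comp_sigmaComparison, G.map_comp]
    rfl

open DerCompLib (Sec secRes secMap secEquiv secEquiv_comp secMap_secRes)
open FinPresB (sec_sep)

variable {C : Type u} [SmallCategory C] {J : GrothendieckTopology C} (O : Sheaf J CommRingCat.{u})

/-- Locally a section of a sum is a finite sum. -/
lemma locally_finite {ι : Type u} (F : ι → ModSite.Mod O) {W : C} (x : Sec (∐ F) W) :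
    ∃ S ∈ J W, ∀ ⦃V : C⦄ (g : V ⟶ W), S g →
      ∃ s : Finset ι, secMap (DCat.finProj F s) V (secRes (∐ F) g x) = secRes (∐ F) g x := by
  classical
  let R := ModSite.ringSh O
  let G : ModSite.Mod O ⥤ PresheafOfModules.{u} R.obj :=
    SheafOfModules.forget R ⋙ PresheafOfModules.restrictScalars (𝟙 R.obj)
  let L := PresheafOfModules.sheafification.{u} (𝟙 R.obj)
  let adj : L ⊣ G := PresheafOfModules.sheafificationAdjunction (𝟙 R.obj)
  let P : PresheafOfModules.{u} R.obj := ∐ fun i => G.obj (F i)
  let g : L.obj P ⟶ ∐ F := (adj.homEquiv _ _).symm (Limits.Sigma.desc fun i => G.map (Limits.Sigma.ι F i))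
  let h : ∐ F ⟶ L.obj P :=
    Limits.Sigma.desc fun i => G.preimage (Limits.Sigma.ι (fun i => G.obj (F i)) i ≫ adj.unit.app P)
  have hg : adj.unit.app P ≫ G.map g = Limits.Sigma.desc fun i => G.map (Limits.Sigma.ι F i) :=
    (adj.homEquiv_unit _ _ _).symm.trans (Equiv.apply_symm_apply _ _)
  have hhg : h ≫ g = 𝟙 _ := Limits.Sigma.hom_ext _ _ fun i => G.map_injective (by
    rw [Limits.Sigma.ι_desc_assoc, Category.comp_id, Functor.map_comp, Functor.map_preimage, Category.assoc,
      hg, Limits.Sigma.ι_desc])
  let t := secMap h W x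
  have ht : secMap g W t = x := congrArg (fun φ : ∐ F ⟶ ∐ F => secMap φ W x) hhg
  refine ⟨_, Presheaf.imageSieve_mem J (CategoryTheory.toSheafify J P.presheaf) t, fun V f hf => ?_⟩
  obtain ⟨p, hp⟩ := hf
  let q : P.obj (op V) := p
  have htop := ModSum.eq_top_of_cofan _
    (isColimitCofanMkObjOfIsColimit (PresheafOfModules.evaluation R.obj (op V)) _ _
      (coproductIsCoproduct fun i => G.obj (F i)))
  obtain ⟨s, a, ha⟩ := ModSum.exists_sum_of_eq_top _ _ htop q
  refine ⟨s, ?_⟩
  let a' : ∀ i, Sec (F i) V := a
  have hx : secRes (∐ F) f x = ∑ i ∈ s, secMap (Limits.Sigma.ι F i) V (a' i) := by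
    have e1 : secMap g V (secRes (L.obj P) f t) = secRes (∐ F) f x := by rw [secMap_secRes, ht]
    have e2 : ((adj.unit.app P).app (op V)).hom q = secRes (L.obj P) f t := hp
    rw [← e1, ← e2]
    refine (congrArg (fun φ => (PresheafOfModules.Hom.app φ (op V)).hom q) hg).trans ?_
    rw [ha, map_sum]
    refine Finset.sum_congr rfl fun i _ => ?_
    exact congrArg (fun φ => (PresheafOfModules.Hom.app φ (op V)).hom (a i))
      (Limits.Sigma.ι_desc (fun i => G.map (Limits.Sigma.ι F i)) i)
  rw [hx, map_sum]
  refine Finset.sum_congr rfl fun i hi => ?_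
  rw [← DerCompLib.secMap_comp, DCat.ι_finProj, if_pos hi]

/-- Over a quasi-compact object a section of a sum is a finite sum. -/
theorem finite_support_sec {ι : Type u} (F : ι → ModSite.Mod O) {W : C} (hW : ToposFin.IsQCSite J W)
    (x : Sec (∐ F) W) : ∃ s : Finset ι, secMap (DCat.finProj F s) W x = x := by
  classical
  obtain ⟨S, hS, h⟩ := locally_finite O F x
  obtain ⟨n, V, g, hg, hcov⟩ := hW S hS
  choose s hs using fun k => h (g k) (hg k)
  refine ⟨Finset.univ.biUnion s, sec_sep _ hcov _ _ fun Z c hc => ?_⟩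
  obtain ⟨k, d, rfl⟩ := (Sieve.mem_ofArrows_iff _ _ _).1 hc
  rw [← DerCompLib.secRes_comp, ← DerCompLib.secRes_comp]
  refine congrArg (secRes (∐ F) d) ?_
  rw [← secMap_secRes, ← hs k, ← DerCompLib.secMap_comp,
    DCat.finProj_comp F (Finset.subset_biUnion_of_mem s (Finset.mem_univ k))]

/-- Sections over an object. -/
noncomputable abbrev secFun (W : C) : ModSite.Mod O ⥤ AddCommGrpCat.{u} :=
  SheafOfModules.toSheaf (ModSite.ringSh O) ⋙ (sheafSections J AddCommGrpCat.{u}).obj (op W)

theorem preservesCoproducts_sec {W : C} (hW : ToposFin.IsQCSite J W) (ι : Type u) :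
    PreservesColimitsOfShape (Discrete ι) (secFun O W) := by
  haveI : (secFun O W).Additive :=
    { map_add := fun {M N f g} => AddCommGrpCat.hom_ext (AddMonoidHom.ext fun x => rfl) }
  exact preservesCoproducts_of_finite_support (secFun O W) ι fun F x => finite_support_sec O F hW x

/-- Maps out of a free module are sections, as groups. -/
noncomputable def coyonedaFreeEquiv (U : C) (M : ModSite.Mod O) :
    (preadditiveCoyoneda.obj (op (ModSite.freeOn O U))).obj M ≃+ (secFun O U).obj M :=
  secEquiv U M

/-- Maps out of a free module are sections. -/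
noncomputable def coyonedaFreeIso (U : C) :
    preadditiveCoyoneda.obj (op (ModSite.freeOn O U)) ≅ secFun O U :=
  NatIso.ofComponents (fun M => (coyonedaFreeEquiv O U M).toAddCommGrpIso)
    (fun {M N} f => AddCommGrpCat.hom_ext (AddMonoidHom.ext fun φ => secEquiv_comp U φ f))

theorem preservesCoproducts_hom_free {U : C} (hU : ToposFin.IsQCSite J U) (ι : Type u) :
    PreservesColimitsOfShape (Discrete ι) (preadditiveCoyoneda.obj (op (ModSite.freeOn O U))) :=
  haveI := preservesCoproducts_sec O hU ι
  preservesColimitsOfShape_of_natIso (coyonedaFreeIso O U).symm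

end Groth.Agent.HTop16.QcSum
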