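import Groth.Agent.HTop16.CollColim
import Groth.Agent.HTop16.CompactDim
import Groth.Agent.HTop16.QcSum
import Groth.Agent.SiteDer16.ExtCompare
import Groth.Agent.SiteDer16.ModAcyclic
import Groth.Agent.SiteDer16.FreeHom
import Groth.Agent.DerCompLib.SiteFree
import Groth.Agent.CohColim.Forget
import Groth.Agent.S6165
import Mathlib.CategoryTheory.Limits.Constructions.Filtered

/-!
# Free modules on a collection with finite coverings see only finite subsums
-/

set_option autoImplicit false
set_option backward.isDefEq.respectTransparency false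
set_option backward.isDefEq.respectTransparency.types false
set_option linter.all false

universe u

open CategoryTheory CategoryTheory.Limits Opposite CategoryTheory.Abelian CoproductsFromFiniteFiltered

namespace Groth.Agent.HTop16.CollCompact

variable {C : Type u} [SmallCategory C] {J : GrothendieckTopology C} (O : Sheaf J CommRingCat.{u})

/-- Maps out of a free module are maps out of a free abelian sheaf. -/
noncomputable def freeEquiv (U : C) (F : ModSite.Mod O) :
    (ModSite.freeOn O U ⟶ F) ≃ (CohCx.freeSheaf J U ⟶ (SheafOfModules.toSheaf (ModSite.ringSh O)).obj F) :=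
  (DerCompLib.secEquiv U F).toEquiv.trans
    (SiteCoh.homEquiv U ((SheafOfModules.toSheaf (ModSite.ringSh O)).obj F)).toEquiv.symm

lemma freeEquiv_comp (U : C) {F F' : ModSite.Mod O} (x : ModSite.freeOn O U ⟶ F) (f : F ⟶ F') :
    freeEquiv O U F' (x ≫ f) = freeEquiv O U F x ≫ (SheafOfModules.toSheaf (ModSite.ringSh O)).map f := by
  refine (SiteCoh.homEquiv U _).injective ?_
  rw [SiteCoh.homEquiv_postcomp]
  change (SiteCoh.homEquiv U _) ((SiteCoh.homEquiv U _).symm (DerCompLib.secEquiv U F' (x ≫ f))) =
    ((SheafOfModules.toSheaf (ModSite.ringSh O)).map f).hom.app (op U)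
      ((SiteCoh.homEquiv U _) ((SiteCoh.homEquiv U _).symm (DerCompLib.secEquiv U F x)))
  rw [AddEquiv.apply_symm_apply, AddEquiv.apply_symm_apply, DerCompLib.secEquiv_comp]
  rfl

variable [HasExt.{u} (ModSite.Mod O)]

/-- Classes with values in a sum are finitely supported. -/
theorem ext_finite_support (U : C)
    (hH : ∀ (n : ℕ) (Λ : Type u) [SmallCategory Λ] [IsFiltered Λ] (G : Λ ⥤ Sheaf J AddCommGrpCat.{u}),
      PreservesColimit G ((extFunctor.{u} n).obj (op (CohCx.freeSheaf J U))))
    {ι : Type u} (F : ι → ModSite.Mod O) (n : ℕ) (x : Ext (ModSite.freeOn O U) (∐ F) n) :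
    ∃ s : Finset ι, x.comp (Ext.mk₀ (DCat.finProj F s)) (add_zero n) = x := by
  classical
  haveI := SiteDer16.preservesFiniteColimits_toSheaf (ModSite.ringSh O)
  let G := SheafOfModules.toSheaf.{u} (ModSite.ringSh O)
  let η : CohCx.freeSheaf J U ⟶ G.obj (ModSite.freeOn O U) := freeEquiv O U _ (𝟙 _)
  let c := fun (F : ModSite.Mod O) (x : Ext (ModSite.freeOn O U) F n) => SiteDer16.extCompare G η F n x
  have hb : ∀ F, Function.Bijective (c F) := fun F =>
    SiteDer16.bijective_extCompare G η (fun F' => by
      have : (fun f : ModSite.freeOn O U ⟶ F' => η ≫ G.map f) = freeEquiv O U F' := funext fun f => by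
        rw [← freeEquiv_comp, Category.id_comp]
      rw [this]
      exact (freeEquiv O U F').bijective)
      (fun I hI m => by
        haveI := hI
        haveI : Subsingleton (Ext ((SiteCoh.Nerve.freeSh J).obj (ToposFin.eps J U)) (G.obj I) (m + 1)) :=
          SiteDer16.ModAcyclic.isTotallyAcyclic_toSheaf (ModSite.ringSh O) I (ToposFin.eps J U) m
        exact SiteCoh.subsingleton_ext_of_iso (X := (SiteCoh.Nerve.freeSh J).obj (ToposFin.eps J U))
          (CohColim.freeShEpsIso U).symm (m + 1)) n F
  have hnat : ∀ {F F' : ModSite.Mod O} (y : Ext (ModSite.freeOn O U) F n) (f : F ⟶ F'),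
      c F' (y.comp (Ext.mk₀ f) (add_zero n)) = (c F y).comp (Ext.mk₀ (G.map f)) (add_zero n) := fun y f => by
    simp only [c]
    rw [SiteDer16.extCompare_apply, SiteDer16.extCompare_apply, Ext.mapExactFunctor_comp, Ext.mapExactFunctor_mk₀]
    exact (Ext.comp_assoc_of_third_deg_zero _ _ _ _).symm
  haveI := DerCompLib.preservesColimitsOfShape_toSheaf (O := O) (Finset (Discrete ι))
  let H := G ⋙ (extFunctor.{u} n).obj (op (CohCx.freeSheaf J U))
  haveI := hH n (Finset (Discrete ι)) (liftToFinsetObj (Discrete.functor F) ⋙ G)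
  haveI : PreservesColimit (liftToFinsetObj (Discrete.functor F)) H := inferInstance
  obtain ⟨S, y, hy⟩ := Concrete.isColimit_exists_rep _
    (isColimitOfPreserves H (isColimitFiniteSubproductsCocone F)) (c _ x)
  let s : Finset ι := S.image Discrete.as
  have hs : (finiteSubcoproductsCocone F).ι.app S ≫ DCat.finProj F s = (finiteSubcoproductsCocone F).ι.app S := by
    refine Limits.Sigma.hom_ext _ _ fun j => ?_
    simp only [finiteSubcoproductsCocone_ι_app]
    rw [← Category.assoc]
    erw [Limits.Sigma.ι_desc]
    exact (DCat.ι_finProj F s _).trans (if_pos (Finset.mem_image_of_mem Discrete.as j.2))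
  refine ⟨s, (hb _).1 ?_⟩
  rw [hnat]
  show H.map (DCat.finProj F s) (c _ x) = c _ x
  rw [← hy]
  exact (ConcreteCategory.comp_apply _ _ _).symm.trans
    (congrArg (fun φ => (ConcreteCategory.hom φ) y) ((H.map_comp _ _).symm.trans (congrArg H.map hs)))

end Groth.Agent.HTop16.CollCompact
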