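import Groth.Agent.DQCoh.Coproduct
import Groth.Agent.DCat.TriSum
import Groth.Agent.DCat.CompactEnv
import Groth.Agent.DCat.WayOut
import Groth.Agent.DCat.KInjRes
import Mathlib.CategoryTheory.Triangulated.TStructure.TruncLTGE

/-!
# Objects whose Ext groups commute with sums see only finite subsums of bounded below families
-/

set_option autoImplicit false
set_option backward.isDefEq.respectTransparency false
set_option backward.defeqAttrib.useBackward true
set_option linter.all false

universe v u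

open CategoryTheory CategoryTheory.Limits CategoryTheory.Pretriangulated DerivedCategory Opposite
open CategoryTheory.Abelian

namespace Groth.Agent.HTop16.CompactBdd

section General

variable {D : Type u} [Category.{v} D] [Preadditive D] [HasCoproducts.{v} D]

/-- Maps from `P` into the shifted coproduct factor through finite subsums. -/
def Fin' [HasShift D ℤ] {κ : Type v} (K : κ → D) (P : D) (m : ℤ) : Prop :=
  ∀ α : P ⟶ (∐ K)⟦m⟧, ∃ s : Finset κ, α ≫ (DCat.finProj K s)⟦m⟧' = α

lemma finProj_natural {κ : Type v} {K L : κ → D} (φ : ∀ i, K i ⟶ L i) (s : Finset κ) :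
    DCat.finProj K s ≫ Limits.Sigma.map φ = Limits.Sigma.map φ ≫ DCat.finProj L s := by
  classical
  refine Limits.Sigma.hom_ext _ _ fun k => ?_
  rw [← Category.assoc, DCat.ι_finProj, Limits.Sigma.ι_map_assoc, DCat.ι_finProj]
  split_ifs with hk <;> simp

variable [HasShift D ℤ] {κ : Type v}

lemma fin'_of_iso {K L : κ → D} (e : ∀ i, K i ≅ L i) {P : D} {m : ℤ} (h : Fin' K P m) : Fin' L P m := fun α => by
  let E : ∐ K ≅ ∐ L :=
    { hom := Limits.Sigma.map fun i => (e i).hom
      inv := Limits.Sigma.map fun i => (e i).inv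
      hom_inv_id := Limits.Sigma.hom_ext _ _ fun i => by simp
      inv_hom_id := Limits.Sigma.hom_ext _ _ fun i => by simp }
  obtain ⟨s, hs⟩ := h (α ≫ E.inv⟦m⟧')
  refine ⟨s, ?_⟩
  haveI : IsIso E.inv := E.isIso_inv
  rw [← cancel_mono ((shiftFunctor D m).map E.inv), Category.assoc, ← Functor.map_comp,
    show DCat.finProj L s ≫ E.inv = E.inv ≫ DCat.finProj K s from finProj_natural (fun i => (e i).inv) s,
    Functor.map_comp, ← Category.assoc]
  exact hs

lemma fin'_of_zero {K : κ → D} {P : D} {m : ℤ} (h : ∀ α : P ⟶ (∐ K)⟦m⟧, α = 0) : Fin' K P m :=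
  fun α => ⟨∅, by rw [h α, zero_comp]⟩

lemma fin'_mono {K : κ → D} {P : D} {m : ℤ} {α : P ⟶ (∐ K)⟦m⟧} {s t : Finset κ}
    (hs : α ≫ (DCat.finProj K s)⟦m⟧' = α) (h : s ⊆ t) : α ≫ (DCat.finProj K t)⟦m⟧' = α := by
  rw [← hs, Category.assoc, ← Functor.map_comp, DCat.finProj_comp K h]

variable [HasZeroObject D] [∀ n : ℤ, (shiftFunctor D n).Additive] [Pretriangulated D]

theorem fin'_of_triangles (T : κ → Triangle D) (hT : ∀ j, T j ∈ distTriang D) {P : D} {m : ℤ}
    (h₁ : Fin' (fun j => (T j).obj₁) P m) (h₃ : Fin' (fun j => (T j).obj₃) P m) :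
    Fin' (fun j => (T j).obj₂) P m := fun α => by
  classical
  let f := Limits.Sigma.map (fun j => (T j).mor₁)
  let g := Limits.Sigma.map (fun j => (T j).mor₂)
  let F := shiftFunctor D m
  obtain ⟨s, hs⟩ := h₃ (α ≫ F.map g)
  let β := α - α ≫ F.map (DCat.finProj (fun j => (T j).obj₂) s)
  have hz : β ≫ F.map g = 0 := by
    simp only [β, Preadditive.sub_comp, Category.assoc, ← F.map_comp, sub_eq_zero, g, finProj_natural]
    rw [F.map_comp, ← Category.assoc]
    exact hs.symm
  have hd := Triangle.shift_distinguished _ (DCat.coproduct_distinguished T hT) m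
  let Tm := (Triangle.shiftFunctor D m).obj (Triangle.mk f g
    (Limits.Sigma.desc (fun j => (T j).mor₃ ≫ (shiftFunctor D (1 : ℤ)).map (Limits.Sigma.ι (fun j => (T j).obj₁) j))))
  obtain ⟨γ, hγ⟩ := Triangle.coyoneda_exact₂ Tm hd β (by
    show β ≫ (m.negOnePow • F.map g) = 0
    rw [Linear.comp_units_smul, hz, smul_zero])
  obtain ⟨u₁, hu⟩ := h₁ (m.negOnePow • γ)
  refine ⟨s ∪ u₁, ?_⟩
  have hγ' : β = (m.negOnePow • γ) ≫ F.map f := by
    rw [hγ]
    show γ ≫ (m.negOnePow • F.map f) = _
    rw [Linear.comp_units_smul, Linear.units_smul_comp]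
  have hβ : β ≫ F.map (DCat.finProj (fun j => (T j).obj₂) (s ∪ u₁)) = β := by
    rw [hγ', Category.assoc, ← F.map_comp,
      show f ≫ DCat.finProj (fun j => (T j).obj₂) (s ∪ u₁) = DCat.finProj (fun j => (T j).obj₁) (s ∪ u₁) ≫ f from
        (finProj_natural _ _).symm, F.map_comp, ← Category.assoc, fin'_mono hu Finset.subset_union_right]
  have e : α = β + α ≫ F.map (DCat.finProj (fun j => (T j).obj₂) s) := by simp [β]
  conv_rhs => rw [e]
  conv_lhs => rw [e]
  rw [Preadditive.add_comp, hβ, Category.assoc, ← F.map_comp, DCat.finProj_comp _ Finset.subset_union_left]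

theorem bijective_of_fin' (K : κ → D) (P : D) (h : Fin' K P 0) :
    Function.Bijective (CohDer.homSumToHomCoprod P K) := by
  classical
  have happ : ∀ (i : κ) (f : P ⟶ K i),
      CohDer.homSumToHomCoprod P K (DirectSum.of _ i f) = f ≫ Limits.Sigma.ι K i := fun i f => by
    simp only [CohDer.homSumToHomCoprod]
    erw [DirectSum.toAddMonoid_of]
    rfl
  refine ⟨?_, fun α => ?_⟩
  · rw [injective_iff_map_eq_zero]
    intro z hz
    refine DFinsupp.ext fun i => ?_
    have e : CohDer.homSumToHomCoprod P K z ≫ DCat.coordProj K i = z i := by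
      conv_lhs => rw [← DirectSum.sum_support_of z, map_sum, Preadditive.sum_comp]
      rw [Finset.sum_eq_single i]
      · rw [happ, Category.assoc, DCat.ι_coordProj, Category.comp_id]
      · intro j _ hj
        rw [happ]
        simp [DCat.coordProj, dif_neg hj]
      · intro hi
        rw [DFinsupp.notMem_support_iff.1 hi]
        simp
    rw [← e, hz, zero_comp]
    rfl
  · let η := (shiftFunctorZero D ℤ)
    obtain ⟨s, hs⟩ := h (α ≫ η.inv.app (∐ K))
    have hs' : α ≫ DCat.finProj K s = α := by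
      rw [← cancel_mono (η.inv.app (∐ K)), Category.assoc]
      refine Eq.trans ?_ hs
      rw [Category.assoc]
      exact congrArg (α ≫ ·) (η.inv.naturality (DCat.finProj K s))
    refine ⟨∑ i ∈ s, DirectSum.of (fun i => P ⟶ K i) i (α ≫ DCat.coordProj K i), ?_⟩
    rw [map_sum]
    conv_rhs => rw [← hs', DCat.finProj_eq_sum, Preadditive.comp_sum]
    exact Finset.sum_congr rfl fun i _ => (happ i _).trans (Category.assoc _ _ _)

end General

variable {A : Type u} [Category.{v} A] [Abelian A] [IsGrothendieckAbelian.{v} A] [HasExt.{v} A] [HasCoproducts.{v} A]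
  [HasDerivedCategory.{v} A]

theorem hasCoproducts_derived : HasCoproducts.{v} (DerivedCategory A) := fun ι =>
  DCat.hasCoproductsOfShape_derived (A := A) DCat.enoughKInj_of_isGrothendieckAbelian ι

attribute [local instance] hasCoproducts_derived

variable {P₀ : A}

theorem ext_finite_support (hP : ∀ (p : ℕ) (ι : Type v), PreservesColimitsOfShape (Discrete ι) (extFunctorObj P₀ p))
    {ι : Type v} (F : ι → A) (n : ℕ) (x : Ext P₀ (∐ F) n) :
    ∃ s : Finset ι, x.comp (Ext.mk₀ (DCat.finProj F s)) (add_zero n) = x := by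
  classical
  haveI := hP n ι
  let G := extFunctorObj P₀ n
  let H : AddSubgroup (G.obj (∐ F)) :=
    { carrier := {y | ∃ s : Finset ι, G.map (DCat.finProj F s) y = y}
      zero_mem' := ⟨∅, map_zero _⟩
      add_mem' := by
        rintro a b ⟨s, hs⟩ ⟨t, ht⟩
        refine ⟨s ∪ t, ?_⟩
        have k1 : G.map (DCat.finProj F (s ∪ t)) a = a := by
          rw [← hs, ← ConcreteCategory.comp_apply, ← G.map_comp, DCat.finProj_comp F Finset.subset_union_left]
        have k2 : G.map (DCat.finProj F (s ∪ t)) b = b := by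
          rw [← ht, ← ConcreteCategory.comp_apply, ← G.map_comp, DCat.finProj_comp F Finset.subset_union_right]
        rw [map_add, k1, k2]
      neg_mem' := by
        rintro a ⟨s, hs⟩
        exact ⟨s, by rw [map_neg, hs]⟩ }
  let hc := isColimitCofanMkObjOfIsColimit G _ _ (coproductIsCoproduct F)
  have h0 : AddCommGrpCat.ofHom (QuotientAddGroup.mk' H) =
      (0 : G.obj (∐ F) ⟶ AddCommGrpCat.of (G.obj (∐ F) ⧸ H)) :=
    Cofan.IsColimit.hom_ext hc _ _ fun j => by
      ext (y : G.obj (F j))
      refine (QuotientAddGroup.eq_zero_iff _).2 ⟨{j}, ?_⟩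
      show G.map (DCat.finProj F {j}) (G.map (Limits.Sigma.ι F j) y) = G.map (Limits.Sigma.ι F j) y
      rw [← ConcreteCategory.comp_apply, ← G.map_comp, DCat.ι_finProj, if_pos (Finset.mem_singleton_self j)]
  exact (QuotientAddGroup.eq_zero_iff x).1 (ConcreteCategory.congr_hom h0 x)

variable (hP : ∀ (p : ℕ) (ι : Type v), PreservesColimitsOfShape (Discrete ι) (extFunctorObj P₀ p))

local notation "t₀" => (DerivedCategory.TStructure.t : CategoryTheory.Triangulated.TStructure (DerivedCategory A))

theorem hom_eq_zero {E : DerivedCategory A} (a m : ℤ) [hE : E.IsGE a] (h : m < a)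
    (α : (singleFunctor A 0).obj P₀ ⟶ E⟦m⟧) : α = 0 := by
  haveI : (E⟦m⟧).IsGE (a - m) := (t₀).isGE_shift E a m (a - m) (by omega)
  exact (t₀).zero α 0 (a - m) (by omega)

theorem isGE_sigma {ι : Type v} (K : ι → DerivedCategory A) (a : ℤ) (h : ∀ i, (K i).IsGE a) : (∐ K).IsGE a := by
  rw [DerivedCategory.isGE_iff]
  intro j hj
  obtain ⟨G, hG, ⟨e⟩⟩ := DQCoh.exists_homology_sigma_derived K j
  refine IsZero.of_iso ((IsZero.iff_id_eq_zero _).2 (colimit.hom_ext fun ⟨i⟩ => ?_)) e
  haveI := h i
  exact ((DerivedCategory.isZero_of_isGE (K i) a j hj).of_iso (hG i).some).eq_of_src _ _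

include hP

theorem fin'_single0 {ι : Type v} (F : ι → A) (q : ℤ)
    (β : (singleFunctor A 0).obj P₀ ⟶ ((singleFunctor A 0).obj (∐ F))⟦q⟧) :
    ∃ s : Finset ι, β ≫ ((singleFunctor A 0).map (DCat.finProj F s))⟦q⟧' = β := by
  by_cases hq : 0 ≤ q
  · obtain ⟨n, rfl⟩ := Int.eq_ofNat_of_zero_le hq
    obtain ⟨x, hx⟩ := (Ext.homEquiv (X := P₀) (Y := ∐ F) (n := n)).surjective β
    obtain ⟨s, hs⟩ := ext_finite_support hP F n x
    refine ⟨s, ?_⟩
    have h1 := congrArg Ext.hom hs
    rw [Ext.comp_hom, Ext.mk₀_hom, ShiftedHom.comp_mk₀] at h1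
    rw [← hx]
    exact h1
  · exact ⟨∅, by rw [hom_eq_zero 0 q (by omega) β, zero_comp]⟩

theorem fin'_single {ι : Type v} (F : ι → A) (b m : ℤ) :
    Fin' (fun i => (singleFunctor A b).obj (F i)) ((singleFunctor A 0).obj P₀) m := fun α => by
  classical
  haveI := DCat.RHomExist.preservesCoproducts_Q (A := A) ι
  haveI : PreservesColimitsOfShape (Discrete ι) (HomologicalComplex.single A (ComplexShape.up ℤ) b) := inferInstance
  haveI : PreservesColimitsOfShape (Discrete ι) (CochainComplex.singleFunctor A b ⋙ DerivedCategory.Q) :=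
    comp_preservesColimitsOfShape (HomologicalComplex.single A (ComplexShape.up ℤ) b) _
  haveI : PreservesColimitsOfShape (Discrete ι) (singleFunctor A b) :=
    preservesColimitsOfShape_of_natIso (DerivedCategory.singleFunctorIsoCompQ A b).symm
  let c : (singleFunctor A b).obj (∐ F) ≅ ∐ fun i => (singleFunctor A b).obj (F i) :=
    PreservesCoproduct.iso (singleFunctor A b) F
  have hc : ∀ s, DCat.finProj (fun i => (singleFunctor A b).obj (F i)) s ≫ c.inv =
      c.inv ≫ (singleFunctor A b).map (DCat.finProj F s) := fun s => by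
    refine Limits.Sigma.hom_ext _ _ fun i => ?_
    simp only [c, PreservesCoproduct.inv_hom]
    rw [ι_comp_sigmaComparison_assoc, ← Functor.map_comp, DCat.ι_finProj, ← Category.assoc, DCat.ι_finProj]
    split_ifs
    · rw [ι_comp_sigmaComparison]
    · rw [Functor.map_zero, zero_comp]
  let η : singleFunctor A b ⋙ shiftFunctor (DerivedCategory A) m ≅
      singleFunctor A 0 ⋙ shiftFunctor (DerivedCategory A) (m - b) :=
    Functor.isoWhiskerLeft _ (shiftFunctorAdd' (DerivedCategory A) b (m - b) m (by omega)) ≪≫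
      (Functor.associator _ _ _).symm ≪≫ Functor.isoWhiskerRight ((singleFunctors A).shiftIso b 0 b (by omega)) _
  obtain ⟨s, hs⟩ := fin'_single0 hP F (m - b) ((α ≫ c.inv⟦m⟧') ≫ η.hom.app (∐ F))
  refine ⟨s, ?_⟩
  have hn := η.hom.naturality (DCat.finProj F s)
  simp only [Functor.comp_map] at hn
  rw [← cancel_mono ((shiftFunctor (DerivedCategory A) m).map c.inv), Category.assoc, ← Functor.map_comp,
    hc s, Functor.map_comp, ← cancel_mono (η.hom.app (∐ F))]
  simp only [Category.assoc] at hs ⊢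
  rw [hn]
  exact hs

theorem fin'_bounded {ι : Type v} : ∀ (k : ℕ) (a : ℤ) (K : ι → DerivedCategory A), (∀ i, (K i).IsGE a) →
    (∀ i, (K i).IsLE (a - 1 + k)) → ∀ m : ℤ, Fin' K ((singleFunctor A 0).obj P₀) m := by
  intro k
  induction k with
  | zero =>
    intro a K hG hL m
    have hz : ∀ i, IsZero (K i) := fun i => by
      haveI := hG i
      haveI := hL i
      exact DCat.WayOut.isZero_of_isGE_of_isLE (K i) a (a - 1 + ((0 : ℕ) : ℤ)) (by omega)
    have h0 : IsZero (∐ K) := (IsZero.iff_id_eq_zero _).2 (Limits.Sigma.hom_ext _ _ fun i => (hz i).eq_of_src _ _)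
    exact fin'_of_zero fun α => ((shiftFunctor (DerivedCategory A) m).map_isZero h0).eq_of_tgt α 0
  | succ k ih =>
    intro a K hG hL m
    let b : ℤ := a + k
    let T : ι → Triangle (DerivedCategory A) := fun i => ((t₀).triangleLTGE b).obj (K i)
    have hT : ∀ i, T i ∈ distTriang _ := fun i => (t₀).triangleLTGE_distinguished b (K i)
    have h₁ : Fin' (fun i => (T i).obj₁) ((singleFunctor A 0).obj P₀) m := by
      refine ih a _ (fun i => ?_) (fun i => ?_) m
      · haveI := hG i
        exact (inferInstance : (((t₀).truncLT b).obj (K i)).IsGE a)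
      · haveI := (t₀).isLE_truncLT_obj (K i) b (b - 1) (by omega)
        exact (t₀).isLE_of_le (((t₀).truncLT b).obj (K i)) (b - 1) _ (by omega)
    have h₃ : Fin' (fun i => (T i).obj₃) ((singleFunctor A 0).obj P₀) m := by
      have hM : ∀ i, ∃ M : A, Nonempty (((t₀).truncGE b).obj (K i) ≅ (singleFunctor A b).obj M) := fun i => by
        haveI h3 : (((t₀).truncGE b).obj (K i)).IsGE b := (t₀).isGE_truncGE_obj (K i) b b (by omega)
        haveI := hL i
        haveI : (K i).IsLE b := (t₀).isLE_of_le (K i) (a - 1 + ((k + 1 : ℕ) : ℤ)) b (by omega)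
        haveI : (((t₀).truncGE b).obj (K i)).IsLE b := inferInstance
        exact DerivedCategory.exists_iso_singleFunctor_obj_of_isGE_of_isLE _ b
      choose M hM using hM
      exact fin'_of_iso (fun i => (hM i).some.symm) (fin'_single hP M b m)
    exact fin'_of_triangles T hT h₁ h₃

theorem fin'_pt {ι : Type v} (K : ι → DerivedCategory A) (a : ℤ) (hG : ∀ i, (K i).IsGE a) (m : ℤ) :
    Fin' K ((singleFunctor A 0).obj P₀) m := by
  let T : ι → Triangle (DerivedCategory A) := fun i => ((t₀).triangleLTGE (m + 1)).obj (K i)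
  have hT : ∀ i, T i ∈ distTriang _ := fun i => (t₀).triangleLTGE_distinguished (m + 1) (K i)
  refine fin'_of_triangles T hT (fin'_bounded hP (m - a + 1).toNat a _ (fun i => ?_) (fun i => ?_) m)
    (fin'_of_zero fun α => ?_)
  · haveI := hG i
    exact (inferInstance : (((t₀).truncLT (m + 1)).obj (K i)).IsGE a)
  · haveI := (t₀).isLE_truncLT_obj (K i) (m + 1) m (by omega)
    exact (t₀).isLE_of_le (((t₀).truncLT (m + 1)).obj (K i)) m _ (by omega)
  · haveI : (∐ fun i => (T i).obj₃).IsGE (m + 1) :=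
      isGE_sigma _ _ fun i => (t₀).isGE_truncGE_obj (K i) (m + 1) (m + 1) (by omega)
    exact hom_eq_zero (m + 1) m (by omega) α

end Groth.Agent.HTop16.CompactBdd
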