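import Groth.Agent.HTop16.FinPresB
import Mathlib.CategoryTheory.Abelian.GrothendieckAxioms.Colim
import Mathlib.CategoryTheory.Comma.StructuredArrow.Basic
import Mathlib.CategoryTheory.InducedCategory
import Mathlib.CategoryTheory.Limits.Connected
import Mathlib.CategoryTheory.Filtered.Connected

/-!
# Modules as filtered colimits of finitely presented modules
-/

set_option autoImplicit false
set_option backward.isDefEq.respectTransparency false
set_option backward.isDefEq.respectTransparency.types false
set_option linter.all false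

universe u

open CategoryTheory CategoryTheory.Limits Opposite

namespace Groth.Agent.HTop16.FinPresB

open DerCompLib (Sec secRes secMap secEquiv secEquiv_comp secMap_secRes)

variable {C : Type u} [SmallCategory C] {J : GrothendieckTopology C}

/-- A presentation with members in `B`. -/
structure Pres (O : Sheaf J CommRingCat.{u}) (B : Set C) : Type u where
  m : ℕ
  n : ℕ
  V : Fin m → C
  U : Fin n → C
  ψ : (∐ fun j => ModSite.freeOn O (V j)) ⟶ ∐ fun i => ModSite.freeOn O (U i)
  hV : ∀ j, V j ∈ B
  hU : ∀ i, U i ∈ B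

variable {O : Sheaf J CommRingCat.{u}} {B : Set C}

/-- The presented module. -/
noncomputable abbrev Pres.obj (P : Pres O B) : ModSite.Mod O := cokernel P.ψ

/-- Modules of type A over `F`. -/
abbrev Idx (B : Set C) (F : ModSite.Mod O) : Type u :=
  CostructuredArrow (inducedFunctor (Pres.obj (O := O) (B := B))) F

/-- The diagram. -/
noncomputable abbrev diag (B : Set C) (F : ModSite.Mod O) : Idx B F ⥤ ModSite.Mod O :=
  CostructuredArrow.proj _ F ⋙ inducedFunctor _

/-- The natural map to `F`. -/
noncomputable def toF (B : Set C) (F : ModSite.Mod O) : diag B F ⟶ (Functor.const (Idx B F)).obj F where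
  app l := l.hom
  naturality l l' g := by
    have := CostructuredArrow.w g
    simpa using this

lemma Pres.isA (P : Pres O B) : IsA B P.obj :=
  (isA_iff _).2 ⟨P.m, P.n, P.V, P.U, P.ψ, P.hV, P.hU, ⟨Iso.refl _⟩⟩

/-- A presentation as an object of the induced category. -/
noncomputable abbrev Pres.ind (P : Pres O B) : InducedCategory (ModSite.Mod O) (Pres.obj (O := O) (B := B)) := P

lemma exists_idx {F M : ModSite.Mod O} (hM : IsA B M) (f : M ⟶ F) :
    ∃ (l : Idx B F) (e : M ≅ l.left.obj), e.hom ≫ l.hom = f := by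
  obtain ⟨m, n, V, U, ψ, hV, hU, ⟨e⟩⟩ := (isA_iff M).1 hM
  exact ⟨CostructuredArrow.mk (S := inducedFunctor (Pres.obj (O := O) (B := B))) (Y := Pres.ind ⟨m, n, V, U, ψ, hV, hU⟩) (e.inv ≫ f), e, e.hom_inv_id_assoc f⟩

/-- A morphism of the index category. -/
noncomputable def idxHom {F : ModSite.Mod O} {l l' : Idx B F} (g : l.left.obj ⟶ l'.left.obj) (h : g ≫ l'.hom = l.hom) :
    l ⟶ l' :=
  CostructuredArrow.homMk (InducedCategory.homMk g) h

variable (hB₁ : ∀ X : C, ∃ (κ : Type u) (Y : κ → C) (g : ∀ k, Y k ⟶ X), Sieve.ofArrows Y g ∈ J X ∧ ∀ k, Y k ∈ B)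
  (hB₂ : ∀ U ∈ B, ToposFin.IsQCSite J U)

include hB₁ in
lemma hom_ext_B {M T : ModSite.Mod O} (k : M ⟶ T)
    (h : ∀ U ∈ B, ∀ s : Sec M U, secMap k U s = 0) : k = 0 := by
  refine SheafOfModules.hom_ext (PresheafOfModules.hom_ext fun X => ModuleCat.hom_ext (LinearMap.ext fun s => ?_))
  obtain ⟨κ, Y, g, hg, hY⟩ := hB₁ X.unop
  refine sec_sep T hg (secMap k X.unop s) 0 fun W c hc => ?_
  obtain ⟨i, d, rfl⟩ := (Sieve.mem_ofArrows_iff _ _ _).1 hc
  rw [← DerCompLib.secRes_comp, ← secMap_secRes, h _ (hY i), map_zero, map_zero]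

include hB₁ hB₂

lemma isFiltered_idx (F : ModSite.Mod O) : IsFiltered (Idx B F) := by
  have hne : Nonempty (Idx B F) :=
    ⟨(exists_idx (isA_free (O := O) (PEmpty.elim : PEmpty → C) fun k => k.elim) (0 : _ ⟶ F)).choose⟩
  have key : IsFilteredOrEmpty (Idx B F) :=
    { cocone_objs := fun l l' => by
        obtain ⟨κ, ι, _, _, V, U, ψ, p, w, hV, hU, ⟨hc⟩⟩ := l'.left.isA
        let φ : Fr O V ⟶ l.left.obj ⊞ Fr O U := ψ ≫ biprod.inr
        have hA : IsA B (cokernel φ) := isA_coker hB₁ hB₂ φ _ (cokernel.condition φ) (cokernelIsCokernel φ)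
          (isA_free _ hV) (isA_sum l.left.isA U hU)
        obtain ⟨l'', e, he⟩ := exists_idx hA (cokernel.desc φ (biprod.desc l.hom (p ≫ l'.hom))
          (by simp [φ, reassoc_of% w]))
        obtain ⟨q, hq⟩ := CokernelCofork.IsColimit.desc' hc (biprod.inr ≫ cokernel.π φ)
          ((Category.assoc _ _ _).symm.trans (cokernel.condition φ))
        change p ≫ q = _ at hq
        haveI : Epi p := Cofork.IsColimit.epi hc
        refine ⟨l'', idxHom (biprod.inl ≫ cokernel.π φ ≫ e.hom) (by simp [he]),
          idxHom (q ≫ e.hom) ?_, trivial⟩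
        rw [← cancel_epi p, Category.assoc, he, reassoc_of% hq, cokernel.π_desc, biprod.inr_desc]
      cocone_maps := fun l l' f g => by
        let a : l.left.obj ⟶ l'.left.obj := f.left.hom - g.left.hom
        have ha : a ≫ l'.hom = 0 := by
          rw [Preadditive.sub_comp, sub_eq_zero]
          exact (CostructuredArrow.w f).trans (CostructuredArrow.w g).symm
        have hA : IsA B (cokernel a) := isA_coker hB₁ hB₂ a _ (cokernel.condition a) (cokernelIsCokernel a)
          l.left.isA l'.left.isA
        obtain ⟨l'', e, he⟩ := exists_idx hA (cokernel.desc a l'.hom ha)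
        refine ⟨l'', idxHom (cokernel.π a ≫ e.hom) (by simp [he]), ?_⟩
        apply CostructuredArrow.hom_ext
        apply InducedCategory.hom_ext
        change f.left.hom ≫ cokernel.π a ≫ e.hom = g.left.hom ≫ cokernel.π a ≫ e.hom
        rw [← sub_eq_zero, ← Preadditive.sub_comp, cokernel.condition_assoc, zero_comp] }
  exact { nonempty := hne, __ := key }

theorem isColimit_toF (F : ModSite.Mod O) : Nonempty (IsColimit (Cocone.mk F (toF B F))) := by
  haveI := isFiltered_idx hB₁ hB₂ F
  haveI : HasExactColimitsOfShape (Idx B F) (ModSite.Mod O) :=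
    DCat.sheafOfModules_exactColimits J (ModSite.ringSh O) (Idx B F)
  let τ := toF B F
  haveI : PreservesFiniteLimits (colim (J := Idx B F) (C := ModSite.Mod O)) :=
    HasExactColimitsOfShape.preservesFiniteLimits
  have hzero : colim.map (kernel.ι τ) = 0 := by
    refine colimit.hom_ext fun l => ?_
    refine Eq.trans ?_ comp_zero.symm
    refine (colimit.ι_map (kernel.ι τ) l).trans ?_
    refine hom_ext_B hB₁ _ fun U hU s => ?_
    let y : Fr O (fun _ : Unit => U) ⟶ (diag B F).obj l := ofSec fun _ => secMap ((kernel.ι τ).app l) U s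
    have hy : y ≫ l.hom = 0 := hom_ext_gen fun k => by
      rw [genSec_comp, genSec_ofSec, genSec_zero, ← DerCompLib.secMap_comp,
        show (kernel.ι τ).app l ≫ l.hom = 0 from NatTrans.congr_app (kernel.condition τ) l]
      rfl
    have hA : IsA B (cokernel y) := isA_coker hB₁ hB₂ y _ (cokernel.condition y) (cokernelIsCokernel y)
      (isA_free _ fun _ => hU) l.left.isA
    obtain ⟨l', e, he⟩ := exists_idx hA (cokernel.desc y l.hom hy)
    let g : l ⟶ l' := idxHom (cokernel.π y ≫ e.hom) (by simp [he])
    have h : y ≫ colimit.ι (diag B F) l = 0 := by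
      rw [← colimit.w (diag B F) g]
      change y ≫ (cokernel.π y ≫ e.hom) ≫ _ = 0
      rw [Category.assoc, cokernel.condition_assoc, zero_comp]
    have h' := congrArg (genSec · ()) h
    rw [genSec_comp, genSec_ofSec, genSec_zero, ← DerCompLib.secMap_comp] at h'
    exact h'
  haveI hmono : Mono (colim.map τ) := by
    apply Preadditive.mono_of_kernel_zero
    rw [← cancel_epi (PreservesKernel.iso colim τ).hom, comp_zero, PreservesKernel.iso_hom,
      kernelComparison_comp_ι, hzero]
  haveI : IsConnected (Idx B F) := IsFiltered.isConnected _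
  let κ := isColimitConstCocone (Idx B F) F
  let c₀ := colimit.cocone ((Functor.const (Idx B F)).obj F)
  haveI : IsIso (colimit.desc _ (constCocone (Idx B F) F)) :=
    ((colimit.isColimit _).coconePointUniqueUpToIso κ).isIso_hom
  have hdesc : colim.map τ ≫ colimit.desc _ (constCocone (Idx B F) F) = colimit.desc (diag B F) (Cocone.mk F τ) := by
    refine colimit.hom_ext fun l => ?_
    erw [colimit.ι_map_assoc, colimit.ι_desc, colimit.ι_desc]
    exact Category.comp_id _
  haveI : Mono (colimit.desc (diag B F) (Cocone.mk F τ)) := hdesc ▸ mono_comp _ _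
  haveI : Epi (colimit.desc (diag B F) (Cocone.mk F τ)) := Preadditive.epi_of_cancel_zero _ fun {T} k hk => by
    refine hom_ext_B hB₁ k fun U hU s => ?_
    let y : Fr O (fun _ : Unit => U) ⟶ F := ofSec fun _ => s
    obtain ⟨l, e, he⟩ := exists_idx (isA_free _ fun _ => hU) y
    have h : y ≫ k = 0 := by
      have := congrArg (fun z => e.hom ≫ colimit.ι (diag B F) l ≫ z) hk
      simp only [colimit.ι_desc_assoc, comp_zero] at this
      rw [← he, Category.assoc]
      exact this
    have h' := congrArg (genSec · ()) h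
    rw [genSec_comp, genSec_ofSec, genSec_zero] at h'
    exact h'
  haveI : IsIso (colimit.desc (diag B F) (Cocone.mk F τ)) := isIso_of_mono_of_epi _
  haveI : IsIso ((colimit.isColimit (diag B F)).desc (Cocone.mk F τ)) := ‹_›
  exact ⟨IsColimit.ofPointIso (colimit.isColimit (diag B F))⟩

end Groth.Agent.HTop16.FinPresB
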