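import Groth.Agent.HTop16.CompactDim
import Groth.Agent.HTop16.QcSum
import Groth.Agent.HTop16.FinPresColim
import Groth.Agent.CommAlg4.CompactRetract
import Groth.Prelude.Def_CohSite
import Mathlib.Algebra.Homology.DerivedCategory.Ext.EnoughProjectives
import Mathlib.CategoryTheory.Sites.LocallySurjective
import Mathlib.CategoryTheory.Sites.EpiMono

/-!
# Compact objects on ringed sites
-/

set_option autoImplicit false
set_option backward.isDefEq.respectTransparency false
set_option backward.isDefEq.respectTransparency.types false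
set_option linter.all false

universe v u

open CategoryTheory CategoryTheory.Limits Opposite
open CategoryTheory.Abelian

namespace Groth.Agent.HTop16.CompactSite

open DerCompLib (Sec secRes secMap secEquiv secEquiv_comp secMap_secRes)

/-- Ext out of a projective object with finite supports of maps. -/
theorem preservesCoproducts_ext {A : Type v} [Category.{u} A] [Abelian A] [HasExt.{u} A] [HasCoproducts.{u} A]
    {P : A} [Projective P]
    (h : ∀ {ι : Type u} (F : ι → A) (φ : P ⟶ ∐ F), ∃ s : Finset ι, φ ≫ DCat.finProj F s = φ)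
    (p : ℕ) (ι : Type u) : PreservesColimitsOfShape (Discrete ι) (extFunctorObj P p) := by
  refine QcSum.preservesCoproducts_of_finite_support (extFunctorObj P p) ι fun F x => ?_
  cases p with
  | zero =>
    obtain ⟨φ, rfl⟩ := (Ext.mk₀_bijective P (∐ F)).2 x
    obtain ⟨s, hs⟩ := h F φ
    refine ⟨s, ?_⟩
    show (Ext.mk₀ φ).comp (Ext.mk₀ (DCat.finProj F s)) (add_zero 0) = Ext.mk₀ φ
    rw [Ext.mk₀_comp_mk₀, hs]
  | succ p =>
    exact ⟨∅, (Ext.eq_zero_of_projective _).trans (Ext.eq_zero_of_projective _).symm⟩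

variable {C : Type u} [SmallCategory C] {J : GrothendieckTopology C} (O : Sheaf J CommRingCat.{u})

lemma projective_freeOn {U : C} (hwc : CohSite.IsWeaklyContractible J U) : Projective (ModSite.freeOn O U) := by
  refine ⟨fun {E X} f e he => ?_⟩
  let T : ModSite.Mod O ⥤ Sheaf J (Type u) :=
    SheafOfModules.toSheaf.{u} (ModSite.ringSh O) ⋙ sheafCompose J (forget AddCommGrpCat.{u})
  haveI : Sheaf.IsLocallySurjective (T.map e) := ⟨fun {W} y => by
    obtain ⟨R, hR, h⟩ := DerCompLib.exists_local_preimage e (X := W) (y : Sec X W)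
    refine J.superset_covering ?_ hR
    intro V g hg
    exact h g hg⟩
  haveI : Epi (T.map e) := Sheaf.epi_of_isLocallySurjective _
  obtain ⟨x, hx⟩ := hwc _ _ (T.map e) inferInstance (secEquiv U X f)
  refine ⟨(secEquiv U E).symm x, (secEquiv U X).injective ?_⟩
  rw [secEquiv_comp, AddEquiv.apply_symm_apply]
  exact hx

lemma finite_support_hom {U : C} (hU : ToposFin.IsQCSite J U) {ι : Type u} (F : ι → ModSite.Mod O)
    (φ : ModSite.freeOn O U ⟶ ∐ F) : ∃ s : Finset ι, φ ≫ DCat.finProj F s = φ := by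
  obtain ⟨s, hs⟩ := QcSum.finite_support_sec O F hU (secEquiv U _ φ)
  exact ⟨s, (secEquiv U _).injective (by rw [secEquiv_comp, hs])⟩

theorem isCompactObject_free [HasDerivedCategory.{u} (ModSite.Mod O)]
    [HasCoproducts.{u} (DerivedCategory (ModSite.Mod O))] {U : C} (hU : ToposFin.IsQCSite J U)
    (hwc : CohSite.IsWeaklyContractible J U) :
    CohDer.IsCompactObject ((DerivedCategory.singleFunctor (ModSite.Mod O) 0).obj (ModSite.freeOn O U)) := by
  haveI := projective_freeOn O hwc
  intro ι X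
  exact CompactBdd.bijective_of_fin' X _ (CompactBdd.fin'_all 0
    (fun F p hp => by
      obtain ⟨q, rfl⟩ : ∃ q, p = q + 1 := ⟨p - 1, by omega⟩
      exact subsingleton_of_forall_eq 0 fun x => Ext.eq_zero_of_projective x)
    (fun p κ => preservesCoproducts_ext (fun F φ => finite_support_hom O hU F φ) p κ) X 0)

theorem exists_epi_qc (Q : C → Prop)
    (hC : ∀ V : C, ∃ R ∈ J V, ∀ ⦃W : C⦄ (g : W ⟶ V), R g →
      ∃ (U : C) (a : W ⟶ U) (b : U ⟶ V), Q U ∧ a ≫ b = g)
    (X : ModSite.Mod O) :
    ∃ (ι : Type u) (E : ι → ModSite.Mod O) (π : ∐ E ⟶ X),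
      (∀ i, ∃ U, Q U ∧ E i = ModSite.freeOn O U) ∧ Epi π := by
  let ι := Σ U : {U : C // Q U}, Sec X U.1
  let E : ι → ModSite.Mod O := fun i => ModSite.freeOn O i.1.1
  let π : ∐ E ⟶ X := Limits.Sigma.desc fun i => (secEquiv i.1.1 X).symm i.2
  refine ⟨ι, E, π, fun i => ⟨i.1.1, i.1.2, rfl⟩, Preadditive.epi_of_cancel_zero _ fun {T} k hk => ?_⟩
  refine FinPresB.hom_ext_B (B := {U : C | Q U}) (fun V => ?_) k fun U hU s => ?_
  · obtain ⟨R, hR, h⟩ := hC V
    choose Y a b hY hab using h
    refine ⟨Σ W : C, {g : W ⟶ V // R g}, fun z => Y z.2.1 z.2.2, fun z => b z.2.1 z.2.2,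
      J.superset_covering ?_ hR, fun z => hY z.2.1 z.2.2⟩
    intro W g hg
    exact (Sieve.mem_ofArrows_iff _ _ _).2 ⟨⟨W, g, hg⟩, a g hg, (hab g hg).symm⟩
  · have h := congrArg (fun z => Limits.Sigma.ι E ⟨⟨U, hU⟩, s⟩ ≫ z) hk
    simp only [π, Limits.Sigma.ι_desc_assoc, comp_zero] at h
    have h' := congrArg (secEquiv U T) h
    rw [secEquiv_comp, AddEquiv.apply_symm_apply, map_zero] at h'
    exact h'

end Groth.Agent.HTop16.CompactSite
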