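import Mathlib.CategoryTheory.Sites.ConstantSheaf
import Mathlib.CategoryTheory.Sites.LeftExact
import Mathlib.CategoryTheory.Sites.Adjunction
import Mathlib.CategoryTheory.Abelian.Exact
import Mathlib.Algebra.Category.ModuleCat.EpiMono
import Mathlib.Algebra.Category.ModuleCat.Limits
import Mathlib.Algebra.Category.ModuleCat.Colimits
import Mathlib.Algebra.Category.ModuleCat.FilteredColimits
import Mathlib.Algebra.Homology.ShortComplex.ModuleCat
import Mathlib.Algebra.Module.FinitePresentation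
import Mathlib.LinearAlgebra.TensorProduct.RightExactness
import Mathlib.RingTheory.Flat.Tensor
import Mathlib.CategoryTheory.Sites.Limits
import Mathlib.CategoryTheory.Linear.FunctorCategory
import Mathlib.CategoryTheory.Limits.Preserves.FunctorCategory

/-!
# Sections of constant sheaves of modules
-/

set_option autoImplicit false
set_option backward.isDefEq.respectTransparency false
set_option linter.all false

universe u

open CategoryTheory CategoryTheory.Limits Opposite TensorProduct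

namespace Groth.Agent.HTop16.ConstSections

variable {C : Type u} [SmallCategory C] (J : GrothendieckTopology C) (Λ : Type u) [CommRing Λ] (U : C)

/-- Sections over `U` of constant sheaves. -/
noncomputable abbrev Φ : ModuleCat.{u} Λ ⥤ ModuleCat.{u} Λ :=
  constantSheaf J (ModuleCat.{u} Λ) ⋙ sheafToPresheaf J _ ⋙ (evaluation Cᵒᵖ (ModuleCat.{u} Λ)).obj (op U)

instance : (Functor.const Cᵒᵖ : ModuleCat.{u} Λ ⥤ Cᵒᵖ ⥤ ModuleCat.{u} Λ).Additive where

instance preservesFiniteLimits_constantSheaf : PreservesFiniteLimits (constantSheaf J (ModuleCat.{u} Λ)) := by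
  haveI : PreservesFiniteLimits (Functor.const Cᵒᵖ : ModuleCat.{u} Λ ⥤ Cᵒᵖ ⥤ ModuleCat.{u} Λ) :=
    preservesFiniteLimits_of_evaluation _ fun X =>
      preservesFiniteLimits_of_natIso (Functor.constCompEvaluationObj (ModuleCat.{u} Λ) X).symm
  haveI : PreservesFiniteLimits (presheafToSheaf J (ModuleCat.{u} Λ)) := inferInstance
  delta constantSheaf
  exact comp_preservesFiniteLimits _ _

instance : PreservesFiniteLimits (Φ J Λ U) := by
  haveI : PreservesLimitsOfSize.{0, 0} (sheafToPresheaf J (ModuleCat.{u} Λ)) :=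
    (sheafificationAdjunction J (ModuleCat.{u} Λ)).rightAdjoint_preservesLimits
  haveI : PreservesFiniteLimits (sheafToPresheaf J (ModuleCat.{u} Λ)) :=
    PreservesLimitsOfSize.preservesFiniteLimits _
  haveI : PreservesFiniteLimits ((evaluation Cᵒᵖ (ModuleCat.{u} Λ)).obj (op U)) :=
    ⟨fun I => by intros; infer_instance⟩
  exact comp_preservesFiniteLimits _ _

instance : (Φ J Λ U).Additive := by
  haveI := preservesBinaryBiproducts_of_preservesBinaryProducts (Φ J Λ U)
  exact Functor.additive_of_preservesBinaryBiproducts _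

variable {J Λ U}

/-- Sections of constant sheaves turn surjections into surjections. -/
theorem surjective_map {M N : ModuleCat.{u} Λ} (f : M ⟶ N) (hf : Function.Surjective f) :
    Function.Surjective ((Φ J Λ U).map f) := by
  let G := forget (ModuleCat.{u} Λ)
  let e := constantCommuteCompose J G
  let σ : G.obj N ⟶ G.obj M := ↾(Function.surjInv hf)
  have hσ : σ ≫ G.map f = 𝟙 _ := by ext x; exact Function.surjInv_eq hf x
  haveI : IsSplitEpi (G.map f) := ⟨⟨⟨σ, hσ⟩⟩⟩
  haveI : IsSplitEpi ((constantSheaf J (Type u)).map (G.map f)) := inferInstance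
  haveI : IsSplitEpi ((G ⋙ constantSheaf J (Type u)).map f) := ‹_›
  haveI h : IsSplitEpi ((constantSheaf J (ModuleCat.{u} Λ) ⋙ sheafCompose J G).map f) := by
    have hn := e.hom.naturality f
    rw [← IsIso.eq_comp_inv] at hn
    rw [hn]
    exact IsSplitEpi.mk' ⟨e.hom.app N ≫ section_ ((G ⋙ constantSheaf J (Type u)).map f) ≫ inv (e.hom.app M), by simp⟩
  let E := sheafToPresheaf J (Type u) ⋙ (evaluation Cᵒᵖ (Type u)).obj (op U)
  haveI : IsSplitEpi (E.map ((constantSheaf J (ModuleCat.{u} Λ) ⋙ sheafCompose J G).map f)) := inferInstance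
  exact (CategoryTheory.epi_iff_surjective
    (E.map ((constantSheaf J (ModuleCat.{u} Λ) ⋙ sheafCompose J G).map f))).1 inferInstance

instance : (Φ J Λ U).PreservesEpimorphisms where
  preserves {M N} f hf := (ModuleCat.epi_iff_surjective _).2 (surjective_map f ((ModuleCat.epi_iff_surjective f).1 hf))

/-- Sections of constant sheaves are an exact functor. -/
theorem exact_map {M₁ M₂ M₃ : ModuleCat.{u} Λ} (f : M₁ ⟶ M₂) (g : M₂ ⟶ M₃) (h : Function.Exact f g) :
    Function.Exact ((Φ J Λ U).map f) ((Φ J Λ U).map g) := by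
  have hfg : f ≫ g = 0 := by ext x; exact h.apply_apply_eq_zero x
  let S := ShortComplex.mk f g hfg
  have hS : S.Exact := (ShortComplex.ShortExact.moduleCat_exact_iff_function_exact S).2 h
  haveI := (Φ J Λ U).preservesHomology_of_preservesEpis_and_kernels
  exact (ShortComplex.ShortExact.moduleCat_exact_iff_function_exact _).1 (hS.map (Φ J Λ U))

theorem map_smul (r : Λ) {M N : ModuleCat.{u} Λ} (f : M ⟶ N) :
    (Φ J Λ U).map (r • f) = r • (Φ J Λ U).map f := by
  have key : sheafifyMap J ((Functor.const Cᵒᵖ).map (r • f)) = r • sheafifyMap J ((Functor.const Cᵒᵖ).map f) := by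
    refine sheafify_hom_ext J _ _ ((presheafToSheaf J (ModuleCat.{u} Λ)).obj _).property ?_
    rw [← toSheafify_naturality, Linear.comp_smul, ← toSheafify_naturality, ← Linear.smul_comp]
    rfl
  exact congrArg (fun t => NatTrans.app t (op U)) key

variable (M : Type u) [AddCommGroup M] [Module Λ M]

/-- The functorial action on a linear map. -/
noncomputable def pm {Q Q' : Type u} [AddCommGroup Q] [Module Λ Q] [AddCommGroup Q'] [Module Λ Q'] (g : Q →ₗ[Λ] Q') :
    (Φ J Λ U).obj (ModuleCat.of Λ Q) →ₗ[Λ] (Φ J Λ U).obj (ModuleCat.of Λ Q') :=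
  ((Φ J Λ U).map (ModuleCat.ofHom g)).hom

lemma pm_comp {Q Q' Q'' : Type u} [AddCommGroup Q] [Module Λ Q] [AddCommGroup Q'] [Module Λ Q'] [AddCommGroup Q''] [Module Λ Q'']
    (g : Q →ₗ[Λ] Q') (g' : Q' →ₗ[Λ] Q'') (x) : pm (J := J) (U := U) (g' ∘ₗ g) x = pm g' (pm g x) := by
  show ((Φ J Λ U).map (ModuleCat.ofHom g ≫ ModuleCat.ofHom g')).hom x = _
  rw [Functor.map_comp]
  rfl

/-- The canonical comparison. -/
noncomputable def ψ (Q : Type u) [AddCommGroup Q] [Module Λ Q] :
    ((Φ J Λ U).obj (ModuleCat.of Λ M)) ⊗[Λ] Q →ₗ[Λ] (Φ J Λ U).obj (ModuleCat.of Λ (M ⊗[Λ] Q)) :=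
  TensorProduct.lift (LinearMap.flip
    { toFun := fun q => pm ((TensorProduct.mk Λ M Q).flip q)
      map_add' := fun q q' => by
        show ((Φ J Λ U).map (ModuleCat.ofHom _)).hom = ((Φ J Λ U).map _ + (Φ J Λ U).map _).hom
        rw [← Functor.map_add]
        congr 2
        ext m
        simp
      map_smul' := fun r q => by
        show ((Φ J Λ U).map (ModuleCat.ofHom _)).hom = (r • (Φ J Λ U).map _).hom
        rw [← map_smul]
        congr 2
        ext m
        simp })

lemma ψ_tmul {Q : Type u} [AddCommGroup Q] [Module Λ Q] (s : (Φ J Λ U).obj (ModuleCat.of Λ M)) (q : Q) :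
    ψ M Q (s ⊗ₜ q) = pm ((TensorProduct.mk Λ M Q).flip q) s := rfl

lemma ψ_nat {Q Q' : Type u} [AddCommGroup Q] [Module Λ Q] [AddCommGroup Q'] [Module Λ Q'] (g : Q →ₗ[Λ] Q')
    (z : ((Φ J Λ U).obj (ModuleCat.of Λ M)) ⊗[Λ] Q) :
    pm (g.lTensor M) (ψ M Q z) = ψ M Q' (g.lTensor _ z) := by
  induction z using TensorProduct.induction_on with
  | zero => simp only [map_zero]
  | add a b ha hb => simp only [map_add, ha, hb]
  | tmul s q =>
    rw [LinearMap.lTensor_tmul, ψ_tmul, ψ_tmul, ← pm_comp]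
    rfl

lemma pm_id {Q : Type u} [AddCommGroup Q] [Module Λ Q] (x : (Φ J Λ U).obj (ModuleCat.of Λ Q)) :
    pm (LinearMap.id : Q →ₗ[Λ] Q) x = x := by
  show ((Φ J Λ U).map (𝟙 (ModuleCat.of Λ Q))).hom x = x
  rw [(Φ J Λ U).map_id]
  rfl

theorem bijective_ψ_self : Function.Bijective (ψ (J := J) (U := U) (Λ := Λ) M Λ) := by
  refine Function.bijective_iff_has_inverse.2 ⟨fun s => pm (TensorProduct.rid Λ M).toLinearMap s ⊗ₜ 1, fun z => ?_, fun s => ?_⟩
  · obtain ⟨s, rfl⟩ : ∃ s, s ⊗ₜ (1 : Λ) = z := ⟨TensorProduct.rid Λ _ z, (TensorProduct.rid Λ _).symm_apply_apply z⟩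
    refine congrArg (· ⊗ₜ (1 : Λ)) ?_
    rw [ψ_tmul, ← pm_comp]
    refine Eq.trans ?_ (pm_id s)
    congr 2
    ext m
    simp
  · show ψ M Λ _ = s
    rw [ψ_tmul, ← pm_comp]
    refine Eq.trans ?_ (pm_id s)
    congr 2
    ext m
    simp [TensorProduct.smul_tmul']

theorem bijective_ψ_pi (ι : Type) [Fintype ι] : Function.Bijective (ψ (J := J) (U := U) (Λ := Λ) M (ι → Λ)) := by
  classical
  have hz : ∀ z : ((Φ J Λ U).obj (ModuleCat.of Λ M)) ⊗[Λ] (ι → Λ),
      ∑ i, (LinearMap.single Λ (fun _ => Λ) i).lTensor _ ((LinearMap.proj i).lTensor _ z) = z := fun z => by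
    induction z using TensorProduct.induction_on with
    | zero => simp only [map_zero, Finset.sum_const_zero]
    | add a b ha hb => simp only [map_add, Finset.sum_add_distrib, ha, hb]
    | tmul s q =>
      simp only [LinearMap.lTensor_tmul, ← tmul_sum]
      congr 1
      exact Finset.univ_sum_single q
  refine ⟨(injective_iff_map_eq_zero _).2 fun z h => ?_, fun s => ?_⟩
  · rw [← hz z]
    refine Finset.sum_eq_zero fun i _ => ?_
    have h0 : ψ M Λ ((LinearMap.proj (φ := fun _ : ι => Λ) i).lTensor _ z) = 0 := by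
      rw [← ψ_nat, h, map_zero]
    rw [(injective_iff_map_eq_zero _).1 (bijective_ψ_self M).1 _ h0, map_zero]
  · choose t ht using fun i => (bijective_ψ_self (J := J) (U := U) M).2
      (pm ((LinearMap.proj (φ := fun _ : ι => Λ) i).lTensor M) s)
    refine ⟨∑ i, (LinearMap.single Λ (fun _ => Λ) i).lTensor _ (t i), ?_⟩
    rw [map_sum]
    simp only [← ψ_nat, ht, ← pm_comp]
    let φ : ((M ⊗[Λ] (ι → Λ)) →ₗ[Λ] (M ⊗[Λ] (ι → Λ))) →+ (Φ J Λ U).obj (ModuleCat.of Λ (M ⊗[Λ] (ι → Λ))) :=
      AddMonoidHom.mk' (fun g => pm g s) fun g g' => by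
        show ((Φ J Λ U).map (ModuleCat.ofHom g + ModuleCat.ofHom g')).hom s = _
        rw [Functor.map_add]
        rfl
    refine (map_sum φ _ _).symm.trans (Eq.trans (congrArg φ ?_) (pm_id s))
    ext m j
    simp [LinearMap.sum_apply, ← tmul_sum, Finset.univ_sum_single]

/-- The comparison is bijective for finitely presented modules. -/
theorem bijective_ψ (Q : Type u) [AddCommGroup Q] [Module Λ Q] [Module.FinitePresentation Λ Q] :
    Function.Bijective (ψ (J := J) (U := U) (Λ := Λ) M Q) := by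
  obtain ⟨n, p, hp⟩ := Module.Finite.exists_fin' Λ Q
  haveI : Module.Finite Λ (LinearMap.ker p) := Module.Finite.iff_fg.2 (Module.FinitePresentation.fg_ker p hp)
  obtain ⟨m, k₀, hk₀⟩ := Module.Finite.exists_fin' Λ (LinearMap.ker p)
  let k := (LinearMap.ker p).subtype ∘ₗ k₀
  have hkp : Function.Exact k p := by
    rw [LinearMap.exact_iff, LinearMap.range_comp, LinearMap.range_eq_top.2 hk₀, Submodule.map_top,
      Submodule.range_subtype]
  have hsrc := lTensor_exact ((Φ J Λ U).obj (ModuleCat.of Λ M)) hkp hp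
  have htgt : Function.Exact (pm (J := J) (U := U) (k.lTensor M)) (pm (J := J) (U := U) (p.lTensor M)) :=
    exact_map (ModuleCat.ofHom (k.lTensor M)) (ModuleCat.ofHom (p.lTensor M)) (lTensor_exact M hkp hp)
  refine ⟨(injective_iff_map_eq_zero _).2 fun z hz => ?_, fun x => ?_⟩
  · obtain ⟨z', rfl⟩ := LinearMap.lTensor_surjective _ hp z
    rw [← ψ_nat] at hz
    obtain ⟨w, hw⟩ := (htgt _).1 hz
    obtain ⟨w', rfl⟩ := (bijective_ψ_pi M (Fin m)).2 w
    rw [ψ_nat] at hw
    rw [← (bijective_ψ_pi M (Fin n)).1 hw]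
    exact hsrc.apply_apply_eq_zero w'
  · obtain ⟨y, rfl⟩ := surjective_map (J := J) (U := U) (ModuleCat.ofHom (p.lTensor M))
      (LinearMap.lTensor_surjective M hp) x
    obtain ⟨z, rfl⟩ := (bijective_ψ_pi M (Fin n)).2 y
    exact ⟨_, (ψ_nat M p z).symm⟩

/-- Over a coherent ring sections of constant sheaves on flat modules are flat. -/
theorem flat_of_coherent (hΛ : ∀ I : Ideal Λ, I.FG → Module.FinitePresentation Λ I) [Module.Flat Λ M] :
    Module.Flat Λ ((Φ J Λ U).obj (ModuleCat.of Λ M)) := by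
  refine Module.Flat.iff_lTensor_injective.2 ?_
  intro I hI
  haveI := hΛ I hI
  refine (injective_iff_map_eq_zero _).2 fun z hz => (injective_iff_map_eq_zero _).1 (bijective_ψ M I).1 z ?_
  have hm : Mono (ModuleCat.ofHom (I.subtype.lTensor M)) :=
    (ModuleCat.mono_iff_injective _).2 (Module.Flat.lTensor_preserves_injective_linearMap _ I.injective_subtype)
  haveI := hm
  haveI : Mono ((Φ J Λ U).map (ModuleCat.ofHom (I.subtype.lTensor M))) := inferInstance
  refine (injective_iff_map_eq_zero _).1 ((ModuleCat.mono_iff_injective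
    ((Φ J Λ U).map (ModuleCat.ofHom (I.subtype.lTensor M)))).1 inferInstance) _ ?_
  exact (ψ_nat M I.subtype z).trans (by rw [hz, map_zero])

end Groth.Agent.HTop16.ConstSections
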