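import Groth.Agent.SiteCmp16.Derived
import Mathlib.AlgebraicTopology.AlternatingFaceMapComplex
import Mathlib.CategoryTheory.Limits.Shapes.Products
import Mathlib.Algebra.Homology.HomologySequence
import Mathlib.Algebra.Homology.HomologicalComplexAbelian
import Mathlib.Algebra.Homology.HomologicalComplexLimits
import Mathlib.CategoryTheory.Abelian.FunctorCategory
import Mathlib.CategoryTheory.Limits.FunctorCategory.Finite
import Mathlib.CategoryTheory.Abelian.Injective.Resolution

/-!
# Derived limits over the simplex category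

The right derived functors of the limit of cosimplicial objects are computed by the alternating
coface map complex.
-/

set_option autoImplicit false
set_option backward.isDefEq.respectTransparency false
set_option backward.isDefEq.respectTransparency.types false
set_option linter.all false

universe v u

open CategoryTheory CategoryTheory.Limits AlgebraicTopology Simplicial

namespace Groth.Agent.HTop16.CosimpLim

variable {A : Type u} [Category.{v} A] [Abelian A] [HasLimitsOfSize.{0, 0} A]

/-- The alternating coface complex. -/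
noncomputable abbrev G : (SimplexCategory ⥤ A) ⥤ CochainComplex A ℕ := alternatingCofaceMapComplex A

/-- The differential, between values of the functor. -/
noncomputable abbrev dd (X : SimplexCategory ⥤ A) (n : ℕ) : X.obj ⦋n⦌ ⟶ X.obj ⦋n + 1⦌ := (G.obj X).d n (n + 1)

lemma G_d (X : SimplexCategory ⥤ A) (n : ℕ) :
    dd X n = ∑ i : Fin (n + 2), (-1 : ℤ) ^ (i : ℕ) • X.map (SimplexCategory.δ i) := by
  show (AlternatingCofaceMapComplex.obj X).d n (n + 1) = _
  exact CochainComplex.of_d (fun n : ℕ => X.obj ⦋n⦌) (AlternatingCofaceMapComplex.objD X) n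

/-- The extension of `g` sending a new first vertex to zero. -/
def prep {k n : ℕ} (g : ⦋n⦌ ⟶ ⦋k⦌) : ⦋n + 1⦌ ⟶ ⦋k⦌ :=
  SimplexCategory.Hom.mk
    { toFun := Fin.cases 0 (fun i => g.toOrderHom i)
      monotone' := fun a b hab => by
        induction a using Fin.cases with
        | zero => exact Fin.zero_le _
        | succ a =>
          induction b using Fin.cases with
          | zero => exact absurd hab (by simp [Fin.le_iff_val_le_val])
          | succ b =>
            simpa using g.toOrderHom.monotone (Fin.succ_le_succ_iff.1 hab) }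

lemma δ_zero_prep {k n : ℕ} (g : ⦋n⦌ ⟶ ⦋k⦌) : SimplexCategory.δ 0 ≫ prep g = g := by
  ext i : 3
  simp [prep, SimplexCategory.δ]

lemma δ_succ_prep {k n : ℕ} (g : ⦋n + 1⦌ ⟶ ⦋k⦌) (i : Fin (n + 2)) :
    SimplexCategory.δ i.succ ≫ prep g = prep (SimplexCategory.δ i ≫ g) := by
  ext j : 3
  induction j using Fin.cases with
  | zero => simp [prep, SimplexCategory.δ]
  | succ j => simp [prep, SimplexCategory.δ]

/-- The index of the cofree object. -/
abbrev Idx (n : SimplexCategory) : Type := Σ k : ℕ, (n ⟶ SimplexCategory.mk k)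

variable (I : SimplexCategory ⥤ A)

/-- The value of the cofree object. -/
noncomputable abbrev Wobj (n : SimplexCategory) : A := ∏ᶜ fun j : Idx n => I.obj ⦋j.1⦌

/-- The projections. -/
noncomputable def proj {n : SimplexCategory} {k : ℕ} (g : n ⟶ ⦋k⦌) : Wobj I n ⟶ I.obj ⦋k⦌ :=
  Pi.π (fun j : Idx n => I.obj ⦋j.1⦌) ⟨k, g⟩

/-- Lifting to the cofree object. -/
noncomputable def liftW {T : A} {n : SimplexCategory} (a : ∀ k : ℕ, (n ⟶ ⦋k⦌) → (T ⟶ I.obj ⦋k⦌)) : T ⟶ Wobj I n :=
  Pi.lift fun j : Idx n => a j.1 j.2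

@[simp, reassoc]
lemma liftW_proj {T : A} {n : SimplexCategory} (a : ∀ k : ℕ, (n ⟶ ⦋k⦌) → (T ⟶ I.obj ⦋k⦌)) {k : ℕ} (g : n ⟶ ⦋k⦌) :
    liftW I a ≫ proj I g = a k g :=
  Pi.lift_π _ _

lemma hom_ext_W {T : A} {n : SimplexCategory} {a b : T ⟶ Wobj I n}
    (h : ∀ (k : ℕ) (g : n ⟶ ⦋k⦌), a ≫ proj I g = b ≫ proj I g) : a = b :=
  Pi.hom_ext _ _ fun j => h j.1 j.2

/-- The cofree cosimplicial object on the components of `I`. -/
noncomputable def W : SimplexCategory ⥤ A where
  obj n := Wobj I n
  map {n m} θ := liftW I fun k g => proj I (θ ≫ g)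
  map_id n := hom_ext_W I fun k g => by simp
  map_comp {n m l} θ ψ := hom_ext_W I fun k g => by simp

lemma W_map_π {n m : SimplexCategory} (θ : n ⟶ m) {k : ℕ} (g : m ⟶ ⦋k⦌) :
    (W I).map θ ≫ proj I g = proj I (θ ≫ g) :=
  liftW_proj I (fun k g => proj I (θ ≫ g)) g

/-- The canonical map to the cofree object. -/
noncomputable def toW : I ⟶ W I where
  app n := liftW I fun k g => I.map g
  naturality {n m} θ := hom_ext_W I fun k g => by
    rw [Category.assoc, Category.assoc, liftW_proj]
    erw [W_map_π]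
    simp

instance mono_toW : Mono (toW I) := by
  haveI : ∀ n, Mono ((toW I).app n) := fun n => by
    haveI : IsSplitMono ((toW I).app n) := ⟨⟨⟨proj I (k := n.len) (𝟙 n), by
      show liftW I (fun k g => I.map g) ≫ proj I (k := n.len) (𝟙 n) = 𝟙 (I.obj n)
      rw [liftW_proj]
      exact I.map_id n⟩⟩⟩
    infer_instance
  exact NatTrans.mono_of_mono_app _

/-- The contraction. -/
noncomputable def hW (n : ℕ) : (W I).obj ⦋n + 1⦌ ⟶ (W I).obj ⦋n⦌ :=
  liftW I fun k g => proj I (prep g)

lemma hW_π (n : ℕ) {k : ℕ} (g : ⦋n⦌ ⟶ ⦋k⦌) : hW I n ≫ proj I g = proj I (prep g) :=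
  liftW_proj I _ _

lemma dd_proj (n : ℕ) {k : ℕ} (g : ⦋n + 1⦌ ⟶ ⦋k⦌) :
    dd (W I) n ≫ proj I g = ∑ i : Fin (n + 2), (-1 : ℤ) ^ (i : ℕ) • proj I (SimplexCategory.δ i ≫ g) := by
  rw [G_d, Preadditive.sum_comp]
  exact Finset.sum_congr rfl fun i _ =>
    (Preadditive.zsmul_comp _ _ _).trans (congrArg (fun t => (-1 : ℤ) ^ (i : ℕ) • t) (W_map_π I _ g))

lemma homotopy (n : ℕ) :
    hW I n ≫ dd (W I) n + dd (W I) (n + 1) ≫ hW I (n + 1) = 𝟙 _ := by
  refine hom_ext_W I fun k g => ?_
  erw [Category.id_comp]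
  refine (Preadditive.add_comp _ _ _ _ _ _).trans ?_
  rw [Category.assoc, Category.assoc]
  erw [hW_π, dd_proj, dd_proj]
  rw [Fin.sum_univ_succ (n := n + 2), δ_zero_prep]
  simp only [Preadditive.comp_sum, Preadditive.comp_zsmul, hW_π, δ_succ_prep, Fin.val_zero, pow_zero, one_zsmul,
    Fin.val_succ]
  rw [add_left_comm, add_eq_left, ← Finset.sum_add_distrib]
  refine Finset.sum_eq_zero fun i _ => ?_
  rw [← add_zsmul, pow_succ]
  simp

lemma exactAt_W (n : ℕ) : (G.obj (W I)).ExactAt (n + 1) := by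
  rw [HomologicalComplex.exactAt_iff' _ n (n + 1) (n + 1 + 1) (by simp) (by simp)]
  rw [ShortComplex.exact_iff_exact_up_to_refinements]
  intro T x hx
  refine ⟨T, 𝟙 T, inferInstance, x ≫ hW I n, ?_⟩
  have h := congrArg (fun t => x ≫ t) (homotopy I n)
  simp only [Preadditive.comp_add, Category.comp_id] at h
  have hx' : x ≫ (G.obj (W I)).d (n + 1) (n + 1 + 1) = 0 := hx
  rw [reassoc_of% hx', zero_comp, add_zero] at h
  rw [Category.id_comp, Category.assoc]
  exact ((Category.comp_id x).symm.trans h.symm)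

lemma isZero_homology_of_injective [Injective I] (n : ℕ) : IsZero ((G.obj I).homology (n + 1)) := by
  have hz := (exactAt_W I n).isZero_homology
  let r : W I ⟶ I := Injective.factorThru (𝟙 I) (toW I)
  rw [IsZero.iff_id_eq_zero]
  have h : 𝟙 ((G.obj I).homology (n + 1)) =
      HomologicalComplex.homologyMap (G.map (toW I)) (n + 1) ≫ HomologicalComplex.homologyMap (G.map r) (n + 1) := by
    rw [← HomologicalComplex.homologyMap_comp, ← Functor.map_comp, Injective.comp_factorThru]
    erw [CategoryTheory.Functor.map_id, HomologicalComplex.homologyMap_id]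
  rw [h, hz.eq_of_tgt (HomologicalComplex.homologyMap (G.map (toW I)) (n + 1)) 0, zero_comp]

section Zero

variable [HasLimitsOfShape SimplexCategory A]

/-- The vertices inclusions. -/
abbrev vtx {m : SimplexCategory} (i : Fin (m.len + 1)) : ⦋0⦌ ⟶ m :=
  SimplexCategory.const ⦋0⦌ m i

lemma π_comp_dd (X : SimplexCategory ⥤ A) : limit.π X ⦋0⦌ ≫ dd X 0 = 0 := by
  rw [G_d, Fin.sum_univ_two, Preadditive.comp_add, Preadditive.comp_zsmul, Preadditive.comp_zsmul,
    limit.w, limit.w]
  simp

lemma comp_map_eq {X : SimplexCategory ⥤ A} {T : A} (k : T ⟶ X.obj ⦋0⦌) (hk : k ≫ dd X 0 = 0)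
    {m : SimplexCategory} (i j : Fin (m.len + 1)) : k ≫ X.map (vtx i) = k ≫ X.map (vtx j) := by
  have h01 : k ≫ X.map (SimplexCategory.δ (0 : Fin 2)) = k ≫ X.map (SimplexCategory.δ (1 : Fin 2)) := by
    rw [G_d, Fin.sum_univ_two, Preadditive.comp_add, Preadditive.comp_zsmul, Preadditive.comp_zsmul] at hk
    simpa [← sub_eq_add_neg, sub_eq_zero] using hk
  wlog hij : i ≤ j generalizing i j
  · exact (this j i (le_of_not_ge hij)).symm
  let e : ⦋1⦌ ⟶ m := SimplexCategory.Hom.mk
    { toFun := ![i, j]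
      monotone' := fun a b hab => by
        fin_cases a <;> fin_cases b <;> simp_all }
  have e0 : SimplexCategory.δ (1 : Fin 2) ≫ e = vtx i := by
    ext x : 3
    fin_cases x
    rfl
  have e1 : SimplexCategory.δ (0 : Fin 2) ≫ e = vtx j := by
    ext x : 3
    fin_cases x
    rfl
  rw [← e0, ← e1, X.map_comp, X.map_comp, ← Category.assoc, ← Category.assoc, h01]

/-- A cycle of degree zero gives a cone. -/
def coneOf {X : SimplexCategory ⥤ A} {T : A} (k : T ⟶ X.obj ⦋0⦌) (hk : k ≫ dd X 0 = 0) : Cone X where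
  pt := T
  π :=
    { app := fun m => k ≫ X.map (vtx (0 : Fin (m.len + 1)))
      naturality := fun m l g => by
        refine (Category.id_comp _).trans ?_
        rw [Category.assoc, ← X.map_comp]
        refine (comp_map_eq k hk 0 (g.toOrderHom 0)).trans ?_
        congr 2 }

/-- The comparison from the limit to the cohomology in degree zero. -/
noncomputable def limToH0 : (lim : (SimplexCategory ⥤ A) ⥤ A) ⟶ G ⋙ HomologicalComplex.homologyFunctor A _ 0 where
  app X := (G.obj X).liftCycles (limit.π X ⦋0⦌) 1 (by simp) (π_comp_dd X) ≫ (G.obj X).homologyπ 0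
  naturality {X Y} φ := by
    show lim.map φ ≫ _ ≫ _ = (_ ≫ _) ≫ HomologicalComplex.homologyMap (G.map φ) 0
    rw [Category.assoc, HomologicalComplex.homologyπ_naturality, ← Category.assoc, ← Category.assoc]
    congr 1
    rw [← cancel_mono ((G.obj Y).iCycles 0)]
    simp only [Category.assoc, HomologicalComplex.liftCycles_i, HomologicalComplex.cyclesMap_i,
      HomologicalComplex.liftCycles_i_assoc]
    exact limMap_π φ ⦋0⦌

lemma isIso_limToH0 (X : SimplexCategory ⥤ A) : IsIso (limToH0.app X) := by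
  have hk : (G.obj X).iCycles 0 ≫ dd X 0 = 0 := (G.obj X).iCycles_d 0 1
  haveI : IsIso ((G.obj X).liftCycles (limit.π X ⦋0⦌) 1 (by simp) (π_comp_dd X)) := by
    refine ⟨limit.lift X (coneOf ((G.obj X).iCycles 0) hk), ?_, ?_⟩
    · refine limit.hom_ext fun m => ?_
      rw [Category.assoc, limit.lift_π, Category.id_comp]
      show _ ≫ (G.obj X).iCycles 0 ≫ X.map _ = _
      rw [HomologicalComplex.liftCycles_i_assoc, limit.w]
    · rw [← cancel_mono ((G.obj X).iCycles 0), Category.assoc, HomologicalComplex.liftCycles_i,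
        limit.lift_π, Category.id_comp]
      show (G.obj X).iCycles 0 ≫ X.map _ = _
      rw [show vtx (m := ⦋0⦌) 0 = 𝟙 _ from by ext x : 3; fin_cases x; rfl, X.map_id]
      exact Category.comp_id _
  haveI : IsIso ((G.obj X).homologyπ 0) := inferInstance
  show IsIso (_ ≫ _)
  infer_instance

/-- The limit is the cohomology in degree zero. -/
noncomputable def limIsoH0 : (lim : (SimplexCategory ⥤ A) ⥤ A) ≅ G ⋙ HomologicalComplex.homologyFunctor A _ 0 :=
  haveI := isIso_limToH0 (A := A)
  NatIso.ofComponents (fun X => asIso (limToH0.app X)) fun φ => limToH0.naturality φ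

end Zero

section Main

variable [HasLimitsOfShape SimplexCategory A] [EnoughInjectives (SimplexCategory ⥤ A)]
  [(lim : (SimplexCategory ⥤ A) ⥤ A).Additive]

instance additive_G : (G (A := A)).Additive where
  map_add {X Y f g} := by
    ext n
    rfl

lemma shortExact_map_G {S : ShortComplex (SimplexCategory ⥤ A)} (hS : S.ShortExact) : (S.map G).ShortExact :=
  HomologicalComplex.shortExact_of_degreewise_shortExact _ fun n =>
    hS.map_of_exact ((evaluation SimplexCategory A).obj ⦋n⦌)

theorem nonempty_iso (F : SimplexCategory ⥤ A) (n : ℕ) :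
    Nonempty (((lim : (SimplexCategory ⥤ A) ⥤ A).rightDerived n).obj F ≅ (G.obj F).homology n) := by
  haveI : PreservesFiniteLimits (lim : (SimplexCategory ⥤ A) ⥤ A) := inferInstance
  haveI : HasInjectiveResolutions (SimplexCategory ⥤ A) := inferInstance
  induction n using Nat.strong_induction_on generalizing F with
  | _ n ih =>
    let S : ShortComplex (SimplexCategory ⥤ A) :=
      ShortComplex.mk (Injective.ι F) (cokernel.π _) (cokernel.condition _)
    have hS : S.ShortExact :=
      { exact := ShortComplex.exact_cokernel _, mono_f := inferInstanceAs (Mono (Injective.ι F)),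
        epi_g := inferInstanceAs (Epi (cokernel.π _)) }
    haveI : Injective S.X₂ := inferInstanceAs (Injective (Injective.under F))
    have hG := shortExact_map_G hS
    rcases n with _ | _ | m
    · exact ⟨(lim : (SimplexCategory ⥤ A) ⥤ A).rightDerivedZeroIsoSelf.app F ≪≫ limIsoH0.app F⟩
    · obtain ⟨e⟩ := SiteCmp16.nonempty_rightDerived_one_iso (lim : (SimplexCategory ⥤ A) ⥤ A) hS
      refine ⟨e ≪≫ cokernel.mapIso _ _ (limIsoH0.app S.X₂) (limIsoH0.app S.X₃) (limIsoH0.hom.naturality S.g) ≪≫ ?_⟩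
      haveI : Epi (hG.δ 0 1 rfl) :=
        (hG.homology_exact₁ 0 1 rfl).epi_f ((isZero_homology_of_injective S.X₂ 0).eq_of_tgt _ _)
      exact IsColimit.coconePointUniqueUpToIso (cokernelIsCokernel _)
        (hG.homology_exact₃ 0 1 rfl).gIsCokernel
    · obtain ⟨e⟩ := SiteCmp16.nonempty_rightDerived_shift (lim : (SimplexCategory ⥤ A) ⥤ A) hS (m + 1) (by omega)
      obtain ⟨e'⟩ := ih (m + 1) (by omega) S.X₃
      haveI : IsIso (hG.δ (m + 1) (m + 1 + 1) rfl) :=
        hG.isIso_δ _ _ rfl (isZero_homology_of_injective S.X₂ m) (isZero_homology_of_injective S.X₂ (m + 1))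
      exact ⟨e.symm ≪≫ e' ≪≫ asIso (hG.δ (m + 1) (m + 1 + 1) rfl)⟩

end Main

end Groth.Agent.HTop16.CosimpLim
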