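import Groth.Agent.SSet16.CoskHomotopy
import Mathlib.CategoryTheory.Limits.Types.Limits
import Mathlib.CategoryTheory.Limits.ConcreteCategory.Basic

/-!
# Maps of coskeletal simplicial sets which are bijective below the coskeletal degree

If `f : L ⟶ K` is a map of `n`-coskeletal simplicial sets, bijective in degrees `< n`, then `L` is
homotopy equivalent to the image of `f`, which consists of the simplices whose faces of dimension
`≤ n` are in the image.
-/

set_option autoImplicit false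

universe u

open CategoryTheory CategoryTheory.Limits Simplicial SimplexCategory Opposite

namespace Groth.Agent.HTop16.CoskImage

variable {L K : SimplicialObject (Type u)}

/-- The action of a map of the simplex category on simplices. -/
abbrev act (X : SimplicialObject (Type u)) {k m : ℕ} (θ : ⦋k⦌ ⟶ ⦋m⦌) (x : X.obj (op ⦋m⦌)) :
    X.obj (op ⦋k⦌) := X.map θ.op x

lemma act_id (X : SimplicialObject (Type u)) {k : ℕ} (x : X.obj (op ⦋k⦌)) :
    act X (𝟙 _) x = x :=
  ConcreteCategory.congr_hom (X.map_id (op ⦋k⦌)) x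

lemma act_comp (X : SimplicialObject (Type u)) {k l m : ℕ} (φ : ⦋k⦌ ⟶ ⦋l⦌) (θ : ⦋l⦌ ⟶ ⦋m⦌)
    (x : X.obj (op ⦋m⦌)) : act X (φ ≫ θ) x = act X φ (act X θ x) :=
  ConcreteCategory.congr_hom (X.map_comp θ.op φ.op) x

lemma app_act (f : L ⟶ K) {k m : ℕ} (θ : ⦋k⦌ ⟶ ⦋m⦌) (x : L.obj (op ⦋m⦌)) :
    f.app (op ⦋k⦌) (act L θ x) = act K θ (f.app (op ⦋m⦌) x) :=
  ConcreteCategory.congr_hom (f.naturality θ.op) x

variable (n : ℕ)

lemma ext_faces (X : SimplicialObject (Type u)) [X.IsCoskeletal n] {m : ℕ}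
    {a b : X.obj (op ⦋m⦌)}
    (h : ∀ k, k ≤ n → ∀ θ : ⦋k⦌ ⟶ ⦋m⦌, act X θ a = act X θ b) : a = b :=
  Concrete.isLimit_ext _ (SSet16.isLimit_coneAt (W := X) n (op ⦋m⦌)).some a b fun j =>
    h j.right.unop.obj.len j.right.unop.property
      (show op ⦋m⦌ ⟶ op j.right.unop.obj from j.hom).unop

lemma exists_of_compat (X : SimplicialObject (Type u)) [X.IsCoskeletal n] {m : ℕ}
    (a : ∀ k, k ≤ n → (⦋k⦌ ⟶ ⦋m⦌) → X.obj (op ⦋k⦌))
    (ha : ∀ k k' (hk : k ≤ n) (hk' : k' ≤ n) (φ : ⦋k'⦌ ⟶ ⦋k⦌) (θ : ⦋k⦌ ⟶ ⦋m⦌),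
      act X φ (a k hk θ) = a k' hk' (φ ≫ θ)) :
    ∃ z : X.obj (op ⦋m⦌), ∀ k (hk : k ≤ n) (θ : ⦋k⦌ ⟶ ⦋m⦌), act X θ z = a k hk θ := by
  let c : Cone (StructuredArrow.proj (op ⦋m⦌) (SimplexCategory.Truncated.inclusion n).op ⋙
      (SimplexCategory.Truncated.inclusion n).op ⋙ X) :=
    { pt := PUnit.{u + 1}
      π :=
        { app := fun j => ↾fun _ => a j.right.unop.obj.len j.right.unop.property
            (show op ⦋m⦌ ⟶ op j.right.unop.obj from j.hom).unop
          naturality := fun i j g => by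
            ext
            let φ : j.right.unop.obj ⟶ i.right.unop.obj := g.right.unop.hom
            have hw : (show op ⦋m⦌ ⟶ op j.right.unop.obj from j.hom).unop =
                φ ≫ (show op ⦋m⦌ ⟶ op i.right.unop.obj from i.hom).unop :=
              congrArg Quiver.Hom.unop (StructuredArrow.w g).symm
            exact ((ha _ _ i.right.unop.property j.right.unop.property φ _).trans
              (congrArg (a _ _) hw.symm)).symm } }
  let hl := (SSet16.isLimit_coneAt (W := X) n (op ⦋m⦌)).some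
  refine ⟨hl.lift c PUnit.unit, fun k hk θ => ?_⟩
  exact ConcreteCategory.congr_hom (hl.fac c
    (StructuredArrow.mk (Y := op (⟨⦋k⦌, hk⟩ : SimplexCategory.Truncated n)) θ.op)) PUnit.unit

/-- A degenerate simplex. -/
def Deg {k : ℕ} (z : L.obj (op ⦋k⦌)) : Prop :=
  ∃ (p : ℕ) (i : Fin (p + 1)) (y : L.obj (op ⦋p⦌)) (h : p + 1 = k), z = h ▸ act L (σ i) y

variable (f : L ⟶ K)

lemma inj_deg_aux {p : ℕ} (hinj : Function.Injective (f.app (op ⦋p⦌))) (j k : Fin (p + 1))
    (hjk : j < k) (y y' : L.obj (op ⦋p⦌))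
    (h : f.app (op ⦋p + 1⦌) (act L (σ j) y) = f.app (op ⦋p + 1⦌) (act L (σ k) y')) :
    act L (σ j) y = act L (σ k) y' := by
  have hface : ∀ l : Fin (p + 2), act L (δ l) (act L (σ j) y) = act L (δ l) (act L (σ k) y') :=
    fun l => hinj (by rw [app_act, app_act f (δ l) (act L (σ k) y'), h])
  have hk : ∀ (i : Fin (p + 1)) (w : L.obj (op ⦋p⦌)),
      act L (δ i.castSucc) (act L (σ i) w) = w := fun i w => by
    rw [← act_comp, δ_comp_σ_self, act_id]
  cases p with
  | zero => exact absurd hjk (by have := j.isLt; have := k.isLt; omega)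
  | succ q =>
    obtain ⟨k₀, rfl⟩ : ∃ k₀ : Fin (q + 1), k = k₀.succ :=
      ⟨k.pred (Fin.ne_zero_of_lt hjk), (Fin.succ_pred _ _).symm⟩
    obtain ⟨j₀, rfl⟩ : ∃ j₀ : Fin (q + 1), j = j₀.castSucc :=
      ⟨⟨j.val, by have := k₀.isLt; simp [Fin.lt_def] at hjk; omega⟩, rfl⟩
    have hle : j₀ ≤ k₀ := by
      simp only [Fin.lt_def, Fin.val_succ, Fin.val_castSucc] at hjk
      exact Fin.mk_le_of_le_val (by omega)
    have hy : y = act L (σ k₀ ≫ δ j₀.castSucc) y' := by
      rw [← hk j₀.castSucc y, hface, ← act_comp,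
        δ_comp_σ_of_le (show j₀.castSucc ≤ k₀.castSucc from Fin.castSucc_le_castSucc_iff.2 hle)]
    have hx : act L (σ j₀.castSucc) y =
        act L (σ k₀.succ) (act L (σ j₀ ≫ δ j₀.castSucc) y') := by
      rw [hy, ← act_comp, ← act_comp, ← Category.assoc, ← Category.assoc, σ_comp_σ hle]
    have hz : act L (σ j₀ ≫ δ j₀.castSucc) y' = y' := by
      rw [← hk k₀.succ (act L (σ j₀ ≫ δ j₀.castSucc) y'), ← hx, hface, hk]
    rw [hx, hz]

lemma inj_deg (hinj : ∀ p, p < n → Function.Injective (f.app (op ⦋p⦌))) {z z' : L.obj (op ⦋n⦌)}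
    (hz : Deg z) (hz' : Deg z') (h : f.app (op ⦋n⦌) z = f.app (op ⦋n⦌) z') : z = z' := by
  obtain ⟨p, i, y, rfl, rfl⟩ := hz
  obtain ⟨p', i', y', hp, rfl⟩ := hz'
  obtain rfl : p' = p := by omega
  simp only at h ⊢
  rcases lt_trichotomy i i' with hlt | rfl | hlt
  · exact inj_deg_aux f (hinj _ p'.lt_succ_self) i i' hlt y y' h
  · refine congrArg (act L (σ i)) (hinj _ p'.lt_succ_self ?_)
    have := congrArg (act K (δ i.castSucc)) h
    rw [← app_act, ← app_act, ← act_comp, ← act_comp, δ_comp_σ_self, act_id, act_id] at this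
    exact this
  · exact (inj_deg_aux f (hinj _ p'.lt_succ_self) i' i hlt y' y h.symm).symm

open Classical in
/-- A partial section, sending degenerate simplices to degenerate ones. -/
noncomputable def sec {k : ℕ} (x : K.obj (op ⦋k⦌)) (hx : x ∈ Set.range (f.app (op ⦋k⦌))) :
    L.obj (op ⦋k⦌) :=
  if h : ∃ z, f.app (op ⦋k⦌) z = x ∧ Deg z then h.choose else hx.choose

lemma app_sec {k : ℕ} (x : K.obj (op ⦋k⦌)) (hx : x ∈ Set.range (f.app (op ⦋k⦌))) :
    f.app (op ⦋k⦌) (sec f x hx) = x := by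
  unfold sec
  split
  · next h => exact h.choose_spec.1
  · exact hx.choose_spec

lemma act_sec (hinj : ∀ p, p < n → Function.Injective (f.app (op ⦋p⦌))) {k k' : ℕ}
    (hk : k ≤ n) (hk' : k' ≤ n) (φ : ⦋k'⦌ ⟶ ⦋k⦌) (x : K.obj (op ⦋k⦌))
    (hx : x ∈ Set.range (f.app (op ⦋k⦌))) (hx' : act K φ x ∈ Set.range (f.app (op ⦋k'⦌))) :
    act L φ (sec f x hx) = sec f (act K φ x) hx' := by
  have himg : f.app (op ⦋k'⦌) (act L φ (sec f x hx)) = act K φ x := by rw [app_act, app_sec]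
  rcases hk'.lt_or_eq with hlt | rfl
  · exact hinj _ hlt (himg.trans (app_sec f _ hx').symm)
  by_cases hφ : Function.Injective φ.toOrderHom
  · haveI : Mono φ := SimplexCategory.mono_iff_injective.2 hφ
    obtain rfl : k = k' := le_antisymm hk (SimplexCategory.len_le_of_mono φ)
    obtain rfl := SimplexCategory.eq_id_of_mono φ
    simp only [act_id]
  · cases k' with
    | zero => exact absurd (fun a b _ => Subsingleton.elim (α := Fin 1) a b) hφ
    | succ p =>
      obtain ⟨i, φ', rfl⟩ := SimplexCategory.eq_σ_comp_of_not_injective φ hφ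
      have hd : Deg (act L (σ i ≫ φ') (sec f x hx)) :=
        ⟨p, i, act L φ' (sec f x hx), rfl, act_comp L _ _ _⟩
      have h : ∃ z, f.app (op ⦋p + 1⦌) z = act K (σ i ≫ φ') x ∧ Deg z := ⟨_, himg, hd⟩
      rw [sec.eq_def f (act K (σ i ≫ φ') x) hx', dif_pos h]
      exact inj_deg (p + 1) f hinj hd h.choose_spec.2 (himg.trans h.choose_spec.1.symm)

variable [L.IsCoskeletal n] [K.IsCoskeletal n]

lemma exists_lift (hinj : ∀ p, p < n → Function.Injective (f.app (op ⦋p⦌))) {m : ℕ}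
    (x : K.obj (op ⦋m⦌))
    (hx : ∀ k, k ≤ n → ∀ θ : ⦋k⦌ ⟶ ⦋m⦌, act K θ x ∈ Set.range (f.app (op ⦋k⦌))) :
    ∃ z : L.obj (op ⦋m⦌), f.app (op ⦋m⦌) z = x ∧
      ∀ k (hk : k ≤ n) (θ : ⦋k⦌ ⟶ ⦋m⦌), act L θ z = sec f (act K θ x) (hx k hk θ) := by
  obtain ⟨z, hz⟩ := exists_of_compat n L (fun k hk θ => sec f (act K θ x) (hx k hk θ))
    fun k k' hk hk' φ θ => by
      rw [act_sec n f hinj hk hk' φ _ (hx k hk θ) (by rw [← act_comp]; exact hx k' hk' _)]
      simp only [act_comp]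
  refine ⟨z, ext_faces n K fun k hk θ => ?_, hz⟩
  rw [← app_act, hz k hk θ, app_sec]

theorem exists_section (hinj : ∀ p, p < n → Function.Injective (f.app (op ⦋p⦌)))
    {I : SimplicialObject (Type u)} (p : L ⟶ I) (j : I ⟶ K) (hpj : p ≫ j = f)
    (hp : ∀ m, Function.Surjective (p.app m)) (hj : ∀ m, Function.Injective (j.app m)) :
    ∃ s : I ⟶ L, s ≫ p = 𝟙 I ∧ Nonempty (SimplicialObject.Homotopy (p ≫ s) (𝟙 L)) := by
  have hf : ∀ m x, j.app m (p.app m x) = f.app m x := fun m x => by rw [← hpj]; rfl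
  have hr : ∀ {m : ℕ} (i : I.obj (op ⦋m⦌)) k, k ≤ n → ∀ θ : ⦋k⦌ ⟶ ⦋m⦌,
      act K θ (j.app _ i) ∈ Set.range (f.app (op ⦋k⦌)) := fun i k _ θ => by
    obtain ⟨l, rfl⟩ := hp _ i
    exact ⟨act L θ l, by rw [app_act, hf]⟩
  choose z hz₁ hz₂ using fun (m : ℕ) (i : I.obj (op ⦋m⦌)) =>
    exists_lift n f hinj (j.app _ i) (hr i)
  let s : I ⟶ L :=
    { app := fun m => ↾fun i => z m.unop.len i
      naturality := fun {a b} g => by
        ext i
        show z b.unop.len (I.map g i) = L.map g (z a.unop.len i)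
        refine ext_faces n L fun k hk θ => ?_
        rw [hz₂ _ _ k hk θ]
        show _ = act L θ (act L g.unop (z a.unop.len i))
        rw [← act_comp, hz₂ _ _ k hk (θ ≫ g.unop)]
        congr 1
        rw [act_comp]
        exact congrArg (act K θ) (ConcreteCategory.congr_hom (j.naturality g) i) }
  have hs : s ≫ p = 𝟙 I := by
    ext m i
    exact hj m ((hf m _).trans (hz₁ _ _))
  refine ⟨s, hs, SSet16.exists_homotopy _ _ n fun q hq => ?_⟩
  ext x
  exact hinj q hq ((hf _ _).symm.trans ((congrArg (j.app _)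
    (ConcreteCategory.congr_hom (NatTrans.congr_app hs (op ⦋q⦌)) (p.app _ x))).trans (hf _ x)))

end Groth.Agent.HTop16.CoskImage
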