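import Groth.Agent.HTop16.CoskImage
import Mathlib.AlgebraicTopology.AlternatingFaceMapComplex
import Mathlib.AlgebraicTopology.SimplicialObject.ChainHomotopy
import Mathlib.Algebra.Category.Grp.Adjunctions
import Mathlib.Algebra.Category.Grp.AB
import Mathlib.CategoryTheory.Abelian.GrothendieckAxioms.Sheaf
import Mathlib.CategoryTheory.Sites.Adjunction
import Mathlib.CategoryTheory.Sites.LocallyBijective
import Mathlib.CategoryTheory.Sites.EpiMono
import Mathlib.CategoryTheory.Sites.SheafCohomology.Basic
import Mathlib.Algebra.Homology.QuasiIso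

/-!
# Free homology of maps of coskeletal simplicial presheaves
-/

set_option autoImplicit false

noncomputable section

universe u v v' w w'

open CategoryTheory CategoryTheory.Limits Simplicial SimplexCategory Opposite AlgebraicTopology

namespace Groth.Agent.HTop16.CoskImage

open SimplicialObject.Truncated in
lemma isCoskeletal_comp {A : Type w} [Category.{v} A] {B : Type w'} [Category.{v'} B]
    [HasFiniteLimits A] (F : A ⥤ B) [PreservesFiniteLimits F] (n : ℕ) (X : SimplicialObject A)
    [X.IsCoskeletal n] : SimplicialObject.IsCoskeletal (X ⋙ F) n := by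
  haveI := SSet16.hasPointwiseRan (C := A) n ((SimplexCategory.Truncated.inclusion n).op ⋙ X)
  have hP := Functor.isPointwiseRightKanExtensionOfIsRightKanExtension
    X (𝟙 ((SimplexCategory.Truncated.inclusion n).op ⋙ X))
  refine ⟨Functor.RightExtension.IsPointwiseRightKanExtension.isRightKanExtension
    (E := rightExtensionInclusion (X ⋙ F) n) fun Δ => ?_⟩
  refine IsLimit.ofIsoLimit (isLimitOfPreserves F (hP Δ))
    (Cone.ext (Iso.refl _) fun j => ?_)
  refine Eq.trans ?_ (Category.id_comp _).symm
  show F.map (X.map j.hom ≫ 𝟙 _) = F.map (X.map j.hom) ≫ 𝟙 _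
  rw [Category.comp_id, Category.comp_id]

lemma quasiIso_map_alt {A : Type w} [Category.{v} A] [Abelian A] {B : Type w'} [Category.{v'} B]
    [Abelian B] (F : A ⥤ B) [F.Additive] {X Y : SimplicialObject A} (g : X ⟶ Y) :
    QuasiIso ((alternatingFaceMapComplex B).map (Functor.whiskerRight g F)) ↔
      QuasiIso ((F.mapHomologicalComplex _).map ((alternatingFaceMapComplex A).map g)) := by
  let e : ∀ Z : SimplicialObject A, (alternatingFaceMapComplex B).obj (Z ⋙ F) ≅
      (F.mapHomologicalComplex _).obj ((alternatingFaceMapComplex A).obj Z) := fun Z =>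
    HomologicalComplex.Hom.isoOfComponents (fun _ => Iso.refl _) fun i j (hij : j + 1 = i) => by
      subst hij
      simp [AlternatingFaceMapComplex.objD, Functor.map_sum, Functor.map_zsmul,
        SimplicialObject.δ]
      exact (Category.id_comp _).trans (Category.comp_id _).symm
  exact quasiIso_iff_of_arrow_mk_iso _ _ (Arrow.isoMk (e X) (e Y) (by
    ext i
    simp [e]))

variable {C : Type u} [SmallCategory C]

lemma quasiIso_of_evaluation {K L : ChainComplex (Cᵒᵖ ⥤ AddCommGrpCat.{u}) ℕ} (φ : K ⟶ L)
    (h : ∀ V : Cᵒᵖ, QuasiIso ((((evaluation Cᵒᵖ AddCommGrpCat.{u}).obj V).mapHomologicalComplex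
      _).map φ)) : QuasiIso φ := by
  rw [quasiIso_iff]
  intro i
  rw [quasiIsoAt_iff, ShortComplex.quasiIso_iff, NatTrans.isIso_iff_isIso_app]
  intro V
  let F := (evaluation Cᵒᵖ AddCommGrpCat.{u}).obj V
  have h1 : IsIso (ShortComplex.homologyMap (F.mapShortComplex.map
      ((HomologicalComplex.shortComplexFunctor _ _ i).map φ))) := by
    have := (h V).quasiIsoAt i
    rw [quasiIsoAt_iff, ShortComplex.quasiIso_iff] at this
    exact this
  have h2 := ShortComplex.mapHomologyIso_hom_naturality
    ((HomologicalComplex.shortComplexFunctor _ _ i).map φ) F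
  show IsIso (F.map (ShortComplex.homologyMap
    ((HomologicalComplex.shortComplexFunctor _ _ i).map φ)))
  rw [show F.map (ShortComplex.homologyMap
      ((HomologicalComplex.shortComplexFunctor _ _ i).map φ)) =
    (ShortComplex.mapHomologyIso _ F).inv ≫ _ ≫
      (ShortComplex.mapHomologyIso _ F).hom from by rw [h2, Iso.inv_hom_id_assoc]]
  exact IsIso.comp_isIso' inferInstance (IsIso.comp_isIso' h1 inferInstance)

variable {L K : SimplicialObject (Cᵒᵖ ⥤ Type u)} (f : L ⟶ K)

/-- The image of a map of simplicial presheaves. -/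
def image : SimplicialObject (Cᵒᵖ ⥤ Type u) where
  obj m :=
    { obj := fun V => ↥(Set.range ((f.app m).app V))
      map := fun g => ↾fun x => ⟨(K.obj m).map g x.1, by
        obtain ⟨l, hl⟩ := x.2
        exact ⟨(L.obj m).map g l, by rw [← hl]; exact NatTrans.naturality_apply (f.app m) g l⟩⟩ }
  map θ :=
    { app := fun V => ↾fun x => ⟨(K.map θ).app V x.1, by
        obtain ⟨l, hl⟩ := x.2
        exact ⟨(L.map θ).app V l, by
          rw [← hl]
          first
    | exact ConcreteCategory.congr_hom (NatTrans.congr_app (f.naturality θ) V) l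
    | exact Subtype.ext (by exact ConcreteCategory.congr_hom (NatTrans.congr_app (f.naturality θ) V) l)⟩⟩
      naturality := fun V W g => by
        ext x
        exact NatTrans.naturality_apply (K.map θ) g x.1 }

/-- The projection onto the image. -/
def toImage : L ⟶ image f where
  app m :=
    { app := fun V => ↾fun l => ⟨(f.app m).app V l, l, rfl⟩
      naturality := fun V W g => by
        ext l
        exact Subtype.ext (by exact NatTrans.naturality_apply (f.app m) g l) }
  naturality m m' θ := by
    ext V l
    first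
    | exact ConcreteCategory.congr_hom (NatTrans.congr_app (f.naturality θ) V) l
    | exact Subtype.ext (by exact ConcreteCategory.congr_hom (NatTrans.congr_app (f.naturality θ) V) l)

/-- The inclusion of the image. -/
def imageι : image f ⟶ K where
  app m :=
    { app := fun V => ↾fun x => x.1
      naturality := fun V W g => rfl }
  naturality m m' θ := rfl

lemma toImage_ι : toImage f ≫ imageι f = f := rfl

variable (n : ℕ) [L.IsCoskeletal n] [K.IsCoskeletal n] (J : GrothendieckTopology C)
  (h1 : ∀ i : ℕ, i < n → IsIso (f.app (op ⦋i⦌)))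

include h1 in
lemma bijective_app {i : ℕ} (hi : i < n) (V : Cᵒᵖ) :
    Function.Bijective ((f.app (op ⦋i⦌)).app V) := by
  haveI := h1 i hi
  exact (ConcreteCategory.isIso_iff_bijective _).1 inferInstance

include h1 in
lemma isLocallySurjective_app (h2 : Presheaf.IsLocallySurjective J (f.app (op ⦋n⦌))) (m : ℕ) :
    Presheaf.IsLocallySurjective J (f.app (op ⦋m⦌)) where
  imageSieve_mem {U} x := by
    classical
    haveI : Fintype (⦋n⦌ ⟶ ⦋m⦌) := Fintype.ofFinite _
    let T : Finset (⦋n⦌ ⟶ ⦋m⦌) → Sieve U := fun s =>
      s.inf fun θ => Presheaf.imageSieve (f.app (op ⦋n⦌)) ((K.map θ.op).app (op U) x)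
    have hT : ∀ s, T s ∈ J U := fun s => by
      induction s using Finset.induction_on with
      | empty => exact J.top_mem U
      | insert a s ha ih =>
        simp only [T, Finset.inf_insert]
        exact J.intersection_covering (h2.imageSieve_mem _) ih
    refine J.superset_covering ?_ (hT Finset.univ)
    intro W g hg
    haveI := isCoskeletal_comp ((evaluation Cᵒᵖ (Type u)).obj (op W)) n L
    haveI := isCoskeletal_comp ((evaluation Cᵒᵖ (Type u)).obj (op W)) n K
    let fW := Functor.whiskerRight f ((evaluation Cᵒᵖ (Type u)).obj (op W))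
    have hface : ∀ k, k ≤ n → ∀ θ : ⦋k⦌ ⟶ ⦋m⦌,
        act (K ⋙ (evaluation Cᵒᵖ (Type u)).obj (op W)) θ ((K.obj (op ⦋m⦌)).map g.op x) ∈
          Set.range (fW.app (op ⦋k⦌)) := by
      intro k hk θ
      rcases hk.lt_or_eq with hk | rfl
      · exact (bijective_app f n h1 hk (op W)).2 _
      · have hθ : (T Finset.univ).arrows ≤ (Presheaf.imageSieve (f.app (op ⦋k⦌))
            ((K.map θ.op).app (op U) x)).arrows :=
          (Finset.inf_le (Finset.mem_univ θ) : T Finset.univ ≤ _)
        obtain ⟨l, hl⟩ := hθ W g hg
        exact ⟨l, hl.trans (NatTrans.naturality_apply (K.map θ.op) g.op x).symm⟩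
    obtain ⟨z, hz, -⟩ := exists_lift n fW (fun p hp => (bijective_app f n h1 hp (op W)).1) _ hface
    exact ⟨z, hz⟩

/-- The free abelian presheaf functor. -/
abbrev freeP (C : Type u) [SmallCategory C] : (Cᵒᵖ ⥤ Type u) ⥤ Cᵒᵖ ⥤ AddCommGrpCat.{u} :=
  (Functor.whiskeringRight Cᵒᵖ (Type u) AddCommGrpCat.{u}).obj AddCommGrpCat.free.{u}

include h1 in
lemma quasiIso_free_toImage :
    QuasiIso ((alternatingFaceMapComplex _).map
      (Functor.whiskerRight (toImage f) (freeP C))) := by
  refine quasiIso_of_evaluation _ fun V => ?_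
  rw [← quasiIso_map_alt]
  let E := (evaluation Cᵒᵖ (Type u)).obj V
  haveI := isCoskeletal_comp E n L
  haveI := isCoskeletal_comp E n K
  obtain ⟨s, hs, ⟨H⟩⟩ := exists_section n (Functor.whiskerRight f E)
    (fun p hp => (bijective_app f n h1 hp V).1) (Functor.whiskerRight (toImage f) E)
    (Functor.whiskerRight (imageι f) E) rfl
    (fun m x => ⟨x.2.choose, Subtype.ext x.2.choose_spec⟩) (fun m a b h => Subtype.ext h)
  let G := (SimplicialObject.whiskering (Type u) AddCommGrpCat.{u}).obj AddCommGrpCat.free.{u} ⋙
    alternatingFaceMapComplex AddCommGrpCat.{u}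
  let e : HomotopyEquiv (G.obj (L ⋙ E)) (G.obj (image f ⋙ E)) :=
    { hom := G.map (Functor.whiskerRight (toImage f) E)
      inv := G.map s
      homotopyHomInvId := (Homotopy.ofEq (G.map_comp _ _).symm).trans
        ((H.whiskerRight AddCommGrpCat.free.{u}).toChainHomotopy.trans
          (Homotopy.ofEq (G.map_id _)))
      homotopyInvHomId := Homotopy.ofEq (by rw [← G.map_comp, hs, G.map_id]) }
  haveI : ∀ (Z : ChainComplex AddCommGrpCat.{u} ℕ) i, Z.HasHomology i := fun Z i => inferInstance
  exact @HomotopyEquiv.quasiIso_hom _ _ _ _ _ _ _ e (this _) (this _)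

lemma isIso_free_imageι (m : SimplexCategoryᵒᵖ)
    [Presheaf.IsLocallySurjective J (f.app m)] :
    IsIso ((freeP C ⋙ presheafToSheaf J AddCommGrpCat.{u}).map ((imageι f).app m)) := by
  haveI : Presheaf.IsLocallyInjective J ((imageι f).app m) :=
    Presheaf.isLocallyInjective_of_injective J _ fun V a b h => Subtype.ext h
  haveI : Presheaf.IsLocallySurjective J ((toImage f).app m ≫ (imageι f).app m) := by
    rw [show (toImage f).app m ≫ (imageι f).app m = f.app m from rfl]
    infer_instance
  haveI := Presheaf.isLocallySurjective_of_isLocallySurjective J ((toImage f).app m)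
    ((imageι f).app m)
  haveI : AddCommGrpCat.free.{u}.IsLeftAdjoint := AddCommGrpCat.adj.isLeftAdjoint
  exact (J.W_iff _).1 (J.W_of_preservesSheafification AddCommGrpCat.free.{u} _
    (J.W_of_isLocallyBijective ((imageι f).app m)))

include h1 in
theorem quasiIso_free (h2 : Presheaf.IsLocallySurjective J (f.app (op ⦋n⦌))) :
    QuasiIso ((alternatingFaceMapComplex (Sheaf J AddCommGrpCat.{u})).map
      (Functor.whiskerRight f (freeP C ⋙ presheafToSheaf J AddCommGrpCat.{u}))) := by
  haveI : ∀ m, IsIso ((Functor.whiskerRight (imageι f)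
      (freeP C ⋙ presheafToSheaf J AddCommGrpCat.{u})).app m) :=
    fun m => by
      haveI := isLocallySurjective_app f n J h1 h2 m.unop.len
      exact isIso_free_imageι f J m
  haveI : IsIso (Functor.whiskerRight (imageι f)
      (freeP C ⋙ presheafToSheaf J AddCommGrpCat.{u})) := NatIso.isIso_of_isIso_app _
  rw [← toImage_ι f, Functor.whiskerRight_comp, Functor.map_comp]
  haveI : QuasiIso ((alternatingFaceMapComplex (Sheaf J AddCommGrpCat.{u})).map
      (Functor.whiskerRight (toImage f) (freeP C ⋙ presheafToSheaf J AddCommGrpCat.{u}))) := by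
    haveI := quasiIso_free_toImage f n h1
    exact (quasiIso_map_alt (presheafToSheaf J AddCommGrpCat.{u})
      (Functor.whiskerRight (toImage f) (freeP C))).2 inferInstance
  infer_instance

end Groth.Agent.HTop16.CoskImage
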