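import Mathlib.CategoryTheory.Abelian.RightDerived
import Mathlib.Algebra.Homology.HomologySequenceLemmas
import Mathlib.Algebra.Homology.HomologicalComplexAbelian
import Mathlib.CategoryTheory.ComposableArrows.Basic
import Mathlib.Algebra.Homology.ExactSequence
import Groth.Agent.CAlgH3.FunctorExact

/-!
# Long exact sequence of a sequence of functors exact on injective objects
-/

set_option autoImplicit false
set_option backward.isDefEq.respectTransparency false

universe v v' u u'

open CategoryTheory CategoryTheory.Limits

namespace Groth.Agent.HTop16.DerivedSES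

variable {A : Type u} [Category.{v} A] [Abelian A] [HasInjectiveResolutions A]
  {B : Type u'} [Category.{v'} B] [Abelian B]
  {G₁ G₂ G₃ : A ⥤ B} [G₁.Additive] [G₂.Additive] [G₃.Additive]
  (α : G₁ ⟶ G₂) (β : G₂ ⟶ G₃) (w : ∀ X, α.app X ≫ β.app X = 0)

/-- The sequence of complexes of an injective resolution. -/
noncomputable def seq (X : A) : ShortComplex (CochainComplex B ℕ) :=
  ShortComplex.mk ((NatTrans.mapHomologicalComplex α _).app (injectiveResolution X).cocomplex)
    ((NatTrans.mapHomologicalComplex β _).app (injectiveResolution X).cocomplex)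
    (HomologicalComplex.hom_ext _ _ fun n => w _)

/-- The map of sequences of a morphism. -/
noncomputable def seqMap {X Y : A} (f : X ⟶ Y) : seq α β w X ⟶ seq α β w Y where
  τ₁ := (G₁.mapHomologicalComplex _).map (InjectiveResolution.desc f _ _)
  τ₂ := (G₂.mapHomologicalComplex _).map (InjectiveResolution.desc f _ _)
  τ₃ := (G₃.mapHomologicalComplex _).map (InjectiveResolution.desc f _ _)
  comm₁₂ := (NatTrans.mapHomologicalComplex α _).naturality _
  comm₂₃ := (NatTrans.mapHomologicalComplex β _).naturality _

variable (hs : ∀ I : A, Injective I → (ShortComplex.mk (α.app I) (β.app I) (w I)).ShortExact)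
include hs

omit [G₁.Additive] [G₂.Additive] [G₃.Additive] in
lemma shortExact_app (I : A) [Injective I] :
    (ShortComplex.mk (α.app I) (β.app I) (w I)).ShortExact := hs I inferInstance

lemma shortExact_seq (X : A) : (seq α β w X).ShortExact :=
  HomologicalComplex.shortExact_of_degreewise_shortExact _ fun n =>
    hs _ ((injectiveResolution X).injective n)

/-- The connecting morphisms. -/
noncomputable def δ (q : ℕ) : G₃.rightDerived q ⟶ G₁.rightDerived (q + 1) where
  app X := ((injectiveResolution X).isoRightDerivedObj G₃ q).hom ≫
    (shortExact_seq α β w hs X).δ q (q + 1) rfl ≫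
      ((injectiveResolution X).isoRightDerivedObj G₁ (q + 1)).inv
  naturality X Y f := by
    have hc := InjectiveResolution.desc_commutes_zero f (injectiveResolution Y) (injectiveResolution X)
    rw [InjectiveResolution.isoRightDerivedObj_hom_naturality_assoc f (injectiveResolution X)
      (injectiveResolution Y) _ hc G₃ q, Category.assoc, Category.assoc,
      InjectiveResolution.isoRightDerivedObj_inv_naturality f (injectiveResolution X)
      (injectiveResolution Y) _ hc G₁ (q + 1)]
    exact congrArg (fun m => ((injectiveResolution X).isoRightDerivedObj G₃ q).hom ≫ m)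
      (HomologicalComplex.HomologySequence.δ_naturality_assoc (seqMap α β w f)
        (shortExact_seq α β w hs X) (shortExact_seq α β w hs Y) q (q + 1) rfl _).symm

/-- The natural maps are computed on the chosen resolution. -/
lemma rightDerived_α (X : A) (q : ℕ) : (NatTrans.rightDerived α q).app X =
    ((injectiveResolution X).isoRightDerivedObj G₁ q).hom ≫
      HomologicalComplex.homologyMap (seq α β w X).f q ≫
        ((injectiveResolution X).isoRightDerivedObj G₂ q).inv :=
  InjectiveResolution.rightDerived_app_eq α (injectiveResolution X) q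

/-- The natural maps are computed on the chosen resolution. -/
lemma rightDerived_β (X : A) (q : ℕ) : (NatTrans.rightDerived β q).app X =
    ((injectiveResolution X).isoRightDerivedObj G₂ q).hom ≫
      HomologicalComplex.homologyMap (seq α β w X).g q ≫
        ((injectiveResolution X).isoRightDerivedObj G₃ q).inv :=
  InjectiveResolution.rightDerived_app_eq β (injectiveResolution X) q

lemma exact₂ (X : A) (q : ℕ) :
    ∃ h : (NatTrans.rightDerived α q).app X ≫ (NatTrans.rightDerived β q).app X = 0,
      (ShortComplex.mk _ _ h).Exact := by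
  have h : (NatTrans.rightDerived α q).app X ≫ (NatTrans.rightDerived β q).app X = 0 := by
    rw [rightDerived_α α β w hs, rightDerived_β α β w hs]
    simp [← HomologicalComplex.homologyMap_comp_assoc]
  refine ⟨h, ShortComplex.exact_of_iso ?_ ((shortExact_seq α β w hs X).homology_exact₂ q)⟩
  exact ShortComplex.isoMk ((injectiveResolution X).isoRightDerivedObj G₁ q).symm
    ((injectiveResolution X).isoRightDerivedObj G₂ q).symm
    ((injectiveResolution X).isoRightDerivedObj G₃ q).symm
    (by simp [rightDerived_α α β w hs]) (by simp [rightDerived_β α β w hs])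

lemma exact₃ (X : A) (q : ℕ) :
    ∃ h : (NatTrans.rightDerived β q).app X ≫ (δ α β w hs q).app X = 0,
      (ShortComplex.mk _ _ h).Exact := by
  have h : (NatTrans.rightDerived β q).app X ≫ (δ α β w hs q).app X = 0 := by
    rw [rightDerived_β α β w hs]
    simp [δ]
  refine ⟨h, ShortComplex.exact_of_iso ?_
    ((shortExact_seq α β w hs X).homology_exact₃ q (q + 1) rfl)⟩
  exact ShortComplex.isoMk ((injectiveResolution X).isoRightDerivedObj G₂ q).symm
    ((injectiveResolution X).isoRightDerivedObj G₃ q).symm
    ((injectiveResolution X).isoRightDerivedObj G₁ (q + 1)).symm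
    (by simp [rightDerived_β α β w hs]) (by simp [δ])

lemma exact₁ (X : A) (q : ℕ) :
    ∃ h : (δ α β w hs q).app X ≫ (NatTrans.rightDerived α (q + 1)).app X = 0,
      (ShortComplex.mk _ _ h).Exact := by
  have h : (δ α β w hs q).app X ≫ (NatTrans.rightDerived α (q + 1)).app X = 0 := by
    rw [rightDerived_α α β w hs]
    simp [δ]
  refine ⟨h, ShortComplex.exact_of_iso ?_
    ((shortExact_seq α β w hs X).homology_exact₁ q (q + 1) rfl)⟩
  exact ShortComplex.isoMk ((injectiveResolution X).isoRightDerivedObj G₃ q).symm
    ((injectiveResolution X).isoRightDerivedObj G₁ (q + 1)).symm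
    ((injectiveResolution X).isoRightDerivedObj G₂ (q + 1)).symm
    (by simp [δ]) (by simp [rightDerived_α α β w hs])

lemma mono_zero (X : A) : Mono ((NatTrans.rightDerived α 0).app X) := by
  rw [rightDerived_α α β w hs]
  have := (shortExact_seq α β w hs X).mono_f
  have : Mono (HomologicalComplex.cyclesMap (seq α β w X).f 0) := by
    refine mono_of_mono_fac (HomologicalComplex.cyclesMap_i (seq α β w X).f 0)
  have e := CochainComplex.isoHomologyπ₀_inv_naturality (seq α β w X).f
  have : Mono (HomologicalComplex.homologyMap (seq α β w X).f 0) := by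
    have : Mono (HomologicalComplex.homologyMap (seq α β w X).f 0 ≫
        (CochainComplex.isoHomologyπ₀ _).inv) := by
      rw [e]
      infer_instance
    exact mono_of_mono _ (CochainComplex.isoHomologyπ₀ _).inv
  infer_instance

/-- The shift isomorphism when the middle functor is acyclic. -/
lemma isIso_δ (q : ℕ) (h₂ : ∀ X, IsZero ((G₂.rightDerived q).obj X))
    (h₂' : ∀ X, IsZero ((G₂.rightDerived (q + 1)).obj X)) : IsIso (δ α β w hs q) := by
  refine (NatTrans.isIso_iff_isIso_app _).2 fun X => ?_
  obtain ⟨_, e₃⟩ := exact₃ α β w hs X q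
  obtain ⟨_, e₁⟩ := exact₁ α β w hs X q
  have : Mono ((δ α β w hs q).app X) := e₃.mono_g ((h₂ X).eq_of_src _ _)
  have : Epi ((δ α β w hs q).app X) := e₁.epi_f ((h₂' X).eq_of_tgt _ _)
  exact isIso_of_mono_of_epi _

omit hs in
/-- The comparison in degree zero is natural in the functor. -/
lemma toRightDerivedZero_natTrans :
    G₂.toRightDerivedZero ≫ NatTrans.rightDerived β 0 = β ≫ G₃.toRightDerivedZero := by
  ext X
  simp only [NatTrans.comp_app]
  rw [InjectiveResolution.toRightDerivedZero_eq (injectiveResolution X) G₂,
    InjectiveResolution.toRightDerivedZero_eq (injectiveResolution X) G₃,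
    InjectiveResolution.rightDerived_app_eq β (injectiveResolution X) 0]
  simp only [Category.assoc, Iso.inv_hom_id_assoc]
  simp only [← Category.assoc]
  congr 1
  rw [← cancel_mono (CochainComplex.isoHomologyπ₀ _).inv]
  simp only [Category.assoc, Iso.hom_inv_id, Category.comp_id,
    HomologicalComplex.homologyFunctor_map, CochainComplex.isoHomologyπ₀_inv_naturality,
    Iso.hom_inv_id_assoc]
  rw [← cancel_mono (HomologicalComplex.iCycles _ 0)]
  simp [InjectiveResolution.toRightDerivedZero']

/-- The first derived functor as a cokernel. -/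
theorem nonempty_cokernel_iso [PreservesFiniteLimits G₂] [PreservesFiniteLimits G₃]
    (h₂ : ∀ X, IsZero ((G₂.rightDerived 1).obj X)) :
    Nonempty (G₁.rightDerived 1 ≅ cokernel β) := by
  have hw : NatTrans.rightDerived β 0 ≫ δ α β w hs 0 = 0 := by
    ext X
    exact (exact₃ α β w hs X 0).1
  let S := ShortComplex.mk _ _ hw
  have hex : S.Exact := CAlgH3.FunctorExact.exact_of_app S fun X => (exact₃ α β w hs X 0).2
  have : Epi S.g := CAlgH3.FunctorExact.epi_of_app _ fun X =>
    (exact₁ α β w hs X 0).2.epi_f ((h₂ X).eq_of_tgt _ _)
  exact ⟨IsColimit.coconePointUniqueUpToIso hex.gIsCokernel (cokernelIsCokernel _) ≪≫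
    (cokernel.mapIso β (NatTrans.rightDerived β 0) (asIso G₂.toRightDerivedZero)
      (asIso G₃.toRightDerivedZero) (toRightDerivedZero_natTrans β).symm).symm⟩

end Groth.Agent.HTop16.DerivedSES
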