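import Groth.Agent.HTop16.SiteStalk
import Mathlib.CategoryTheory.Sites.Point.Over
import Mathlib.Algebra.DirectSum.Module
import Mathlib.Algebra.Category.Grp.Colimits

/-!
# Stalks of extensions by zero of modules

The stalk of `j_{U!}G` at a point `p` is the direct sum of the stalks of `G` at the points over `p`.
-/

set_option autoImplicit false
set_option backward.isDefEq.respectTransparency false
set_option backward.isDefEq.respectTransparency.types false
set_option linter.all false

universe u

open CategoryTheory CategoryTheory.Limits Opposite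
open scoped DirectSum

namespace Groth.Agent.HTop16.ExtZeroStalk

open SiteStalk

variable {C : Type u} [SmallCategory C] {J : GrothendieckTopology C} (O : Sheaf J CommRingCat.{u}) (U : C)
  (p : GrothendieckTopology.Point.{u} J)

section Ring

variable (x : p.fiber.obj U)

/-- Comparison of the stalks of the structure sheaves. -/
noncomputable def ringOver : ModSite.stalkRing (p.over x) (O.over U) ⟶ ModSite.stalkRing p O :=
  (p.over x).presheafFiberDesc (fun W y => p.toPresheafFiber W.left y.1 O.obj)
    (fun W W' g y => p.toPresheafFiber_w g.left y.1 O.obj)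

lemma ringOver_germ (W : Over U) (y : (p.over x).fiber.obj W) (r : (O.over U).obj.obj (op W)) :
    (ringOver O U p x).hom (ModSite.germRing (O := O.over U) (p.over x) W y r) = ModSite.germRing p W.left y.1 r := by
  show ((p.over x).toPresheafFiber W y (O.over U).obj ≫ ringOver O U p x).hom r = _
  simp only [ringOver, GrothendieckTopology.Point.toPresheafFiber_presheafFiberDesc]
  rfl

theorem bijective_ringOver : Function.Bijective (ringOver O U p x).hom := by
  constructor
  · rw [injective_iff_map_eq_zero]
    intro r hr
    obtain ⟨W, y, a, rfl⟩ := (p.over x).toPresheafFiber_jointly_surjective (P := (O.over U).obj) r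
    rw [ringOver_germ] at hr
    obtain ⟨W', g, w, hw, he⟩ := (p.toPresheafFiber_eq_iff' (P := O.obj) W.left y.1 a 0).1 (hr.trans (map_zero _).symm)
    let W₁ : Over U := Over.mk (g ≫ W.hom)
    let gg : W₁ ⟶ W := Over.homMk g rfl
    have hy : p.fiber.map W₁.hom w = x := by
      show p.fiber.map (g ≫ W.hom) w = x
      rw [Functor.map_comp]
      exact (congrArg (p.fiber.map W.hom) hw).trans y.2
    let w₁ : (p.over x).fiber.obj W₁ := ⟨w, hy⟩
    have e : (p.over x).fiber.map gg w₁ = y := Subtype.ext hw
    rw [← e]
    refine (germRing_res (p.over x) (O.over U) gg w₁ a).symm.trans ?_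
    refine (congrArg (ModSite.germRing (O := O.over U) (p.over x) W₁ w₁) (?_ : ((O.over U).obj.map gg.op).hom a = (0 : (O.over U).obj.obj (op W₁)))).trans (map_zero _)
    exact he.trans (map_zero _)
  · intro r
    obtain ⟨V, v, a, rfl⟩ := p.toPresheafFiber_jointly_surjective (P := O.obj) r
    let w := (IsCofiltered.min (Functor.elementsMk p.fiber V v) (Functor.elementsMk p.fiber U x))
    let g := IsCofiltered.minToLeft (Functor.elementsMk p.fiber V v) (Functor.elementsMk p.fiber U x)
    let k := IsCofiltered.minToRight (Functor.elementsMk p.fiber V v) (Functor.elementsMk p.fiber U x)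
    refine ⟨ModSite.germRing (O := O.over U) (p.over x) (Over.mk k.1) ⟨w.2, k.2⟩ ((O.obj.map g.1.op).hom a),
      (ringOver_germ O U p x (Over.mk k.1) ⟨w.2, k.2⟩ _).trans ?_⟩
    refine (germRing_res p O g.1 w.2 a).trans ?_
    exact congrArg (fun z => ModSite.germRing (O := O) p V z a) g.2

/-- The comparison as an equivalence. -/
noncomputable def ringEquiv : ModSite.stalkRing (p.over x) (O.over U) ≃+* ModSite.stalkRing p O :=
  RingEquiv.ofBijective (ringOver O U p x).hom (bijective_ringOver O U p x)

end Ring

variable {O U} (G : ModSite.Mod (O.over U))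

/-- The stalk over `x`, as a module over the stalk at `p`. -/
def St (x : p.fiber.obj U) : Type u := ModSite.stalkAb (p.over x) G

noncomputable instance (x : p.fiber.obj U) : AddCommGroup (St p G x) :=
  inferInstanceAs (AddCommGroup (ModSite.stalkAb (p.over x) G))

noncomputable instance stModule (x : p.fiber.obj U) : Module (ModSite.stalkRing p O) (St p G x) :=
  Module.compHom (ModSite.stalkAb (p.over x) G) (ringEquiv O U p x).symm.toRingHom

/-- The germ over `x`. -/
noncomputable def gx (x : p.fiber.obj U) (W : Over U) (y : p.fiber.obj W.left) (h : p.fiber.map W.hom y = x)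
    (s : ModSite.sect G W) : St p G x :=
  ModSite.germ (p.over x) G W ⟨y, h⟩ s

lemma gx_smul (x : p.fiber.obj U) (W : Over U) (y : p.fiber.obj W.left) (h : p.fiber.map W.hom y = x)
    (r : O.obj.obj (op W.left)) (s : ModSite.sect G W) :
    gx p G x W y h ((show (O.over U).obj.obj (op W) from r) • s) = ModSite.germRing p W.left y r • gx p G x W y h s := by
  refine (ModSite.germ_smul (p.over x) G W ⟨y, h⟩ (show (O.over U).obj.obj (op W) from r) s).trans ?_
  show _ = (ringEquiv O U p x).symm (ModSite.germRing p W.left y r) • ModSite.germ (p.over x) G W ⟨y, h⟩ s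
  congr 1
  refine ((ringEquiv O U p x).symm_apply_apply _).symm.trans ?_
  exact congrArg _ (ringOver_germ O U p x W ⟨y, h⟩ r)

/-- The direct sum of the stalks. -/
noncomputable def Sum : ModuleCat.{u} (ModSite.stalkRing p O) :=
  ModuleCat.of (ModSite.stalkRing p O) (⨁ x : p.fiber.obj U, St p G x)

/-- The inclusion of a germ. -/
noncomputable def ins (x : p.fiber.obj U) (W : Over U) (y : p.fiber.obj W.left) (h : p.fiber.map W.hom y = x)
    (s : ModSite.sect G W) : Sum p G :=
  letI := Classical.decEq (p.fiber.obj U)
  DirectSum.lof (ModSite.stalkRing p O) (p.fiber.obj U) (St p G) x (gx p G x W y h s)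

lemma ins_congr {x x' : p.fiber.obj U} (e : x = x') (W : Over U) (y : p.fiber.obj W.left)
    (h : p.fiber.map W.hom y = x) (s : ModSite.sect G W) : ins p G x W y h s = ins p G x' W y (h.trans e) s := by
  subst e
  rfl

/-- The map to the skyscraper of the sum. -/
noncomputable def eta : G ⟶ (ModSite.restr O U).obj ((sky p).obj (Sum p G)) :=
  ⟨PresheafOfModules.homMk
    { app := fun W => AddCommGrpCat.ofHom
        { toFun := fun (s : G.val.obj W) =>
            ((fun y => ins p G (p.fiber.map W.unop.hom y) W.unop y rfl s) : SkySec p (Sum p G) (op W.unop.left))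
          map_zero' := funext fun y => by
            show ins p G _ W.unop y rfl (0 : ModSite.sect G W.unop) = (0 : Sum p G)
            unfold ins gx
            rw [show ModSite.germ (p.over _) G W.unop ⟨y, rfl⟩ 0 = 0 from map_zero _]
            exact map_zero _
          map_add' := fun a b => funext fun y => by
            show ins p G _ W.unop y rfl (a + b) = ins p G _ W.unop y rfl a + ins p G _ W.unop y rfl b
            unfold ins gx
            rw [germ_add]
            exact map_add _ _ _ }
      naturality := fun W W' g => by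
        refine AddCommGrpCat.hom_ext <| AddMonoidHom.ext fun s => funext fun y => ?_
        show ins p G (p.fiber.map W'.unop.hom y) W'.unop y rfl (G.val.map g s) =
          ins p G (p.fiber.map W.unop.hom (p.fiber.map g.unop.left y)) W.unop (p.fiber.map g.unop.left y) rfl s
        have e : p.fiber.map W.unop.hom (p.fiber.map g.unop.left y) = p.fiber.map W'.unop.hom y := by
          refine (ConcreteCategory.congr_hom (p.fiber.map_comp g.unop.left W.unop.hom) y).symm.trans ?_
          rw [Over.w g.unop]
        rw [ins_congr p G e W.unop _ rfl s]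
        unfold ins gx
        refine congrArg _ ?_
        exact germ_res (p.over _) G g.unop ⟨y, rfl⟩ s }
    (fun W r s => funext fun y => by
      show ins p G _ W.unop y rfl (r • s) = ModSite.germRing p W.unop.left y r • ins p G _ W.unop y rfl s
      unfold ins
      refine (congrArg _ (gx_smul p G _ W.unop y rfl r s)).trans ?_
      exact map_smul _ _ _)⟩

/-- From the stalk of the extension by zero to the sum. -/
noncomputable def toSum : (stalkM p).obj ((ModSite.extZero O U).obj G) ⟶ Sum p G :=
  ((stalkAdj p).homEquiv _ _).symm (((ModSite.extZeroAdj O U).homEquiv _ _).symm (eta p G))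

/-- The unit on sections. -/
noncomputable def usec {W : Over U} (s : ModSite.sect G W) : ModSite.sect ((ModSite.extZero O U).obj G) W.left :=
  (((ModSite.extZeroAdj O U).unit.app G).val.app (op W)).hom s

lemma toSum_germ (W : Over U) (y : p.fiber.obj W.left) (s : ModSite.sect G W) :
    (toSum p G).hom (ModSite.germ p ((ModSite.extZero O U).obj G) W.left y (usec G s)) =
      ins p G (p.fiber.map W.hom y) W y rfl s := by
  have h₁ := ((ModSite.extZeroAdj O U).homEquiv G ((sky p).obj (Sum p G))).apply_symm_apply (eta p G)
  rw [Adjunction.homEquiv_unit] at h₁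
  have h₂ := congrArg (fun k : G ⟶ _ => ((k.val.app (op W)).hom s : SkySec p (Sum p G) (op W.left)) y) h₁
  refine Eq.trans ?_ h₂
  have h₃ := ((stalkAdj p).homEquiv ((ModSite.extZero O U).obj G) (Sum p G)).apply_symm_apply
    (((ModSite.extZeroAdj O U).homEquiv G ((sky p).obj (Sum p G))).symm (eta p G))
  exact congrArg (fun k : _ ⟶ (sky p).obj (Sum p G) =>
    ((k.val.app (op W.left)).hom (usec G s) : SkySec p (Sum p G) (op W.left)) y) h₃

/-- The additive component of the inverse. -/
noncomputable def fromAdd (x : p.fiber.obj U) :
    ModSite.stalkAb (p.over x) G ⟶ ModSite.stalkAb p ((ModSite.extZero O U).obj G) :=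
  (p.over x).presheafFiberDesc
    (fun W y => AddCommGrpCat.ofHom
      { toFun := fun (s : ModSite.sect G W) => ModSite.germ p ((ModSite.extZero O U).obj G) W.left y.1 (usec G s)
        map_zero' := by
          rw [show usec G (0 : ModSite.sect G W) = 0 from map_zero _]
          exact map_zero _
        map_add' := fun a b => by
          rw [show usec G (a + b) = usec G a + usec G b from map_add _ _ _]
          exact germ_add p _ _ _ _ _ })
    (fun W W' g y => AddCommGrpCat.hom_ext <| AddMonoidHom.ext fun s => by
      show ModSite.germ p _ W.left y.1 (usec G (G.val.map g.op s)) = ModSite.germ p _ W'.left _ (usec G s)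
      refine (congrArg (ModSite.germ p ((ModSite.extZero O U).obj G) W.left y.1)
        (PresheafOfModules.naturality_apply ((ModSite.extZeroAdj O U).unit.app G).val g.op s)).trans ?_
      exact germ_res p ((ModSite.extZero O U).obj G) g.left y.1 _)

lemma fromAdd_gx (x : p.fiber.obj U) (W : Over U) (y : p.fiber.obj W.left) (h : p.fiber.map W.hom y = x)
    (s : ModSite.sect G W) :
    (fromAdd p G x).hom (gx p G x W y h s) = ModSite.germ p ((ModSite.extZero O U).obj G) W.left y (usec G s) := by
  show ((p.over x).toPresheafFiber W ⟨y, h⟩ (ModSite.toAb G).obj ≫ fromAdd p G x).hom s = _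
  simp only [fromAdd, GrothendieckTopology.Point.toPresheafFiber_presheafFiberDesc]
  rfl

/-- The component of the inverse. -/
noncomputable def fromComp (x : p.fiber.obj U) :
    St p G x →ₗ[ModSite.stalkRing p O] (stalkM p).obj ((ModSite.extZero O U).obj G) where
  toFun m := (fromAdd p G x).hom m
  map_add' a b := map_add (fromAdd p G x).hom a b
  map_smul' r m := by
    obtain ⟨W, ⟨y, h⟩, a, s, ha, rfl⟩ := exists_germ_pair (p.over x) G ((ringEquiv O U p x).symm r) m
    have hr : r = ModSite.germRing p W.left y (show O.obj.obj (op W.left) from a) := by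
      rw [← (ringEquiv O U p x).apply_symm_apply r, ← ha]
      exact ringOver_germ O U p x W ⟨y, h⟩ a
    subst hr
    show (fromAdd p G x).hom (ModSite.germRing p W.left y _ • gx p G x W y h s) =
      ModSite.germRing p W.left y _ • (fromAdd p G x).hom (gx p G x W y h s)
    rw [← gx_smul, fromAdd_gx, fromAdd_gx, ← ModSite.germ_smul]
    exact congrArg (ModSite.germ p ((ModSite.extZero O U).obj G) W.left y)
      (map_smul (((ModSite.extZeroAdj O U).unit.app G).val.app (op W)).hom a s)

/-- The inverse. -/
noncomputable def fromSum : Sum p G ⟶ (stalkM p).obj ((ModSite.extZero O U).obj G) :=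
  letI := Classical.decEq (p.fiber.obj U)
  ModuleCat.ofHom (DirectSum.toModule (ModSite.stalkRing p O) (p.fiber.obj U) _ (fromComp p G))

lemma fromSum_ins (x : p.fiber.obj U) (W : Over U) (y : p.fiber.obj W.left) (h : p.fiber.map W.hom y = x)
    (s : ModSite.sect G W) :
    (fromSum p G).hom (ins p G x W y h s) = ModSite.germ p ((ModSite.extZero O U).obj G) W.left y (usec G s) := by
  letI := Classical.decEq (p.fiber.obj U)
  unfold fromSum ins
  refine (DirectSum.toModule_lof (ModSite.stalkRing p O) x (gx p G x W y h s)).trans ?_
  exact fromAdd_gx p G x W y h s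

theorem toSum_fromSum : toSum p G ≫ fromSum p G = 𝟙 _ := by
  refine ((stalkAdj p).homEquiv _ _).injective ?_
  refine ((ModSite.extZeroAdj O U).homEquiv _ _).injective ?_
  rw [Adjunction.homEquiv_unit, Adjunction.homEquiv_unit]
  refine SheafOfModules.hom_ext <| PresheafOfModules.hom_ext fun W => ModuleCat.hom_ext <| LinearMap.ext fun s =>
    funext fun y => ?_
  show (fromSum p G).hom ((toSum p G).hom (ModSite.germ p _ W.unop.left y (usec G s))) =
    ModSite.germ p _ W.unop.left y (usec G s)
  rw [toSum_germ]
  exact fromSum_ins p G _ W.unop y rfl s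

theorem fromSum_toSum : fromSum p G ≫ toSum p G = 𝟙 _ := by
  letI := Classical.decEq (p.fiber.obj U)
  refine ModuleCat.hom_ext (DirectSum.linearMap_ext _ fun x => LinearMap.ext fun m => ?_)
  obtain ⟨W, ⟨y, h⟩, s, rfl⟩ := exists_germ (p.over x) G m
  show (toSum p G).hom ((fromSum p G).hom (ins p G x W y h s)) = ins p G x W y h s
  rw [fromSum_ins, toSum_germ]
  exact ins_congr p G h W y rfl s

/-- The sum is the coproduct of abelian groups. -/
noncomputable def sumIso :
    AddCommGrpCat.of (Sum p G) ≅ ∐ fun x : p.fiber.obj U => ModSite.stalkAb (p.over x) G :=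
  letI := Classical.decEq (p.fiber.obj U)
  IsColimit.coconePointUniqueUpToIso
    (mkCofanColimit (Cofan.mk (AddCommGrpCat.of (Sum p G)) fun x =>
        (AddCommGrpCat.ofHom (DirectSum.of (St p G) x) : ModSite.stalkAb (p.over x) G ⟶ AddCommGrpCat.of (Sum p G)))
      (fun t => AddCommGrpCat.ofHom (DirectSum.toAddMonoid fun x => (t.inj x).hom))
      (fun t x => AddCommGrpCat.hom_ext <| AddMonoidHom.ext fun (m : St p G x) =>
        DirectSum.toAddMonoid_of (β := St p G) (fun z => ((t.inj z).hom : St p G z →+ t.pt)) x m)
      (fun t m hm => AddCommGrpCat.hom_ext <| DirectSum.addHom_ext fun x y => by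
        refine Eq.trans ?_ (DirectSum.toAddMonoid_of _ x y).symm
        exact congrArg (fun k : _ ⟶ t.pt => k.hom y) (hm x)))
    (colimit.isColimit _)

theorem nonempty_iso :
    Nonempty (ModSite.stalkAb p ((ModSite.extZero O U).obj G) ≅
      ∐ fun x : p.fiber.obj U => ModSite.stalkAb (p.over x) G) :=
  ⟨(forget₂ (ModuleCat.{u} (ModSite.stalkRing p O)) AddCommGrpCat.{u}).mapIso
    ({ hom := toSum p G, inv := fromSum p G, hom_inv_id := toSum_fromSum p G,
       inv_hom_id := fromSum_toSum p G } : (stalkM p).obj ((ModSite.extZero O U).obj G) ≅ Sum p G) ≪≫ sumIso p G⟩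

end Groth.Agent.HTop16.ExtZeroStalk
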