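import Groth.Agent.HTop16.SN
import Groth.Agent.H8Lim.IntegralApprox
import Mathlib.AlgebraicGeometry.AffineTransitionLimit
import Mathlib.AlgebraicGeometry.IdealSheaf.Subscheme
import Mathlib.AlgebraicGeometry.Noetherian
import Mathlib.CategoryTheory.Limits.Preserves.Creates.Finite

/-!
Morphisms out of a reduced universal homeomorphism over a Noetherian scheme factor through
finite universal homeomorphisms.
-/

set_option autoImplicit false
set_option linter.unusedSectionVars false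
set_option linter.style.haveILetI false

namespace Groth.Agent.HTop16

universe u

open CategoryTheory CategoryTheory.Limits AlgebraicGeometry

variable {S X T T' : Scheme.{u}}

lemma univInj_of_comp {U V W : Scheme.{u}} (g : U ⟶ V) (h : V ⟶ W) [UniversallyInjective (g ≫ h)] :
    UniversallyInjective g := by
  let k : U ⟶ pullback (g ≫ h) h := pullback.lift (𝟙 U) g (by simp)
  have hk : k ≫ pullback.fst (g ≫ h) h = 𝟙 U := pullback.lift_fst _ _ _
  haveI : Mono k := mono_of_mono_fac hk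
  haveI hk' : UniversallyInjective k := (UniversallyInjective.iff_diagonal k).mpr inferInstance
  have h2 : UniversallyInjective (pullback.snd (g ≫ h) h) :=
    MorphismProperty.of_isPullback (IsPullback.of_hasPullback (g ≫ h) h)
      (inferInstance : UniversallyInjective (g ≫ h))
  have : k ≫ pullback.snd (g ≫ h) h = g := pullback.lift_snd _ _ _
  rw [← this]
  exact MorphismProperty.comp_mem @UniversallyInjective.{u} k _ hk' h2

lemma image_data {W : Scheme.{u}} (m : T' ⟶ W) (p : W ⟶ T) [IsFinite p] [IsReduced T']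
    (ν : T' ⟶ T) (hν : FlatMor.IsUnivHomeo ν) (h : m ≫ p = ν) :
    ∃ (T₁ : Scheme.{u}) (i : T₁ ⟶ W) (a : T' ⟶ T₁), a ≫ i = m ∧ IsFinite (i ≫ p) ∧
      FlatMor.IsUnivHomeo (i ≫ p) ∧ IsReduced T₁ ∧ Surjective a ∧
      (HTop.ResidueFieldsIso ν → HTop.ResidueFieldsIso (i ≫ p)) := by
  obtain ⟨hνi, hνu, hνs⟩ := (S0415.result ν).1 hν
  haveI : IsIntegralHom (m ≫ p) := by rw [h]; exact hνi
  haveI : IsIntegralHom m := IsIntegralHom.of_comp m p
  haveI : IsReduced m.image := by
    show IsReduced m.ker.subscheme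
    rw [Props12.ker_eq_vanishingIdeal]
    exact Props12.isReduced_subscheme_vanishingIdeal _
  have hfac : m.toImage ≫ m.imageι = m := m.toImage_imageι
  haveI : IsIntegralHom (m.toImage ≫ m.imageι) := by rw [hfac]; infer_instance
  haveI : IsIntegralHom m.toImage := IsIntegralHom.of_comp m.toImage m.imageι
  haveI hs : Surjective m.toImage := ⟨fun y => by
    have hd : DenseRange m.toImage := IsDominant.denseRange
    have hc : IsClosed (Set.range m.toImage) := m.toImage.isClosedMap.isClosed_range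
    have : y ∈ closure (Set.range m.toImage) := hd y
    rwa [hc.closure_eq] at this⟩
  have hcomp : m.toImage ≫ m.imageι ≫ p = ν := by rw [← Category.assoc, hfac, h]
  haveI : UniversallyInjective (m.toImage ≫ m.imageι ≫ p) := by rw [hcomp]; exact hνu
  haveI : UniversallyInjective m.toImage := univInj_of_comp m.toImage (m.imageι ≫ p)
  refine ⟨m.image, m.imageι, m.toImage, hfac, inferInstance,
    (S0416.result m.toImage (m.imageι ≫ p)).1 (hcomp ▸ hν)
      (UnivHomeo.isUnivHomeo_of_integral_univInjective_surjective _), inferInstance, hs,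
    fun hres y => ?_⟩
  obtain ⟨x, rfl⟩ := hs.surj y
  rw [ConcreteCategory.isIso_iff_bijective]
  refine ⟨RingHom.injective _, fun z => ?_⟩
  have h' := hres x
  rw [← hcomp] at hres
  have h'' := hres x
  rw [Scheme.residueFieldMap_comp] at h''
  obtain ⟨w, hw⟩ := ((ConcreteCategory.isIso_iff_bijective _).1 h'').2 (m.toImage.residueFieldMap x z)
  exact ⟨w, RingHom.injective (m.toImage.residueFieldMap x).hom hw⟩

lemma exists_factor [IsNoetherian S] [IsNoetherian T] (fX : X ⟶ S) [LocallyOfFiniteType fX]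
    (fT : T ⟶ S) (ν : T' ⟶ T) (hν : FlatMor.IsUnivHomeo ν) [IsReduced T']
    (g : T' ⟶ X) (hg : g ≫ fX = ν ≫ fT) :
    ∃ (T₁ : Scheme.{u}) (π : T₁ ⟶ T) (_ : IsFinite π) (_ : FlatMor.IsUnivHomeo π) (g₁ : T₁ ⟶ X)
      (h : T' ⟶ T₁), (h ≫ π = ν ∧ g₁ ≫ fX = π ≫ fT ∧ h ≫ g₁ = g) ∧
      (HTop.ResidueFieldsIso ν → HTop.ResidueFieldsIso π) := by
  haveI : IsIntegralHom ν := ((S0415.result ν).1 hν).1
  obtain ⟨I, _, _, _, D, c, hc, hD, ⟨e⟩⟩ := H8Lim.exists_limit_integral_finitePresentation ν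
  haveI : ∀ i, IsFinite (D.obj i).hom := fun i => (hD i).1
  haveI : IsFiltered I := inferInstance
  haveI : IsCofiltered Iᵒᵖ := inferInstance
  haveI : IsConnected Iᵒᵖ := IsCofiltered.isConnected _
  let D' := D ⋙ Over.forget T
  let c' : Cone D' := (Over.forget T).mapCone c
  have hc' : IsLimit c' := isLimitOfPreserves (Over.forget T) hc
  haveI : ∀ {i j : Iᵒᵖ} (f : i ⟶ j), IsAffineHom (D'.map f) := fun {i j} f => by
    haveI : IsAffineHom ((D.map f).left ≫ (D.obj j).hom) := by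
      rw [Over.w]; infer_instance
    exact IsAffineHom.of_comp (D.map f).left (D.obj j).hom
  haveI : ∀ i, IsNoetherian (D'.obj i) := fun i => by
    let p : D'.obj i ⟶ T := (D.obj i).hom
    haveI : IsFinite p := (hD i).1
    haveI : CompactSpace (D'.obj i) := QuasiCompact.compactSpace_of_compactSpace p
    haveI : IsLocallyNoetherian (D'.obj i) := LocallyOfFiniteType.isLocallyNoetherian p
    exact { }
  haveI : ∀ i, CompactSpace (D'.obj i) := fun i => inferInstance
  haveI : ∀ i, QuasiSeparatedSpace (D'.obj i) := fun i => inferInstance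
  haveI : LocallyOfFinitePresentation fX :=
    LocallyOfFinitePresentation.iff_locallyOfFiniteType.2 inferInstance
  let t : D' ⟶ (Functor.const _).obj S :=
    { app := fun i => (D.obj i).hom ≫ fT
      naturality := fun i j f => by
        show (D.map f).left ≫ (D.obj j).hom ≫ fT = ((D.obj i).hom ≫ fT) ≫ 𝟙 S
        rw [Over.w_assoc, Category.comp_id] }
  obtain ⟨i, g', hg', hg'f⟩ := Scheme.exists_π_app_comp_eq_of_locallyOfFinitePresentation
    D' t fX c' hc' (e.hom.left ≫ g) (by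
      ext i
      show (c.π.app i).left ≫ (D.obj i).hom ≫ fT = (e.hom.left ≫ g) ≫ fX
      rw [Over.w_assoc, Category.assoc, hg, ← Category.assoc e.hom.left]
      congr 1
      exact (Over.w e.hom).symm)
  let m : T' ⟶ (D.obj i).left := (e.inv ≫ c.π.app i).left
  obtain ⟨T₁, j, a, ha, hfin, huh, -, -, hres⟩ :=
    image_data m (D.obj i).hom ν hν (Over.w (e.inv ≫ c.π.app i))
  refine ⟨T₁, j ≫ (D.obj i).hom, hfin, huh, j ≫ g', a, ⟨?_, ?_, ?_⟩, hres⟩
  · rw [← Category.assoc, ha]; exact Over.w (e.inv ≫ c.π.app i)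
  · exact (Category.assoc j g' fX).trans ((congrArg (j ≫ ·) hg'f).trans (Category.assoc _ _ _).symm)
  · rw [← Category.assoc, ha]
    show (e.inv.left ≫ (c.π.app i).left) ≫ g' = g
    rw [Category.assoc]
    refine (congrArg (e.inv.left ≫ ·) hg').trans ?_
    exact ((Category.assoc e.inv.left e.hom.left g).symm.trans
      (congrArg (· ≫ g) ((Over.comp_left _ _ _ e.inv e.hom).symm.trans (congrArg (fun z => z.left) e.inv_hom_id)))).trans
      (Category.id_comp g)

lemma exists_common [IsNoetherian T] [X.IsSeparated] {T₁ T₂ : Scheme.{u}} (π₁ : T₁ ⟶ T)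
    (π₂ : T₂ ⟶ T) [IsFinite π₁] [IsFinite π₂] (ν : T' ⟶ T) (hν : FlatMor.IsUnivHomeo ν)
    [IsReduced T'] (g₁ : T₁ ⟶ X) (g₂ : T₂ ⟶ X) (h₁ : T' ⟶ T₁) (h₂ : T' ⟶ T₂)
    (e₁ : h₁ ≫ π₁ = ν) (e₂ : h₂ ≫ π₂ = ν) (eg : h₁ ≫ g₁ = h₂ ≫ g₂) :
    ∃ (T₃ : Scheme.{u}) (π₃ : T₃ ⟶ T) (_ : IsFinite π₃) (_ : FlatMor.IsUnivHomeo π₃)
      (a₁ : T₃ ⟶ T₁) (a₂ : T₃ ⟶ T₂), (a₁ ≫ π₁ = π₃ ∧ a₂ ≫ π₂ = π₃ ∧ a₁ ≫ g₁ = a₂ ≫ g₂) ∧
      (HTop.ResidueFieldsIso ν → HTop.ResidueFieldsIso π₃) := by
  let m : T' ⟶ pullback π₁ π₂ := pullback.lift h₁ h₂ (e₁.trans e₂.symm)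
  obtain ⟨T₃, j, a, ha, hfin, huh, hred, hs, hres⟩ := image_data m (pullback.fst π₁ π₂ ≫ π₁) ν hν
    (by rw [← Category.assoc, pullback.lift_fst, e₁])
  refine ⟨T₃, _, hfin, huh, j ≫ pullback.fst π₁ π₂, j ≫ pullback.snd π₁ π₂,
    ⟨by rw [Category.assoc], by rw [Category.assoc, ← pullback.condition], ?_⟩, hres⟩
  haveI := hred
  haveI := hs
  refine ext_of_isDominant a ?_
  rw [← Category.assoc, ← Category.assoc, ha, pullback.lift_fst, ← Category.assoc, ← Category.assoc,
    ha, pullback.lift_snd, eg]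

end Groth.Agent.HTop16
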