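import Groth.Agent.DerCompLib.LocalLift
import Groth.Agent.DerCompLib.SecEquiv
import Groth.Agent.DCat.ModulesGrothendieck
import Groth.Agent.ToposFinLib.Eps
import Groth.Prelude.Def_CohCx
import Mathlib.CategoryTheory.Sites.IsSheafFor
import Mathlib.Algebra.Homology.ShortComplex.ShortExact
import Mathlib.CategoryTheory.Limits.Shapes.Products

/-!
# Modules presented by finitely many free modules on quasi-compact objects
-/

set_option autoImplicit false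
set_option backward.isDefEq.respectTransparency false
set_option backward.isDefEq.respectTransparency.types false
set_option linter.all false

universe u

open CategoryTheory CategoryTheory.Limits Opposite

namespace Groth.Agent.HTop16.FinPresB

open DerCompLib (Sec secRes secMap secEquiv secEquiv_comp secMap_secRes Loc)

variable {C : Type u} [SmallCategory C] {J : GrothendieckTopology C} {O : Sheaf J CommRingCat.{u}}

variable (O) in
/-- A finite sum of free modules. -/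
noncomputable abbrev Fr {κ : Type} [Finite κ] (U : κ → C) : ModSite.Mod O := ∐ fun k => ModSite.freeOn O (U k)

/-- The morphism given by sections. -/
noncomputable def ofSec {κ : Type} [Finite κ] {U : κ → C} {M : ModSite.Mod O} (s : ∀ k, Sec M (U k)) :
    Fr O U ⟶ M :=
  Sigma.desc fun k => (secEquiv (U k) M).symm (s k)

/-- The sections of a morphism. -/
noncomputable def genSec {κ : Type} [Finite κ] {U : κ → C} {M : ModSite.Mod O} (φ : Fr O U ⟶ M) (k : κ) :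
    Sec M (U k) :=
  secEquiv (U k) M (Sigma.ι (fun k => ModSite.freeOn O (U k)) k ≫ φ)

lemma genSec_ofSec {κ : Type} [Finite κ] {U : κ → C} {M : ModSite.Mod O} (s : ∀ k, Sec M (U k)) (k : κ) :
    genSec (ofSec s) k = s k := by
  simp [genSec, ofSec]

lemma hom_ext_gen {κ : Type} [Finite κ] {U : κ → C} {M : ModSite.Mod O} {φ ψ : Fr O U ⟶ M}
    (h : ∀ k, genSec φ k = genSec ψ k) : φ = ψ :=
  Sigma.hom_ext _ _ fun k => (secEquiv (U k) M).injective (h k)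

lemma genSec_comp {κ : Type} [Finite κ] {U : κ → C} {M N : ModSite.Mod O} (φ : Fr O U ⟶ M) (q : M ⟶ N) (k : κ) :
    genSec (φ ≫ q) k = secMap q (U k) (genSec φ k) := by
  rw [genSec, genSec, ← Category.assoc, secEquiv_comp]

lemma genSec_zero {κ : Type} [Finite κ] {U : κ → C} {M : ModSite.Mod O} (k : κ) :
    genSec (0 : Fr O U ⟶ M) k = 0 := by
  simp [genSec]

lemma sec_sep (M : ModSite.Mod O) {X : C} {R : Sieve X} (hR : R ∈ J X) (x y : Sec M X)
    (h : ∀ ⦃W : C⦄ (g : W ⟶ X), R g → secRes M g x = secRes M g y) : x = y :=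
  (((isSheaf_iff_isSheaf_of_type _ _).1 ((sheafCompose J (forget AddCommGrpCat.{u})).obj
    ((SheafOfModules.toSheaf (ModSite.ringSh O)).obj M)).property) R hR).isSeparatedFor.ext fun W g hg => h g hg

section Cover

variable (B : Set C)
  (hB₁ : ∀ X : C, ∃ (κ : Type u) (Y : κ → C) (g : ∀ k, Y k ⟶ X), Sieve.ofArrows Y g ∈ J X ∧ ∀ k, Y k ∈ B)

include hB₁ in
/-- A covering sieve of a quasi-compact object contains a finite covering by members of `B`. -/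
theorem exists_fin_cover {X : C} (hX : ToposFin.IsQCSite J X) (S : Sieve X) (hS : S ∈ J X) :
    ∃ (n : ℕ) (W : Fin n → C) (g : ∀ k, W k ⟶ X), (∀ k, W k ∈ B) ∧ (∀ k, S (g k)) ∧ Sieve.ofArrows W g ∈ J X := by
  let T : Sieve X :=
    { arrows := fun Z f => ∃ (Y : C) (a : Z ⟶ Y) (b : Y ⟶ X), Y ∈ B ∧ S b ∧ a ≫ b = f
      downward_closed := fun {Z Z'} f hf c => by
        obtain ⟨Y, a, b, hY, hb, rfl⟩ := hf
        exact ⟨Y, c ≫ a, b, hY, hb, Category.assoc _ _ _⟩ }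
  have hT : T ∈ J X := J.transitive hS _ fun Z f hf => by
    obtain ⟨κ, Y, g, hg, hY⟩ := hB₁ Z
    refine J.superset_covering ?_ hg
    intro Z' c hc
    obtain ⟨k, d, rfl⟩ := (Sieve.mem_ofArrows_iff _ _ _).1 hc
    exact ⟨Y k, d, g k ≫ f, hY k, S.downward_closed hf _, (Category.assoc _ _ _).symm⟩
  obtain ⟨n, V, f, hf, hcov⟩ := hX T hT
  choose Y a b hY hb hab using hf
  refine ⟨n, Y, b, hY, hb, J.superset_covering ?_ hcov⟩
  intro Z c hc
  obtain ⟨k, d, rfl⟩ := (Sieve.mem_ofArrows_iff _ _ _).1 hc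
  exact (Sieve.mem_ofArrows_iff _ _ _).2 ⟨k, d ≫ a k, by rw [Category.assoc, hab]⟩

lemma isQCSite_of_isQcObject {X : C} (h : CohCx.IsQcObject ((presheafToSheaf J (Type u)).obj (yoneda.obj X))) :
    ToposFin.IsQCSite J X := by
  refine (ToposFinLib.isQC_eps_iff X).1 (ToposFinLib.isQC_iff.2 fun I L f hf => ?_)
  have hjs : ∀ {I : Type u} {L : I → Sheaf J (Type u)} (f : ∀ i, L i ⟶ ToposFin.eps J X),
      CohCx.JointlySurjective f ↔ ToposFinLib.EFam f := fun {I L} f => by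
    rw [ToposFinLib.efam_iff_famSieve]
    constructor
    · intro h U x
      obtain ⟨T, hT, hT'⟩ := h U.unop x
      exact J.superset_covering (fun V g hg => hT' V g hg) hT
    · intro h U x
      exact ⟨_, h (op U) x, fun V g hg => hg⟩
  obtain ⟨t, ht⟩ := h I L f ((hjs f).2 hf)
  exact ⟨t, (hjs _).1 ht⟩

/-- The data of finite coverings of a finite family by members of `B`. -/
structure Refine {κ : Type} (U : κ → C) where
  /-- The number of members over each index. -/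
  n : κ → ℕ
  /-- The members. -/
  W : (Σ k, Fin (n k)) → C
  /-- The maps. -/
  g : ∀ p, W p ⟶ U p.1
  mem : ∀ p, W p ∈ B
  cover : ∀ k, Sieve.ofArrows (fun j => W ⟨k, j⟩) (fun j => g ⟨k, j⟩) ∈ J (U k)

include hB₁ in
lemma exists_refine {κ : Type} {U : κ → C} (hU : ∀ k, ToposFin.IsQCSite J (U k))
    (S : ∀ k, Sieve (U k)) (hS : ∀ k, S k ∈ J (U k)) :
    ∃ R : Refine (J := J) B U, ∀ p, S p.1 (R.g p) := by
  choose n W g hW hg hc using fun k => exists_fin_cover B hB₁ (hU k) (S k) (hS k)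
  exact ⟨⟨n, fun p => W p.1 p.2, fun p => g p.1 p.2, fun p => hW _ _, hc⟩, fun p => hg _ _⟩

variable {B}

/-- The covering map of a refinement. -/
noncomputable def Refine.cov {κ : Type} [Finite κ] {U : κ → C} (R : Refine (J := J) B U) : Fr O R.W ⟶ Fr O U :=
  ofSec fun p => secRes (Fr O U) (R.g p) (genSec (𝟙 (Fr O U)) p.1)

lemma Refine.genSec_cov_comp {κ : Type} [Finite κ] {U : κ → C} (R : Refine (J := J) B U) {M : ModSite.Mod O}
    (φ : Fr O U ⟶ M) (p : Σ k, Fin (R.n k)) :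
    genSec (R.cov ≫ φ) p = secRes M (R.g p) (genSec φ p.1) := by
  rw [genSec_comp, Refine.cov, genSec_ofSec, secMap_secRes, ← genSec_comp, Category.id_comp]

instance Refine.epi_cov {κ : Type} [Finite κ] {U : κ → C} (R : Refine (J := J) B U) : Epi (R.cov (O := O)) := by
  refine ⟨fun {M} φ ψ h => hom_ext_gen fun k => sec_sep M (R.cover k) _ _ fun Z g hg => ?_⟩
  obtain ⟨j, a, rfl⟩ := (Sieve.mem_ofArrows_iff _ _ _).1 hg
  have := congrArg (genSec · ⟨k, j⟩) h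
  simp only [Refine.genSec_cov_comp] at this
  rw [← DerCompLib.secRes_comp, ← DerCompLib.secRes_comp]
  exact congrArg (secRes M a) this

variable (B) in
include hB₁ in
/-- Local lifts through an epimorphism. -/
theorem exists_lift {κ : Type} [Finite κ] {U : κ → C} (hU : ∀ k, ToposFin.IsQCSite J (U k))
    {M N : ModSite.Mod O} (q : M ⟶ N) [Epi q] (φ : Fr O U ⟶ N) :
    ∃ (R : Refine (J := J) B U) (ρ : Fr O R.W ⟶ M), ρ ≫ q = R.cov ≫ φ := by
  choose S hS h using fun k => DerCompLib.exists_local_preimage q (genSec φ k)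
  obtain ⟨R, hR⟩ := exists_refine B hB₁ hU S hS
  choose x hx using fun p : Σ k, Fin (R.n k) => h p.1 (R.g p) (hR p)
  refine ⟨R, ofSec x, hom_ext_gen fun p => ?_⟩
  rw [genSec_comp, genSec_ofSec, hx, Refine.genSec_cov_comp]

end Cover

/-- A map out of two finite sums. -/
noncomputable def desc₂ {κ ι : Type} [Finite κ] [Finite ι] {V : κ → C} {U : ι → C} {M : ModSite.Mod O}
    (a : Fr O V ⟶ M) (b : Fr O U ⟶ M) : Fr O (Sum.elim V U) ⟶ M :=
  ofSec (Sum.rec (fun k => genSec a k) (fun i => genSec b i))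

/-- The left inclusion. -/
noncomputable def inl₂ {κ ι : Type} [Finite κ] [Finite ι] (V : κ → C) (U : ι → C) : Fr O V ⟶ Fr O (Sum.elim V U) :=
  ofSec fun k => genSec (𝟙 (Fr O (Sum.elim V U))) (Sum.inl k)

/-- The right inclusion. -/
noncomputable def inr₂ {κ ι : Type} [Finite κ] [Finite ι] (V : κ → C) (U : ι → C) : Fr O U ⟶ Fr O (Sum.elim V U) :=
  ofSec fun i => genSec (𝟙 (Fr O (Sum.elim V U))) (Sum.inr i)

lemma genSec_inl₂ {κ ι : Type} [Finite κ] [Finite ι] {V : κ → C} {U : ι → C} {M : ModSite.Mod O}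
    (φ : Fr O (Sum.elim V U) ⟶ M) (k : κ) : genSec (inl₂ V U ≫ φ) k = genSec φ (Sum.inl k) := by
  rw [genSec_comp, inl₂, genSec_ofSec]
  exact (genSec_comp (𝟙 _) φ (Sum.inl k)).symm.trans (by rw [Category.id_comp])

lemma genSec_inr₂ {κ ι : Type} [Finite κ] [Finite ι] {V : κ → C} {U : ι → C} {M : ModSite.Mod O}
    (φ : Fr O (Sum.elim V U) ⟶ M) (i : ι) : genSec (inr₂ V U ≫ φ) i = genSec φ (Sum.inr i) := by
  rw [genSec_comp, inr₂, genSec_ofSec]
  exact (genSec_comp (𝟙 _) φ (Sum.inr i)).symm.trans (by rw [Category.id_comp])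

lemma hom_ext₂ {κ ι : Type} [Finite κ] [Finite ι] {V : κ → C} {U : ι → C} {M : ModSite.Mod O}
    {φ ψ : Fr O (Sum.elim V U) ⟶ M} (h₁ : inl₂ V U ≫ φ = inl₂ V U ≫ ψ) (h₂ : inr₂ V U ≫ φ = inr₂ V U ≫ ψ) :
    φ = ψ := hom_ext_gen fun p => by
  rcases p with k | i
  · rw [← genSec_inl₂, h₁, genSec_inl₂]
  · rw [← genSec_inr₂, h₂, genSec_inr₂]

@[reassoc (attr := simp)]
lemma inl₂_desc₂ {κ ι : Type} [Finite κ] [Finite ι] {V : κ → C} {U : ι → C} {M : ModSite.Mod O}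
    (a : Fr O V ⟶ M) (b : Fr O U ⟶ M) : inl₂ V U ≫ desc₂ a b = a :=
  hom_ext_gen fun k => by rw [genSec_inl₂, desc₂, genSec_ofSec]

@[reassoc (attr := simp)]
lemma inr₂_desc₂ {κ ι : Type} [Finite κ] [Finite ι] {V : κ → C} {U : ι → C} {M : ModSite.Mod O}
    (a : Fr O V ⟶ M) (b : Fr O U ⟶ M) : inr₂ V U ≫ desc₂ a b = b :=
  hom_ext_gen fun k => by rw [genSec_inr₂, desc₂, genSec_ofSec]

variable (B : Set C)

/-- A module with a finite presentation by free modules on members of `B`. -/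
def IsA (M : ModSite.Mod O) : Prop :=
  ∃ (κ ι : Type) (_ : Finite κ) (_ : Finite ι) (V : κ → C) (U : ι → C) (ψ : Fr O V ⟶ Fr O U) (p : Fr O U ⟶ M)
    (w : ψ ≫ p = 0), (∀ k, V k ∈ B) ∧ (∀ i, U i ∈ B) ∧ Nonempty (IsColimit (CokernelCofork.ofπ p w))

variable {B}

/-- A cokernel from its universal property. -/
noncomputable def isCokernel {X Y Z : ModSite.Mod O} (f : X ⟶ Y) (p : Y ⟶ Z) (w : f ≫ p = 0) [Epi p]
    (h : ∀ {T : ModSite.Mod O} (k : Y ⟶ T), f ≫ k = 0 → ∃ l : Z ⟶ T, p ≫ l = k) :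
    IsColimit (CokernelCofork.ofπ p w) :=
  CokernelCofork.IsColimit.ofπ' p w fun k hk => ⟨(h k hk).choose, (h k hk).choose_spec⟩

theorem isA_of_iso {M N : ModSite.Mod O} (hM : IsA B M) (e : M ≅ N) : IsA B N := by
  obtain ⟨κ, ι, _, _, V, U, ψ, p, w, hV, hU, ⟨hc⟩⟩ := hM
  refine ⟨κ, ι, ‹_›, ‹_›, V, U, ψ, p ≫ e.hom, by rw [reassoc_of% w, zero_comp], hV, hU,
    ⟨IsColimit.ofIsoColimit hc (Cofork.ext e rfl)⟩⟩

theorem isA_free {κ : Type} [Finite κ] (U : κ → C) (hU : ∀ k, U k ∈ B) : IsA B (Fr O U) := by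
  refine ⟨PEmpty, κ, inferInstance, ‹_›, PEmpty.elim, U, 0, 𝟙 _, zero_comp, fun k => k.elim, hU, ⟨?_⟩⟩
  exact isCokernel _ _ _ fun k _ => ⟨k, Category.id_comp k⟩

theorem isA_sum {M : ModSite.Mod O} (hM : IsA B M) {κ' : Type} [Finite κ'] (W : κ' → C) (hW : ∀ k, W k ∈ B) :
    IsA B (M ⊞ Fr O W) := by
  obtain ⟨κ, ι, _, _, V, U, ψ, p, w, hV, hU, ⟨hc⟩⟩ := hM
  haveI : Epi p := Cofork.IsColimit.epi hc
  let P : Fr O (Sum.elim U W) ⟶ M ⊞ Fr O W := desc₂ (p ≫ biprod.inl) biprod.inr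
  haveI : Epi P := Preadditive.epi_of_cancel_zero _ fun {T} k hk => by
    apply biprod.hom_ext'
    · rw [← cancel_epi p, comp_zero, comp_zero, ← Category.assoc, ← inl₂_desc₂ (p ≫ biprod.inl) biprod.inr,
        Category.assoc, hk, comp_zero]
    · rw [comp_zero, ← inr₂_desc₂ (p ≫ biprod.inl) biprod.inr, Category.assoc, hk, comp_zero]
  refine ⟨κ, ι ⊕ κ', ‹_›, inferInstance, V, Sum.elim U W, ψ ≫ inl₂ U W, P, by simp [P, reassoc_of% w], hV,
    fun x => Sum.rec hU hW x, ⟨isCokernel _ _ _ fun k hk => ?_⟩⟩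
  obtain ⟨l, hl⟩ := CokernelCofork.IsColimit.desc' hc (inl₂ U W ≫ k) (by rw [← Category.assoc]; exact hk)
  refine ⟨biprod.desc l (inr₂ U W ≫ k), hom_ext₂ ?_ ?_⟩
  · simp [P]
    exact hl
  · simp [P]

variable (hB₁ : ∀ X : C, ∃ (κ : Type u) (Y : κ → C) (g : ∀ k, Y k ⟶ X), Sieve.ofArrows Y g ∈ J X ∧ ∀ k, Y k ∈ B)
  (hB₂ : ∀ U ∈ B, ToposFin.IsQCSite J U)
include hB₁ hB₂

/-- Closure under cokernels. -/
theorem isA_coker {F G Q : ModSite.Mod O} (α : F ⟶ G) (π : G ⟶ Q) (w : α ≫ π = 0)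
    (hc : IsColimit (CokernelCofork.ofπ π w)) (hF : IsA B F) (hG : IsA B G) : IsA B Q := by
  obtain ⟨κ', ι', _, _, V', U', ψ', p', w', hV', hU', ⟨hc'⟩⟩ := hF
  obtain ⟨κ, ι, _, _, V, U, ψ, p, w₀, hV, hU, ⟨hc₀⟩⟩ := hG
  haveI : Epi p := Cofork.IsColimit.epi hc₀
  haveI : Epi p' := Cofork.IsColimit.epi hc'
  haveI : Epi π := Cofork.IsColimit.epi hc
  obtain ⟨R, ρ, hρ⟩ := exists_lift B hB₁ (fun i => hB₂ _ (hU' i)) p (p' ≫ α)
  refine ⟨κ ⊕ (Σ i, Fin (R.n i)), ι, inferInstance, ‹_›, Sum.elim V R.W, U, desc₂ ψ ρ, p ≫ π, ?_,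
    fun x => Sum.rec hV R.mem x, hU, ⟨isCokernel _ _ _ fun k hk => ?_⟩⟩
  · refine hom_ext₂ ?_ ?_
    · rw [inl₂_desc₂_assoc, reassoc_of% w₀, zero_comp, comp_zero]
    · rw [inr₂_desc₂_assoc, reassoc_of% hρ, w, comp_zero, comp_zero, comp_zero]
  · have h₁ : ψ ≫ k = 0 := by rw [← inl₂_desc₂_assoc ψ ρ, hk, comp_zero]
    have h₂ : ρ ≫ k = 0 := by rw [← inr₂_desc₂_assoc ψ ρ, hk, comp_zero]
    obtain ⟨l, hl⟩ := CokernelCofork.IsColimit.desc' hc₀ k h₁
    change p ≫ l = k at hl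
    have h₃ : α ≫ l = 0 := by
      rw [← cancel_epi p', ← cancel_epi (R.cov (O := O)), comp_zero, comp_zero]
      calc R.cov ≫ p' ≫ α ≫ l = (R.cov ≫ p' ≫ α) ≫ l := by simp only [Category.assoc]
        _ = (ρ ≫ p) ≫ l := by rw [hρ]
        _ = 0 := by rw [Category.assoc, hl, h₂]
    obtain ⟨m, hm⟩ := CokernelCofork.IsColimit.desc' hc l h₃
    change π ≫ m = l at hm
    exact ⟨m, by rw [Category.assoc, hm, hl]⟩

variable [HasPullbacks C]
  (hB₃ : ∀ (U U₁ U₂ : C) (f₁ : U₁ ⟶ U) (f₂ : U₂ ⟶ U), U ∈ B → U₁ ∈ B → U₂ ∈ B →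
    ToposFin.IsQCSite J (pullback f₁ f₂))
include hB₃

/-- The overlaps present the covering. -/
theorem exists_overlaps {κ : Type} [Finite κ] {U : κ → C} (hU : ∀ k, U k ∈ B) (R : Refine (J := J) B U) :
    ∃ (μ : Type) (_ : Finite μ) (P : μ → C) (θ : Fr O P ⟶ Fr O R.W) (_ : ∀ m, P m ∈ B) (w : θ ≫ R.cov = 0),
      Nonempty (IsColimit (CokernelCofork.ofπ R.cov w)) := by
  let Pr := Σ k : κ, Fin (R.n k) × Fin (R.n k)
  obtain ⟨T, -⟩ := exists_refine (J := J) B hB₁ (U := fun q : Pr => pullback (R.g ⟨q.1, q.2.1⟩) (R.g ⟨q.1, q.2.2⟩))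
    (fun q => hB₃ _ _ _ _ _ (hU _) (R.mem _) (R.mem _)) (fun _ => ⊤) fun _ => J.top_mem _
  let γ : ∀ p, Sec (Fr O R.W) (R.W p) := genSec (𝟙 (Fr O R.W))
  let θ : Fr O T.W ⟶ Fr O R.W := ofSec fun m =>
    secRes (Fr O R.W) (T.g m ≫ pullback.fst _ _) (γ ⟨m.1.1, m.1.2.1⟩) -
      secRes (Fr O R.W) (T.g m ≫ pullback.snd _ _) (γ ⟨m.1.1, m.1.2.2⟩)
  have hθ : ∀ {M : ModSite.Mod O} (k : Fr O R.W ⟶ M) m, genSec (θ ≫ k) m =
      secRes M (T.g m ≫ pullback.fst _ _) (genSec k ⟨m.1.1, m.1.2.1⟩) -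
        secRes M (T.g m ≫ pullback.snd _ _) (genSec k ⟨m.1.1, m.1.2.2⟩) := fun k m => by
    rw [genSec_comp, genSec_ofSec, map_sub, secMap_secRes, secMap_secRes, ← genSec_comp, ← genSec_comp, Category.id_comp]
  have w : θ ≫ R.cov = 0 := hom_ext_gen fun m => by
    rw [hθ, genSec_zero, sub_eq_zero, Refine.cov, genSec_ofSec, genSec_ofSec]
    simp only [DerCompLib.secRes_comp, Category.assoc, pullback.condition]
  refine ⟨_, inferInstance, T.W, θ, T.mem, w, ⟨isCokernel _ _ _ fun {M} k hk => ?_⟩⟩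
  have hcomp : ∀ (i : κ) (a b : Fin (R.n i)), secRes M (pullback.fst (R.g ⟨i, a⟩) (R.g ⟨i, b⟩)) (genSec k ⟨i, a⟩) =
      secRes M (pullback.snd (R.g ⟨i, a⟩) (R.g ⟨i, b⟩)) (genSec k ⟨i, b⟩) := fun i a b => by
    refine sec_sep M (T.cover ⟨i, a, b⟩) _ _ fun Z g hg => ?_
    obtain ⟨j, c, rfl⟩ := (Sieve.mem_ofArrows_iff _ _ _).1 hg
    have := congrArg (genSec · ⟨⟨i, a, b⟩, j⟩) hk
    rw [hθ, genSec_zero, sub_eq_zero] at this
    have h2 := congrArg (secRes M c) this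
    simp only [DerCompLib.secRes_comp, Category.assoc] at h2 ⊢
    exact h2
  have hy : ∀ i : κ, ∃ y : Sec M (U i), ∀ a, secRes M (R.g ⟨i, a⟩) y = genSec k ⟨i, a⟩ := fun i => by
    have hsh := ((isSheaf_iff_isSheaf_of_type _ _).1 ((sheafCompose J (forget AddCommGrpCat.{u})).obj
      ((SheafOfModules.toSheaf (ModSite.ringSh O)).obj M)).property) _ (R.cover i)
    obtain ⟨y, hy, -⟩ := Presieve.isSheafFor_arrows_iff_pullbacks _ _ |>.1
      ((Presieve.isSheafFor_iff_generate _).2 hsh) (fun a => genSec k ⟨i, a⟩) (hcomp i)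
    exact ⟨y, hy⟩
  choose y hy using hy
  refine ⟨ofSec y, hom_ext_gen fun p => ?_⟩
  rw [Refine.genSec_cov_comp, genSec_ofSec]
  exact hy p.1 p.2

/-- Closure under extensions. -/
theorem isA_ext (S : ShortComplex (ModSite.Mod O)) (hS : S.ShortExact) (h₁ : IsA B S.X₁) (h₃ : IsA B S.X₃) :
    IsA B S.X₂ := by
  obtain ⟨κ, ι, _, _, V, U, ψ, p, w₀, hV, hU, ⟨hc₀⟩⟩ := h₃
  haveI := hS.mono_f
  haveI := hS.epi_g
  haveI : Epi p := Cofork.IsColimit.epi hc₀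
  obtain ⟨R, t, ht⟩ := exists_lift B hB₁ (fun i => hB₂ _ (hU i)) S.g p
  obtain ⟨μ, _, P, θ, hP, hθw, ⟨hθ⟩⟩ := exists_overlaps hB₁ hB₂ hB₃ (O := O) hU R
  obtain ⟨R', lam, hlam⟩ := exists_lift B hB₁ (fun i => hB₂ _ (hV i)) (R.cov (O := O)) ψ
  let Z := Fr O (Sum.elim P R'.W)
  let ζ : Z ⟶ Fr O R.W := desc₂ θ lam
  have hζ : ζ ≫ R.cov ≫ p = 0 := hom_ext₂
    (by rw [inl₂_desc₂_assoc, reassoc_of% hθw, zero_comp, comp_zero])
    (by rw [inr₂_desc₂_assoc, reassoc_of% hlam, w₀, comp_zero, comp_zero])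
  have hker : ∀ {T : ModSite.Mod O} (k : Fr O R.W ⟶ T), ζ ≫ k = 0 → ∃ l : S.X₃ ⟶ T, (R.cov ≫ p) ≫ l = k := by
    intro T k hk
    have h₁' : θ ≫ k = 0 := by rw [← inl₂_desc₂_assoc θ lam, hk, comp_zero]
    have h₂' : lam ≫ k = 0 := by rw [← inr₂_desc₂_assoc θ lam, hk, comp_zero]
    obtain ⟨l, hl⟩ := CokernelCofork.IsColimit.desc' hθ k h₁'
    change R.cov ≫ l = k at hl
    have h₃' : ψ ≫ l = 0 := by
      rw [← cancel_epi (R'.cov (O := O)), comp_zero, ← reassoc_of% hlam, hl, h₂']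
    obtain ⟨m, hm⟩ := CokernelCofork.IsColimit.desc' hc₀ l h₃'
    change p ≫ m = l at hm
    exact ⟨m, by rw [Category.assoc, hm, hl]⟩
  obtain ⟨a, ha⟩ := KernelFork.IsLimit.lift' hS.fIsKernel (ζ ≫ t) (by rw [Category.assoc, ht, hζ])
  change a ≫ S.f = ζ ≫ t at ha
  let Y := S.X₁ ⊞ Fr O R.W
  let γ : Z ⟶ Y := biprod.lift (-a) ζ
  let d₀ : Y ⟶ S.X₂ := biprod.desc S.f t
  have hd : γ ≫ d₀ = 0 := by simp [γ, d₀, biprod.lift_desc, ha]
  let d : cokernel γ ⟶ S.X₂ := cokernel.desc γ d₀ hd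
  let f' : S.X₁ ⟶ cokernel γ := biprod.inl ≫ cokernel.π γ
  let g' : cokernel γ ⟶ S.X₃ := cokernel.desc γ (biprod.desc 0 (R.cov ≫ p)) (by simp [γ, biprod.lift_desc, hζ])
  have hfd : f' ≫ d = S.f := by simp [f', d, d₀]
  have hgd : d ≫ S.g = g' := by
    rw [← cancel_epi (cokernel.π γ)]
    apply biprod.hom_ext' <;> simp [d, d₀, g', ht]
  let S' := ShortComplex.mk f' g' (by simp [f', g'])
  haveI : Mono S'.f := mono_of_mono_fac hfd
  haveI : Epi S'.g := by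
    refine @epi_of_epi_fac _ _ _ _ _ (biprod.inr ≫ cokernel.π γ) g' (R.cov ≫ p) inferInstance ?_
    simp [g']
  have hS' : S'.ShortExact :=
    { exact := S'.exact_of_g_is_cokernel (isCokernel S'.f S'.g S'.zero fun {T} k hk => by
        have h₂' : ζ ≫ biprod.inr ≫ cokernel.π γ ≫ k = 0 := by
          have e : γ ≫ cokernel.π γ ≫ k = 0 := by rw [cokernel.condition_assoc, zero_comp]
          have key : ∀ (q : Y ⟶ T), γ ≫ q = 0 → biprod.inl ≫ q = 0 → ζ ≫ biprod.inr ≫ q = 0 := by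
            intro q hq hq'
            rw [show γ = (-a) ≫ biprod.inl + ζ ≫ biprod.inr from biprod.hom_ext _ _ (by simp [γ]) (by simp [γ]),
              Preadditive.add_comp, Category.assoc, Category.assoc] at hq
            erw [hq', comp_zero, zero_add] at hq
            exact hq
          exact key _ e ((Category.assoc _ _ _).symm.trans hk)
        obtain ⟨l, hl⟩ := hker _ h₂'
        refine ⟨l, ?_⟩
        rw [← cancel_epi (cokernel.π γ)]
        apply biprod.hom_ext'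
        · simp only [S', g', cokernel.π_desc_assoc, biprod.inl_desc_assoc, zero_comp]
          exact ((Category.assoc _ _ _).symm.trans hk).symm
        · simp only [S', g', cokernel.π_desc_assoc, biprod.inr_desc_assoc]
          exact hl) }
  let φ : S' ⟶ S := { τ₁ := 𝟙 _, τ₂ := d, τ₃ := 𝟙 _, comm₁₂ := by simp [S', hfd], comm₂₃ := by simp [S', hgd] }
  haveI : IsIso φ.τ₁ := (inferInstance : IsIso (𝟙 S.X₁))
  haveI : IsIso φ.τ₃ := (inferInstance : IsIso (𝟙 S.X₃))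
  haveI : IsIso d := ShortComplex.isIso₂_of_shortExact_of_isIso₁₃ φ hS' hS
  exact isA_of_iso (isA_coker hB₁ hB₂ γ (cokernel.π γ) (cokernel.condition γ) (cokernelIsCokernel γ)
    (isA_free _ fun x => Sum.rec hP R'.mem x) (isA_sum h₁ _ R.mem)) (asIso d)

omit hB₁ hB₂ hB₃ [HasPullbacks C]

/-- Reindexing by an equivalence. -/
noncomputable def reindex {κ κ' : Type} [Finite κ] [Finite κ'] (e : κ' ≃ κ) (V : κ → C) :
    Fr O (fun k => V (e k)) ≅ Fr O V :=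
  Sigma.whiskerEquiv (f := fun k => ModSite.freeOn O (V (e k))) (g := fun k => ModSite.freeOn O (V k)) e
    (fun _ => Iso.refl _)

theorem isA_iff (M : ModSite.Mod O) : IsA B M ↔
    ∃ (m' n' : ℕ) (V' : Fin m' → C) (U' : Fin n' → C)
      (ψ : (∐ fun j => ModSite.freeOn O (V' j)) ⟶ ∐ fun i => ModSite.freeOn O (U' i)),
      (∀ j, V' j ∈ B) ∧ (∀ i, U' i ∈ B) ∧ Nonempty (M ≅ cokernel ψ) := by
  constructor
  · rintro ⟨κ, ι, _, _, V, U, ψ, p, w, hV, hU, ⟨hc⟩⟩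
    obtain ⟨m, ⟨e⟩⟩ := Finite.exists_equiv_fin κ
    obtain ⟨n, ⟨e'⟩⟩ := Finite.exists_equiv_fin ι
    exact ⟨m, n, _, _, (reindex e.symm V).hom ≫ ψ ≫ (reindex e'.symm U).inv, fun j => hV _, fun i => hU _,
      ⟨hc.coconePointUniqueUpToIso (cokernelIsCokernel ψ) ≪≫
        cokernel.mapIso ψ ((reindex e.symm V).hom ≫ ψ ≫ (reindex e'.symm U).inv) (reindex e.symm V).symm
          (reindex e'.symm U).symm (by simp)⟩⟩
  · rintro ⟨m, n, V, U, ψ, hV, hU, ⟨e⟩⟩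
    exact isA_of_iso ⟨_, _, inferInstance, inferInstance, V, U, ψ, cokernel.π ψ, cokernel.condition ψ, hV, hU,
      ⟨cokernelIsCokernel ψ⟩⟩ e.symm

end Groth.Agent.HTop16.FinPresB
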