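import Groth.Agent.HTop16.FinPresB
import Mathlib.CategoryTheory.Abelian.Refinements

/-!
# Kernels of morphisms between finitely presented modules
-/

set_option autoImplicit false
set_option backward.isDefEq.respectTransparency false
set_option backward.isDefEq.respectTransparency.types false
set_option linter.all false

universe u

open CategoryTheory CategoryTheory.Limits Opposite

namespace Groth.Agent.HTop16.FinPresB

variable {C : Type u} [SmallCategory C] {J : GrothendieckTopology C} {O : Sheaf J CommRingCat.{u}}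
  {B : Set C}
  (hB₁ : ∀ X : C, ∃ (κ : Type u) (Y : κ → C) (g : ∀ k, Y k ⟶ X), Sieve.ofArrows Y g ∈ J X ∧ ∀ k, Y k ∈ B)
  (hB₂ : ∀ U ∈ B, ToposFin.IsQCSite J U)

lemma exact_of_cokernel {X Y Z : ModSite.Mod O} {e : X ⟶ Y} {f : Y ⟶ Z} {w : e ≫ f = 0}
    (hc : IsColimit (CokernelCofork.ofπ f w)) : (ShortComplex.mk e f w).Exact :=
  (ShortComplex.mk e f w).exact_of_g_is_cokernel hc

include hB₁ hB₂

/-- The kernel of `g` from the kernel of `f ≫ g`. -/
lemma isA_kernel_of_comp {X Y Z L : ModSite.Mod O} (f : X ⟶ Y) [Epi f] (g : Y ⟶ Z) (e : L ⟶ X) (we : e ≫ f = 0)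
    (hex : (ShortComplex.mk e f we).Exact) (hL : IsA B L) (h : IsA B (kernel (f ≫ g))) : IsA B (kernel g) := by
  let π : kernel (f ≫ g) ⟶ kernel g := kernel.lift g (kernel.ι (f ≫ g) ≫ f) (by rw [Category.assoc, kernel.condition])
  let u : L ⟶ kernel (f ≫ g) := kernel.lift (f ≫ g) e (by rw [reassoc_of% we, zero_comp])
  have w : u ≫ π = 0 := by
    rw [← cancel_mono (kernel.ι g)]
    simp [u, π, we]
  haveI : Epi π := by
    rw [epi_iff_surjective_up_to_refinements]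
    intro A y
    obtain ⟨A', p, hp, x, hx⟩ := surjective_up_to_refinements_of_epi f (y ≫ kernel.ι g)
    refine ⟨A', p, hp, kernel.lift _ x (by rw [← Category.assoc, ← hx]; simp), ?_⟩
    rw [← cancel_mono (kernel.ι g)]
    simpa [π] using hx
  have hexact : (ShortComplex.mk u π w).Exact := by
    rw [ShortComplex.exact_iff_exact_up_to_refinements]
    intro A x hx
    have hx' : (x ≫ kernel.ι (f ≫ g)) ≫ f = 0 := by
      have h' := congrArg (fun z => z ≫ kernel.ι g) hx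
      simpa [π] using h'
    obtain ⟨A', p, hp, l, hl⟩ := hex.exact_up_to_refinements _ hx'
    refine ⟨A', p, hp, l, ?_⟩
    rw [← cancel_mono (kernel.ι (f ≫ g))]
    simpa [u] using hl
  haveI : Epi (ShortComplex.mk u π w).g := ‹Epi π›
  exact isA_coker hB₁ hB₂ u π w hexact.gIsCokernel hL h

variable [HasPullbacks C]
  (hB₃ : ∀ (U U₁ U₂ : C) (f₁ : U₁ ⟶ U) (f₂ : U₂ ⟶ U), U ∈ B → U₁ ∈ B → U₂ ∈ B →
    ToposFin.IsQCSite J (pullback f₁ f₂))
  (hker : ∀ {κ ι : Type} [Finite κ] [Finite ι] (V : κ → C) (U : ι → C) (φ : Fr O V ⟶ Fr O U),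
    (∀ k, V k ∈ B) → (∀ i, U i ∈ B) → IsA B (kernel φ))
include hB₃ hker

/-- The kernel of a map from a free module. -/
lemma isA_kernel_free {κ : Type} [Finite κ] {W : κ → C} (hW : ∀ k, W k ∈ B) {G : ModSite.Mod O} (hG : IsA B G)
    (φ : Fr O W ⟶ G) : IsA B (kernel φ) := by
  obtain ⟨κG, ιG, _, _, V, U, ψ, p, w, hV, hU, ⟨hc⟩⟩ := hG
  haveI : Epi p := Cofork.IsColimit.epi hc
  obtain ⟨R, ρ, hρ⟩ := exists_lift B hB₁ (fun k => hB₂ _ (hW k)) p φ
  obtain ⟨μ, _, P, θ, hP, hθw, ⟨hθ⟩⟩ := exists_overlaps hB₁ hB₂ hB₃ (O := O) hW R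
  refine isA_kernel_of_comp hB₁ hB₂ (R.cov (O := O)) φ θ hθw (exact_of_cokernel hθ) (isA_free _ hP) ?_
  refine isA_of_iso (M := kernel (ρ ≫ p)) ?_ (eqToIso (by rw [hρ]))
  let D := desc₂ ψ ρ
  let prV : Fr O (Sum.elim V R.W) ⟶ Fr O V := desc₂ (𝟙 _) 0
  let prW : Fr O (Sum.elim V R.W) ⟶ Fr O R.W := desc₂ 0 (𝟙 _)
  have hD : D = prV ≫ ψ + prW ≫ ρ := hom_ext₂ (by simp [D, prV, prW]) (by simp [D, prV, prW])
  have hDz : ∀ {A : ModSite.Mod O} (z : A ⟶ Fr O (Sum.elim V R.W)), z ≫ D = 0 →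
      z ≫ prV ≫ ψ + z ≫ prW ≫ ρ = 0 := fun z hz => by rwa [hD, Preadditive.comp_add] at hz
  have hid : prV ≫ inl₂ V R.W + prW ≫ inr₂ V R.W = 𝟙 _ := hom_ext₂ (by simp [prV, prW]) (by simp [prV, prW])
  let π : kernel D ⟶ kernel (ρ ≫ p) := kernel.lift _ (kernel.ι D ≫ prW) (by
    have h := congrArg (fun z => z ≫ p) (hDz _ (kernel.condition D))
    simp only [Preadditive.add_comp, Category.assoc, w, comp_zero, zero_add, zero_comp] at h
    rw [Category.assoc]
    exact h)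
  let v : kernel ψ ⟶ kernel D := kernel.lift _ (kernel.ι ψ ≫ inl₂ V R.W) (by simp [D])
  have wv : v ≫ π = 0 := by
    rw [← cancel_mono (kernel.ι (ρ ≫ p))]
    simp [v, π, prW]
  haveI : Epi π := by
    rw [epi_iff_surjective_up_to_refinements]
    intro A y
    have hy : ((y ≫ kernel.ι (ρ ≫ p)) ≫ ρ) ≫ p = 0 := by
      rw [Category.assoc, Category.assoc, kernel.condition, comp_zero]
    obtain ⟨A', q, hq, a, ha⟩ := (exact_of_cokernel hc).exact_up_to_refinements _ hy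
    refine ⟨A', q, hq, kernel.lift _ (-(a ≫ inl₂ V R.W) + (q ≫ y ≫ kernel.ι (ρ ≫ p)) ≫ inr₂ V R.W) ?_, ?_⟩
    · simp only [Category.assoc] at ha
      simp [D, ← ha]
    · rw [← cancel_mono (kernel.ι (ρ ≫ p))]
      simp [π, prW]
  have hexact : (ShortComplex.mk v π wv).Exact := by
    rw [ShortComplex.exact_iff_exact_up_to_refinements]
    intro A x hx
    have hx' : x ≫ kernel.ι D ≫ prW = 0 := by
      have h' := congrArg (fun z => z ≫ kernel.ι (ρ ≫ p)) hx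
      simpa [π] using h'
    have hx'' : (x ≫ kernel.ι D ≫ prV) ≫ ψ = 0 := by
      have h := hDz (x ≫ kernel.ι D) (by rw [Category.assoc, kernel.condition, comp_zero])
      simp only [Category.assoc] at h ⊢
      rw [reassoc_of% hx', zero_comp, add_zero] at h
      exact h
    refine ⟨A, 𝟙 A, inferInstance, kernel.lift ψ _ hx'', ?_⟩
    rw [← cancel_mono (kernel.ι D), Category.id_comp]
    simp only [v, Category.assoc, kernel.lift_ι, kernel.lift_ι_assoc]
    calc x ≫ kernel.ι D = (x ≫ kernel.ι D) ≫ (prV ≫ inl₂ V R.W + prW ≫ inr₂ V R.W) := by rw [hid, Category.comp_id]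
      _ = _ := by simp [Preadditive.comp_add, reassoc_of% hx']
  haveI : Epi (ShortComplex.mk v π wv).g := ‹Epi π›
  exact isA_coker hB₁ hB₂ v π wv hexact.gIsCokernel (hker V U ψ hV hU)
    (hker _ U D (fun x => Sum.rec hV R.mem x) hU)

/-- The kernel of a map between finitely presented modules. -/
theorem isA_kernel {F G : ModSite.Mod O} (α : F ⟶ G) (hF : IsA B F) (hG : IsA B G) : IsA B (kernel α) := by
  obtain ⟨κ, ι, _, _, V, U, ψ, p, w, hV, hU, ⟨hc⟩⟩ := hF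
  haveI : Epi p := Cofork.IsColimit.epi hc
  exact isA_kernel_of_comp hB₁ hB₂ p α ψ w (exact_of_cokernel hc) (isA_free _ hV)
    (isA_kernel_free hB₁ hB₂ hB₃ hker hU hG (p ≫ α))

omit hB₁ hB₂ hB₃ hker [HasPullbacks C]

theorem kernel_isA_of_fin
    (h : ∀ (m n : ℕ) (V : Fin m → C) (U : Fin n → C)
      (φ : (∐ fun j => ModSite.freeOn O (V j)) ⟶ ∐ fun i => ModSite.freeOn O (U i)),
      (∀ j, V j ∈ B) → (∀ i, U i ∈ B) → (∃ (m' n' : ℕ) (V' : Fin m' → C) (U' : Fin n' → C)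
        (ψ : (∐ fun j => ModSite.freeOn O (V' j)) ⟶ ∐ fun i => ModSite.freeOn O (U' i)),
        (∀ j, V' j ∈ B) ∧ (∀ i, U' i ∈ B) ∧ Nonempty (kernel φ ≅ cokernel ψ)))
    {κ ι : Type} [Finite κ] [Finite ι] (V : κ → C) (U : ι → C) (φ : Fr O V ⟶ Fr O U)
    (hV : ∀ k, V k ∈ B) (hU : ∀ i, U i ∈ B) : IsA B (kernel φ) := by
  obtain ⟨m, ⟨e⟩⟩ := Finite.exists_equiv_fin κ
  obtain ⟨n, ⟨e'⟩⟩ := Finite.exists_equiv_fin ι
  refine isA_of_iso ((isA_iff _).2 (h m n _ _ ((reindex e.symm V).hom ≫ φ ≫ (reindex e'.symm U).inv)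
    (fun j => hV _) fun i => hU _)) ?_
  exact kernel.mapIso _ φ (reindex e.symm V) (reindex e'.symm U) (by simp)

end Groth.Agent.HTop16.FinPresB
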