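import Groth.Agent.SiteHom16.PullFlat

/-!
# Inverse images of short exact sequences with flat cokernel are short exact
-/

set_option autoImplicit false
set_option backward.isDefEq.respectTransparency false
set_option linter.all false

universe u

open CategoryTheory CategoryTheory.Limits Opposite

namespace Groth.Agent.HTop16.PullShortExact

open DerCompLib (Sec secRes secMap Node nodeRes nodeEval coeffRes frS frGen Loc LocFlat secEquiv secEquiv_comp)
open SiteHom16

lemma injective_secMap {C : Type u} [SmallCategory C] {J : GrothendieckTopology C} {O : Sheaf J CommRingCat.{u}}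
    {M N : ModSite.Mod O} (i : M ⟶ N) [Mono i] (X : C) : Function.Injective (secMap i X) := fun a b h => by
  apply (secEquiv X M).symm.injective
  rw [← cancel_mono i]
  apply (secEquiv X N).injective
  rw [secEquiv_comp, secEquiv_comp, AddEquiv.apply_symm_apply, AddEquiv.apply_symm_apply, h]

variable {C D : Type u} [SmallCategory C] [SmallCategory D] {J : GrothendieckTopology C}
  {K : GrothendieckTopology D} {OC : Sheaf J CommRingCat.{u}} {OD : Sheaf K CommRingCat.{u}}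
  (f : ModSite.RMor OC OD)

lemma unitSec_map {M N : ModSite.Mod OD} (i : M ⟶ N) {E : D} (m : Sec M E) :
    secMap (f.pull.map i) (f.fn.obj E) (unitSec f M m) = unitSec f N (secMap i E m) :=
  congrArg (fun φ => secMap φ E m) (f.adj.unit_naturality i)

/-- Nodes of a subobject. -/
noncomputable def nodeMap {M N : ModSite.Mod OD} (i : M ⟶ N) {W : C} (x : Node (genC f M) W) : Node (genC f N) W :=
  ⟨⟨x.1.1, secMap i x.1.1 x.1.2⟩, x.2⟩

lemma nodeMap_injective {M N : ModSite.Mod OD} (i : M ⟶ N) [Mono i] (W : C) :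
    Function.Injective (nodeMap f i (W := W)) := by
  rintro ⟨⟨E, m⟩, k⟩ ⟨⟨E', m'⟩, k'⟩ h
  obtain ⟨h₁, h₂⟩ := Sigma.mk.inj_iff.1 h
  obtain ⟨rfl, h₃⟩ := Sigma.mk.inj_iff.1 h₁
  obtain rfl := injective_secMap i E (eq_of_heq h₃)
  obtain rfl := eq_of_heq h₂
  rfl

lemma coeffRes_mapDomain {M N : ModSite.Mod OD} (i : M ⟶ N) {W W' : C} (g : W' ⟶ W)
    (a : Node (genC f M) W →₀ OC.obj.obj (op W)) :
    coeffRes OC (genC f N) g (Finsupp.mapDomain (nodeMap f i) a) =
      Finsupp.mapDomain (nodeMap f i) (coeffRes OC (genC f M) g a) := by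
  induction a using Finsupp.induction_linear with
  | zero => simp
  | add p q hp hq => rw [Finsupp.mapDomain_add, map_add, map_add, Finsupp.mapDomain_add, hp, hq]
  | single n c => simp [DerCompLib.coeffRes_single, nodeMap, nodeRes]

variable (S : ShortComplex (ModSite.Mod OD))

/-- Relations outside a subfamily killed by the projection lift to the subobject. -/
theorem lift_relations (hS : S.ShortExact) (hH : HasLocalTriv S.X₃) {E : D} {ι : Type*} [Fintype ι]
    (Z : ι → Prop) [DecidablePred Z] (s : ι → Sec S.X₂ E) (hZ : ∀ x, Z x → secMap S.g E (s x) = 0)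
    {κ : Type*} [Fintype κ] (r : κ → ι → OD.obj.obj (op E)) (hrel : ∀ d, ∑ x, r d x • s x = 0) :
    Loc K E fun E' h => ∃ v : ι → Sec S.X₁ E',
      (∀ x, Z x → secMap S.f E' (v x) = secRes S.X₂ h (s x)) ∧
      ∀ d, ∑ x, (OD.obj.map h.op).hom (r d x) • v x = 0 := by
  classical
  haveI := hS.mono_f
  haveI := hS.epi_g
  have hrelH : ∀ d ∈ (Finset.univ : Finset κ), ∑ y : {x : ι // ¬ Z x}, r d y.1 • secMap S.g E (s y.1) = 0 := by
    intro d _
    have h0 := congrArg (secMap S.g E) (hrel d)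
    rw [map_zero, map_sum] at h0
    refine Eq.trans ?_ h0
    rw [← Fintype.sum_subtype_add_sum_subtype Z (fun x => secMap S.g E (r d x • s x)),
      Finset.sum_eq_zero (s := (Finset.univ : Finset {x // Z x})) (fun x _ => by rw [map_smul, hZ x.1 x.2, smul_zero]),
      zero_add]
    exact Finset.sum_congr rfl fun x _ => ((secMap S.g E).map_smul _ _).symm
  obtain ⟨R, hR, hR'⟩ := exists_factors_finset hH (fun y : {x : ι // ¬ Z x} => secMap S.g E (s y.1))
    (fun d y => r d y.1) Finset.univ hrelH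
  refine Loc.bind ⟨R, hR, hR'⟩ ?_
  rintro E₁ h₁ ⟨l, t, B, hst, hkill⟩
  refine (loc_all Finset.univ (fun p E₂ h₂ => ∃ T : Sec S.X₂ E₂, secMap S.g E₂ T = secRes S.X₃ h₂ (t p))
    fun p _ => DerCompLib.exists_local_preimage S.g (t p)).bind ?_
  intro E₂ h₂ hT
  choose T hT using fun p => hT p (Finset.mem_univ p)
  let B' : ι → Fin l → OD.obj.obj (op E₂) := fun x p =>
    if hx : Z x then 0 else (OD.obj.map h₂.op).hom (B ⟨x, hx⟩ p)
  let gx : ι → Sec S.X₂ E₂ := fun x => secRes S.X₂ (h₂ ≫ h₁) (s x) - ∑ p, B' x p • T p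
  have hg0 : ∀ x, secMap S.g E₂ (gx x) = 0 := fun x => by
    simp only [gx, map_sub, map_sum, map_smul, hT, DerCompLib.secMap_secRes]
    by_cases hx : Z x
    · simp [B', hx, hZ x hx]
    · rw [← DerCompLib.secRes_comp, hst ⟨x, hx⟩, map_sum, sub_eq_zero]
      simp only [DerCompLib.secRes_smul, B', dif_neg hx]
  refine (loc_all Finset.univ (fun x E₃ h₃ => ∃ v, secMap S.f E₃ v = secRes S.X₂ h₃ (gx x))
    fun x _ => DerCompLib.exists_local_boundary hS.exact (gx x) (hg0 x)).mono ?_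
  intro E₃ h₃ hv
  choose v hv using fun x => hv x (Finset.mem_univ x)
  refine ⟨v, fun x hx => ?_, fun d => injective_secMap S.f E₃ ?_⟩
  · rw [hv]
    simp only [gx, B', dif_pos hx, zero_smul, Finset.sum_const_zero, sub_zero, DerCompLib.secRes_comp, Category.assoc]
  · rw [map_zero, map_sum]
    have hB : ∀ p, ∑ x, (OD.obj.map (h₂ ≫ h₁).op).hom (r d x) * B' x p = 0 := fun p => by
      have h' := congrArg (OD.obj.map h₂.op).hom (hkill d (Finset.mem_univ _) p)
      rw [map_zero, map_sum] at h'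
      refine Eq.trans ?_ h'
      rw [← Fintype.sum_subtype_add_sum_subtype Z (fun x => (OD.obj.map (h₂ ≫ h₁).op).hom (r d x) * B' x p),
        Finset.sum_eq_zero (s := (Finset.univ : Finset {x // Z x})) (fun x _ => by simp [B', dif_pos x.2]), zero_add]
      refine Finset.sum_congr rfl fun y _ => ?_
      simp only [B', dif_neg y.2, map_mul, res_res]
      ring
    have e : ∀ x, secMap S.f E₃ ((OD.obj.map (h₃ ≫ h₂ ≫ h₁).op).hom (r d x) • v x) =
        secRes S.X₂ h₃ ((OD.obj.map (h₂ ≫ h₁).op).hom (r d x) • gx x) := fun x => by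
      rw [map_smul, hv, DerCompLib.secRes_smul, res_res]
    simp only [Category.assoc, e]
    rw [← map_sum]
    have : ∑ x, (OD.obj.map (h₂ ≫ h₁).op).hom (r d x) • gx x = 0 := by
      simp only [gx, smul_sub, Finset.smul_sum, smul_smul, Finset.sum_sub_distrib]
      rw [Finset.sum_comm (f := fun x p => ((OD.obj.map (h₂ ≫ h₁).op).hom (r d x) * B' x p) • T p)]
      simp only [← Finset.sum_smul, hB, zero_smul, Finset.sum_const_zero, sub_zero]
      have h' := congrArg (secRes S.X₂ (h₂ ≫ h₁)) (hrel d)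
      rw [map_zero, map_sum] at h'
      simpa only [DerCompLib.secRes_smul] using h'
    rw [this, map_zero]

/-- The projection of a coefficient family. -/
lemma proj_nodeEval (M : ModSite.Mod OD) {W : C} (a : Node (genC f M) W →₀ OC.obj.obj (op W)) :
    secMap (proj f M) W (nodeEval (gg f M) W a) =
      ∑ x ∈ a.support, a x • secRes (f.pull.obj M) x.2 (unitSec f M x.1.2) := by
  rw [DerCompLib.secMap_nodeEval]
  simp only [proj_gen]
  exact Finsupp.linearCombination_apply _ _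

open Classical in
/-- The value of a family killed by relations. -/
theorem eval_eq [Mono S.f] {W W' : C} (G : W' ⟶ W) (a : Node (genC f S.X₁) W →₀ OC.obj.obj (op W))
    (b : Node (relC f S.X₂) W →₀ OC.obj.obj (op W))
    (hb : relMap f S.X₂ W b = Finsupp.mapDomain (nodeMap f S.f) a)
    (A : Finset (Node (genC f S.X₂) W)) (hA₀ : ∀ x₀ ∈ a.support, nodeMap f S.f x₀ ∈ A)
    {E' : D} (k' : W' ⟶ f.fn.obj E') (α : ∀ x : ↥A, E' ⟶ x.1.1.1)
    (hα : ∀ x, k' ≫ f.fn.map (α x) = G ≫ x.1.2)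
    (β : ∀ d : ↥b.support, E' ⟶ d.1.1.1) (hβ : ∀ d, k' ≫ f.fn.map (β d) = G ≫ d.1.2)
    (v : ↥A → Sec S.X₁ E')
    (hv : ∀ x : ↥A, ∀ x₀ ∈ a.support, nodeMap f S.f x₀ = x.1 → secMap S.f E' (v x) = secRes S.X₂ (α x) x.1.1.2) :
    secRes (f.pull.obj S.X₁) G (secMap (proj f S.X₁) W (nodeEval (gg f S.X₁) W a)) =
      ∑ d : ↥b.support, (OC.obj.map G.op).hom (b d.1) •
        secRes (f.pull.obj S.X₁) k' (unitSec f S.X₁ (∑ x : ↥A, (∑ q ∈ d.1.1.2.1.support,
          if tr f S.X₂ d.1 q = x.1 then (OD.obj.map (β d).op).hom (d.1.1.2.1 q) else 0) • v x)) := by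
  let U : ↥A → Sec (f.pull.obj S.X₁) W' := fun x => secRes _ k' (unitSec f S.X₁ (v x))
  have h1 : secRes (f.pull.obj S.X₁) G (secMap (proj f S.X₁) W (nodeEval (gg f S.X₁) W a)) =
      ∑ x : ↥A, (OC.obj.map G.op).hom (relMap f S.X₂ W b x.1) • U x := by
    rw [proj_nodeEval, map_sum, ← Finset.sum_coe_sort a.support]
    refine Fintype.sum_of_injective (fun x₀ : ↥a.support => (⟨_, hA₀ x₀.1 x₀.2⟩ : ↥A))
      (fun x y e => Subtype.ext (nodeMap_injective f S.f W (congrArg Subtype.val e))) _ _ (fun x hx => ?_) fun x₀ => ?_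
    · rw [hb, Finsupp.notMem_support_iff.1 fun h' => hx ?_, map_zero, zero_smul]
      obtain ⟨x₀, hx₀, e⟩ := Finset.mem_image.1 (Finsupp.mapDomain_support h')
      exact ⟨⟨x₀, hx₀⟩, Subtype.ext e⟩
    · rw [hb, Finsupp.mapDomain_apply (nodeMap_injective f S.f W), DerCompLib.secRes_smul, DerCompLib.secRes_comp]
      refine congrArg ((OC.obj.map G.op).hom (a x₀.1) • ·) ?_
      have e1 : v ⟨_, hA₀ x₀.1 x₀.2⟩ = secRes S.X₁ (α ⟨_, hA₀ x₀.1 x₀.2⟩) x₀.1.1.2 := by
        apply injective_secMap S.f E'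
        rw [hv _ x₀.1 x₀.2 rfl, DerCompLib.secMap_secRes]
        rfl
      simp only [U, e1]
      rw [unitSec_res, DerCompLib.secRes_comp, hα ⟨_, hA₀ x₀.1 x₀.2⟩]
      rfl
  have h2 : ∑ x : ↥A, (OC.obj.map G.op).hom (relMap f S.X₂ W b x.1) • U x =
      ∑ d : ↥b.support, (OC.obj.map G.op).hom (b d.1) •
        secRes (f.pull.obj S.X₁) k' (unitSec f S.X₁ (∑ x : ↥A, (∑ q ∈ d.1.1.2.1.support,
          if tr f S.X₂ d.1 q = x.1 then (OD.obj.map (β d).op).hom (d.1.1.2.1 q) else 0) • v x)) := by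
    simp only [relMap_apply, map_sum, Finset.sum_smul]
    rw [Finset.sum_comm, ← Finset.sum_coe_sort b.support]
    refine Finset.sum_congr rfl fun d _ => ?_
    simp only [← Finset.sum_smul]
    rw [unitSec_sum_smul, map_sum, Finset.smul_sum]
    refine Finset.sum_congr rfl fun x _ => ?_
    rw [DerCompLib.secRes_smul, smul_smul]
    refine congrArg (· • U x) ?_
    simp only [map_sum, map_mul, Finset.mul_sum]
    refine Finset.sum_congr rfl fun q _ => ?_
    split_ifs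
    · rw [res_res, σr_res f (β d), res_res, hβ]
    · simp
  rw [h1, h2]

open Classical in
/-- The final computation. -/
theorem eval_zero [Mono S.f] {W W' : C} (G : W' ⟶ W) (a : Node (genC f S.X₁) W →₀ OC.obj.obj (op W))
    (b : Node (relC f S.X₂) W →₀ OC.obj.obj (op W))
    (hb : relMap f S.X₂ W b = Finsupp.mapDomain (nodeMap f S.f) a)
    (A : Finset (Node (genC f S.X₂) W)) (hA₀ : ∀ x₀ ∈ a.support, nodeMap f S.f x₀ ∈ A)
    {E' : D} (k' : W' ⟶ f.fn.obj E') (α : ∀ x : ↥A, E' ⟶ x.1.1.1)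
    (hα : ∀ x, k' ≫ f.fn.map (α x) = G ≫ x.1.2)
    (β : ∀ d : ↥b.support, E' ⟶ d.1.1.1) (hβ : ∀ d, k' ≫ f.fn.map (β d) = G ≫ d.1.2)
    (v : ↥A → Sec S.X₁ E')
    (hv : ∀ x : ↥A, ∀ x₀ ∈ a.support, nodeMap f S.f x₀ = x.1 → secMap S.f E' (v x) = secRes S.X₂ (α x) x.1.1.2)
    (hv' : ∀ d : ↥b.support, ∑ x : ↥A, (∑ q ∈ d.1.1.2.1.support,
      if tr f S.X₂ d.1 q = x.1 then (OD.obj.map (β d).op).hom (d.1.1.2.1 q) else 0) • v x = 0) :
    secRes (f.pull.obj S.X₁) G (secMap (proj f S.X₁) W (nodeEval (gg f S.X₁) W a)) = 0 := by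
  rw [eval_eq f S G a b hb A hA₀ k' α hα β hβ v hv]
  refine Finset.sum_eq_zero fun d _ => ?_
  have : unitSec f S.X₁ (0 : Sec S.X₁ E') = 0 := map_zero _
  rw [hv' d, this, map_zero, smul_zero]

lemma map_comp_eq {W W' : C} {E₀ E₁ E₂ : D} (k : W' ⟶ f.fn.obj E₀) (g : W' ⟶ W) (d : W ⟶ f.fn.obj E₁)
    (β : E₀ ⟶ E₁) (q : E₁ ⟶ E₂) (h : k ≫ f.fn.map β = g ≫ d) :
    k ≫ f.fn.map (β ≫ q) = g ≫ d ≫ f.fn.map q := by
  rw [Functor.map_comp, reassoc_of% h]

open Classical in
/-- Relations pulled back to a common object. -/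
theorem common_rep (M : ModSite.Mod OD) {W : C} (b : Node (relC f M) W →₀ OC.obj.obj (op W))
    (A : Finset (Node (genC f M) W)) (hA : ∀ d ∈ b.support, ∀ q ∈ d.1.2.1.support, tr f M d q ∈ A) :
    Loc J W fun W' G => ∃ (E : D) (k : W' ⟶ f.fn.obj E) (α : ∀ x : ↥A, E ⟶ x.1.1.1)
      (β : ∀ d : ↥b.support, E ⟶ d.1.1.1), (∀ x, k ≫ f.fn.map (α x) = G ≫ x.1.2) ∧
      (∀ d, k ≫ f.fn.map (β d) = G ≫ d.1.2) ∧
      ∀ d : ↥b.support, ∑ x : ↥A, (∑ q ∈ d.1.1.2.1.support,
        if tr f M d.1 q = x.1 then (OD.obj.map (β d).op).hom (d.1.1.2.1 q) else 0) •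
          secRes M (α x) x.1.1.2 = 0 := by
  have hflat : LocFlat K J f.fn := DerCompLib.locFlat_of_exact K J f.fn
  refine ((loc_common hflat A (fun x => x.1.1) (fun x => x.2)).and
    (loc_common hflat b.support (fun d => d.1.1) (fun d => d.2))).bind ?_
  rintro W₁ g₁ ⟨⟨Ea, ka, hka⟩, ⟨Eb, kb, hkb⟩⟩
  refine (hflat.pair ka kb).bind ?_
  rintro W₂ g₂ ⟨E₀, pa, pb, k₀, ea, eb⟩
  choose ha hha using hka
  choose hd hhd using hkb
  let αA : ∀ x : ↥A, E₀ ⟶ x.1.1.1 := fun x => pa ≫ ha x.1 x.2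
  let βB : ∀ d : ↥b.support, E₀ ⟶ d.1.1.1 := fun d => pb ≫ hd d.1 d.2
  have hαA : ∀ x, k₀ ≫ f.fn.map (αA x) = (g₂ ≫ g₁) ≫ x.1.2 := fun x => by
    rw [Functor.map_comp, reassoc_of% ea, hha, Category.assoc]
  have hβB : ∀ d, k₀ ≫ f.fn.map (βB d) = (g₂ ≫ g₁) ≫ d.1.2 := fun d => by
    rw [Functor.map_comp, reassoc_of% eb, hhd, Category.assoc]
  let I := Σ d : ↥b.support, ↥d.1.1.2.1.support
  let xx : I → ↥A := fun p => ⟨tr f M p.1.1 p.2.1, hA p.1.1 p.1.2 p.2.1 p.2.2⟩
  have he : ∀ p : I, k₀ ≫ f.fn.map (αA (xx p)) = k₀ ≫ f.fn.map (βB p.1 ≫ p.2.1.2) := fun p => by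
    have h1 := hαA (xx p)
    have h2 := map_comp_eq f k₀ (g₂ ≫ g₁) p.1.1.2 (βB p.1) p.2.1.2 (hβB p.1)
    exact h1.trans h2.symm
  refine (loc_equ hflat k₀ (Finset.univ : Finset I) (fun p => p.2.1.1.1) (fun p => αA (xx p))
    (fun p => βB p.1 ≫ p.2.1.2) fun p _ => he p).mono ?_
  rintro W₃ g₃ ⟨E, h, k, hk, heq⟩
  refine ⟨E, k, fun x => h ≫ αA x, fun d => h ≫ βB d, fun x => ?_, fun d => ?_, fun d => ?_⟩
  · simp only [Functor.map_comp, reassoc_of% hk, hαA, Category.assoc]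
  · simp only [Functor.map_comp, reassoc_of% hk, hβB, Category.assoc]
  have h0 := congrArg (secRes M (h ≫ βB d)) d.1.1.2.2
  change secRes M (h ≫ βB d) (Finsupp.linearCombination _ _ d.1.1.2.1) = _ at h0
  rw [map_zero, Finsupp.linearCombination_apply, Finsupp.sum, map_sum] at h0
  refine Eq.trans ?_ h0
  simp only [Finset.sum_smul, ite_smul, zero_smul]
  rw [Finset.sum_comm]
  refine Finset.sum_congr rfl fun q hq => ?_
  rw [Finset.sum_eq_single ⟨tr f M d.1 q, hA d.1 d.2 q hq⟩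
    (fun x _ hx => if_neg fun e => hx (Subtype.ext e.symm))
    (fun hx => absurd (Finset.mem_univ _) hx), if_pos rfl, DerCompLib.secRes_smul]
  refine congrArg (fun v => (OD.obj.map (h ≫ βB d).op).hom (d.1.1.2.1 q) • v) ?_
  rw [DerCompLib.secRes_comp]
  have e := heq ⟨d, ⟨q, hq⟩⟩ (Finset.mem_univ _)
  exact congrArg (fun γ => secRes M γ q.1.2) (e.trans (Category.assoc _ _ _).symm)

/-- A coefficient family of sections killed by relations is zero. -/
theorem core (hS : S.ShortExact) (hH : HasLocalTriv S.X₃) {W : C}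
    (a : Node (genC f S.X₁) W →₀ OC.obj.obj (op W)) (b : Node (relC f S.X₂) W →₀ OC.obj.obj (op W))
    (hb : relMap f S.X₂ W b = Finsupp.mapDomain (nodeMap f S.f) a) :
    Loc J W fun W' g => secRes (f.pull.obj S.X₁) g (secMap (proj f S.X₁) W (nodeEval (gg f S.X₁) W a)) = 0 := by
  classical
  haveI := hS.mono_f
  have hflat : LocFlat K J f.fn := DerCompLib.locFlat_of_exact K J f.fn
  let A₀ : Finset (Node (genC f S.X₂) W) := a.support.image (nodeMap f S.f)
  let A : Finset (Node (genC f S.X₂) W) := A₀ ∪ b.support.biUnion fun d => d.1.2.1.support.image (tr f S.X₂ d)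
  refine (common_rep f S.X₂ b A fun d hd q hq =>
    Finset.mem_union_right _ (Finset.mem_biUnion.2 ⟨d, hd, Finset.mem_image_of_mem _ hq⟩)).bind ?_
  rintro W₁ g₁ ⟨E, k, α, β, hα, hβ, hrel⟩
  have hZ : ∀ x : ↥A, x.1 ∈ A₀ → secMap S.g E (secRes S.X₂ (α x) x.1.1.2) = 0 := fun x hx => by
    obtain ⟨x₀, -, hx₀⟩ := Finset.mem_image.1 hx
    have : secMap S.g x.1.1.1 x.1.1.2 = 0 := by
      rw [← hx₀]
      show secMap S.g x₀.1.1 (secMap S.f x₀.1.1 x₀.1.2) = 0
      rw [← DerCompLib.secMap_comp, S.zero, DerCompLib.secMap_zero]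
    rw [DerCompLib.secMap_secRes, this, map_zero]
  obtain ⟨R', hR₁, hR₁'⟩ := lift_relations S hS hH (fun x : ↥A => x.1 ∈ A₀)
    (fun x => secRes S.X₂ (α x) x.1.1.2) hZ _ hrel
  refine (hflat.cov R' hR₁ k).mono ?_
  rintro W₂ g₂ ⟨E', h', k', hh', hk'⟩
  obtain ⟨v, hv, hv'⟩ := hR₁' h' hh'
  refine eval_zero f S _ a b hb A (fun x₀ hx₀ => Finset.mem_union_left _ (Finset.mem_image_of_mem _ hx₀)) k'
    (fun x => h' ≫ α x) (fun x => ?_) (fun d => h' ≫ β d) (fun d => ?_) v
    (fun x x₀ hx₀ e => (hv x (e ▸ Finset.mem_image_of_mem _ hx₀)).trans (DerCompLib.secRes_comp _ _ _ _))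
    fun d => ?_
  · simp only [Functor.map_comp, reassoc_of% hk', hα, Category.assoc]
  · simp only [Functor.map_comp, reassoc_of% hk', hβ, Category.assoc]
  · refine Eq.trans (Finset.sum_congr rfl fun x _ => ?_) (hv' d)
    refine congrArg (· • v x) ?_
    rw [map_sum]
    refine Finset.sum_congr rfl fun q _ => ?_
    split_ifs
    · rw [res_res]
    · simp

/-- Injectivity. -/
theorem secMap_pull_eq_zero
    (hcore : ∀ {W : C} (a : Node (genC f S.X₁) W →₀ OC.obj.obj (op W)) (b : Node (relC f S.X₂) W →₀ OC.obj.obj (op W)),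
      relMap f S.X₂ W b = Finsupp.mapDomain (nodeMap f S.f) a →
        Loc J W fun W' g => secRes (f.pull.obj S.X₁) g (secMap (proj f S.X₁) W (nodeEval (gg f S.X₁) W a)) = 0)
    {X : C} (z : Sec (f.pull.obj S.X₁) X) (hz : secMap (f.pull.map S.f) X z = 0) : z = 0 := by
  suffices h : Loc J X fun W g => secRes (f.pull.obj S.X₁) g z = 0 by
    obtain ⟨R, hR, hR'⟩ := h
    have hs : Presieve.IsSheaf J ((f.pull.obj S.X₁).val.presheaf ⋙ CategoryTheory.forget AddCommGrpCat.{u}) :=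
      (isSheaf_iff_isSheaf_of_type _ _).1
        ((Presheaf.isSheaf_iff_isSheaf_comp _ _ _).1 (f.pull.obj S.X₁).isSheaf)
    exact (hs R hR).isSeparatedFor.ext fun W g hg => (hR' g hg).trans (map_zero (secRes (f.pull.obj S.X₁) g)).symm
  haveI := epi_proj f S.X₁
  refine (DerCompLib.exists_local_preimage (proj f S.X₁) z).bind fun W g ⟨y, hy⟩ => ?_
  obtain ⟨R, hR, hR'⟩ := (DerCompLib.isFreeOn_frS OC (genC f S.X₁)).exists_local_nodeEval y
  refine Loc.bind ⟨R, hR, hR'⟩ fun W₁ g₁ ⟨a, ha⟩ => ?_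
  have hz₁ : secMap (proj f S.X₁) W₁ (nodeEval (gg f S.X₁) W₁ a) = secRes (f.pull.obj S.X₁) (g₁ ≫ g) z := by
    rw [ha, DerCompLib.secMap_secRes, hy, DerCompLib.secRes_comp]
  let w := Finsupp.mapDomain (nodeMap f S.f) a
  have himg : secMap (proj f S.X₂) W₁ (nodeEval (gg f S.X₂) W₁ w) =
      secMap (f.pull.map S.f) W₁ (secMap (proj f S.X₁) W₁ (nodeEval (gg f S.X₁) W₁ a)) := by
    simp only [w, DerCompLib.secMap_nodeEval, proj_gen]
    show Finsupp.linearCombination _ _ _ = Finsupp.linearCombination _ _ _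
    rw [Finsupp.linearCombination_mapDomain]
    refine congrArg (fun v => Finsupp.linearCombination _ v a) (funext fun x => ?_)
    show secRes _ x.2 (unitSec f S.X₂ (secMap S.f x.1.1 x.1.2)) = secRes _ x.2 _
    rw [← unitSec_map]
  have h0 : secMap (cokernel.π (rho f S.X₂)) W₁ (nodeEval (gg f S.X₂) W₁ w) = 0 := by
    rw [← proj_psi, DerCompLib.secMap_comp, himg, hz₁, DerCompLib.secMap_secRes, hz, map_zero, map_zero]
  refine (DerCompLib.exists_local_boundary (ShortComplex.exact_cokernel (rho f S.X₂))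
    (nodeEval (gg f S.X₂) W₁ w) h0).bind fun W₂ g₂ ⟨y', hy'⟩ => ?_
  obtain ⟨R, hR, hR'⟩ := (DerCompLib.isFreeOn_frS OC (relC f S.X₂)).exists_local_nodeEval y'
  refine Loc.bind ⟨R, hR, hR'⟩ fun W₃ g₃ ⟨b, hb⟩ => ?_
  have h1 : nodeEval (gg f S.X₂) W₃ (relMap f S.X₂ W₃ b - coeffRes OC (genC f S.X₂) (g₃ ≫ g₂) w) = 0 := by
    rw [map_sub, sub_eq_zero, nodeEval_relMap, hb, DerCompLib.secMap_secRes, ← DerCompLib.secRes_nodeEval]
    exact (congrArg (secRes _ g₃) hy').trans (DerCompLib.secRes_comp _ _ _ _)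
  obtain ⟨T, hT, hT'⟩ := (DerCompLib.isFreeOn_frS OC (genC f S.X₂)).nodeEval_eq_zero_local _ h1
  refine Loc.bind ⟨T, hT, hT'⟩ fun W₄ g₄ hT₄ => ?_
  have hb' : relMap f S.X₂ W₄ (coeffRes OC (relC f S.X₂) g₄ b) =
      Finsupp.mapDomain (nodeMap f S.f) (coeffRes OC (genC f S.X₁) (g₄ ≫ g₃ ≫ g₂) a) := by
    rw [← coeffRes_relMap, sub_eq_zero.1 ((map_sub _ _ _).symm.trans hT₄), coeffRes_comp]
    exact coeffRes_mapDomain f S.f _ a
  refine (hcore _ _ hb').mono fun W₅ g₅ h5 => ?_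
  rw [← DerCompLib.secRes_nodeEval, DerCompLib.secMap_secRes, hz₁, DerCompLib.secRes_comp,
    DerCompLib.secRes_comp] at h5
  simpa only [Category.assoc] using h5

/-- The inverse image of a short exact sequence with flat cokernel is short exact. -/
theorem shortExact_map_pull (hS : S.ShortExact) (hH : ModSite.IsFlat S.X₃) : (S.map f.pull).ShortExact := by
  haveI := hS.epi_g
  haveI : f.pull.IsLeftAdjoint := f.adj.isLeftAdjoint
  haveI : PreservesColimitsOfSize.{0, 0} f.pull := f.adj.leftAdjoint_preservesColimits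
  haveI : Mono (f.pull.map S.f) := by
    refine Preadditive.mono_of_cancel_zero _ fun {P} q hq => ?_
    refine SheafOfModules.hom_ext (PresheafOfModules.hom_ext fun X => ModuleCat.hom_ext (LinearMap.ext fun (p : Sec P X.unop) => ?_))
    refine secMap_pull_eq_zero f S (core f S hS (hasLocalTriv_of_isFlat hH)) (X := X.unop) (secMap q X.unop p) ?_
    rw [← DerCompLib.secMap_comp, hq, DerCompLib.secMap_zero]
  have hex := hS.exact
  exact { exact := ShortComplex.exact_of_g_is_cokernel _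
            (isColimitCoforkMapOfIsColimit' f.pull S.zero hS.exact.gIsCokernel)
          mono_f := inferInstanceAs (Mono (f.pull.map S.f))
          epi_g := inferInstanceAs (Epi (f.pull.map S.g)) }

end Groth.Agent.HTop16.PullShortExact
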