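import Groth.Agent.HTop16.InvRingSet
import Groth.Agent.HTop16.PullShortExact

/-!
# Flat morphisms of ringed sites and locally ringed inverse images
-/

set_option autoImplicit false
set_option backward.isDefEq.respectTransparency false
set_option linter.all false

universe u

open CategoryTheory CategoryTheory.Limits Opposite

namespace Groth.Agent.HTop16.FlatBase

open DerCompLib (Sec secRes secMap Node nodeRes nodeEval coeffRes Loc LocFlat)
open SiteHom16 InvRingSet PullShortExact

variable {C D : Type u} [SmallCategory C] [SmallCategory D] {J : GrothendieckTopology C}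
  {K : GrothendieckTopology D} {OC : Sheaf J CommRingCat.{u}} {OD : Sheaf K CommRingCat.{u}}
  (f : ModSite.RMor OC OD)

theorem isLocallyRinged_invRing (hD : ModSite.IsLocallyRinged K OD) : ModSite.IsLocallyRinged J f.invRing := by
  have hflat : LocFlat K J f.fn := DerCompLib.locFlat_of_exact K J f.fn
  refine ⟨fun U r => ?_, fun U h01 => ?_⟩
  · show Loc J U fun V g => IsUnit ((f.invRing.obj.map g.op).hom r) ∨ IsUnit ((f.invRing.obj.map g.op).hom (1 - r))
    refine (exists_local_iu f r).bind fun W g ⟨E, a, k, ha⟩ => ?_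
    obtain ⟨S, hS, hS'⟩ := hD.1 E a
    refine (hflat.cov S hS k).mono fun W' g' ⟨E', h, k', hh, e⟩ => ?_
    have key : f.invRing.obj.map (g' ≫ g).op r = iuHom f k' (OD.obj.map h.op a) := by
      show _ = iu f k' (OD.obj.map h.op a)
      rw [iu_map, e, ← iu_res, ← ha, op_comp, Functor.map_comp]
      rfl
    rcases hS' h hh with hu | hu
    · refine Or.inl ?_
      show IsUnit (f.invRing.obj.map (g' ≫ g).op r)
      rw [key]
      exact hu.map _
    · refine Or.inr ?_
      show IsUnit ((f.invRing.obj.map (g' ≫ g).op).hom (1 - r))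
      rw [map_sub, map_one, show (f.invRing.obj.map (g' ≫ g).op).hom r = _ from key, ← map_one (iuHom f k'), ← map_sub]
      rw [map_sub, map_one] at hu
      exact hu.map _
  · have h : Loc J U fun V g => False := by
      refine (hflat.nonempty U).bind fun W g ⟨E, ⟨k⟩⟩ => ?_
      have e : iu f k (0 : OD.obj.obj (op E)) = iu f k 1 := by
        show iuHom f k 0 = iuHom f k 1
        rw [map_zero, map_one]
        exact (map_zero (f.invRing.obj.map g.op).hom).symm.trans
          ((congrArg (f.invRing.obj.map g.op).hom h01).trans (map_one _))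
      refine (iu_local_eq f k 0 1 e).bind fun W' g' ⟨E', h, k', hh, hk⟩ => ?_
      have h01' : (0 : OD.obj.obj (op E')) = 1 :=
        (map_zero (OD.obj.map h.op).hom).symm.trans (hh.trans (map_one _))
      exact (hflat.cov _ (hD.2 E' h01') k').mono fun W'' g'' ⟨_, _, _, hf, _⟩ => hf
    obtain ⟨S, hS, hS'⟩ := h
    exact J.superset_covering (fun V g hg => (hS' g hg).elim) hS

/-- Finitely many translated zeros vanish after refinement. -/
lemma loc_kill {W : C} {E : D} (k : W ⟶ f.fn.obj E) {ι : Type*} (A : Finset ι) (c : ι → OD.obj.obj (op E))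
    (h : ∀ i ∈ A, iu f k (c i) = 0) :
    Loc J W fun W' g => ∃ (E' : D) (h : E' ⟶ E) (k' : W' ⟶ f.fn.obj E'),
      k' ≫ f.fn.map h = g ≫ k ∧ ∀ i ∈ A, OD.obj.map h.op (c i) = 0 := by
  classical
  induction A using Finset.induction with
  | empty => exact Loc.of_forall fun W' g => ⟨E, 𝟙 E, g ≫ k, by simp, by simp⟩
  | insert i A hi ih =>
    refine (ih fun j hj => h j (Finset.mem_insert_of_mem hj)).bind fun W' g ⟨E', h', k', hk', hA⟩ => ?_
    have e : iu f k' (OD.obj.map h'.op (c i)) = iu f k' (0 : OD.obj.obj (op E')) := by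
      rw [iu_map, hk', ← iu_res, h i (Finset.mem_insert_self i A)]
      show (f.invRing.obj.map g.op).hom 0 = iuHom f k' 0
      rw [map_zero, map_zero]
    refine (iu_local_eq f k' _ _ e).mono fun W'' g' ⟨E'', h'', k'', hh, hk''⟩ =>
      ⟨E'', h'' ≫ h', k'', by rw [Functor.map_comp, reassoc_of% hk'', hk', Category.assoc], fun j hj => ?_⟩
    rw [op_comp, Functor.map_comp, ConcreteCategory.comp_apply]
    rcases Finset.mem_insert.1 hj with rfl | hj
    · exact hh.trans (map_zero (OD.obj.map h''.op).hom)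
    · rw [hA j hj]
      exact map_zero (OD.obj.map h''.op).hom

lemma invSharp_iu {X : C} {E : D} (k : X ⟶ f.fn.obj E) (a : OD.obj.obj (op E)) :
    f.invSharp.hom.app (op X) (iu f k a) = OC.obj.map k.op (σr f E a) := by
  refine (ConcreteCategory.congr_hom (f.invSharp.hom.naturality k.op) _).trans ?_
  have e := ((f.fn.sheafAdjunctionContinuous CommRingCat.{u} K J).homEquiv_unit _ _ f.invSharp).symm.trans
    (Equiv.apply_symm_apply _ _)
  exact congrArg (OC.obj.map k.op) (ConcreteCategory.congr_hom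
    (congrArg (fun q : OD ⟶ (f.fn.sheafPushforwardContinuous CommRingCat.{u} K J).obj OC => q.hom.app (op E)) e) a)

/-- A section of `OC` as a section of the base module. -/
abbrev bsec {X : C} (b : OC.obj.obj (op X)) : Sec f.baseMod X := b

/-- A section of the base module as a section of `OC`. -/
abbrev bval {X : C} (b : Sec f.baseMod X) : OC.obj.obj (op X) := b

lemma bval_smul {X : C} (r : f.invRing.obj.obj (op X)) (b : Sec f.baseMod X) :
    bval f (r • b) = f.invSharp.hom.app (op X) r * bval f b := rfl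

lemma bval_res {W X : C} (g : W ⟶ X) (b : Sec f.baseMod X) :
    bval f (secRes f.baseMod g b) = OC.obj.map g.op (bval f b) := rfl

lemma bval_sum {X : C} {ι : Type*} (A : Finset ι) (b : ι → Sec f.baseMod X) :
    bval f (∑ i ∈ A, b i) = ∑ i ∈ A, bval f (b i) := rfl

variable (S : ShortComplex (ModSite.Mod OD))

/-- The value vanishes once the coefficients are combinations killing the relations. -/
theorem final_step [Mono S.f] {W W' : C} (G : W' ⟶ W) (a : Node (genC f S.X₁) W →₀ OC.obj.obj (op W))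
    (b : Node (relC f S.X₂) W →₀ OC.obj.obj (op W))
    (hb : relMap f S.X₂ W b = Finsupp.mapDomain (nodeMap f S.f) a)
    (A : Finset (Node (genC f S.X₂) W)) (hA₀ : ∀ x₀ ∈ a.support, nodeMap f S.f x₀ ∈ A)
    {E' : D} (k' : W' ⟶ f.fn.obj E') (α : ∀ x : ↥A, E' ⟶ x.1.1.1)
    (hα : ∀ x, k' ≫ f.fn.map (α x) = G ≫ x.1.2)
    (β : ∀ d : ↥b.support, E' ⟶ d.1.1.1) (hβ : ∀ d, k' ≫ f.fn.map (β d) = G ≫ d.1.2)
    (v : ↥A → Sec S.X₁ E')
    (hv : ∀ x : ↥A, ∀ x₀ ∈ a.support, nodeMap f S.f x₀ = x.1 → secMap S.f E' (v x) = secRes S.X₂ (α x) x.1.1.2)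
    (c : ↥b.support → ↥A → OD.obj.obj (op E'))
    (hc : ∀ d x, c d x = ∑ q ∈ d.1.1.2.1.support,
      @ite _ (tr f S.X₂ d.1 q = x.1) (Classical.propDecidable _) ((OD.obj.map (β d).op).hom (d.1.1.2.1 q)) 0)
    {l : ℕ} (t : Fin l → OC.obj.obj (op W')) (B : ↥b.support → Fin l → OD.obj.obj (op E'))
    (hBt : ∀ d : ↥b.support, (OC.obj.map G.op).hom (b d.1) = ∑ p, (OC.obj.map k'.op).hom (σr f E' (B d p)) * t p)
    (hsum : ∀ p, ∑ x, (∑ d, B d p * c d x) • v x = 0) :
    secRes (f.pull.obj S.X₁) G (secMap (proj f S.X₁) W (nodeEval (gg f S.X₁) W a)) = 0 := by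
  rw [eval_eq f S G a b hb A hA₀ k' α hα β hβ v hv]
  refine Eq.trans (Finset.sum_congr rfl fun d _ => congrArg (fun s => _ • secRes (f.pull.obj S.X₁) k' (unitSec f S.X₁ s))
    (Finset.sum_congr rfl fun x _ => congrArg (· • v x)
      (show _ = c d x by rw [hc d x]; exact Finset.sum_congr rfl fun q _ => by congr))) ?_
  have hterm : ∀ d : ↥b.support, (OC.obj.map G.op).hom (b d.1) •
      secRes (f.pull.obj S.X₁) k' (unitSec f S.X₁ (∑ x, c d x • v x)) =
        ∑ p, t p • secRes (f.pull.obj S.X₁) k' (unitSec f S.X₁ (B d p • ∑ x, c d x • v x)) := fun d => by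
    rw [hBt d, Finset.sum_smul]
    refine Finset.sum_congr rfl fun p _ => ?_
    rw [show unitSec f S.X₁ (B d p • ∑ x, c d x • v x) = σr f E' (B d p) • unitSec f S.X₁ (∑ x, c d x • v x) from
      (secMap (f.adj.unit.app S.X₁) E').map_smul _ _, DerCompLib.secRes_smul, smul_smul, mul_comm]
  rw [Finset.sum_congr rfl fun d _ => hterm d, Finset.sum_comm]
  refine Finset.sum_eq_zero fun p _ => ?_
  have h0 : ∑ d, B d p • ∑ x, c d x • v x = 0 := by
    refine Eq.trans ?_ (hsum p)
    simp only [Finset.smul_sum, smul_smul, Finset.sum_smul]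
    rw [Finset.sum_comm]
  have hu : ∑ d, unitSec f S.X₁ (B d p • ∑ x, c d x • v x) = 0 :=
    (map_sum (secMap (f.adj.unit.app S.X₁) E') _ _).symm.trans
      ((congrArg (secMap (f.adj.unit.app S.X₁) E') h0).trans (map_zero _))
  rw [← Finset.smul_sum, ← map_sum, hu, map_zero, smul_zero]

/-- Relations among the coefficients are trivialised on the source. -/
theorem loc_triv (hB : HasLocalTriv f.baseMod) {W : C} {E : D} (k : W ⟶ f.fn.obj E) {ι κ : Type*} [Fintype ι]
    [Fintype κ] (w : ι → OC.obj.obj (op W)) (c : ι → κ → OD.obj.obj (op E))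
    (h : ∀ x, ∑ d, w d * (OC.obj.map k.op).hom (σr f E (c d x)) = 0) :
    Loc J W fun W' g => ∃ (E' : D) (e : E' ⟶ E) (k' : W' ⟶ f.fn.obj E') (l : ℕ) (t : Fin l → OC.obj.obj (op W'))
      (B : ι → Fin l → OD.obj.obj (op E')), k' ≫ f.fn.map e = g ≫ k ∧
        (∀ d, (OC.obj.map g.op).hom (w d) = ∑ p, (OC.obj.map k'.op).hom (σr f E' (B d p)) * t p) ∧
        ∀ x p, ∑ d, B d p * (OD.obj.map e.op).hom (c d x) = 0 := by
  classical
  have hflat : LocFlat K J f.fn := DerCompLib.locFlat_of_exact K J f.fn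
  have hrel : ∀ x ∈ (Finset.univ : Finset κ), ∑ d, iu f k (c d x) • bsec f (w d) = 0 := fun x _ => by
    show bval f (∑ d, iu f k (c d x) • bsec f (w d)) = 0
    rw [bval_sum]
    refine Eq.trans (Finset.sum_congr rfl fun d _ => ?_) (h x)
    rw [bval_smul, invSharp_iu, mul_comm]
  obtain ⟨R, hR, hR'⟩ := exists_factors_finset hB (fun d => bsec f (w d)) (fun x d => iu f k (c d x)) Finset.univ hrel
  refine Loc.bind ⟨R, hR, hR'⟩ ?_
  rintro W₁ g₁ ⟨l, t, B, hwt, hkill⟩
  refine (loc_all (Finset.univ : Finset (ι × Fin l)) (fun i W₂ g₂ => ∃ (E₁ : D) (a : OD.obj.obj (op E₁))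
    (k₁ : W₂ ⟶ f.fn.obj E₁), f.invRing.obj.map g₂.op (B i.1 i.2) = iu f k₁ a)
    fun i _ => exists_local_iu f (B i.1 i.2)).bind ?_
  intro W₂ g₂ hrep
  choose E₁ a k₁ ha using fun i => hrep i (Finset.mem_univ i)
  refine (loc_common hflat (Finset.univ : Finset (Option (ι × Fin l))) (fun i => i.elim E E₁)
    (fun i => match i with
      | none => (g₂ ≫ g₁) ≫ k
      | some j => k₁ j)).bind ?_
  rintro W₃ g₃ ⟨E₀, k₀, hk₀⟩
  choose e he using fun i => hk₀ i (Finset.mem_univ i)
  let β : ι → Fin l → OD.obj.obj (op E₀) := fun d p => (OD.obj.map (e (some (d, p))).op).hom (a (d, p))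
  have hβ : ∀ d p, iu f k₀ (β d p) = f.invRing.obj.map (g₃ ≫ g₂).op (B d p) := fun d p => by
    show iu f k₀ (OD.obj.map (e (some (d, p))).op (a (d, p))) = _
    rw [iu_map, he (some (d, p)), ← iu_res, ← ha (d, p), op_comp, Functor.map_comp]
    rfl
  have hc : ∀ d x, iu f k₀ (OD.obj.map (e none).op (c d x)) = f.invRing.obj.map ((g₃ ≫ g₂) ≫ g₁).op (iu f k (c d x)) :=
    fun d x => by
      rw [iu_map, he none, iu_res]
      simp only [Category.assoc]
  have hz : ∀ i ∈ (Finset.univ : Finset (κ × Fin l)),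
      iu f k₀ (∑ d, β d i.2 * (OD.obj.map (e none).op).hom (c d i.1)) = 0 := fun i _ => by
    show iuHom f k₀ _ = 0
    rw [map_sum]
    have h' := congrArg (f.invRing.obj.map (g₃ ≫ g₂).op).hom (hkill i.1 (Finset.mem_univ _) i.2)
    rw [map_zero, map_sum] at h'
    refine Eq.trans (Finset.sum_congr rfl fun d _ => ?_) h'
    rw [map_mul (iuHom f k₀), map_mul, res_res (O := f.invRing)]
    exact congrArg₂ (· * ·) (hβ d i.2) (hc d i.1)
  refine (loc_kill f k₀ Finset.univ _ hz).mono ?_
  rintro W₄ g₄ ⟨E', e', k', hk', hkill'⟩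
  refine ⟨E', e' ≫ e none, k', l, fun p => OC.obj.map ((g₄ ≫ g₃) ≫ g₂).op (bval f (t p)),
    fun d p => (OD.obj.map e'.op).hom (β d p), ?_, fun d => ?_, fun x p => ?_⟩
  · have hn := he none
    simp only [Functor.map_comp, reassoc_of% hk', Category.assoc] at hn ⊢
    rw [hn]
  · have h1 := congrArg (bval f) (hwt d)
    rw [bval_res, bval_sum] at h1
    have h2 := congrArg (OC.obj.map ((g₄ ≫ g₃) ≫ g₂).op).hom h1
    rw [map_sum] at h2
    refine Eq.trans ?_ (h2.trans (Finset.sum_congr rfl fun p _ => ?_))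
    · exact (res_res g₁ ((g₄ ≫ g₃) ≫ g₂) (w d)).symm
    · rw [bval_smul, map_mul]
      refine congrArg (· * _) ?_
      rw [← invSharp_iu, iu_map, hk', ← iu_res, hβ]
      refine (ConcreteCategory.congr_hom (f.invSharp.hom.naturality ((g₄ ≫ g₃) ≫ g₂).op) (B d p)).symm.trans ?_
      refine congrArg (f.invSharp.hom.app _) ?_
      show _ = (f.invRing.obj.map g₄.op).hom ((f.invRing.obj.map (g₃ ≫ g₂).op).hom (B d p))
      rw [res_res, Category.assoc]
      rfl
  · refine Eq.trans ?_ (hkill' (x, p) (Finset.mem_univ _))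
    show _ = (OD.obj.map e'.op).hom _
    rw [map_sum]
    refine Finset.sum_congr rfl fun d _ => ?_
    simp only [map_mul, res_res, β]
    rfl

/-- The core step for flat base. -/
theorem coreB (hB : HasLocalTriv f.baseMod) (hS : S.ShortExact) {W : C}
    (a : Node (genC f S.X₁) W →₀ OC.obj.obj (op W)) (b : Node (relC f S.X₂) W →₀ OC.obj.obj (op W))
    (hb : relMap f S.X₂ W b = Finsupp.mapDomain (nodeMap f S.f) a) :
    Loc J W fun W' g => secRes (f.pull.obj S.X₁) g (secMap (proj f S.X₁) W (nodeEval (gg f S.X₁) W a)) = 0 := by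
  classical
  haveI := hS.mono_f
  let A₀ : Finset (Node (genC f S.X₂) W) := a.support.image (nodeMap f S.f)
  let A : Finset (Node (genC f S.X₂) W) := A₀ ∪ b.support.biUnion fun d => d.1.2.1.support.image (tr f S.X₂ d)
  refine (common_rep f S.X₂ b A fun d hd q hq =>
    Finset.mem_union_right _ (Finset.mem_biUnion.2 ⟨d, hd, Finset.mem_image_of_mem _ hq⟩)).bind ?_
  rintro W₁ g₁ ⟨E, k, α, β, hα, hβ, hrel⟩
  let c : ↥b.support → ↥A → OD.obj.obj (op E) := fun d x => ∑ q ∈ d.1.1.2.1.support,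
    if tr f S.X₂ d.1 q = x.1 then (OD.obj.map (β d).op).hom (d.1.1.2.1 q) else 0
  have hrows : ∀ y : {x : ↥A // x.1 ∉ A₀},
      ∑ d : ↥b.support, (OC.obj.map g₁.op).hom (b d.1) * (OC.obj.map k.op).hom (σr f E (c d y.1)) = 0 := fun y => by
    have h0 : (OC.obj.map g₁.op).hom (relMap f S.X₂ W b y.1.1) = 0 := by
      rw [hb, Finsupp.notMem_support_iff.1 fun h' => y.2 (Finsupp.mapDomain_support h'), map_zero]
    refine Eq.trans ?_ h0
    rw [relMap_apply, map_sum, ← Finset.sum_coe_sort b.support]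
    refine Finset.sum_congr rfl fun d _ => ?_
    simp only [c, map_mul, map_sum, Finset.mul_sum]
    refine Finset.sum_congr rfl fun q _ => ?_
    split_ifs
    · rw [σr_res f (β d), res_res, res_res, hβ]
    · simp
  refine (loc_triv f hB k (fun d : ↥b.support => (OC.obj.map g₁.op).hom (b d.1))
    (fun d (y : {x : ↥A // x.1 ∉ A₀}) => c d y.1) hrows).mono ?_
  rintro W₂ g₂ ⟨E', e, k', l, t, B, hk', hBt, hker⟩
  have hpre : ∀ x : ↥A, ∃ m : Sec S.X₁ x.1.1.1, x.1 ∈ A₀ → secMap S.f x.1.1.1 m = x.1.1.2 := fun x => by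
    by_cases hx : x.1 ∈ A₀
    · obtain ⟨x₀, -, hx₀⟩ := Finset.mem_image.1 hx
      rw [← hx₀]
      exact ⟨x₀.1.2, fun _ => rfl⟩
    · exact ⟨0, fun h => absurd h hx⟩
  choose m hm using hpre
  have hfm : ∀ x : ↥A, x.1 ∈ A₀ →
      secMap S.f E' (secRes S.X₁ (e ≫ α x) (m x)) = secRes S.X₂ (e ≫ α x) x.1.1.2 := fun x hx => by
    rw [DerCompLib.secMap_secRes, hm x hx]
  refine final_step f S _ a b hb A (fun x₀ hx₀ => Finset.mem_union_left _ (Finset.mem_image_of_mem _ hx₀)) k'
    (fun x => e ≫ α x) (fun x => ?_) (fun d => e ≫ β d) (fun d => ?_) (fun x => secRes S.X₁ (e ≫ α x) (m x))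
    (fun x x₀ hx₀ h => hfm x (h ▸ Finset.mem_image_of_mem _ hx₀))
    (fun d x => (OD.obj.map e.op).hom (c d x)) (fun d x => ?_) t B (fun d => ?_) fun p => ?_
  · simp only [Functor.map_comp, reassoc_of% hk', hα, Category.assoc]
  · simp only [Functor.map_comp, reassoc_of% hk', hβ, Category.assoc]
  · simp only [c, map_sum]
    refine Finset.sum_congr rfl fun q _ => ?_
    split_ifs
    · rw [res_res]
    · simp
  · rw [← hBt d, res_res]
  · apply injective_secMap S.f E'
    rw [map_zero, map_sum]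
    have e0 : ∀ x : ↥A, secMap S.f E' ((∑ d, B d p * (OD.obj.map e.op).hom (c d x)) • secRes S.X₁ (e ≫ α x) (m x)) =
        (∑ d, B d p * (OD.obj.map e.op).hom (c d x)) • secRes S.X₂ (e ≫ α x) x.1.1.2 := fun x => by
      rw [map_smul]
      by_cases hx : x.1 ∈ A₀
      · rw [hfm x hx]
      · rw [hker ⟨x, hx⟩ p, zero_smul, zero_smul]
    rw [Finset.sum_congr rfl fun x _ => e0 x]
    simp only [Finset.sum_smul]
    rw [Finset.sum_comm]
    refine Finset.sum_eq_zero fun d _ => ?_
    have h' := congrArg (fun s => B d p • secRes S.X₂ e s) (hrel d)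
    simp only [map_sum, map_zero, smul_zero, Finset.smul_sum, DerCompLib.secRes_smul, DerCompLib.secRes_comp,
      smul_smul] at h'
    simp only [c, map_sum]
    simpa only [map_sum] using h'

/-- Flatness from flatness of the base module. -/
theorem isFlat_of_baseMod (hf : ModSite.IsFlat f.baseMod) : f.IsFlat := by
  haveI : f.pull.IsLeftAdjoint := f.adj.isLeftAdjoint
  haveI : f.pull.Additive := f.adj.left_adjoint_additive
  haveI : PreservesColimitsOfSize.{0, 0} f.pull := f.adj.leftAdjoint_preservesColimits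
  haveI : f.pull.PreservesMonomorphisms := ⟨fun {M N} i _ => by
    let S := ShortComplex.mk i (cokernel.π i) (cokernel.condition i)
    have hS : S.ShortExact :=
      { exact := ShortComplex.exact_cokernel i
        mono_f := inferInstanceAs (Mono i)
        epi_g := inferInstanceAs (Epi (cokernel.π i)) }
    refine Preadditive.mono_of_cancel_zero _ fun {P} q hq => ?_
    refine SheafOfModules.hom_ext (PresheafOfModules.hom_ext fun X => ModuleCat.hom_ext (LinearMap.ext fun (p : Sec P X.unop) => ?_))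
    refine secMap_pull_eq_zero f S (fun a b hb => coreB f S (hasLocalTriv_of_isFlat hf) hS a b hb)
      (X := X.unop) (secMap q X.unop p) ?_
    show secMap (f.pull.map i) X.unop (secMap q X.unop p) = 0
    rw [← DerCompLib.secMap_comp, hq, DerCompLib.secMap_zero]⟩
  haveI : PreservesFiniteColimits f.pull := inferInstance
  haveI := Functor.preservesHomology_of_preservesMonos_and_cokernels f.pull
  exact Functor.preservesFiniteLimits_of_preservesHomology f.pull

end Groth.Agent.HTop16.FlatBase
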