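import Groth.Agent.HTop16.SiteStalkTensor
import Groth.Agent.SiteTen.Flat
import Mathlib.Algebra.Category.ModuleCat.Presheaf.Free
import Mathlib.CategoryTheory.Limits.Shapes.FunctorToTypes
import Mathlib.CategoryTheory.Adjunction.Restrict
import Mathlib.CategoryTheory.Abelian.Exact

/-!
# Free modules on sheaves of sets

The left adjoint of the functor taking the underlying sheaf of sets, its tensor products, and the
principle that natural isomorphisms of right exact functors may be checked on free modules.
-/

set_option autoImplicit false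
set_option backward.isDefEq.respectTransparency false
set_option backward.isDefEq.respectTransparency.types false
set_option linter.all false

universe u

open CategoryTheory CategoryTheory.Limits Opposite MonoidalCategory
open scoped TensorProduct

namespace Groth.Agent.HTop16.FreeSheaf

variable {C : Type u} [SmallCategory C] {J : GrothendieckTopology C} (O : Sheaf J CommRingCat.{u})

/-- The underlying sheaf of sets of a module. -/
noncomputable def toSet : ModSite.Mod O ⥤ Sheaf J (Type u) :=
  SheafOfModules.toSheaf (ModSite.ringSh O) ⋙ sheafCompose J (forget AddCommGrpCat.{u})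

/-- The free presheaf of modules followed by sheafification. -/
noncomputable def preFree : (Cᵒᵖ ⥤ Type u) ⥤ ModSite.Mod O :=
  PresheafOfModules.free (O.obj ⋙ forget₂ CommRingCat.{u} RingCat.{u}) ⋙ ModSite.shPre O

/-- Free modules on sheaves of sets. -/
noncomputable def shFree : Sheaf J (Type u) ⥤ ModSite.Mod O := sheafToPresheaf J (Type u) ⋙ preFree O

/-- The free module is left adjoint to the underlying sheaf of sets. -/
noncomputable def shFreeAdj : shFree O ⊣ toSet O :=
  ((PresheafOfModules.freeAdjunction (O.obj ⋙ forget₂ CommRingCat.{u} RingCat.{u})).comp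
      (SiteTen.shAdj O)).restrictFullyFaithful (fullyFaithfulSheafToPresheaf J (Type u))
    (Functor.FullyFaithful.id (ModSite.Mod O)) (Iso.refl _) (Iso.refl _)

variable {O}

/-- The generator of a free presheaf attached to a section. -/
noncomputable def pgen (P : Cᵒᵖ ⥤ Type u) {U : C} (x : P.obj (op U)) :
    ((PresheafOfModules.free (O.obj ⋙ forget₂ CommRingCat.{u} RingCat.{u})).obj P).obj (op U) :=
  ModuleCat.freeMk x

/-- The generator attached to a section. -/
noncomputable def gen (P : Cᵒᵖ ⥤ Type u) {U : C} (x : P.obj (op U)) : ModSite.sect ((preFree O).obj P) U :=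
  (SiteTen.η O ((PresheafOfModules.free (O.obj ⋙ forget₂ CommRingCat.{u} RingCat.{u})).obj P)).app (op U)
    (pgen P x)

/-- Maps out of free modules agree when they agree on generators. -/
lemma hom_ext {P : Cᵒᵖ ⥤ Type u} {M : ModSite.Mod O} {α β : (preFree O).obj P ⟶ M}
    (h : ∀ (U : C) (x : P.obj (op U)), α.val.app (op U) (gen P x) = β.val.app (op U) (gen P x)) : α = β := by
  refine ((SiteTen.shAdj O).homEquiv _ _).injective ?_
  rw [Adjunction.homEquiv_unit, Adjunction.homEquiv_unit]
  refine PresheafOfModules.hom_ext fun U => ModuleCat.free_hom_ext fun x => ?_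
  exact h U.unop x

lemma gen_map {P Q : Cᵒᵖ ⥤ Type u} (φ : P ⟶ Q) {U : C} (x : P.obj (op U)) :
    ((preFree O).map φ).val.app (op U) (gen P x) = gen Q (φ.app (op U) x) := by
  refine (ConcreteCategory.congr_hom (congrArg (fun k => PresheafOfModules.Hom.app k (op U))
    ((SiteTen.shAdj O).unit.naturality ((PresheafOfModules.free _).map φ))) (pgen P x)).symm.trans ?_
  exact congrArg (fun z => (SiteTen.η O _).app (op U) z) (ModuleCat.free_map_apply (φ.app (op U)) x)

/-- The tensor product of free presheaves. -/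
noncomputable def freeTenHom (P Q : Cᵒᵖ ⥤ Type u) :
    (PresheafOfModules.free (O.obj ⋙ forget₂ CommRingCat.{u} RingCat.{u})).obj (FunctorToTypes.prod P Q) ⟶
      ((PresheafOfModules.free (O.obj ⋙ forget₂ CommRingCat.{u} RingCat.{u})).obj P : ModSite.preMod O) ⊗
        (PresheafOfModules.free (O.obj ⋙ forget₂ CommRingCat.{u} RingCat.{u})).obj Q :=
  PresheafOfModules.freeObjDesc
    { app := fun U => ↾fun z : P.obj U × Q.obj U =>
        TensorProduct.tmul (O.obj.obj U) (ModuleCat.freeMk z.1) (ModuleCat.freeMk z.2)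
      naturality := fun U V i => ConcreteCategory.hom_ext _ _ fun z => by
        obtain ⟨a, b⟩ := z
        refine congrArg₂ (fun x y => TensorProduct.tmul (O.obj.obj V) x y) ?_ ?_
        · exact NatTrans.naturality_apply
            (PresheafOfModules.freeAdjunctionUnit (O.obj ⋙ forget₂ CommRingCat.{u} RingCat.{u}) P) i a
        · exact NatTrans.naturality_apply
            (PresheafOfModules.freeAdjunctionUnit (O.obj ⋙ forget₂ CommRingCat.{u} RingCat.{u}) Q) i b }

instance isIso_freeTenHom (P Q : Cᵒᵖ ⥤ Type u) : IsIso (freeTenHom (O := O) P Q) := by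
  haveI : ∀ U, IsIso ((freeTenHom (O := O) P Q).app U) := fun U => by
    have h : (freeTenHom (O := O) P Q).app U = (ModuleCat.FreeMonoidal.μIso (O.obj.obj U) (P.obj U) (Q.obj U)).inv :=
      ModuleCat.free_hom_ext fun z => (ModuleCat.freeDesc_apply _ z).trans
        (ModuleCat.FreeMonoidal.μIso_inv_freeMk (O.obj.obj U) z).symm
    rw [h]
    infer_instance
  exact ⟨(PresheafOfModules.isoMk (fun U => asIso ((freeTenHom (O := O) P Q).app U))
    (fun U V i => (freeTenHom (O := O) P Q).naturality i)).inv,
    PresheafOfModules.hom_ext fun U => IsIso.hom_inv_id _, PresheafOfModules.hom_ext fun U => IsIso.inv_hom_id _⟩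

/-- The tensor product of free modules is free on the product. -/
noncomputable def genTenIso (P Q : Cᵒᵖ ⥤ Type u) :
    (preFree O).obj (FunctorToTypes.prod P Q) ≅ SiteTen.ten O ((preFree O).obj P) ((preFree O).obj Q) :=
  (ModSite.shPre O).mapIso (asIso (freeTenHom P Q)) ≪≫ SiteTen.tenShIso _ _

lemma genTenIso_gen (P Q : Cᵒᵖ ⥤ Type u) {U : C} (x : P.obj (op U)) (y : Q.obj (op U)) :
    (genTenIso P Q).hom.val.app (op U) (gen (O := O) (FunctorToTypes.prod P Q) ((x, y) : P.obj (op U) × Q.obj (op U))) =
      SiteStalk.secTmul ((preFree O).obj P) ((preFree O).obj Q) (gen P x) (gen Q y) := by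
  have e : (genTenIso (O := O) P Q).hom = (ModSite.shPre O).map (freeTenHom P Q ≫ (SiteTen.η O _ ⊗ₘ SiteTen.η O _)) := by
    rw [Functor.map_comp, ← SiteTen.tenShIso_hom]
    rfl
  rw [e]
  refine (ConcreteCategory.congr_hom (congrArg (fun k => PresheafOfModules.Hom.app k (op U))
    ((SiteTen.shAdj O).unit.naturality (freeTenHom P Q ≫ (SiteTen.η O _ ⊗ₘ SiteTen.η O _))))
    (pgen (FunctorToTypes.prod P Q) ((x, y) : P.obj (op U) × Q.obj (op U)))).symm.trans ?_
  refine congrArg (fun z => (SiteTen.η O _).app (op U) z) ?_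
  refine (congrArg (fun z => (SiteTen.η O _ ⊗ₘ SiteTen.η O _).app (op U) z) (ModuleCat.freeDesc_apply _ _)).trans ?_
  rfl

/-- Every module is the cokernel of a map of free modules. -/
lemma exists_presentation (M : ModSite.Mod O) :
    ∃ (P₁ P₀ : Sheaf J (Type u)) (a : (shFree O).obj P₁ ⟶ (shFree O).obj P₀) (b : (shFree O).obj P₀ ⟶ M)
      (w : a ≫ b = 0), Nonempty (IsColimit (CokernelCofork.ofπ b w)) := by
  have he : ∀ N : ModSite.Mod O, Epi ((shFreeAdj O).counit.app N) := fun N => by
    haveI : (toSet O).Faithful := by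
      delta toSet
      infer_instance
    infer_instance
  haveI := he M
  haveI := he (kernel ((shFreeAdj O).counit.app M))
  let b := (shFreeAdj O).counit.app M
  let a := (shFreeAdj O).counit.app (kernel b) ≫ kernel.ι b
  have w : a ≫ b = 0 := by simp [a, b]
  have hE : (ShortComplex.mk a b w).Exact := by
    rw [ShortComplex.exact_iff_epi_kernel_lift]
    have : kernel.lift b a w = (shFreeAdj O).counit.app (kernel b) := by
      rw [← cancel_mono (kernel.ι b), kernel.lift_ι]
    rw [this]
    infer_instance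
  exact ⟨_, _, a, b, w, ⟨hE.gIsCokernel⟩⟩

variable {E : Type*} [Category E] [Abelian E]

/-- A natural map of right exact functors which is invertible on free modules is invertible. -/
theorem isIso_of_free {Φ Ψ : ModSite.Mod O ⥤ E} [Φ.Additive] [Ψ.Additive] [PreservesFiniteColimits Φ]
    [PreservesFiniteColimits Ψ] (τ : Φ ⟶ Ψ) (h : ∀ P, IsIso (τ.app ((shFree O).obj P))) (M : ModSite.Mod O) :
    IsIso (τ.app M) := by
  obtain ⟨P₁, P₀, a, b, w, ⟨hc⟩⟩ := exists_presentation M
  haveI := h P₁
  haveI := h P₀
  haveI : Epi b := Cofork.IsColimit.epi hc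
  have hwΨ : Ψ.map a ≫ inv (τ.app ((shFree O).obj P₀)) ≫ Φ.map b = 0 := by
    rw [← cancel_epi (τ.app ((shFree O).obj P₁)), comp_zero, ← NatTrans.naturality_assoc,
      IsIso.hom_inv_id_assoc, ← Φ.map_comp, w, Φ.map_zero]
  obtain ⟨k, hk⟩ : ∃ k : Ψ.obj M ⟶ Φ.obj M, Ψ.map b ≫ k = inv (τ.app ((shFree O).obj P₀)) ≫ Φ.map b := by
    obtain ⟨k, hk⟩ := CokernelCofork.IsColimit.desc' (CokernelCofork.mapIsColimit _ hc Ψ)
      (inv (τ.app ((shFree O).obj P₀)) ≫ Φ.map b) hwΨ
    exact ⟨k, hk⟩
  haveI : Epi (Φ.map b) := inferInstance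
  haveI : Epi (Ψ.map b) := inferInstance
  refine ⟨k, ?_, ?_⟩
  · rw [← cancel_epi (Φ.map b), NatTrans.naturality_assoc, hk, IsIso.hom_inv_id_assoc, Category.comp_id]
  · rw [← cancel_epi (Ψ.map b), reassoc_of% hk, NatTrans.naturality, IsIso.inv_hom_id_assoc, Category.comp_id]

end Groth.Agent.HTop16.FreeSheaf

namespace Groth.Agent.HTop16.FreeSheaf

variable {C : Type u} [SmallCategory C] {J : GrothendieckTopology C} {O : Sheaf J CommRingCat.{u}}

/-- The unit of free modules is given by the generators. -/
lemma shFreeAdj_unit (P : Sheaf J (Type u)) {U : C} (x : P.obj.obj (op U)) :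
    ((shFreeAdj O).unit.app P).hom.app (op U) x = gen P.obj x := by
  have h := Adjunction.map_restrictFullyFaithful_unit_app (L := shFree O) (R := toSet O)
    (adj := (PresheafOfModules.freeAdjunction (O.obj ⋙ forget₂ CommRingCat.{u} RingCat.{u})).comp (SiteTen.shAdj O))
    (hiC := fullyFaithfulSheafToPresheaf J (Type u)) (hiD := Functor.FullyFaithful.id (ModSite.Mod O))
    (comm1 := Iso.refl _) (comm2 := Iso.refl _) P
  change ((sheafToPresheaf J (Type u)).map ((shFreeAdj O).unit.app P)).app (op U) x = _
  simp only [shFreeAdj]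
  rw [h]
  simp [Adjunction.comp]
  rfl

end Groth.Agent.HTop16.FreeSheaf
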