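import Groth.Agent.HTop16.HCrit
import Mathlib.AlgebraicGeometry.Sites.Fpqc
import Mathlib.AlgebraicGeometry.Sites.BigZariski

/-!
# Global sections form an fpqc sheaf on schemes over a base
-/

set_option autoImplicit false
set_option backward.isDefEq.respectTransparency false
set_option linter.all false

universe u

open CategoryTheory CategoryTheory.Limits AlgebraicGeometry Opposite

namespace Groth.Agent.HTop16.GammaSheaf

/-- The affine line over the integers, in the given universe. -/
noncomputable abbrev A1 : Scheme.{u} := Spec (CommRingCat.of (Polynomial (ULift.{u} ℤ)))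

/-- The morphism to the line given by a section. -/
noncomputable def mor {X : Scheme.{u}} (s : Γ(X, ⊤)) : X ⟶ A1.{u} :=
  X.toSpecΓ ≫ Spec.map (CommRingCat.ofHom
    (Polynomial.eval₂RingHom ((Int.castRingHom Γ(X, ⊤)).comp ULift.ringEquiv.toRingHom) s))

/-- The section given by a morphism to the line. -/
noncomputable def sec {X : Scheme.{u}} (m : X ⟶ A1.{u}) : Γ(X, ⊤) :=
  ((Scheme.ΓSpecIso _).inv ≫ m.appTop).hom Polynomial.X

theorem sec_comp {X Y : Scheme.{u}} (h : X ⟶ Y) (m : Y ⟶ A1.{u}) : sec (h ≫ m) = h.appTop (sec m) := by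
  rw [sec, sec, Scheme.Hom.comp_appTop]
  rfl

theorem sec_mor {X : Scheme.{u}} (s : Γ(X, ⊤)) : sec (mor s) = s := by
  rw [sec, mor, Scheme.Hom.comp_appTop, Scheme.toSpecΓ_appTop, ← Scheme.ΓSpecIso_inv_naturality_assoc]
  simp

theorem mor_sec {X : Scheme.{u}} (m : X ⟶ A1.{u}) : mor (sec m) = m := by
  refine ext_of_isAffine ?_
  rw [← cancel_epi (Scheme.ΓSpecIso _).inv]
  refine CommRingCat.hom_ext (Polynomial.ringHom_ext (fun z => ?_) ?_)
  · have : ∀ (φ ψ : ULift.{u} ℤ →+* Γ(X, ⊤)), φ = ψ := fun φ ψ => RingHom.ext fun w => by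
      have : φ.comp ULift.ringEquiv.symm.toRingHom = ψ.comp ULift.ringEquiv.symm.toRingHom := RingHom.ext_int _ _
      exact RingHom.congr_fun this w.down
    exact RingHom.congr_fun (this ((((Scheme.ΓSpecIso _).inv ≫ (mor (sec m)).appTop).hom).comp Polynomial.C)
      ((((Scheme.ΓSpecIso _).inv ≫ m.appTop).hom).comp Polynomial.C)) z
  · exact sec_mor (sec m)

variable (S : Scheme.{u})

/-- Global sections on schemes over the base. -/
noncomputable def gam : (Over S)ᵒᵖ ⥤ Type u where
  obj X := Γ(X.unop.left, ⊤)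
  map f := ↾fun a => f.unop.left.appTop a
  map_id X := by ext a; simp
  map_comp f g := by ext a; simp

/-- Global sections are morphisms to the line. -/
noncomputable def gamIso : (Over.forget S).op ⋙ yoneda.obj A1.{u} ≅ gam S :=
  NatIso.ofComponents (fun X => Equiv.toIso
    { toFun := sec, invFun := mor, left_inv := mor_sec, right_inv := sec_mor })
    (fun {X Y} f => by
      ext m
      exact sec_comp f.unop.left m)

theorem isSheaf_gam : Presieve.IsSheaf (Scheme.fpqcTopology.over S) (gam S) := by
  rw [← isSheaf_iff_isSheaf_of_type]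
  refine (Presheaf.isSheaf_of_iso_iff (gamIso S)).1 ?_
  exact ((Over.forget S).sheafPushforwardContinuous (Type u) (Scheme.fpqcTopology.over S) Scheme.fpqcTopology).obj
    ⟨yoneda.obj A1.{u}, (isSheaf_iff_isSheaf_of_type _ _).2
      (GrothendieckTopology.Subcanonical.isSheaf_of_isRepresentable _)⟩ |>.property

theorem isSheaf_gam_zariski : Presieve.IsSheaf (Scheme.zariskiTopology.over S) (gam S) :=
  Presieve.isSheaf_of_le _ (fun X R hR => by
    rw [GrothendieckTopology.mem_over_iff] at hR ⊢
    exact Scheme.zariskiTopology_le_fpqcTopology _ hR) (isSheaf_gam S)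

theorem isSheafFor_gam_flat {X Y : Over S} (f : X ⟶ Y) [Surjective f.left] [Flat f.left] [QuasiCompact f.left] :
    Presieve.IsSheafFor (gam S) (Presieve.singleton f) := by
  refine (Presieve.isSheafFor_iff_generate _).2 (isSheaf_gam S _ ?_)
  rw [GrothendieckTopology.mem_over_iff]
  refine Scheme.fpqcTopology.superset_covering ?_
    (Precoverage.generate_mem_toGrothendieck f.left.singleton_mem_fpqcPrecoverage)
  rw [Sieve.generate_le_iff]
  rintro Z g ⟨⟩
  rw [Sieve.overEquiv_iff]
  exact ⟨X, Over.homMk (𝟙 _) (by simp), f, Presieve.singleton_self f, by ext; simp⟩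

end Groth.Agent.HTop16.GammaSheaf
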