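import Groth.Agent.HTop16.RingFamily
import Groth.Agent.HTop16.AffCrit

/-!
# The two kinds of affine coverings are exact up to nilpotents, universally
-/

set_option autoImplicit false
set_option backward.isDefEq.respectTransparency false
set_option linter.all false
set_option maxHeartbeats 1000000

universe w u

open CategoryTheory CategoryTheory.Limits AlgebraicGeometry TopologicalSpace Opposite Polynomial

namespace Groth.Agent.HTop16.RingExact

open AffCrit RingFamily

theorem isPushout_quotient {A A' : CommRingCat.{u}} (g : A ⟶ A') (I : Ideal A) :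
    IsPushout g (CommRingCat.ofHom (Ideal.Quotient.mk I)) (CommRingCat.ofHom (Ideal.Quotient.mk (I.map g.hom)))
      (CommRingCat.ofHom (Ideal.Quotient.lift I ((Ideal.Quotient.mk (I.map g.hom)).comp g.hom)
        fun x hx => Ideal.Quotient.eq_zero_iff_mem.2 (Ideal.mem_map_of_mem _ hx))) := by
  refine IsPushout.of_isColimit' ⟨rfl⟩ (PushoutCocone.IsColimit.mk _
    (fun s => CommRingCat.ofHom (Ideal.Quotient.lift (I.map g.hom) s.inl.hom (fun x hx =>
      (Ideal.map_le_iff_le_comap.2 (fun y hy => ?_) : I.map g.hom ≤ RingHom.ker s.inl.hom) hx)))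
    (fun s => rfl) (fun s => ?_) (fun s m h₁ h₂ => ?_))
  · show s.inl.hom (g.hom y) = 0
    refine (RingHom.congr_fun (congrArg CommRingCat.Hom.hom s.condition) y).trans ?_
    show s.inr.hom (Ideal.Quotient.mk I y) = 0
    rw [Ideal.Quotient.eq_zero_iff_mem.2 hy, map_zero]
  · ext y
    exact RingHom.congr_fun (congrArg CommRingCat.Hom.hom s.condition) y
  · exact CommRingCat.hom_ext (Ideal.Quotient.ringHom_ext (congrArg CommRingCat.Hom.hom h₁))

/-- The map of charts. -/
noncomputable def chartCongr {A A' : Type u} [CommRing A] [CommRing A'] (g : A →+* A') (a b : A) :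
    Chart a b →+* Chart (g a) (g b) :=
  Ideal.Quotient.lift _ ((Ideal.Quotient.mk _).comp (Polynomial.mapRingHom g)) fun x hx => by
    obtain ⟨c, rfl⟩ := Ideal.mem_span_singleton'.1 hx
    rw [map_mul, RingHom.comp_apply, RingHom.comp_apply, coe_mapRingHom, Polynomial.map_sub, Polynomial.map_mul,
      map_C, map_C, map_X, Ideal.Quotient.eq_zero_iff_mem.2 (Ideal.mem_span_singleton_self _), mul_zero]

theorem isPushout_chart {A A' : CommRingCat.{u}} (g : A ⟶ A') (a b : A) :
    IsPushout g (CommRingCat.ofHom (chartMap a b)) (CommRingCat.ofHom (chartMap (g.hom a) (g.hom b)))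
      (CommRingCat.ofHom (chartCongr g.hom a b)) := by
  have hc : CommSq g (CommRingCat.ofHom (chartMap a b)) (CommRingCat.ofHom (chartMap (g.hom a) (g.hom b)))
      (CommRingCat.ofHom (chartCongr g.hom a b)) := ⟨CommRingCat.hom_ext (RingHom.ext fun y => (congrArg (Ideal.Quotient.mk _) (Polynomial.map_C g.hom (a := y))).symm)⟩
  refine IsPushout.of_isColimit' hc (PushoutCocone.IsColimit.mk _
    (fun s => CommRingCat.ofHom (Ideal.Quotient.lift _
      (Polynomial.eval₂RingHom s.inl.hom (s.inr.hom (Ideal.Quotient.mk _ X))) (fun x hx => ?_)))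
    (fun s => ?_) (fun s => ?_) (fun s m h₁ h₂ => ?_))
  · obtain ⟨c, rfl⟩ := Ideal.mem_span_singleton'.1 hx
    rw [map_mul]
    refine mul_eq_zero_of_right _ ?_
    have e : ∀ y : A, s.inl.hom (g.hom y) = s.inr.hom (chartMap a b y) := fun y =>
      RingHom.congr_fun (congrArg CommRingCat.Hom.hom s.condition) y
    rw [coe_eval₂RingHom, eval₂_sub, eval₂_mul, eval₂_C, eval₂_C, eval₂_X, e, e, sub_eq_zero, ← map_mul]
    refine congrArg _ ?_
    rw [RingHom.comp_apply, RingHom.comp_apply, ← map_mul, Ideal.Quotient.eq]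
    exact Ideal.mem_span_singleton_self _
  · ext y
    exact eval₂_C _ _
  · refine CommRingCat.hom_ext (Ideal.Quotient.ringHom_ext (Polynomial.ringHom_ext (fun y => ?_) ?_))
    · show eval₂ s.inl.hom _ ((Polynomial.C y).map g.hom) = _
      rw [map_C, eval₂_C]
      exact RingHom.congr_fun (congrArg CommRingCat.Hom.hom s.condition) y
    · show eval₂ s.inl.hom _ ((X : Polynomial A).map g.hom) = _
      rw [map_X, eval₂_X]
      rfl
  · refine CommRingCat.hom_ext (Ideal.Quotient.ringHom_ext (Polynomial.ringHom_ext (fun y => ?_) ?_))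
    · exact (RingHom.congr_fun (congrArg CommRingCat.Hom.hom h₁) y).trans (eval₂_C _ _).symm
    · refine Eq.trans ?_ (eval₂_X _ _).symm
      refine Eq.trans ?_ (RingHom.congr_fun (congrArg CommRingCat.Hom.hom h₂) (Ideal.Quotient.mk _ X))
      exact congrArg m.hom (congrArg (Ideal.Quotient.mk _) (Polynomial.map_X g.hom)).symm

/-- Two closed subschemes. -/
theorem rExact_pair {A : CommRingCat.{u}} (J : Ideal A) (f : A) (n : ℕ) (hJ : ∀ x ∈ J, x * f ^ n = 0)
    (I : Bool → Ideal A) (hI : I false = J) (hI' : I true = Ideal.span {f}) :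
    RExact (fun t => CommRingCat.of (A ⧸ I t)) (fun t => CommRingCat.ofHom (Ideal.Quotient.mk (I t))) := by
  refine ⟨⟨n + 1, fun a ha => ?_⟩, fun b hb => ?_⟩
  · have h0 : a ∈ J := hI ▸ Ideal.Quotient.eq_zero_iff_mem.1 (ha false)
    obtain ⟨y, hy⟩ := Ideal.mem_span_singleton'.1 (hI' ▸ Ideal.Quotient.eq_zero_iff_mem.1 (ha true))
    calc a ^ (n + 1) = a * (y * f) ^ n := by rw [hy, pow_succ']
      _ = y ^ n * (a * f ^ n) := by rw [mul_pow]; ring
      _ = 0 := by rw [hJ a h0, mul_zero]
  obtain ⟨x, hx⟩ := Ideal.Quotient.mk_surjective (b false)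
  obtain ⟨y, hy⟩ := Ideal.Quotient.mk_surjective (b true)
  have hxy : x - y ∈ I false ⊔ I true := by
    refine Ideal.Quotient.eq.1 ?_
    have := hb false true (CommRingCat.of (A ⧸ (I false ⊔ I true))) (CommRingCat.ofHom (Ideal.Quotient.factor le_sup_left))
      (CommRingCat.ofHom (Ideal.Quotient.factor le_sup_right)) rfl
    rw [← hx, ← hy] at this
    exact this
  obtain ⟨j, hj, k, hk, hjk⟩ := Submodule.mem_sup.1 hxy
  refine ⟨x - j, fun t => ?_⟩
  cases t
  · show Ideal.Quotient.mk _ (x - j) = _
    rw [map_sub, Ideal.Quotient.eq_zero_iff_mem.2 hj, sub_zero, hx]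
  · show Ideal.Quotient.mk _ (x - j) = _
    rw [show x - j = y + k by linear_combination -hjk, map_add, Ideal.Quotient.eq_zero_iff_mem.2 hk, add_zero, hy]

theorem coeff_relation {A : Type u} [CommRing A] {a b c : A} {p : Polynomial A}
    (h : C c = (C a * X - C b) * p) : c = -(b * p.coeff 0) ∧ ∀ i, a * p.coeff i = b * p.coeff (i + 1) := by
  refine ⟨?_, fun i => ?_⟩
  · simpa [sub_mul, mul_assoc] using congrArg (fun q => q.coeff 0) h
  · have := congrArg (fun q => q.coeff (i + 1)) h
    simp only [sub_mul, mul_assoc, coeff_sub, coeff_C_mul, coeff_X_mul, coeff_C_succ] at this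
    exact sub_eq_zero.1 this.symm

/-- An element vanishing on both charts has square zero. -/
theorem sq_eq_zero {A : Type u} [CommRing A] {a b c : A} {p q : Polynomial A}
    (h₁ : C c = (C a * X - C b) * p) (h₂ : C c = (C b * X - C a) * q) : c * c = 0 := by
  obtain ⟨e₁, r₁⟩ := coeff_relation h₁
  obtain ⟨e₂, r₂⟩ := coeff_relation h₂
  have key : ∀ m, c * c = b * b * (q.coeff m * p.coeff (m + 1)) := by
    intro m
    induction m with
    | zero =>
      calc c * c = -(b * p.coeff 0) * -(a * q.coeff 0) := by rw [← e₁, ← e₂]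
        _ = b * q.coeff 0 * (a * p.coeff 0) := by ring
        _ = b * b * (q.coeff 0 * p.coeff 1) := by rw [r₁ 0]; ring
    | succ m ih =>
      rw [ih]
      calc b * b * (q.coeff m * p.coeff (m + 1)) = b * p.coeff (m + 1) * (b * q.coeff m) := by ring
        _ = b * q.coeff (m + 1) * (a * p.coeff (m + 1)) := by rw [r₂ m]; ring
        _ = b * b * (q.coeff (m + 1) * p.coeff (m + 1 + 1)) := by rw [r₁ (m + 1)]; ring
  rw [key q.natDegree.succ, coeff_eq_zero_of_natDegree_lt (Nat.lt_succ_self _), zero_mul, mul_zero]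

/-- The centre and the two charts, the rings. -/
noncomputable def tripleObj {A : CommRingCat.{u}} (a b : A) : Fin 3 → CommRingCat.{u} :=
  ![CommRingCat.of (A ⧸ Ideal.span {a, b}), CommRingCat.of (Chart a b), CommRingCat.of (Chart b a)]

/-- The centre and the two charts, the maps. -/
noncomputable def tripleHom {A : CommRingCat.{u}} (a b : A) : ∀ i, A ⟶ tripleObj a b i :=
  Fin.cases (CommRingCat.ofHom (Ideal.Quotient.mk (Ideal.span {a, b})))
    (Fin.cases (CommRingCat.ofHom (chartMap a b)) (Fin.cases (CommRingCat.ofHom (chartMap b a)) (fun i => i.elim0)))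

theorem rExact_triple {A : CommRingCat.{u}} (a b : A) : RExact (tripleObj a b) (tripleHom a b) := by
  refine ⟨⟨2, fun c hc => ?_⟩, fun β hβ => ?_⟩
  · obtain ⟨p, hp⟩ := Ideal.mem_span_singleton'.1
      (Ideal.Quotient.eq_zero_iff_mem.1 (show Ideal.Quotient.mk _ (C c) = 0 from hc 1))
    obtain ⟨q, hq⟩ := Ideal.mem_span_singleton'.1
      (Ideal.Quotient.eq_zero_iff_mem.1 (show Ideal.Quotient.mk _ (C c) = 0 from hc 2))
    rw [pow_two]
    exact sq_eq_zero (hp.symm.trans (mul_comm _ _)) (hq.symm.trans (mul_comm _ _))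
  let β₀ : A ⧸ Ideal.span {a, b} := β 0
  let β₁ : Chart a b := β 1
  let β₂ : Chart b a := β 2
  obtain ⟨g, hg⟩ := Ideal.Quotient.mk_surjective β₁
  obtain ⟨h, hh⟩ := Ideal.Quotient.mk_surjective β₂
  -- the overlap of the two charts
  let rel : LaurentPolynomial A := LaurentPolynomial.C a * LaurentPolynomial.T 1 - LaurentPolynomial.C b
  let L : Type u := LaurentPolynomial A ⧸ Ideal.span {rel}
  let u : Chart a b →+* L := Ideal.Quotient.lift _ ((Ideal.Quotient.mk _).comp Polynomial.toLaurent) fun x hx => by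
    obtain ⟨c, rfl⟩ := Ideal.mem_span_singleton'.1 hx
    refine (map_mul _ _ _).trans (mul_eq_zero_of_right _ (Ideal.Quotient.eq_zero_iff_mem.2 ?_))
    rw [map_sub, map_mul, toLaurent_C, toLaurent_C, toLaurent_X]
    exact Ideal.mem_span_singleton_self _
  let σ : Polynomial A →+* LaurentPolynomial A :=
    (LaurentPolynomial.invert (R := A)).toRingEquiv.toRingHom.comp Polynomial.toLaurent
  have hσC : ∀ r, σ (C r) = LaurentPolynomial.C r := fun r => by
    show LaurentPolynomial.invert (toLaurent (C r)) = _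
    rw [toLaurent_C, LaurentPolynomial.invert_C]
  have hσX : σ X = LaurentPolynomial.T (-1) := by
    show LaurentPolynomial.invert (toLaurent X) = _
    rw [toLaurent_X, LaurentPolynomial.invert_T]
  let v : Chart b a →+* L := Ideal.Quotient.lift _ ((Ideal.Quotient.mk _).comp σ) fun x hx => by
    obtain ⟨c, rfl⟩ := Ideal.mem_span_singleton'.1 hx
    refine (map_mul _ _ _).trans (mul_eq_zero_of_right _ (Ideal.Quotient.eq_zero_iff_mem.2 ?_))
    have hT : LaurentPolynomial.T (-1) * LaurentPolynomial.T 1 = (1 : LaurentPolynomial A) := by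
      rw [← LaurentPolynomial.T_add]; simp
    rw [map_sub, map_mul, hσC, hσC, hσX, show LaurentPolynomial.C b * LaurentPolynomial.T (-1) - LaurentPolynomial.C a =
      -LaurentPolynomial.T (-1) * rel by
        simp only [rel]
        linear_combination (LaurentPolynomial.C a) * hT]
    exact Ideal.mul_mem_left _ _ (Ideal.mem_span_singleton_self _)
  have hrel : toLaurent g - σ h ∈ Ideal.span {rel} := by
    refine Ideal.Quotient.eq.1 ?_
    have := hβ 1 2 (CommRingCat.of L) (CommRingCat.ofHom u) (CommRingCat.ofHom v) (CommRingCat.hom_ext (RingHom.ext fun r => by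
      show Ideal.Quotient.mk _ (toLaurent (C r)) = Ideal.Quotient.mk _ (σ (C r))
      rw [toLaurent_C, hσC]))
    rw [show β 1 = Ideal.Quotient.mk _ g from hg.symm, show β 2 = Ideal.Quotient.mk _ h from hh.symm] at this
    exact this
  obtain ⟨q, hq⟩ := Ideal.mem_span_singleton'.1 hrel
  -- split into nonnegative and negative exponents
  have hsp : ∀ z : LaurentPolynomial A, ∃ qp qm : Polynomial A, z = toLaurent qp + σ qm * LaurentPolynomial.T (-1) := by
    intro z
    induction z using LaurentPolynomial.induction_on' with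
    | add x y hx hy =>
      obtain ⟨p₁, m₁, e₁⟩ := hx
      obtain ⟨p₂, m₂, e₂⟩ := hy
      exact ⟨p₁ + p₂, m₁ + m₂, by rw [e₁, e₂, map_add, map_add]; ring⟩
    | C_mul_T k r =>
      rcases lt_or_ge k 0 with hk | hk
      · obtain ⟨m, rfl⟩ : ∃ m : ℕ, k = -((m : ℤ) + 1) := ⟨(-k - 1).toNat, by omega⟩
        refine ⟨0, C r * X ^ m, ?_⟩
        rw [map_zero, zero_add, map_mul, map_pow, hσC, hσX, LaurentPolynomial.T_pow, mul_assoc, ← LaurentPolynomial.T_add]
        congr 2
        ring
      · obtain ⟨m, rfl⟩ := Int.eq_ofNat_of_zero_le hk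
        exact ⟨C r * X ^ m, 0, by rw [map_zero, zero_mul, add_zero, Polynomial.toLaurent_C_mul_X_pow]⟩
  obtain ⟨qp, qm, hqs⟩ := hsp q
  have hsplit : toLaurent (g - (C a * X - C b) * qp) = σ (h + (C a - C b * X) * qm) := by
    rw [map_sub, map_mul, map_sub, map_mul, map_add, map_mul, map_sub, map_mul, toLaurent_C, toLaurent_C, toLaurent_X,
      hσC, hσC, hσX]
    have hT : LaurentPolynomial.T (-1) * LaurentPolynomial.T 1 = (1 : LaurentPolynomial A) := by
      rw [← LaurentPolynomial.T_add]; simp
    rw [hqs] at hq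
    simp only [rel] at hq
    linear_combination -hq + (LaurentPolynomial.C a * σ qm) * hT
  let P := g - (C a * X - C b) * qp
  let Q := h + (C a - C b * X) * qm
  have hconst : ∀ i : ℕ, 0 < i → P.coeff i = 0 := fun i hi => by
    have := congrArg (fun z : LaurentPolynomial A => z.coeff (i : ℤ)) hsplit
    simp only [show σ (h + (C a - C b * X) * qm) = LaurentPolynomial.invert (toLaurent Q) from rfl,
      LaurentPolynomial.invert_apply, LaurentPolynomial.coeff_toLaurent] at this
    have e : (Q.toFinsupp.coeff.mapDomain Nat.castEmbedding) (-(i : ℤ)) = (0 : A) := by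
      refine Finsupp.mapDomain_of_notMem_range _ _ ?_
      rintro ⟨j, hj⟩
      change (j : ℤ) = -(i : ℤ) at hj
      omega
    refine Eq.trans ?_ e
    refine Eq.trans ?_ this
    exact (Finsupp.mapDomain_apply Nat.castEmbedding.injective P.toFinsupp.coeff i).symm
  let c := P.coeff 0
  have hP : P = C c := Polynomial.ext fun i => by
    rcases Nat.eq_zero_or_pos i with rfl | hi
    · rw [coeff_C_zero]
    · rw [hconst i hi, coeff_C_ne_zero hi.ne']
  have hQ : Q = C c := by
    have : toLaurent Q = toLaurent (C c) := (LaurentPolynomial.invert (R := A)).injective (by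
      refine hsplit.symm.trans ?_
      show toLaurent P = _
      rw [hP, toLaurent_C, LaurentPolynomial.invert_C])
    exact Polynomial.toLaurent_injective this
  have e₁ : Ideal.Quotient.mk (Ideal.span {C a * X - C b}) (C c) = β₁ := by
    rw [← hP, ← hg]
    exact Ideal.Quotient.eq.2 (by simpa [P] using Ideal.mul_mem_right qp _ (Ideal.mem_span_singleton_self (C a * X - C b)))
  have e₂ : Ideal.Quotient.mk (Ideal.span {C b * X - C a}) (C c) = β₂ := by
    rw [← hQ, ← hh]
    refine Ideal.Quotient.eq.2 ?_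
    rw [show Q - h = (-qm) * (C b * X - C a) by simp only [Q]; ring]
    exact Ideal.mul_mem_left _ _ (Ideal.mem_span_singleton_self _)
  refine ⟨c, fun i => ?_⟩
  fin_cases i
  · -- on the centre the first chart is the polynomial ring
    show Ideal.Quotient.mk _ c = β₀
    let I := Ideal.span {a, b}
    let w : Chart a b →+* Polynomial (A ⧸ I) := Ideal.Quotient.lift _ (Polynomial.mapRingHom (Ideal.Quotient.mk I)) fun x hx => by
      obtain ⟨y, rfl⟩ := Ideal.mem_span_singleton'.1 hx
      refine (map_mul _ _ _).trans (mul_eq_zero_of_right _ ?_)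
      have za : Ideal.Quotient.mk I a = 0 := Ideal.Quotient.eq_zero_iff_mem.2 (Ideal.subset_span (Set.mem_insert a {b}))
      have zb : Ideal.Quotient.mk I b = 0 :=
        Ideal.Quotient.eq_zero_iff_mem.2 (Ideal.subset_span (Set.mem_insert_of_mem a (Set.mem_singleton b)))
      rw [coe_mapRingHom, Polynomial.map_sub, Polynomial.map_mul, map_C, map_C, map_X, za, zb]
      simp
    have := hβ 1 0 (CommRingCat.of (Polynomial (A ⧸ I))) (CommRingCat.ofHom w) (CommRingCat.ofHom Polynomial.C)
      (CommRingCat.hom_ext (RingHom.ext fun r => Polynomial.map_C (Ideal.Quotient.mk I) (a := r)))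
    refine Polynomial.C_injective ?_
    refine Eq.trans ?_ this
    rw [show β 1 = β₁ from rfl, ← e₁]
    exact (Polynomial.map_C (Ideal.Quotient.mk I)).symm
  · exact e₁
  · exact e₂

end Groth.Agent.HTop16.RingExact
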