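import Groth.Prelude.Def_W4stkflatFrob
import Groth.Agent.HTop16.RingExact
import Groth.Agent.HTop16.GammaSheaf
import Mathlib.Algebra.CharP.Lemmas

/-!
# The inverse limit of global sections along Frobenius is an h sheaf
-/

set_option autoImplicit false
set_option backward.isDefEq.respectTransparency false
set_option linter.all false
set_option maxHeartbeats 1000000

universe u

open CategoryTheory CategoryTheory.Limits AlgebraicGeometry Opposite

namespace Groth.Agent.HTop16.FrobLim

theorem add_pow_of_natCast_eq_zero {R : Type*} [CommRing R] {p : ℕ} (hp : p.Prime) (h : (p : R) = 0) (x y : R) :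
    ∀ m : ℕ, (x + y) ^ p ^ m = x ^ p ^ m + y ^ p ^ m := by
  intro m
  induction m with
  | zero => simp
  | succ m ih =>
    obtain ⟨r, hr⟩ := exists_add_pow_prime_eq hp (x ^ p ^ m) (y ^ p ^ m)
    rw [pow_succ, pow_mul, ih, hr, h, pow_mul, pow_mul]
    ring

theorem natCast_eq_zero {p : ℕ} {S X : Scheme.{u}} (hS : (p : Γ(S, ⊤)) = 0) (g : X ⟶ S) : (p : Γ(X, ⊤)) = 0 := by
  rw [← map_natCast g.appTop.hom p, hS, map_zero]

theorem pow_tower {R : Type*} [CommRing R] {p : ℕ} (a : ℕ → R) (h : ∀ n, a (n + 1) ^ p = a n) (n : ℕ) :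
    ∀ M, a (n + M) ^ p ^ M = a n := by
  intro M
  induction M with
  | zero => simp
  | succ M ih => rw [← add_assoc, pow_succ', pow_mul, h, ih]

variable {p : ℕ} [hp : Fact p.Prime] {S : Scheme.{u}}

/-- Presieves for which global sections satisfy descent. -/
theorem isSheafFor_of_gam {X : Over S} (R : Presieve X) (hR : Presieve.IsSheafFor (GammaSheaf.gam S) R) :
    Presieve.IsSheafFor (HTop.frobLimPresheaf p S) R := by
  intro x hx
  let xn : ℕ → Presieve.FamilyOfElements (GammaSheaf.gam S) R := fun n Y f hf => (x f hf).1 n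
  have hxn : ∀ n, (xn n).Compatible := fun n Y₁ Y₂ Z g₁ g₂ f₁ f₂ h₁ h₂ e =>
    congrArg (fun z : HTop.FrobLimSections p Z.left => z.1 n) (hx g₁ g₂ h₁ h₂ e)
  choose a₀ ha hu using fun n => hR (xn n) (hxn n)
  let a : ℕ → Γ(X.left, ⊤) := a₀
  refine ⟨⟨a, fun n => hu n _ fun Y f hf => ?_⟩, fun Y f hf => HTop.FrobLimSections.ext fun n => ha n f hf, fun b hb => ?_⟩
  · show f.left.appTop.hom (a (n + 1) ^ p) = (x f hf).1 n
    rw [map_pow, ← (x f hf).2 n]
    exact congrArg (· ^ p) (ha (n + 1) f hf)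
  · exact HTop.FrobLimSections.ext fun n => hu n _ fun Y f hf =>
      congrArg (fun z : HTop.FrobLimSections p Y.left => z.1 n) (hb f hf)

/-- Families exact up to nilpotents give descent. -/
theorem isSheafFor_of_rExact (hS : (p : Γ(S, ⊤)) = 0) {X : Over S} [IsAffine X.left] {ι : Type}
    (B : ι → CommRingCat.{u}) (φ : ∀ i, Γ(X.left, ⊤) ⟶ B i) (h : RingFamily.RExact B φ) :
    Presieve.IsSheafFor (HTop.frobLimPresheaf p S)
      (Presieve.ofArrows (fun i => RingFamily.obj (φ i)) (fun i => RingFamily.hom (φ i))) := by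
  rw [Presieve.isSheafFor_arrows_iff]
  intro x hx
  have hcast := natCast_eq_zero hS X.hom
  obtain ⟨N, hN⟩ := h.ker
  obtain ⟨M, hM⟩ := pow_unbounded_of_one_lt N hp.out.one_lt
  have hker : ∀ k : Γ(X.left, ⊤), (∀ i, (φ i).hom k = 0) → k ^ p ^ M = 0 := fun k hk =>
    pow_eq_zero_of_le hM.le (hN k hk)
  let b : ℕ → ∀ i, B i := fun n i => (Scheme.ΓSpecIso (B i)).hom ((x i).1 n)
  have hb : ∀ n i, b (n + 1) i ^ p = b n i := fun n i => by
    simp only [b]
    rw [← map_pow]
    exact congrArg _ ((x i).2 n)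
  have hcompat : ∀ n i j (L : CommRingCat.{u}) (u : B i ⟶ L) (v : B j ⟶ L), φ i ≫ u = φ j ≫ v →
      u.hom (b n i) = v.hom (b n j) := fun n i j L u v e => by
    let a : RingFamily.obj (φ i ≫ u) ⟶ RingFamily.obj (φ j) :=
      eqToHom (by rw [e]) ≫ RingFamily.map (φ j) v
    have ha : a.left = Spec.map v := by
      simp only [a, Over.comp_left, Over.eqToHom_left]
      exact (Category.id_comp _)
    have e' := hx i j _ (RingFamily.map (φ i) u) a (by
      ext : 1
      change Spec.map u ≫ Spec.map (φ i) ≫ X.left.isoSpec.inv = a.left ≫ Spec.map (φ j) ≫ X.left.isoSpec.inv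
      rw [ha, ← Spec.map_comp_assoc, ← Spec.map_comp_assoc, e])
    have e'' : (Spec.map u).appTop.hom ((x i).1 n) = a.left.appTop.hom ((x j).1 n) :=
      congrArg (fun z : HTop.FrobLimSections p _ => z.1 n) e'
    rw [ha] at e''
    have e3 := congrArg (Scheme.ΓSpecIso L).hom e''
    refine (ConcreteCategory.congr_hom (Scheme.ΓSpecIso_naturality u) _).symm.trans (e3.trans ?_)
    exact ConcreteCategory.congr_hom (Scheme.ΓSpecIso_naturality v) _
  choose a ha using fun n => h.exist (b n) (hcompat n)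
  let c : ℕ → Γ(X.left, ⊤) := fun n => a (n + M) ^ p ^ M
  have hc : ∀ n, c (n + 1) ^ p = c n := fun n => by
    have hk : ∀ i, (φ i).hom (a (n + 1 + M) ^ p - a (n + M)) = 0 := fun i => by
      rw [map_sub, map_pow, ha, ha, sub_eq_zero, show n + 1 + M = n + M + 1 by omega]
      exact hb (n + M) i
    show (a (n + 1 + M) ^ p ^ M) ^ p = a (n + M) ^ p ^ M
    rw [← pow_mul, mul_comm, pow_mul]
    conv_lhs => rw [show a (n + 1 + M) ^ p = a (n + M) + (a (n + 1 + M) ^ p - a (n + M)) by ring]
    rw [add_pow_of_natCast_eq_zero hp.out hcast, hker _ hk, add_zero]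
  refine ⟨⟨c, hc⟩, fun i => HTop.FrobLimSections.ext fun n => ?_, fun c' hc' => HTop.FrobLimSections.ext fun n => ?_⟩
  · show (RingFamily.hom (φ i)).left.appTop.hom (c n) = (x i).1 n
    refine ((Scheme.ΓSpecIso (B i)).commRingCatIsoToRingEquiv.injective ?_)
    show (Scheme.ΓSpecIso (B i)).hom _ = (Scheme.ΓSpecIso (B i)).hom ((x i).1 n)
    refine (ConcreteCategory.congr_hom (RingFamily.hom_appTop (φ i)) (c n)).trans ?_
    show (φ i).hom (a (n + M) ^ p ^ M) = b n i
    rw [map_pow, ha]
    exact pow_tower (fun n => b n i) (fun n => hb n i) n M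
  · have hk : ∀ i, (φ i).hom (c'.1 (n + M) - a (n + M)) = 0 := fun i => by
      rw [map_sub, ha, sub_eq_zero]
      have e := congrArg (fun z : HTop.FrobLimSections p _ => z.1 (n + M)) (hc' i)
      rw [← RingFamily.hom_appTop (φ i)]
      exact congrArg (Scheme.ΓSpecIso (B i)).hom e
    show c'.1 n = a (n + M) ^ p ^ M
    rw [← pow_tower c'.1 c'.2 n M,
      show c'.1 (n + M) = a (n + M) + (c'.1 (n + M) - a (n + M)) by ring,
      add_pow_of_natCast_eq_zero hp.out hcast, hker _ hk, add_zero]

theorem center_le {A A' : Type u} [CommRing A] [CommRing A'] (g : A →+* A') (a b : A) (x : A)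
    (hx : x ∈ Ideal.span {a, b}) : (Ideal.Quotient.mk (Ideal.span {g a, g b})).comp g x = 0 := by
  obtain ⟨c, d, rfl⟩ := Ideal.mem_span_pair.1 hx
  rw [RingHom.comp_apply, map_add, map_mul, map_mul, Ideal.Quotient.eq_zero_iff_mem]
  exact Ideal.mem_span_pair.2 ⟨_, _, rfl⟩

theorem isPushout_triple {A A' : CommRingCat.{u}} (g : A ⟶ A') (a b : A) (i : Fin 3) :
    IsPushout g (RingExact.tripleHom a b i) (RingExact.tripleHom (g.hom a) (g.hom b) i)
      (Fin.cases (motive := fun i => RingExact.tripleObj a b i ⟶ RingExact.tripleObj (g.hom a) (g.hom b) i)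
        (CommRingCat.ofHom (Ideal.Quotient.lift (Ideal.span {a, b})
          ((Ideal.Quotient.mk (Ideal.span {g.hom a, g.hom b})).comp g.hom) (center_le g.hom a b)))
        (Fin.cases (CommRingCat.ofHom (RingExact.chartCongr g.hom a b))
          (Fin.cases (CommRingCat.ofHom (RingExact.chartCongr g.hom b a)) (fun i => i.elim0))) i) := by
  fin_cases i
  · have hmap : (Ideal.span {a, b}).map g.hom = Ideal.span {g.hom a, g.hom b} := by
      rw [Ideal.map_span, Set.image_insert_eq, Set.image_singleton]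
    let e : CommRingCat.of (A' ⧸ (Ideal.span {a, b}).map g.hom) ≅ CommRingCat.of (A' ⧸ Ideal.span {g.hom a, g.hom b}) :=
      (Ideal.quotEquivOfEq hmap).toCommRingCatIso
    refine IsPushout.of_iso (RingExact.isPushout_quotient g (Ideal.span {a, b})) (Iso.refl _) (Iso.refl _)
      (Iso.refl _) e (by simp) (by simp; rfl) ?_ ?_
    · exact CommRingCat.hom_ext (RingHom.ext fun y => rfl)
    · exact CommRingCat.hom_ext (Ideal.Quotient.ringHom_ext (RingHom.ext fun y => rfl))
  · exact RingExact.isPushout_chart g a b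
  · exact RingExact.isPushout_chart g b a

theorem isSheaf_Jh (hS : (p : Γ(S, ⊤)) = 0) : Presieve.IsSheaf (HTop.Jh S) (HTop.frobLimPresheaf p S) := by
  have hz : Presieve.IsSheaf (Scheme.zariskiTopology.over S) (HTop.frobLimPresheaf p S) :=
    fun X R hR => isSheafFor_of_gam R.arrows (GammaSheaf.isSheaf_gam_zariski S R hR)
  refine AffCrit.isSheaf_Jh hz (fun X Y f _ _ _ _ _ =>
    isSheafFor_of_gam _ (GammaSheaf.isSheafFor_gam_flat S f)) ⟨fun A J f n hJ => ?_, fun A a b R h₀ h₁ h₂ => ?_⟩
  · let I : Bool → Ideal A := fun t => cond t (Ideal.span {f}) J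
    refine RingFamily.mem_J hz (fun t => CommRingCat.of (A ⧸ I t)) (fun t => CommRingCat.ofHom (Ideal.Quotient.mk (I t)))
      (fun A' g t => CommRingCat.of (A' ⧸ (I t).map g.hom))
      (fun A' g t => CommRingCat.ofHom (Ideal.Quotient.mk _)) _ (fun A' g t => RingExact.isPushout_quotient g (I t))
      (fun X _ g => isSheafFor_of_rExact hS _ _ (RingExact.rExact_pair (J.map g.hom) (g.hom f) n (fun x hx => ?_)
        (fun t => (I t).map g.hom) rfl (by rw [← Set.image_singleton, ← Ideal.map_span]; rfl))) _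
      (fun t => Sieve.le_generate _ _ _ (Presieve.ofArrows.mk t))
    induction hx using Submodule.span_induction with
    | mem y hy =>
      obtain ⟨j, hj, rfl⟩ := hy
      rw [← map_pow, ← map_mul, hJ j hj, map_zero]
    | zero => exact zero_mul _
    | add y z _ _ hy hz => rw [add_mul, hy, hz, add_zero]
    | smul c y _ hy => rw [smul_eq_mul, mul_assoc, hy, mul_zero]
  · refine RingFamily.mem_J hz (RingExact.tripleObj a b) (RingExact.tripleHom a b)
      (fun A' g => RingExact.tripleObj (g.hom a) (g.hom b)) (fun A' g => RingExact.tripleHom (g.hom a) (g.hom b))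
      (fun A' g => Fin.cases (CommRingCat.ofHom (Ideal.Quotient.lift (Ideal.span {a, b})
          ((Ideal.Quotient.mk (Ideal.span {g.hom a, g.hom b})).comp g.hom) (center_le g.hom a b)))
        (Fin.cases (CommRingCat.ofHom (RingExact.chartCongr g.hom a b))
          (Fin.cases (CommRingCat.ofHom (RingExact.chartCongr g.hom b a)) (fun i => i.elim0))))
      (fun A' g i => ?_) (fun X _ g => isSheafFor_of_rExact hS _ _ (RingExact.rExact_triple _ _)) R (fun i => ?_)
    · exact isPushout_triple g a b i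
    · fin_cases i
      · exact h₀
      · exact h₁
      · exact h₂

end Groth.Agent.HTop16.FrobLim
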