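import Groth.Prelude.Def_W4stkflatp2Frob
import Groth.Prelude.Def_QuotSh
import Groth.Agent.HTop16.FrobLim
import Mathlib.CategoryTheory.Sites.LocallySurjective
import Mathlib.CategoryTheory.Sites.LocallyInjective

/-!
# The colimit of global sections along Frobenius sheafifies to an h sheaf
-/

set_option autoImplicit false
set_option backward.isDefEq.respectTransparency false
set_option linter.all false
set_option maxHeartbeats 1000000

universe u

open CategoryTheory CategoryTheory.Limits AlgebraicGeometry Opposite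
open HTop (FrobColimSections FrobColimRel)

namespace Groth.Agent.HTop16.FrobColim

variable {p : ℕ} {X : Scheme.{u}}

theorem mk_raise (n : ℕ) (a : Γ(X, ⊤)) : ∀ k, FrobColimSections.mk p n a = FrobColimSections.mk p (n + k) (a ^ p ^ k) := by
  intro k
  induction k with
  | zero => simp
  | succ k ih => rw [ih, FrobColimSections.sound, ← add_assoc, pow_succ, pow_mul]

theorem exists_mk (x : FrobColimSections p X) : ∃ n a, x = FrobColimSections.mk p n a := by
  induction x using Quot.ind with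
  | mk y => exact ⟨y.1, y.2, rfl⟩

theorem exists_common {ι : Type*} [Finite ι] {Y : ι → Scheme.{u}} (x : ∀ i, FrobColimSections p (Y i)) :
    ∃ (m : ℕ) (a : ∀ i, Γ(Y i, ⊤)), ∀ i, x i = FrobColimSections.mk p m (a i) := by
  cases nonempty_fintype ι
  choose n a ha using fun i => exists_mk (x i)
  refine ⟨Finset.univ.sup n, fun i => a i ^ p ^ (Finset.univ.sup n - n i), fun i => ?_⟩
  rw [ha, mk_raise (n i) (a i) (Finset.univ.sup n - n i), Nat.add_sub_cancel' (Finset.le_sup (Finset.mem_univ i))]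

/-- Two classes in one degree agree iff powers agree. -/
theorem mk_eq_mk_iff (m : ℕ) (a b : Γ(X, ⊤)) :
    FrobColimSections.mk p m a = FrobColimSections.mk p m b ↔ ∃ k, a ^ p ^ k = b ^ p ^ k := by
  refine ⟨fun h => ?_, fun ⟨k, hk⟩ => by rw [mk_raise m a k, mk_raise m b k, hk]⟩
  let E : ℕ × Γ(X, ⊤) → ℕ × Γ(X, ⊤) → Prop := fun x y => ∃ i j, x.1 + i = y.1 + j ∧ x.2 ^ p ^ i = y.2 ^ p ^ j
  have key : ∀ x y, Relation.EqvGen (FrobColimRel p X) x y → E x y := by
    intro x y hxy
    induction hxy with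
    | rel x y h =>
      obtain rfl : y = _ := h
      exact ⟨1, 0, rfl, by rw [pow_one, pow_zero, pow_one]⟩
    | refl x => exact ⟨0, 0, rfl, rfl⟩
    | symm x y _ ih =>
      obtain ⟨i, j, h₁, h₂⟩ := ih
      exact ⟨j, i, h₁.symm, h₂.symm⟩
    | trans x y z _ _ ih₁ ih₂ =>
      obtain ⟨i, j, h₁, h₂⟩ := ih₁
      obtain ⟨k, l, h₃, h₄⟩ := ih₂
      refine ⟨i + k, l + j, by omega, ?_⟩
      rw [pow_add, pow_mul, h₂, ← pow_mul, mul_comm, pow_mul, h₄, ← pow_mul, ← pow_add]
  obtain ⟨i, j, h₁, h₂⟩ := key _ _ (Quot.eq.1 h)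
  obtain rfl : i = j := by simpa using h₁
  exact ⟨i, h₂⟩

variable [hp : Fact p.Prime] {S : Scheme.{u}}

/-- The presheaf, in the larger universe. -/
noncomputable abbrev P (p : ℕ) (S : Scheme.{u}) : (Over S)ᵒᵖ ⥤ Type (u + 1) :=
  HTop.frobColimPresheaf p S ⋙ uliftFunctor.{u + 1, u}

/-- Separation. -/
theorem sep (hS : (p : Γ(S, ⊤)) = 0) {X : Over S} {ι : Type*} [Finite ι] {Y : ι → Over S} (q : ∀ i, Y i ⟶ X)
    (hker : ∃ N : ℕ, ∀ k : Γ(X.left, ⊤), (∀ i, (q i).left.appTop k = 0) → k ^ N = 0)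
    (a b : (P p S).obj (op X)) (h : ∀ i, (P p S).map (q i).op a = (P p S).map (q i).op b) : a = b := by
  cases nonempty_fintype ι
  obtain ⟨a⟩ := a
  obtain ⟨b⟩ := b
  obtain ⟨m, c, hc⟩ := exists_common (p := p) (fun t : Bool => cond t b a)
  obtain rfl : a = _ := hc false
  obtain rfl : b = _ := hc true
  choose k hk using fun i => (mk_eq_mk_iff m _ _).1 (congrArg ULift.down (h i))
  let K := Finset.univ.sup k
  obtain ⟨N, hN⟩ := hker
  obtain ⟨M, hM⟩ := pow_unbounded_of_one_lt N hp.out.one_lt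
  have hcast := FrobLim.natCast_eq_zero hS X.hom
  have hd : ∀ i, (q i).left.appTop (c false ^ p ^ K - c true ^ p ^ K) = 0 := fun i => by
    obtain ⟨d, hd⟩ := Nat.exists_eq_add_of_le (Finset.le_sup (f := k) (Finset.mem_univ i))
    refine (map_sub _ _ _).trans (sub_eq_zero.2 ?_)
    rw [map_pow, map_pow, show K = k i + d from hd, pow_add, pow_mul, pow_mul]
    exact congrArg (· ^ p ^ d) (hk i)
  refine congrArg ULift.up ((mk_eq_mk_iff m _ _).2 ⟨K + M, ?_⟩)
  rw [pow_add, pow_mul, pow_mul, show c false ^ p ^ K = c true ^ p ^ K + (c false ^ p ^ K - c true ^ p ^ K) by ring,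
    FrobLim.add_pow_of_natCast_eq_zero hp.out hcast, pow_eq_zero_of_le hM.le (hN _ hd), add_zero]

/-- Gluing. -/
theorem glue {X : Over S} {ι κ : Type*} [Finite ι] [Finite κ] {Y : ι → Over S} (q : ∀ i, Y i ⟶ X) {T : κ → Over S}
    (s t : κ → ι) (σ : ∀ k, T k ⟶ Y (s k)) (τ : ∀ k, T k ⟶ Y (t k))
    (hlev : ∀ b : ∀ i, Γ((Y i).left, ⊤), (∀ k, (σ k).left.appTop (b (s k)) = (τ k).left.appTop (b (t k))) →
      ∃ a : Γ(X.left, ⊤), ∀ i, (q i).left.appTop a = b i)
    (x : ∀ i, (P p S).obj (op (Y i))) (hx : ∀ k, (P p S).map (σ k).op (x (s k)) = (P p S).map (τ k).op (x (t k))) :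
    ∃ a, ∀ i, (P p S).map (q i).op a = x i := by
  cases nonempty_fintype κ
  obtain ⟨m, c, hc⟩ := exists_common (p := p) (fun i => (x i).down)
  obtain rfl : x = fun i => ⟨FrobColimSections.mk p m (c i)⟩ := funext fun i => ULift.ext _ _ (hc i)
  choose k hk using fun l => (mk_eq_mk_iff m _ _).1 (congrArg ULift.down (hx l))
  let K := Finset.univ.sup k
  obtain ⟨a, ha⟩ := hlev (fun i => c i ^ p ^ K) fun l => by
    obtain ⟨d, hd⟩ := Nat.exists_eq_add_of_le (Finset.le_sup (f := k) (Finset.mem_univ l))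
    rw [map_pow, map_pow, show K = k l + d from hd, pow_add, pow_mul, pow_mul]
    exact congrArg (· ^ p ^ d) (hk l)
  refine ⟨⟨FrobColimSections.mk p (m + K) a⟩, fun i => congrArg ULift.up ?_⟩
  show FrobColimSections.mk p (m + K) ((q i).left.appTop a) = FrobColimSections.mk p m (c i)
  rw [ha, ← mk_raise]

/-- Compactness and quasi-separatedness of an object. -/
def QCQS (X : Over S) : Prop := CompactSpace X.left ∧ QuasiSeparatedSpace X.left

theorem qcqs_of_affine (X : Over S) [IsAffine X.left] : QCQS X := ⟨inferInstance, inferInstance⟩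

theorem qcqs_piece {X : Over S} (hX : QCQS X) {U : X.left.Opens} (hU : IsCompact (U : Set X.left)) :
    QCQS (HCrit.piece X U) := by
  haveI := hX.2
  refine ⟨isCompact_iff_compactSpace.1 hU, ?_⟩
  haveI : QuasiSeparated U.ι := inferInstance
  exact quasiSeparatedSpace_of_quasiSeparated U.ι

/-- A covering sieve of the big Zariski site contains finitely many affine opens covering a compact object. -/
theorem exists_pieces {X : Over S} [CompactSpace X.left] {R : Sieve X}
    (hR : R ∈ (Scheme.zariskiTopology.over S) X) :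
    ∃ (ι : Type u) (_ : Finite ι) (U : ι → X.left.Opens), (∀ i, IsAffineOpen (U i)) ∧ (∀ x, ∃ i, x ∈ U i) ∧
      ∀ i, R.arrows (HCrit.pieceι X (U i)) := by
  rw [GrothendieckTopology.mem_over_iff] at hR
  obtain ⟨𝒰, hle⟩ := (Scheme.mem_grothendieckTopology_iff (P := @IsOpenImmersion)).1 hR
  have key : ∀ x : X.left, ∃ V : X.left.Opens, x ∈ V ∧ IsAffineOpen V ∧ R.arrows (HCrit.pieceι X V) := fun x => by
    obtain ⟨j, y, hy⟩ := 𝒰.exists_eq x
    haveI : IsOpenImmersion (𝒰.f j) := 𝒰.map_prop j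
    obtain ⟨_, ⟨V₀, hV, rfl⟩, hxV, hVle⟩ := X.left.isBasis_affineOpens.exists_subset_of_mem_open
      (show x ∈ ((𝒰.f j).opensRange : Set X.left) from ⟨y, hy⟩) (𝒰.f j).opensRange.isOpen
    let V : X.left.Opens := V₀
    refine ⟨V, hxV, hV, ?_⟩
    have h1 := (Sieve.overEquiv X R).downward_closed (hle _ _ (Presieve.ofArrows.mk j))
      (IsOpenImmersion.lift (𝒰.f j) V.ι (by rw [Scheme.Opens.range_ι]; exact hVle))
    rw [IsOpenImmersion.lift_fac] at h1
    exact (Sieve.overEquiv_iff R (f := V.ι)).1 h1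
  choose V hxV hV hVR using key
  obtain ⟨s, hs⟩ := CompactSpace.elim_nhds_subcover (fun x => (V x : Set X.left)) fun x => (V x).2.mem_nhds (hxV x)
  refine ⟨s, inferInstance, fun i => V i.1, fun i => hV i.1, fun x => ?_, fun i => hVR i.1⟩
  obtain ⟨i, hi, hx⟩ := Set.mem_iUnion₂.1 (hs.ge (Set.mem_univ x))
  exact ⟨⟨i, hi⟩, hx⟩

theorem ker_pieces {X : Over S} {ι : Type u} (U : ι → X.left.Opens) (hcov : ∀ x, ∃ i, x ∈ U i)
    (k : Γ(X.left, ⊤)) (h : ∀ i, (HCrit.pieceι X (U i)).left.appTop k = 0) : k = 0 :=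
  ((HCrit.isSheafFor_pieces (GammaSheaf.isSheaf_gam_zariski S) X U hcov).isSeparatedFor.ext
    fun Y f hf => by
      obtain ⟨i⟩ := hf
      exact (h i).trans (map_zero (HCrit.pieceι X (U i)).left.appTop.hom).symm : k = (0 : Γ(X.left, ⊤)))

theorem map_two {C : Type*} [Category C] (F : Cᵒᵖ ⥤ Type*) {W A B Z : C} (a : W ⟶ A) (c : A ⟶ Z) (b : W ⟶ B) (d : B ⟶ Z)
    (h : a ≫ c = b ≫ d) (z : F.obj (op Z)) : F.map a.op (F.map c.op z) = F.map b.op (F.map d.op z) := by
  simp only [← ConcreteCategory.comp_apply, ← F.map_comp, ← op_comp, h]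

section Sheafify

variable (hS : (p : Γ(S, ⊤)) = 0)

/-- The sheafification. -/
noncomputable abbrev Q (p : ℕ) (S : Scheme.{u}) : (Over S)ᵒᵖ ⥤ Type (u + 1) :=
  (QuotSh.J Scheme.zariskiPrecoverage S).sheafify (P p S)

/-- The unit. -/
noncomputable abbrev η (p : ℕ) (S : Scheme.{u}) : P p S ⟶ Q p S :=
  (QuotSh.J Scheme.zariskiPrecoverage S).toSheafify (P p S)

include hS

theorem injective_app {X : Over S} (hX : QCQS X) : Function.Injective ((η p S).app (op X)) := by
  intro a b hab
  haveI := hX.1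
  obtain ⟨ι, _, U, hU, hcov, hR⟩ := exists_pieces
    (Presheaf.equalizerSieve_mem (QuotSh.J Scheme.zariskiPrecoverage S) (η p S) a b hab)
  exact sep hS (fun i => HCrit.pieceι X (U i)) ⟨1, fun k hk => by rw [pow_one]; exact ker_pieces U hcov k hk⟩ a b
    fun i => hR i

theorem surjective_app {X : Over S} (hX : QCQS X) : Function.Surjective ((η p S).app (op X)) := by
  intro z
  haveI := hX.1
  haveI := hX.2
  obtain ⟨ι, _, U, hU, hcov, hR⟩ := exists_pieces
    (Presheaf.imageSieve_mem (QuotSh.J Scheme.zariskiPrecoverage S) (η p S) z)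
  choose x hx using fun i => hR i
  let T : ι × ι → Over S := fun k => HCrit.piece X (U k.1 ⊓ U k.2)
  let σ : ∀ k, T k ⟶ HCrit.piece X (U k.1) := fun k => Over.homMk (X.left.homOfLE (inf_le_left : U k.1 ⊓ U k.2 ≤ U k.1)) (by simp [T])
  let τ : ∀ k, T k ⟶ HCrit.piece X (U k.2) := fun k => Over.homMk (X.left.homOfLE (inf_le_right : U k.1 ⊓ U k.2 ≤ U k.2)) (by simp [T])
  have hστ : ∀ k, σ k ≫ HCrit.pieceι X (U k.1) = τ k ≫ HCrit.pieceι X (U k.2) := fun k => by
    ext : 1
    show X.left.homOfLE (inf_le_left : U k.1 ⊓ U k.2 ≤ U k.1) ≫ (U k.1).ι = X.left.homOfLE (inf_le_right : U k.1 ⊓ U k.2 ≤ U k.2) ≫ (U k.2).ι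
    rw [Scheme.homOfLE_ι, Scheme.homOfLE_ι]
  have hT : ∀ k, QCQS (T k) := fun k => qcqs_piece hX
    (by rw [TopologicalSpace.Opens.coe_inf]; exact QuasiSeparatedSpace.inter_isCompact _ _ (U k.1).2 (hU k.1).isCompact (U k.2).2 (hU k.2).isCompact)
  obtain ⟨a, ha⟩ := glue (fun i => HCrit.pieceι X (U i)) Prod.fst Prod.snd σ τ (fun b hb => by
      obtain ⟨a, ha, -⟩ := Presieve.isSheafFor_arrows_iff _ _ |>.1
        (HCrit.isSheafFor_pieces (GammaSheaf.isSheaf_gam_zariski S) X U hcov) b fun i j Z g h e => by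
          have hr : Set.range (g.left ≫ (U i).ι) ⊆ Set.range ((U i ⊓ U j).ι) := by
            rw [Scheme.Opens.range_ι]
            rintro _ ⟨z, rfl⟩
            refine ⟨(g.left z).2, ?_⟩
            have e' : g.left ≫ (U i).ι = h.left ≫ (U j).ι := congr($(e).left)
            rw [e']
            exact (h.left z).2
          let w : Z.left ⟶ (U i ⊓ U j : X.left.Opens) := IsOpenImmersion.lift (U i ⊓ U j).ι (g.left ≫ (U i).ι) hr
          have w₁ : w ≫ X.left.homOfLE inf_le_left = g.left := by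
            rw [← cancel_mono (U i).ι, Category.assoc, Scheme.homOfLE_ι, IsOpenImmersion.lift_fac]
          have w₂ : w ≫ X.left.homOfLE inf_le_right = h.left := by
            rw [← cancel_mono (U j).ι, Category.assoc, Scheme.homOfLE_ι, IsOpenImmersion.lift_fac]
            exact congr($(e).left)
          show g.left.appTop (b i) = h.left.appTop (b j)
          rw [← w₁, ← w₂, Scheme.Hom.comp_appTop, Scheme.Hom.comp_appTop]
          exact congrArg w.appTop (hb (i, j))
      exact ⟨a, ha⟩) x (fun k => injective_app hS (hT k) (by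
        rw [NatTrans.naturality_apply, NatTrans.naturality_apply, hx, hx]
        exact map_two (Q p S) (σ k) (HCrit.pieceι X (U k.1)) (τ k) (HCrit.pieceι X (U k.2)) (hστ k) z))
  refine ⟨a, ?_⟩
  refine ((HCrit.isSheafFor_pieces (F := Q p S) ?_ X U hcov).isSeparatedFor.ext fun Y f hf => ?_)
  · exact (isSheaf_iff_isSheaf_of_type _ _).1 ((QuotSh.J Scheme.zariskiPrecoverage S).sheafify_isSheaf _)
  obtain ⟨i⟩ := hf
  rw [← NatTrans.naturality_apply, ha]
  exact hx i

theorem bijective_app {X : Over S} (hX : QCQS X) : Function.Bijective ((η p S).app (op X)) :=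
  ⟨injective_app hS hX, surjective_app hS hX⟩

/-- Descent for the sheafification from descent of global sections. -/
theorem isSheafFor_arrows {X : Over S} (hX : QCQS X) {ι κ : Type} [Finite ι] [Finite κ] {Y : ι → Over S}
    (q : ∀ i, Y i ⟶ X) (hY : ∀ i, QCQS (Y i)) {T : κ → Over S} (hT : ∀ k, QCQS (T k))
    (s t : κ → ι) (σ : ∀ k, T k ⟶ Y (s k)) (τ : ∀ k, T k ⟶ Y (t k))
    (hστ : ∀ k, σ k ≫ q (s k) = τ k ≫ q (t k))
    (hker : ∃ N : ℕ, ∀ k : Γ(X.left, ⊤), (∀ i, (q i).left.appTop k = 0) → k ^ N = 0)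
    (hlev : ∀ b : ∀ i, Γ((Y i).left, ⊤), (∀ k, (σ k).left.appTop (b (s k)) = (τ k).left.appTop (b (t k))) →
      ∃ a : Γ(X.left, ⊤), ∀ i, (q i).left.appTop a = b i) :
    Presieve.IsSheafFor (Q p S) (Presieve.ofArrows Y q) := by
  rw [Presieve.isSheafFor_arrows_iff]
  intro z hz
  choose x hx using fun i => surjective_app hS (hY i) (z i)
  obtain ⟨a, ha⟩ := glue q s t σ τ hlev x fun k => injective_app hS (hT k) (by
    rw [NatTrans.naturality_apply, NatTrans.naturality_apply, hx, hx]
    exact hz _ _ _ _ _ (hστ k))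
  refine ⟨(η p S).app (op X) a, fun i => by rw [← NatTrans.naturality_apply, ha, hx], fun w hw => ?_⟩
  obtain ⟨b, rfl⟩ := surjective_app hS hX w
  refine congrArg _ (sep hS q hker b a fun i => injective_app hS (hY i) ?_)
  rw [NatTrans.naturality_apply, hw i, ha, hx]

theorem isSheafFor_of_rExact {X : Over S} [IsAffine X.left] {ι : Type} [Finite ι]
    (B : ι → CommRingCat.{u}) (φ : ∀ i, Γ(X.left, ⊤) ⟶ B i) (h : RingFamily.RExact B φ) :
    Presieve.IsSheafFor (Q p S)
      (Presieve.ofArrows (fun i => RingFamily.obj (φ i)) (fun i => RingFamily.hom (φ i))) := by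
  haveI : ∀ {B : CommRingCat.{u}} (ψ : Γ(X.left, ⊤) ⟶ B), IsAffine (RingFamily.obj ψ).left :=
    fun {B} ψ => inferInstanceAs (IsAffine (Spec B))
  let τ : ∀ k : ι × ι, RingFamily.obj (φ k.1 ≫ pushout.inl (φ k.1) (φ k.2)) ⟶ RingFamily.obj (φ k.2) := fun k =>
    eqToHom (by rw [pushout.condition]) ≫ RingFamily.map (φ k.2) (pushout.inr (φ k.1) (φ k.2))
  have hτ : ∀ k, (τ k).left = Spec.map (pushout.inr (φ k.1) (φ k.2)) := fun k => by
    simp only [τ, Over.comp_left, Over.eqToHom_left]
    exact Category.id_comp _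
  refine isSheafFor_arrows hS (qcqs_of_affine X) _ (fun i => qcqs_of_affine _)
    (T := fun k : ι × ι => RingFamily.obj (φ k.1 ≫ pushout.inl (φ k.1) (φ k.2))) (fun k => qcqs_of_affine _)
    Prod.fst Prod.snd (fun k => RingFamily.map (φ k.1) (pushout.inl (φ k.1) (φ k.2))) τ (fun k => ?_) ?_ ?_
  · ext : 1
    change Spec.map _ ≫ Spec.map (φ k.1) ≫ X.left.isoSpec.inv = (τ k).left ≫ Spec.map (φ k.2) ≫ X.left.isoSpec.inv
    rw [hτ, ← Spec.map_comp_assoc, ← Spec.map_comp_assoc, pushout.condition]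
  · obtain ⟨N, hN⟩ := h.ker
    refine ⟨N, fun k hk => hN k fun i => ?_⟩
    rw [← RingFamily.hom_appTop (φ i)]
    exact (congrArg (Scheme.ΓSpecIso (B i)).hom (hk i)).trans (map_zero _)
  · intro b hb
    let b' : ∀ i, B i := fun i => (Scheme.ΓSpecIso (B i)).hom (b i)
    obtain ⟨a, ha⟩ := h.exist b' fun i j L u v e => by
      have h1 : (pushout.inl (φ i) (φ j)).hom (b' i) = (pushout.inr (φ i) (φ j)).hom (b' j) := by
        have := hb (i, j)
        rw [hτ] at this
        refine (ConcreteCategory.congr_hom (Scheme.ΓSpecIso_naturality (pushout.inl (φ i) (φ j))) (b i)).symm.trans ?_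
        refine (congrArg (Scheme.ΓSpecIso _).hom this).trans ?_
        exact ConcreteCategory.congr_hom (Scheme.ΓSpecIso_naturality (pushout.inr (φ i) (φ j))) (b j)
      have h2 := congrArg (pushout.desc u v e).hom h1
      have e₁ := RingHom.congr_fun (congrArg CommRingCat.Hom.hom (pushout.inl_desc u v e)) (b' i)
      have e₂ := RingHom.congr_fun (congrArg CommRingCat.Hom.hom (pushout.inr_desc u v e)) (b' j)
      exact e₁.symm.trans (h2.trans e₂)
    refine ⟨a, fun i => (Scheme.ΓSpecIso (B i)).commRingCatIsoToRingEquiv.injective ?_⟩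
    refine Eq.trans ?_ (ha i)
    exact ConcreteCategory.congr_hom (RingFamily.hom_appTop (φ i)) a

theorem isSheaf_Jh : Presheaf.IsSheaf (HTop.Jh S) (Q p S) := by
  rw [isSheaf_iff_isSheaf_of_type]
  have hz : Presieve.IsSheaf (Scheme.zariskiTopology.over S) (Q p S) :=
    (isSheaf_iff_isSheaf_of_type _ _).1 ((QuotSh.J Scheme.zariskiPrecoverage S).sheafify_isSheaf _)
  refine AffCrit.isSheaf_Jh hz (fun V U f hU hsurj hflat hprop _ => ?_) ⟨fun A J f n hJ => ?_, fun A a b R h₀ h₁ h₂ => ?_⟩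
  · haveI := hU; haveI := hsurj; haveI := hflat; haveI := hprop
    haveI : CompactSpace V.left := QuasiCompact.compactSpace_of_compactSpace f.left
    haveI : QuasiSeparatedSpace V.left := quasiSeparatedSpace_of_quasiSeparated f.left
    let K : Over S := Over.mk (pullback.fst f.left f.left ≫ V.hom)
    let σ : K ⟶ V := Over.homMk (pullback.fst f.left f.left) rfl
    let τ : K ⟶ V := Over.homMk (pullback.snd f.left f.left) (by
      show pullback.snd f.left f.left ≫ V.hom = pullback.fst f.left f.left ≫ V.hom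
      rw [← Over.w f, ← pullback.condition_assoc])
    have hK : QCQS K := ⟨QuasiCompact.compactSpace_of_compactSpace (pullback.fst f.left f.left),
      quasiSeparatedSpace_of_quasiSeparated (pullback.fst f.left f.left)⟩
    rw [← Presieve.ofArrows_pUnit.{0} f]
    refine isSheafFor_arrows hS (qcqs_of_affine U) (fun _ => f) (fun _ => ⟨inferInstance, inferInstance⟩)
      (T := fun _ : PUnit => K) (fun _ => hK) id id (fun _ => σ) (fun _ => τ)
      (fun _ => by ext : 1; exact pullback.condition) ⟨1, fun k hk => ?_⟩ (fun b hb => ?_)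
    · rw [pow_one]
      exact ((GammaSheaf.isSheafFor_gam_flat S f).isSeparatedFor.ext fun Y g hg => by
        obtain ⟨⟩ := hg
        exact (hk PUnit.unit).trans (map_zero f.left.appTop.hom).symm : k = (0 : Γ(U.left, ⊤)))
    · obtain ⟨a, ha, -⟩ := Presieve.isSheafFor_singleton.1 (GammaSheaf.isSheafFor_gam_flat S f) (b PUnit.unit)
        fun {Z} g h e => by
          have w₁ : pullback.lift g.left h.left congr($(e).left) ≫ pullback.fst f.left f.left = g.left := pullback.lift_fst _ _ _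
          have w₂ : pullback.lift g.left h.left congr($(e).left) ≫ pullback.snd f.left f.left = h.left := pullback.lift_snd _ _ _
          show g.left.appTop (b PUnit.unit) = h.left.appTop (b PUnit.unit)
          refine (congrArg (fun m => m.appTop (b PUnit.unit)) w₁).symm.trans
            (Eq.trans ?_ (congrArg (fun m => m.appTop (b PUnit.unit)) w₂))
          simp only [Scheme.Hom.comp_appTop]
          exact congrArg (pullback.lift g.left h.left congr($(e).left)).appTop (hb PUnit.unit)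
      exact ⟨a, fun _ => ha⟩
  · let I : Bool → Ideal A := fun t => cond t (Ideal.span {f}) J
    refine RingFamily.mem_J hz (fun t => CommRingCat.of (A ⧸ I t)) (fun t => CommRingCat.ofHom (Ideal.Quotient.mk (I t)))
      (fun A' g t => CommRingCat.of (A' ⧸ (I t).map g.hom))
      (fun A' g t => CommRingCat.ofHom (Ideal.Quotient.mk _)) _ (fun A' g t => RingExact.isPushout_quotient g (I t))
      (fun X _ g => isSheafFor_of_rExact hS _ _ (RingExact.rExact_pair (J.map g.hom) (g.hom f) n (fun x hx => ?_)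
        (fun t => (I t).map g.hom) rfl (by rw [← Set.image_singleton, ← Ideal.map_span]; rfl))) _
      (fun t => Sieve.le_generate _ _ _ (Presieve.ofArrows.mk t))
    induction hx using Submodule.span_induction with
    | mem y hy =>
      obtain ⟨j, hj, rfl⟩ := hy
      rw [← map_pow, ← map_mul, hJ j hj, map_zero]
    | zero => exact zero_mul _
    | add y z _ _ hy hz => rw [add_mul, hy, hz, add_zero]
    | smul c y _ hy => rw [smul_eq_mul, mul_assoc, hy, mul_zero]
  · refine RingFamily.mem_J hz (RingExact.tripleObj a b) (RingExact.tripleHom a b)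
      (fun A' g => RingExact.tripleObj (g.hom a) (g.hom b)) (fun A' g => RingExact.tripleHom (g.hom a) (g.hom b))
      (fun A' g => Fin.cases (CommRingCat.ofHom (Ideal.Quotient.lift (Ideal.span {a, b})
          ((Ideal.Quotient.mk (Ideal.span {g.hom a, g.hom b})).comp g.hom) (FrobLim.center_le g.hom a b)))
        (Fin.cases (CommRingCat.ofHom (RingExact.chartCongr g.hom a b))
          (Fin.cases (CommRingCat.ofHom (RingExact.chartCongr g.hom b a)) (fun i => i.elim0))))
      (fun A' g i => FrobLim.isPushout_triple g a b i)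
      (fun X _ g => isSheafFor_of_rExact hS _ _ (RingExact.rExact_triple _ _)) R (fun i => ?_)
    fin_cases i
    · exact h₀
    · exact h₁
    · exact h₂

end Sheafify

end Groth.Agent.HTop16.FrobColim
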