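import Groth.Agent.HTop16.Local
import Mathlib.RingTheory.Localization.Away.Basic
import Mathlib.RingTheory.Localization.Basic

/-!
Functoriality of the absolute weak normalization and compatibility with localisation.
-/

set_option autoImplicit false
set_option linter.unusedSectionVars false

namespace Groth.Agent.HTop16

universe u

open UnivHomeo

variable {A A' A'' : Type u} [CommRing A] [CommRing A'] [CommRing A'']

/-- maps into a reduced ring out of a radicial extension are determined below -/
lemma ext_of_uh {B W : Type u} [CommRing B] [CommRing W] [IsReduced W] {ψ : A →+* B} (hψ : Rad ψ)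
    {g₁ g₂ : B →+* W} (h : g₁.comp ψ = g₂.comp ψ) : g₁ = g₂ := by
  refine RingHom.ext fun b => eq_of_fields fun K _ g => ?_
  exact RingHom.congr_fun (hψ K (g.comp g₁) (g.comp g₂) (by
    rw [RingHom.comp_assoc, RingHom.comp_assoc, h])) b

instance : IsReduced (awn A) := isReduced_of_injective (awn A).subtype Subtype.val_injective

lemma exists_awnMap (f : A →+* A') :
    ∃ χ : awn A →+* awn A', χ.comp (toAwn A) = (toAwn A').comp f := by
  choose G hG using fun p => (uh_toAwn A).exists_lift ((toFactor A' p).comp f)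
  let Γ : awn A →+* Big A' := RingHom.pi G
  have hΓ : Γ.comp (toAwn A) = (toBig A').comp f :=
    RingHom.ext fun a => funext fun p => RingHom.congr_fun (hG p) a
  have hmem : (awn A').comap Γ = ⊤ := by
    refine closed_comap_aux A ?_ (fun x h2 h3 => ?_) (fun p hp x h2 h3 => ?_)
    · rintro _ ⟨a, rfl⟩
      show Γ (toAwn A a) ∈ awn A'
      rw [← RingHom.comp_apply, hΓ]
      exact (toAwn A' (f a)).2
    · show Γ x ∈ awn A'
      rw [Subring.mem_comap, map_pow] at h2 h3
      exact (awn_closed A').1 _ h2 h3
    · show Γ x ∈ awn A'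
      rw [Subring.mem_comap, map_pow] at h3
      rw [Subring.mem_comap, map_mul, map_natCast] at h2
      exact (awn_closed A').2 p hp _ h2 h3
  exact ⟨Γ.codRestrict (awn A') fun c => (hmem ▸ Subring.mem_top c : c ∈ (awn A').comap Γ),
    RingHom.ext fun a => Subtype.ext (RingHom.congr_fun hΓ a)⟩

/-- functoriality -/
noncomputable def awnMap (f : A →+* A') : awn A →+* awn A' := (exists_awnMap f).choose

lemma awnMap_comp_toAwn (f : A →+* A') : (awnMap f).comp (toAwn A) = (toAwn A').comp f :=
  (exists_awnMap f).choose_spec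

lemma awnMap_apply (f : A →+* A') (a : A) : awnMap f (toAwn A a) = toAwn A' (f a) :=
  RingHom.congr_fun (awnMap_comp_toAwn f) a

lemma awnMap_id : awnMap (RingHom.id A) = RingHom.id (awn A) :=
  ext_of_uh (uh_toAwn A).2.1 (by rw [awnMap_comp_toAwn]; rfl)

lemma awnMap_comp (f : A →+* A') (g : A' →+* A'') :
    awnMap (g.comp f) = (awnMap g).comp (awnMap f) :=
  ext_of_uh (uh_toAwn A).2.1 (by
    rw [awnMap_comp_toAwn, RingHom.comp_assoc, awnMap_comp_toAwn, ← RingHom.comp_assoc,
      ← RingHom.comp_assoc, awnMap_comp_toAwn])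

section away

variable [Algebra A A'] (r : A) [IsLocalization.Away r A']

lemma isUnit_toAwn :
    IsUnit (awnMap (algebraMap A A') (toAwn A r)) := by
  rw [awnMap_apply]
  exact (IsLocalization.Away.algebraMap_isUnit r).map (toAwn A')

/-- the absolute weak normalization commutes with localisation -/
theorem isLocalization_awn :
    letI := (awnMap (algebraMap A A')).toAlgebra
    IsLocalization.Away (toAwn A r) (awn A') := by
  letI := (awnMap (algebraMap A A')).toAlgebra
  let L := Localization.Away (toAwn A r)
  let l := algebraMap (awn A) L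
  have hur : IsUnit (l (toAwn A r)) := IsLocalization.Away.algebraMap_isUnit _
  let ψ : A' →+* L := IsLocalization.Away.lift (g := l.comp (toAwn A)) r hur
  have hψ : ψ.comp (algebraMap A A') = l.comp (toAwn A) := IsLocalization.Away.lift_comp r hur
  have hL : HTop.IsAWNRing L := awn_localization (Submonoid.powers (toAwn A r)) (isAWN_awn A)
  have uhψ : UH ψ := by
    refine ⟨fun x => ?_, fun K _ g₁ g₂ hg => ?_, ?_⟩
    · obtain ⟨⟨b, _, n, rfl⟩, hx⟩ := IsLocalization.surj (Submonoid.powers (toAwn A r)) x
      have e : x = l b * ψ (IsLocalization.mk' A' 1 (⟨r ^ n, n, rfl⟩ : Submonoid.powers r)) := by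
        have h1 : l (toAwn A r ^ n) * ψ (IsLocalization.mk' A' 1 (⟨r ^ n, n, rfl⟩ : Submonoid.powers r))
            = 1 := by
          rw [show l (toAwn A r ^ n) = ψ (algebraMap A A' (r ^ n)) by
            rw [← RingHom.comp_apply ψ, hψ, RingHom.comp_apply, map_pow (toAwn A)]]
          rw [← map_mul, IsLocalization.mk'_spec'_mk, map_one, map_one]
        rw [← hx, mul_assoc, h1, mul_one]
      rw [e]
      refine RingHom.IsIntegralElem.mul ψ ?_ (RingHom.isIntegralElem_map _)
      obtain ⟨F, hF, hFb⟩ := (uh_toAwn A).1 b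
      refine ⟨F.map (algebraMap A A'), hF.map _, ?_⟩
      rw [Polynomial.eval₂_map, hψ, ← Polynomial.hom_eval₂, hFb, map_zero]
    · have hc : (g₁.comp l).comp (toAwn A) = (g₂.comp l).comp (toAwn A) := by
        rw [RingHom.comp_assoc, RingHom.comp_assoc, ← hψ, ← RingHom.comp_assoc, hg,
          RingHom.comp_assoc]
      exact IsLocalization.ringHom_ext (Submonoid.powers (toAwn A r)) ((uh_toAwn A).2.1 K _ _ hc)
    · refine ker_le_nilradical_of_lifts fun K _ _ g => ?_
      obtain ⟨G, hG⟩ := (uh_toAwn A).exists_lift (g.comp (algebraMap A A'))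
      have hG' : IsUnit (G (toAwn A r)) := by
        rw [← RingHom.comp_apply G, hG]
        exact (IsLocalization.Away.algebraMap_isUnit r).map g
      refine ⟨IsLocalization.Away.lift (toAwn A r) hG', IsLocalization.ringHom_ext (Submonoid.powers r) ?_⟩
      rw [RingHom.comp_assoc, hψ, ← RingHom.comp_assoc, IsLocalization.Away.lift_comp, hG]
  obtain ⟨χ, hχ, -⟩ := existsUnique_lift A' uhψ
  have hbij : Function.Bijective χ :=
    bijective_of_awn hL (UH.of_comp uhψ (hχ.symm ▸ uh_toAwn A'))
  have hcomm : χ.comp l = awnMap (algebraMap A A') := ext_of_uh (uh_toAwn A).2.1 (by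
    rw [awnMap_comp_toAwn, RingHom.comp_assoc, ← hψ, ← RingHom.comp_assoc, hχ])
  let e : L ≃ₐ[awn A] awn A' :=
    AlgEquiv.ofRingEquiv (f := RingEquiv.ofBijective χ hbij) fun x => RingHom.congr_fun hcomm x
  exact IsLocalization.isLocalization_of_algEquiv (Submonoid.powers (toAwn A r)) e

end away

end Groth.Agent.HTop16
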