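import Groth.Agent.HTop16.HomColim
import Groth.Agent.ToposFinLib.Filt
import Groth.Agent.ToposFinLib.Local
import Groth.Agent.CohColim.Forget
import Groth.Prelude.Def_CohCx
import Mathlib.CategoryTheory.Limits.Shapes.Pullback.HasPullback
import Mathlib.CategoryTheory.Limits.Constructions.BinaryProducts
import Mathlib.CategoryTheory.Limits.Types.Products

/-!
# Global morphisms out of a finitely presented module and filtered colimits
-/

set_option autoImplicit false
set_option backward.isDefEq.respectTransparency false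
set_option backward.isDefEq.respectTransparency.types false
set_option linter.all false

universe u

open CategoryTheory CategoryTheory.Limits Opposite

namespace Groth.Agent.HTop16.GlobalColim

open ToposFinLib

variable {C : Type u} [SmallCategory C] {J : GrothendieckTopology C}

lemma isQC_of_isQcObject {K : ToposFin.Sh J} (h : CohCx.IsQcObject K) : ToposFin.IsQC K := isQC_iff.2 fun I L f hf => by
  have hjs : ∀ {I : Type u} {L : I → Sheaf J (Type u)} (f : ∀ i, L i ⟶ K),
      CohCx.JointlySurjective f ↔ EFam f := fun {I L} f => by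
    rw [efam_iff_famSieve]
    constructor
    · intro h U x
      obtain ⟨T, hT, hT'⟩ := h U.unop x
      exact J.superset_covering (fun V g hg => hT' V g hg) hT
    · intro h U x
      exact ⟨_, h (op U) x, fun V g hg => hg⟩
  obtain ⟨t, ht⟩ := h I L f ((hjs f).2 hf)
  exact ⟨t, (hjs _).1 ht⟩

/-- Global sections commute with filtered colimits of sheaves of sets. -/
theorem preservesColimit_global (S : Set (ToposFin.Sh J))
    (hSa : ∀ F : ToposFin.Sh J, Epi (terminal.from F) → ∃ K ∈ S, Epi (terminal.from K) ∧ Nonempty (K ⟶ F))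
    (hSb : ∀ K ∈ S, ToposFin.IsQC (K ⨯ K))
    {Λ : Type u} [SmallCategory Λ] [IsFiltered Λ] (G : Λ ⥤ ToposFin.Sh J) :
    PreservesColimit G (coyoneda.obj (op (⊤_ (ToposFin.Sh J)))) := by
  classical
  have qcK : ∀ K ∈ S, ToposFin.IsQC K := fun K hK => by
    haveI : IsSplitEpi (prod.fst : K ⨯ K ⟶ K) := IsSplitEpi.mk' ⟨prod.lift (𝟙 _) (𝟙 _), prod.lift_fst _ _⟩
    exact isQC_of_epi prod.fst (hSb K hK)
  have hT : ToposFin.IsQC (⊤_ (ToposFin.Sh J)) := by
    obtain ⟨K, hK, hp, -⟩ := hSa (⊤_ _) (by
      rw [show terminal.from (⊤_ (ToposFin.Sh J)) = 𝟙 _ from Subsingleton.elim _ _]; infer_instance)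
    exact @isQC_of_epi _ _ _ _ _ (terminal.from K) hp (qcK K hK)
  haveI : IsIso (colimit.post G (coyoneda.obj (op (⊤_ (ToposFin.Sh J))))) := by
    rw [isIso_iff_bijective]
    refine ⟨post_injective hT, fun s => ?_⟩
    change ⊤_ (ToposFin.Sh J) ⟶ colimit G at s
    have hι : EFam (colimit.ι G) := fun Z a b h => colimit.hom_ext h
    obtain ⟨n, e, he⟩ := exists_fin_subfamily hT (hι.pullback_fst s)
    obtain ⟨k, hk⟩ := IsFiltered.sup_objs_exists (Finset.univ.image e)
    let m : ∀ q, e q ⟶ k := fun q => (hk (Finset.mem_image_of_mem e (Finset.mem_univ q))).some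
    haveI hep : Epi (terminal.from (pullback s (colimit.ι G k))) := by
      refine ⟨fun {Z} a b h => he Z a b fun q => ?_⟩
      let l : pullback s (colimit.ι G (e q)) ⟶ pullback s (colimit.ι G k) :=
        pullback.lift (pullback.fst _ _) (pullback.snd _ _ ≫ G.map (m q)) (by
          rw [Category.assoc, colimit.w]; exact pullback.condition)
      have hl : l ≫ terminal.from _ = pullback.fst s (colimit.ι G (e q)) := Subsingleton.elim _ _
      show pullback.fst s (colimit.ι G (e q)) ≫ a = pullback.fst s (colimit.ι G (e q)) ≫ b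
      rw [← hl, Category.assoc, Category.assoc, h]
    obtain ⟨K, hK, hpK, ⟨c⟩⟩ := hSa _ hep
    let a : K ⟶ G.obj k := c ≫ pullback.snd _ _
    have ha : a ≫ colimit.ι G k = terminal.from K ≫ s := by
      rw [show terminal.from K = c ≫ pullback.fst s (colimit.ι G k) from Subsingleton.elim _ _,
        Category.assoc, Category.assoc, pullback.condition]
    obtain ⟨k', g, hg⟩ := exists_eq_stage (hSb K hK) (prod.fst ≫ a) (prod.snd ≫ a) (by
      simp only [Category.assoc]
      erw [ha]
      rw [← Category.assoc, ← Category.assoc]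
      exact congrArg (· ≫ s) (Subsingleton.elim _ _))
    obtain ⟨t, ht⟩ := exists_desc (π := fun _ : PUnit.{u + 1} => terminal.from K) (EFam.of_epi (terminal.from K))
      (fun _ => a ≫ G.map g) (fun _ _ => by
        have h₁ : prod.lift (pullback.fst (terminal.from K) (terminal.from K)) (pullback.snd _ _) ≫ (prod.fst : K ⨯ K ⟶ K) ≫ a ≫ G.map g =
            prod.lift (pullback.fst (terminal.from K) (terminal.from K)) (pullback.snd _ _) ≫ (prod.snd : K ⨯ K ⟶ K) ≫ a ≫ G.map g := by
          rw [← Category.assoc prod.fst, hg, Category.assoc]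
        rw [prod.lift_fst_assoc, prod.lift_snd_assoc] at h₁
        exact h₁)
    refine ⟨colimit.ι (G ⋙ coyoneda.obj (op (⊤_ (ToposFin.Sh J)))) k' t, ?_⟩
    rw [post_ι]
    haveI := hpK
    rw [← cancel_epi (terminal.from K), ← Category.assoc, ht PUnit.unit, Category.assoc, colimit.w, ha]
  exact preservesColimit_of_isIso_post (coyoneda.obj (op (⊤_ (ToposFin.Sh J)))) G

variable (O : Sheaf J CommRingCat.{u})

/-- The underlying sheaf of sets. -/
noncomputable abbrev toSh : ModSite.Mod O ⥤ ToposFin.Sh J :=
  SheafOfModules.toSheaf.{u} (ModSite.ringSh O) ⋙ sheafCompose J (forget AddCommGrpCat.{u})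

/-- The terminal sheaf has one section everywhere. -/
noncomputable def uniqueTop (U : Cᵒᵖ) : Unique ((⊤_ (ToposFin.Sh J)).obj.obj U) :=
  Types.isTerminalEquivUnique _ (terminalIsTerminal.isTerminalObj (sheafToPresheaf J (Type u) ⋙ (evaluation _ _).obj U) _)

/-- Global sections as maps out of the terminal sheaf. -/
noncomputable def sectionsEquivTop (M : ModSite.Mod O) : M.sections ≃ (⊤_ (ToposFin.Sh J) ⟶ (toSh O).obj M) where
  toFun s := ⟨{ app := fun U => TypeCat.ofHom fun _ => s.1 U, naturality := fun U V g => by ext; exact (s.2 g).symm }⟩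
  invFun t := PresheafOfModules.sectionsMk (fun U => t.hom.app U (uniqueTop U).default) fun U V g => by
    refine (NatTrans.naturality_apply t.hom g (uniqueTop U).default).symm.trans ?_
    exact congrArg (t.hom.app V) ((uniqueTop V).uniq _)
  left_inv s := Subtype.ext (funext fun U => rfl)
  right_inv t := by
    ext U x
    exact congrArg (t.hom.app U) ((uniqueTop U).uniq x).symm

/-- Morphisms out of `F` are global sections of the internal hom. -/
noncomputable def homEquivTop (F : ModSite.Mod O) [ModSite.HasSheafHom F] (N : ModSite.Mod O) :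
    (F ⟶ N) ≃ (⊤_ (ToposFin.Sh J) ⟶ (toSh O).obj ((ModSite.sheafHom F).obj N)) :=
  ((((SiteTen.tenUnitNatIso O).app F).symm.homCongr (Iso.refl N)).trans
    ((ModSite.sheafHomAdj F).homEquiv (ModSite.unit O) N)).trans
      ((SheafOfModules.unitHomEquiv _).trans (sectionsEquivTop O _))

/-- `Hom (F, -)` through the internal hom. -/
noncomputable def coyonedaIso (F : ModSite.Mod O) [ModSite.HasSheafHom F] :
    coyoneda.obj (op F) ≅ (ModSite.sheafHom F ⋙ toSh O) ⋙ coyoneda.obj (op (⊤_ (ToposFin.Sh J))) :=
  NatIso.ofComponents (fun N => (homEquivTop O F N).toIso) fun {N N'} f => by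
    ext φ
    change homEquivTop O F N' (φ ≫ f) = homEquivTop O F N φ ≫ (toSh O).map ((ModSite.sheafHom F).map f)
    let e := ((SiteTen.tenUnitNatIso O).app F).symm
    have h₁ : e.homCongr (Iso.refl N') (φ ≫ f) = e.homCongr (Iso.refl N) φ ≫ f := by simp [Iso.homCongr]
    refine (congrArg (fun t => sectionsEquivTop O _ (SheafOfModules.unitHomEquiv _ ((ModSite.sheafHomAdj F).homEquiv _ N' t))) h₁).trans ?_
    refine (congrArg (fun t => sectionsEquivTop O _ (SheafOfModules.unitHomEquiv _ t))
      ((ModSite.sheafHomAdj F).homEquiv_naturality_right _ f)).trans ?_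
    rfl

/-- `Hom (F, -)` commutes with filtered colimits. -/
theorem preservesColimit_hom (F : ModSite.Mod O) (hF : SheafOfModules.IsFinitePresentation (R := ModSite.ringSh O) F)
    (S : Set (ToposFin.Sh J))
    (hSa : ∀ F : ToposFin.Sh J, Epi (terminal.from F) → ∃ K ∈ S, Epi (terminal.from K) ∧ Nonempty (K ⟶ F))
    (hSb : ∀ K ∈ S, ToposFin.IsQC (K ⨯ K))
    {Λ : Type u} [SmallCategory Λ] [IsFiltered Λ] (D : Λ ⥤ ModSite.Mod O) :
    PreservesColimit D (coyoneda.obj (op F)) := by
  haveI : ModSite.HasSheafHom F := S6165.result O F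
  haveI := HomColim.preservesColimit_sheafHom D F hF
  haveI := DerCompLib.preservesColimitsOfShape_toSheaf (O := O) Λ
  haveI := preservesColimit_global S hSa hSb (D ⋙ (ModSite.sheafHom F ⋙ toSh O))
  exact preservesColimit_of_natIso D (coyonedaIso O F).symm

end Groth.Agent.HTop16.GlobalColim
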