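import Mathlib.Algebra.Homology.HomotopyCategory
import Mathlib.CategoryTheory.Abelian.Basic
import Mathlib.CategoryTheory.Limits.Preserves.Shapes.Products
import Mathlib.CategoryTheory.Limits.Preserves.Shapes.Kernels
import Mathlib.Tactic.Abel
import Mathlib.Tactic.Ring

/-!
# The total complex of the resolution of a complex attached to a coaugmented functor

For an abelian category `A`, a functor `G : A ⥤ A` and `η : 𝟭 A ⟶ G`, iterating
`Q ↦ coker (Q ⟶ G Q)` gives a double complex `G Q_p^q`; `tot` is its total complex and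
`aug : K ⟶ tot` the augmentation. An exact functor `S` with a natural retraction of `η` turns the
augmentation into a homotopy equivalence.
-/

noncomputable section

universe v v' u u'

open CategoryTheory CategoryTheory.Limits

namespace Groth.Agent.HTop16.GodementTot

variable {A : Type u} [Category.{v} A] [Abelian A]
  (G : A ⥤ A) [G.PreservesZeroMorphisms] (η : 𝟭 A ⟶ G)

/-- The component of `η` at an object. -/
def eta (M : A) : M ⟶ G.obj M := η.app M

lemma eta_natural {M N : A} (f : M ⟶ N) : eta G η M ≫ G.map f = f ≫ eta G η N :=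
  (η.naturality f).symm

/-- The termwise cokernel of `K ⟶ G K`. -/
def nextQ (K : CochainComplex A ℤ) : CochainComplex A ℤ where
  X n := cokernel (eta G η (K.X n))
  d n m := cokernel.map (eta G η (K.X n)) (eta G η (K.X m)) (K.d n m) (G.map (K.d n m))
    (eta_natural G η (K.d n m))
  shape n m h := by
    ext
    simp [K.shape n m h]
  d_comp_d' n m l _ _ := by
    ext
    simp [← G.map_comp_assoc]

variable (K : CochainComplex A ℤ)

/-- The iterated cokernels. -/
def Q : ℕ → CochainComplex A ℤ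
  | 0 => K
  | p + 1 => nextQ G η (Q p)

/-- The terms of the double complex. -/
abbrev Y (p : ℕ) (q : ℤ) : A := G.obj ((Q G η K p).X q)

/-- The projection onto the next cokernel. -/
def π (p : ℕ) (q : ℤ) : Y G η K p q ⟶ (Q G η K (p + 1)).X q :=
  cokernel.π (eta G η ((Q G η K p).X q))

lemma eta_π (p : ℕ) (q : ℤ) : eta G η ((Q G η K p).X q) ≫ π G η K p q = 0 :=
  cokernel.condition _

lemma π_d (p : ℕ) (q q' : ℤ) :
    π G η K p q ≫ (Q G η K (p + 1)).d q q' = G.map ((Q G η K p).d q q') ≫ π G η K p q' :=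
  cokernel.π_desc _ _ _

/-- The horizontal differential. -/
def δ (p : ℕ) (q : ℤ) : Y G η K p q ⟶ Y G η K (p + 1) q :=
  π G η K p q ≫ eta G η _

lemma δ_comp_δ (p : ℕ) (q : ℤ) : δ G η K p q ≫ δ G η K (p + 1) q = 0 := by
  simp [δ, reassoc_of% (eta_π G η K (p + 1) q)]

lemma δ_comm (p : ℕ) (q q' : ℤ) :
    δ G η K p q ≫ G.map ((Q G η K (p + 1)).d q q') =
      G.map ((Q G η K p).d q q') ≫ δ G η K p q' := by
  rw [δ, δ, Category.assoc, eta_natural, ← Category.assoc, π_d, Category.assoc]

/-- The indices in total degree `n`. -/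
abbrev Idx (n : ℤ) : Type := {i : ℕ × ℤ // (i.1 : ℤ) + i.2 = n}

variable [∀ n : ℤ, HasColimitsOfShape (Discrete (Idx n)) A]

/-- The terms of the total complex. -/
abbrev totX (n : ℤ) : A := ∐ fun i : Idx n => Y G η K i.1.1 i.1.2

/-- The inclusion of a term. -/
def ι (p : ℕ) (q n : ℤ) (h : (p : ℤ) + q = n) : Y G η K p q ⟶ totX G η K n :=
  Sigma.ι (fun i : Idx n => Y G η K i.1.1 i.1.2) ⟨(p, q), h⟩

/-- The differential of the total complex. -/
def totd (n : ℤ) : totX G η K n ⟶ totX G η K (n + 1) :=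
  Sigma.desc fun i =>
    ((-1 : ℤ) ^ i.1.1) • (G.map ((Q G η K i.1.1).d i.1.2 (i.1.2 + 1)) ≫
        ι G η K i.1.1 (i.1.2 + 1) (n + 1) (by have := i.2; omega)) +
      δ G η K i.1.1 i.1.2 ≫ ι G η K (i.1.1 + 1) i.1.2 (n + 1) (by have := i.2; omega)

lemma ι_totd (p : ℕ) (q n : ℤ) (h : (p : ℤ) + q = n) :
    ι G η K p q n h ≫ totd G η K n =
      ((-1 : ℤ) ^ p) • (G.map ((Q G η K p).d q (q + 1)) ≫
        ι G η K p (q + 1) (n + 1) (by omega)) +
      δ G η K p q ≫ ι G η K (p + 1) q (n + 1) (by omega) :=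
  Sigma.ι_desc _ _

lemma totd_comp_totd (n : ℤ) : totd G η K n ≫ totd G η K (n + 1) = 0 := by
  refine Sigma.hom_ext _ _ fun i => ?_
  obtain ⟨⟨p, q⟩, h⟩ := i
  rw [comp_zero, ← Category.assoc, show Sigma.ι (fun i : Idx n => Y G η K i.1.1 i.1.2) ⟨(p, q), h⟩ =
    ι G η K p q n h from rfl, ι_totd]
  simp only [Preadditive.add_comp, Linear.smul_comp, Category.assoc, ι_totd, Preadditive.comp_add,
    Linear.comp_smul, smul_add, smul_smul]
  rw [← Category.assoc (δ G η K p q) (δ G η K (p + 1) q), δ_comp_δ, zero_comp,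
    ← Category.assoc (δ G η K p q) (G.map _), δ_comm, ← Category.assoc (G.map _) (G.map _),
    ← G.map_comp, HomologicalComplex.d_comp_d, G.map_zero, zero_comp, smul_zero,
    Category.assoc]
  simp [pow_succ]

/-- The total complex. -/
def tot : CochainComplex A ℤ :=
  CochainComplex.of (totX G η K) (totd G η K) (totd_comp_totd G η K)

lemma tot_d (n : ℤ) : (tot G η K).d n (n + 1) = totd G η K n :=
  CochainComplex.of_d _ _ n

/-- The augmentation in degree `n`. -/
def augf (n : ℤ) : K.X n ⟶ totX G η K n :=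
  eta G η (K.X n) ≫ ι G η K 0 n n (by simp)

lemma augf_totd (n : ℤ) :
    augf G η K n ≫ totd G η K n = K.d n (n + 1) ≫ augf G η K (n + 1) := by
  show (eta G η ((Q G η K 0).X n) ≫ ι G η K 0 n n _) ≫ totd G η K n = _
  rw [Category.assoc, ι_totd, pow_zero, one_smul, Preadditive.comp_add, δ, Category.assoc,
    reassoc_of% (eta_π G η K 0 n), zero_comp, add_zero, ← Category.assoc, eta_natural,
    Category.assoc]
  rfl

/-- The augmentation. -/
def aug : K ⟶ tot G η K where
  f n := augf G η K n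
  comm' n m hnm := by
    simp only [ComplexShape.up_Rel] at hnm
    subst hnm
    rw [tot_d]
    exact augf_totd G η K n

lemma isZero_Q {a : ℤ} (hK : ∀ n, n < a → IsZero (K.X n)) :
    ∀ (p : ℕ) (q : ℤ), q < a → IsZero ((Q G η K p).X q)
  | 0, q, hq => hK q hq
  | p + 1, q, hq =>
    haveI : Epi (π G η K p q) :=
      inferInstanceAs (Epi (cokernel.π (eta G η ((Q G η K p).X q))))
    IsZero.of_epi (π G η K p q) (G.map_isZero (isZero_Q hK p q hq))

lemma isZero_Y {a : ℤ} (hK : ∀ n, n < a → IsZero (K.X n)) (p : ℕ) (q : ℤ) (hq : q < a) :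
    IsZero (Y G η K p q) :=
  G.map_isZero (isZero_Q G η K hK p q hq)

lemma isZero_totX {a : ℤ} (hK : ∀ n, n < a → IsZero (K.X n)) (n : ℤ) (hn : n < a) :
    IsZero (totX G η K n) :=
  (IsZero.iff_id_eq_zero _).2 (Sigma.hom_ext _ _ fun i =>
    (isZero_Y G η K hK i.1.1 i.1.2 (by have := i.2; omega)).eq_of_src _ _)

/-- The projection onto a term. -/
def proj (n : ℤ) (i : Idx n) : totX G η K n ⟶ Y G η K i.1.1 i.1.2 :=
  Sigma.desc fun j => if h : j = i then eqToHom (by rw [h]) else 0

lemma sum_proj_ι {a : ℤ} (hK : ∀ n, n < a → IsZero (K.X n)) (n : ℤ) :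
    ∃ s : Finset (Idx n),
      𝟙 (totX G η K n) = ∑ i ∈ s, proj G η K n i ≫ ι G η K i.1.1 i.1.2 n i.2 := by
  classical
  refine ⟨(Finset.range (n - a + 1).toNat).image fun p => ⟨(p, n - p), by omega⟩,
    Sigma.hom_ext _ _ fun j => ?_⟩
  rw [Category.comp_id, Preadditive.comp_sum]
  by_cases hj : j.1.2 < a
  · exact (isZero_Y G η K hK _ _ hj).eq_of_src _ _
  · have hmem : j ∈ (Finset.range (n - a + 1).toNat).image
        (fun p => (⟨(p, n - p), by omega⟩ : Idx n)) := by
      obtain ⟨⟨p, q⟩, h⟩ := j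
      simp only at hj h
      exact Finset.mem_image.2 ⟨p, Finset.mem_range.2 (by omega),
        Subtype.ext (Prod.ext rfl (by show n - (p : ℤ) = q; omega))⟩
    rw [Finset.sum_eq_single j]
    · simp [proj, ι]
    · intro i _ hi
      simp [proj, Ne.symm hi]
    · exact fun h => absurd hmem h

section Contract

variable {B : Type u'} [Category.{v'} B] [Abelian B] (S : A ⥤ B) [S.Additive]
  [PreservesFiniteColimits S] [∀ n : ℤ, PreservesColimitsOfShape (Discrete (Idx n)) S]
  (r : ∀ M : A, S.obj (G.obj M) ⟶ S.obj M)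
  (hr : ∀ M : A, S.map (eta G η M) ≫ r M = 𝟙 (S.obj M))

include hr in
lemma exists_σ (M : A) : ∃ s : S.obj (cokernel (eta G η M)) ⟶ S.obj (G.obj M),
    S.map (cokernel.π (eta G η M)) ≫ s = 𝟙 (S.obj (G.obj M)) - r M ≫ S.map (eta G η M) := by
  obtain ⟨s, hs⟩ := CokernelCofork.IsColimit.desc'
    (isColimitOfHasCokernelOfPreservesColimit S (eta G η M))
    (𝟙 (S.obj (G.obj M)) - r M ≫ S.map (eta G η M))
    (by rw [Preadditive.comp_sub, Category.comp_id, reassoc_of% (hr M)]; exact sub_self _)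
  exact ⟨s, hs⟩

/-- The natural splitting at `S`. -/
def σ (M : A) : S.obj (cokernel (eta G η M)) ⟶ S.obj (G.obj M) :=
  (exists_σ G η S r hr M).choose

lemma map_π_σ (M : A) : S.map (cokernel.π (eta G η M)) ≫ σ G η S r hr M =
    𝟙 (S.obj (G.obj M)) - r M ≫ S.map (eta G η M) :=
  (exists_σ G η S r hr M).choose_spec

lemma σ_map_π (M : A) : σ G η S r hr M ≫ S.map (cokernel.π (eta G η M)) = 𝟙 _ := by
  rw [← cancel_epi (S.map (cokernel.π (eta G η M))), reassoc_of% (map_π_σ G η S r hr M)]
  simp [← S.map_comp]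

variable (hn : ∀ {M N : A} (f : M ⟶ N), S.map (G.map f) ≫ r N = r M ≫ S.map f)

include hn in
lemma σ_natural {M N : A} (f : M ⟶ N) :
    S.map (cokernel.map (eta G η M) (eta G η N) f (G.map f) (eta_natural G η f)) ≫
      σ G η S r hr N = σ G η S r hr M ≫ S.map (G.map f) := by
  rw [← cancel_epi (S.map (cokernel.π (eta G η M))), ← S.map_comp_assoc, cokernel.π_desc,
    S.map_comp_assoc, map_π_σ, reassoc_of% (map_π_σ G η S r hr M), Preadditive.comp_sub,
    Category.comp_id, Preadditive.sub_comp, Category.id_comp, reassoc_of% (hn f), Category.assoc,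
    ← S.map_comp (eta G η M), eta_natural, S.map_comp]

/-- The splitting at a term of the double complex. -/
def σc (p : ℕ) (q : ℤ) : S.obj ((Q G η K (p + 1)).X q) ⟶ S.obj (Y G η K p q) :=
  σ G η S r hr ((Q G η K p).X q)

lemma π_σc (p : ℕ) (q : ℤ) : S.map (π G η K p q) ≫ σc G η K S r hr p q =
    𝟙 _ - r _ ≫ S.map (eta G η ((Q G η K p).X q)) :=
  map_π_σ G η S r hr _

lemma σc_π (p : ℕ) (q : ℤ) : σc G η K S r hr p q ≫ S.map (π G η K p q) = 𝟙 _ :=
  σ_map_π G η S r hr _

include hn in
lemma σc_natural (p : ℕ) (q q' : ℤ) :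
    S.map ((Q G η K (p + 1)).d q q') ≫ σc G η K S r hr p q' =
      σc G η K S r hr p q ≫ S.map (G.map ((Q G η K p).d q q')) :=
  σ_natural G η S r hr hn ((Q G η K p).d q q')

/-- The mapped coproduct. -/
def isColimitS (n : ℤ) :
    IsColimit (Cofan.mk (S.obj (totX G η K n))
      fun i : Idx n => S.map (ι G η K i.1.1 i.1.2 n i.2)) :=
  isColimitOfHasCoproductOfPreservesColimit S _

variable {K}

lemma hom_extS {n : ℤ} {T : B} {f g : S.obj (totX G η K n) ⟶ T}
    (h : ∀ (p : ℕ) (q : ℤ) (e : (p : ℤ) + q = n),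
      S.map (ι G η K p q n e) ≫ f = S.map (ι G η K p q n e) ≫ g) : f = g :=
  Cofan.IsColimit.hom_ext (isColimitS G η K S n) _ _ fun i => h i.1.1 i.1.2 i.2

variable (K)

/-- The components of the retraction. -/
def retrComp (n : ℤ) :
    ∀ (p : ℕ) (q : ℤ), (p : ℤ) + q = n → (S.obj (Y G η K p q) ⟶ S.obj (K.X n))
  | 0, q, e => r (K.X q) ≫ S.map (K.XIsoOfEq (show q = n by simpa using e)).hom
  | _ + 1, _, _ => 0

lemma retrComp_zero (q : ℤ) (e : ((0 : ℕ) : ℤ) + q = q) :
    retrComp G η K S r q 0 q e = r ((Q G η K 0).X q) := by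
  simp [retrComp]
  rfl

lemma retrComp_succ (n : ℤ) (p : ℕ) (q : ℤ) (e : ((p + 1 : ℕ) : ℤ) + q = n) :
    retrComp G η K S r n (p + 1) q e = 0 := rfl

/-- The retraction of the augmentation at `S`. -/
def retr (n : ℤ) : S.obj (totX G η K n) ⟶ S.obj (K.X n) :=
  Cofan.IsColimit.desc (isColimitS G η K S n) fun i => retrComp G η K S r n i.1.1 i.1.2 i.2

lemma ι_retr (n : ℤ) (p : ℕ) (q : ℤ) (e : (p : ℤ) + q = n) :
    S.map (ι G η K p q n e) ≫ retr G η K S r n = retrComp G η K S r n p q e :=
  Cofan.IsColimit.fac (isColimitS G η K S n) _ ⟨(p, q), e⟩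

lemma augf_retr (n : ℤ) : S.map (augf G η K n) ≫ retr G η K S r n = S.map (eta G η (K.X n)) ≫ r (K.X n) := by
  show S.map (eta G η ((Q G η K 0).X n) ≫ ι G η K 0 n n _) ≫ _ = _
  rw [S.map_comp, Category.assoc, ι_retr, retrComp_zero]
  rfl

include hn in
lemma totd_retr (n : ℤ) :
    retr G η K S r n ≫ S.map (K.d n (n + 1)) =
      S.map (totd G η K n) ≫ retr G η K S r (n + 1) := by
  refine hom_extS G η S fun p q e => ?_
  rw [← Category.assoc, ι_retr, ← S.map_comp_assoc, ι_totd, S.map_add, S.map_zsmul,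
    S.map_comp, S.map_comp, Preadditive.add_comp, Linear.smul_comp, Category.assoc,
    Category.assoc, ι_retr, ι_retr]
  cases p with
  | zero =>
    obtain rfl : q = n := by simpa using e
    rw [retrComp_zero, retrComp_zero, retrComp_succ, comp_zero, add_zero, pow_zero, one_smul]
    exact (hn ((Q G η K 0).d q (q + 1))).symm
  | succ p => simp [retrComp_succ]

/-- The components of the contraction. -/
def htpComp (m : ℤ) : ∀ (p : ℕ) (q : ℤ), S.obj (Y G η K p q) ⟶ S.obj (totX G η K m)
  | 0, _ => 0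
  | p + 1, q => if h : (p : ℤ) + q = m then
      r _ ≫ σc G η K S r hr p q ≫ S.map (ι G η K p q m h) else 0

lemma htpComp_zero (m : ℤ) (q : ℤ) : htpComp G η K S r hr m 0 q = 0 := rfl

lemma htpComp_succ (m : ℤ) (p : ℕ) (q : ℤ) (h : (p : ℤ) + q = m) :
    htpComp G η K S r hr m (p + 1) q =
      r _ ≫ σc G η K S r hr p q ≫ S.map (ι G η K p q m h) :=
  dif_pos h

/-- The contraction. -/
def htp (n m : ℤ) : S.obj (totX G η K n) ⟶ S.obj (totX G η K m) :=
  Cofan.IsColimit.desc (isColimitS G η K S n) fun i => htpComp G η K S r hr m i.1.1 i.1.2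

lemma ι_htp (n m : ℤ) (p : ℕ) (q : ℤ) (e : (p : ℤ) + q = n) :
    S.map (ι G η K p q n e) ≫ htp G η K S r hr n m = htpComp G η K S r hr m p q :=
  Cofan.IsColimit.fac (isColimitS G η K S n) _ ⟨(p, q), e⟩

lemma htp_zero (n m : ℤ) (h : ¬ m + 1 = n) : htp G η K S r hr n m = 0 := by
  refine hom_extS G η S fun p q e => ?_
  rw [ι_htp, comp_zero]
  cases p with
  | zero => rfl
  | succ p => exact dif_neg fun h' => h (by omega)

include hn in
lemma htp_comm (n : ℤ) :
    𝟙 (S.obj (totX G η K (n + 1))) =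
      S.map (totd G η K (n + 1)) ≫ htp G η K S r hr (n + 1 + 1) (n + 1) +
        htp G η K S r hr (n + 1) n ≫ S.map (totd G η K n) +
        retr G η K S r (n + 1) ≫ S.map (augf G η K (n + 1)) := by
  refine hom_extS G η S fun p q e => ?_
  rw [Category.comp_id, Preadditive.comp_add, Preadditive.comp_add, ← S.map_comp_assoc, ι_totd,
    ← Category.assoc (f := S.map (ι G η K p q (n + 1) e)), ι_htp,
    ← Category.assoc (f := S.map (ι G η K p q (n + 1) e)), ι_retr, S.map_add, S.map_zsmul,
    S.map_comp, S.map_comp, Preadditive.add_comp, Linear.smul_comp, Category.assoc,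
    Category.assoc, ι_htp, ι_htp]
  cases p with
  | zero =>
    obtain rfl : q = n + 1 := by simpa using e
    rw [htpComp_zero, htpComp_zero, htpComp_succ _ _ _ _ _ _ _ _ _ e, retrComp_zero,
      comp_zero, zero_comp, smul_zero, zero_add, add_zero, δ, S.map_comp, Category.assoc,
      reassoc_of% (hr _), reassoc_of% (π_σc G η K S r hr 0 _)]
    show S.map (ι G η K 0 (n + 1) (n + 1) e) =
      (𝟙 (S.obj (Y G η K 0 (n + 1))) - r _ ≫ S.map (eta G η ((Q G η K 0).X (n + 1)))) ≫
        S.map (ι G η K 0 (n + 1) (n + 1) e) +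
      r _ ≫ S.map (eta G η ((Q G η K 0).X (n + 1)) ≫ ι G η K 0 (n + 1) (n + 1) e)
    rw [Preadditive.sub_comp, Category.id_comp, S.map_comp, Category.assoc, sub_add_cancel]
  | succ p =>
    rw [htpComp_succ _ _ _ _ _ _ _ p (q + 1) (by omega),
      htpComp_succ _ _ _ _ _ _ _ (p + 1) q (by omega),
      htpComp_succ _ _ _ _ _ _ _ p q (by omega), retrComp_succ, zero_comp, add_zero,
      reassoc_of% (hn ((Q G η K (p + 1)).d q (q + 1))),
      reassoc_of% (σc_natural G η K S r hr hn p q (q + 1))]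
    rw [Category.assoc, Category.assoc, ← S.map_comp (ι G η K p q n _), ι_totd, S.map_add,
      S.map_zsmul, S.map_comp, S.map_comp, δ, δ, S.map_comp, S.map_comp, Category.assoc,
      reassoc_of% (hr _), reassoc_of% (π_σc G η K S r hr (p + 1) q), Preadditive.comp_add,
      Preadditive.comp_add, Category.assoc, reassoc_of% (σc_π G η K S r hr p q),
      Linear.comp_smul, Linear.comp_smul, Preadditive.sub_comp, Category.id_comp,
      Category.assoc, pow_succ, mul_neg_one, neg_smul]
    abel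

/-- The retraction is a morphism of complexes. -/
def retrHom : (S.mapHomologicalComplex _).obj (tot G η K) ⟶
    (S.mapHomologicalComplex _).obj K where
  f n := retr G η K S r n
  comm' n m hnm := by
    simp only [ComplexShape.up_Rel] at hnm
    subst hnm
    show retr G η K S r n ≫ S.map (K.d n (n + 1)) =
      S.map ((tot G η K).d n (n + 1)) ≫ retr G η K S r (n + 1)
    rw [tot_d]
    exact totd_retr G η K S r hn n

/-- The contracting homotopy. -/
def homotopy : Homotopy (𝟙 ((S.mapHomologicalComplex _).obj (tot G η K)))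
    (retrHom G η K S r hn ≫ (S.mapHomologicalComplex _).map (aug G η K)) where
  hom n m := htp G η K S r hr n m
  zero n m h := htp_zero G η K S r hr n m h
  comm n := by
    obtain ⟨n, rfl⟩ : ∃ m, n = m + 1 := ⟨n - 1, by omega⟩
    rw [dNext_eq _ (show (ComplexShape.up ℤ).Rel (n + 1) (n + 1 + 1) from rfl),
      prevD_eq _ (show (ComplexShape.up ℤ).Rel n (n + 1) from rfl)]
    refine (htp_comm G η K S r hr hn n).trans ?_
    congr 3 <;> exact congrArg S.map (tot_d G η K _).symm

/-- The augmentation becomes a homotopy equivalence after applying `S`. -/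
def homotopyEquiv : HomotopyEquiv ((S.mapHomologicalComplex _).obj K)
    ((S.mapHomologicalComplex _).obj (tot G η K)) where
  hom := (S.mapHomologicalComplex _).map (aug G η K)
  inv := retrHom G η K S r hn
  homotopyHomInvId := Homotopy.ofEq (by
    ext n
    exact (augf_retr G η K S r n).trans (hr (K.X n)))
  homotopyInvHomId := (homotopy G η K S r hr hn).symm

end Contract

end Groth.Agent.HTop16.GodementTot
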