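import Groth.Prelude.Def_CohCx
import Groth.Agent.HTop16.GodementTot
import Mathlib.Topology.Sheaves.Skyscraper
import Mathlib.Topology.Sheaves.Flasque
import Mathlib.Topology.Sheaves.Abelian
import Mathlib.CategoryTheory.Limits.Preserves.Shapes.Products
import Mathlib.Algebra.Category.Grp.Limits

/-!
# The Godement resolution of a bounded below complex of sheaves
-/

noncomputable section

universe u

open CategoryTheory CategoryTheory.Limits Opposite TopologicalSpace

namespace Groth.Agent.HTop16.GodementSpace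

open scoped Classical

variable {X : TopCat.{u}}

/-- The stalk functor on abelian sheaves. -/
abbrev St (x : X) : CohTop.Ab X ⥤ AddCommGrpCat.{u} :=
  sheafToPresheaf (Opens.grothendieckTopology X) AddCommGrpCat.{u} ⋙
    TopCat.Presheaf.stalkFunctor AddCommGrpCat.{u} x

/-- The skyscraper functor. -/
def Sky (x : X) : AddCommGrpCat.{u} ⥤ CohTop.Ab X := skyscraperSheafFunctor x

/-- The adjunction with the skyscraper functor. -/
def skyAdj (x : X) : St x ⊣ Sky x :=
  stalkSkyscraperSheafAdjunction (C := AddCommGrpCat.{u}) x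

instance (x : X) : (St x).IsLeftAdjoint := (skyAdj x).isLeftAdjoint

instance (x : X) : PreservesFiniteLimits (St x) :=
  inferInstanceAs (PreservesFiniteLimits
    (TopCat.Sheaf.forget AddCommGrpCat.{u} X ⋙ TopCat.Presheaf.stalkFunctor AddCommGrpCat.{u} x))

instance (x : X) : (St x).Additive := inferInstanceAs
  ((TopCat.Sheaf.forget AddCommGrpCat.{u} X ⋙
    TopCat.Presheaf.stalkFunctor AddCommGrpCat.{u} x).Additive)

instance (x : X) : (Sky x).Additive := (skyAdj x).right_adjoint_additive

/-- The skyscraper at `x` of the stalk at `x`. -/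
abbrev sky (M : CohTop.Ab X) (x : X) : CohTop.Ab X :=
  (Sky x).obj ((St x).obj M)

/-- The Godement functor. -/
def gdm : CohTop.Ab X ⥤ CohTop.Ab X where
  obj M := ∏ᶜ fun x => sky M x
  map f := Limits.Pi.map fun x =>
    (Sky x).map ((St x).map f)
  map_id M := Pi.hom_ext _ _ fun x => by
    rw [Pi.map_π, Category.id_comp, CategoryTheory.Functor.map_id, CategoryTheory.Functor.map_id,
      Category.comp_id]
  map_comp f g := Pi.hom_ext _ _ fun x => by
    rw [Pi.map_π, Category.assoc, Pi.map_π, Pi.map_π_assoc, Functor.map_comp, Functor.map_comp]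

instance : (gdm (X := X)).PreservesZeroMorphisms where
  map_zero M N := by
    refine Pi.hom_ext _ _ fun x => ?_
    show Limits.Pi.map (fun y => (Sky y).map ((St y).map (0 : M ⟶ N))) ≫ Pi.π (sky N) x =
      (0 : (∏ᶜ fun y => sky M y) ⟶ ∏ᶜ fun y => sky N y) ≫ Pi.π (sky N) x
    rw [Pi.map_π, Functor.map_zero, Functor.map_zero, comp_zero, zero_comp]

/-- The coaugmentation of the Godement functor. -/
def unit : 𝟭 (CohTop.Ab X) ⟶ gdm where
  app M := Pi.lift fun x => (skyAdj x).unit.app M
  naturality M N f := Pi.hom_ext _ _ fun x => by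
    show (f ≫ Pi.lift _) ≫ _ = (Pi.lift _ ≫ Limits.Pi.map _) ≫ _
    rw [Category.assoc, Category.assoc, Pi.lift_π, Pi.map_π, Pi.lift_π_assoc]
    exact (skyAdj x).unit.naturality f

/-- The retraction at the stalk. -/
def ret (x : X) (M : CohTop.Ab X) : (St x).obj (gdm.obj M) ⟶ (St x).obj M :=
  (St x).map (Pi.π (sky M) x) ≫ (skyAdj x).counit.app _

lemma eta_ret (x : X) (M : CohTop.Ab X) :
    (St x).map (GodementTot.eta gdm unit M) ≫ ret x M = 𝟙 _ := by
  show (St x).map (Pi.lift fun y => (skyAdj y).unit.app M) ≫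
    (St x).map (Pi.π (sky M) x) ≫ (skyAdj x).counit.app _ = _
  rw [← Functor.map_comp_assoc]
  erw [Pi.lift_π]
  exact (skyAdj x).left_triangle_components M

lemma ret_natural (x : X) {M N : CohTop.Ab X} (f : M ⟶ N) :
    (St x).map (gdm.map f) ≫ ret x N = ret x M ≫ (St x).map f := by
  show (St x).map (Limits.Pi.map _) ≫ (St x).map (Pi.π (sky N) x) ≫ _ =
    ((St x).map (Pi.π (sky M) x) ≫ _) ≫ _
  rw [← Functor.map_comp_assoc, Pi.map_π, Functor.map_comp, Category.assoc, Category.assoc]
  exact congrArg ((St x).map (Pi.π (sky M) x) ≫ ·) ((skyAdj x).counit.naturality ((St x).map f))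

lemma isFlasque_gdm (M : CohTop.Ab X) : TopCat.Sheaf.IsFlasque (gdm.obj M) where
  epi {U V} i := (AddCommGrpCat.epi_iff_surjective _).2 fun t => by
    let F := sheafToPresheaf (Opens.grothendieckTopology X) AddCommGrpCat.{u} ⋙
      (evaluation _ _).obj U
    let F' := sheafToPresheaf (Opens.grothendieckTopology X) AddCommGrpCat.{u} ⋙
      (evaluation _ _).obj V
    let eU := isLimitFanMkObjOfIsLimit F (sky M) _ (productIsProduct (sky M))
    let eV := isLimitFanMkObjOfIsLimit F' (sky M) _ (productIsProduct (sky M))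
    have hx : ∀ x, Function.Surjective ((sky M x).obj.map i) := fun x =>
      (AddCommGrpCat.epi_iff_surjective _).1
        ((isFlasque_skyscraperSheaf_of_hasZeroObject x ((St x).obj M)).epi i)
    choose s hs using fun x => hx x (F'.map (Pi.π (sky M) x) t)
    let e := eU.conePointUniqueUpToIso (productIsProduct fun x => F.obj (sky M x))
    let a := e.inv ((Concrete.productEquiv fun x => F.obj (sky M x)).symm s)
    have ha : ∀ x, F.map (Pi.π (sky M) x) a = s x := fun x =>
      (ConcreteCategory.congr_hom (IsLimit.conePointUniqueUpToIso_inv_comp eU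
        (productIsProduct fun x => F.obj (sky M x)) ⟨x⟩) _).trans
        (Concrete.productEquiv_symm_apply_π _ s x)
    refine ⟨a, Concrete.isLimit_ext _ eV _ _ fun ⟨x⟩ => ?_⟩
    have hnat := ConcreteCategory.congr_hom ((Pi.π (sky M) x).hom.naturality i) a
    exact hnat.trans ((congrArg ((sky M x).obj.map i) (ha x)).trans (hs x))

lemma isFlasque_tot (K : CochainComplex (CohTop.Ab X) ℤ) {a : ℤ}
    (hK : ∀ n, n < a → IsZero (K.X n)) (n : ℤ) :
    TopCat.Sheaf.IsFlasque ((GodementTot.tot gdm unit K).X n) where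
  epi {U V} i := (AddCommGrpCat.epi_iff_surjective _).2 fun t => by
    let T : CohTop.Ab X := GodementTot.totX gdm unit K n
    obtain ⟨s, hs⟩ := GodementTot.sum_proj_ι gdm unit K hK n
    have hj : ∀ j : GodementTot.Idx n, ∃ v : (GodementTot.Y gdm unit K j.1.1 j.1.2).obj.obj U,
        (GodementTot.Y gdm unit K j.1.1 j.1.2).obj.map i v =
          (GodementTot.proj gdm unit K n j).hom.app V t :=
      fun j => (AddCommGrpCat.epi_iff_surjective _).1 ((isFlasque_gdm _).epi i) _
    choose v hv using hj
    refine ⟨∑ j ∈ s, (GodementTot.ι gdm unit K j.1.1 j.1.2 n j.2).hom.app U (v j), ?_⟩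
    let ev : (T ⟶ T) →+ T.obj.obj V :=
      AddMonoidHom.mk' (fun f => f.hom.app V t) (fun f g => rfl)
    have key : t = ∑ j ∈ s, (GodementTot.ι gdm unit K j.1.1 j.1.2 n j.2).hom.app V
        ((GodementTot.proj gdm unit K n j).hom.app V t) :=
      (congrArg ev hs).trans (map_sum ev _ _)
    rw [key, map_sum]
    refine Finset.sum_congr rfl fun j _ => ?_
    exact (ConcreteCategory.congr_hom ((GodementTot.ι gdm unit K j.1.1 j.1.2 n j.2).hom.naturality i)
      (v j)).symm.trans (congrArg _ (hv j))

lemma quasiIso_of_stalk {K L : CochainComplex (CohTop.Ab X) ℤ} (φ : K ⟶ L)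
    (h : ∀ x : X, QuasiIso ((CohCx.stalkCx x).map φ)) : QuasiIso φ := by
  rw [quasiIso_iff]
  intro n
  rw [quasiIsoAt_iff, ShortComplex.quasiIso_iff]
  haveI : ∀ x : X, IsIso ((TopCat.Presheaf.stalkFunctor AddCommGrpCat.{u} x).map
      (ShortComplex.homologyMap ((HomologicalComplex.shortComplexFunctor _ _ n).map φ)).hom) := by
    intro x
    have h1 : IsIso (ShortComplex.homologyMap ((St x).mapShortComplex.map
        ((HomologicalComplex.shortComplexFunctor _ _ n).map φ))) := by
      have := (h x).quasiIsoAt n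
      rw [quasiIsoAt_iff, ShortComplex.quasiIso_iff] at this
      exact this
    have h2 := ShortComplex.mapHomologyIso_hom_naturality
      ((HomologicalComplex.shortComplexFunctor _ _ n).map φ) (St x)
    show IsIso ((St x).map (ShortComplex.homologyMap
      ((HomologicalComplex.shortComplexFunctor _ _ n).map φ)))
    rw [show (St x).map (ShortComplex.homologyMap
        ((HomologicalComplex.shortComplexFunctor _ _ n).map φ)) =
      (ShortComplex.mapHomologyIso _ (St x)).inv ≫ _ ≫
        (ShortComplex.mapHomologyIso _ (St x)).hom from by rw [h2, Iso.inv_hom_id_assoc]]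
    exact IsIso.comp_isIso' inferInstance (IsIso.comp_isIso' h1 inferInstance)
  exact TopCat.Presheaf.isIso_of_stalkFunctor_map_iso
    (ShortComplex.homologyMap ((HomologicalComplex.shortComplexFunctor _ _ n).map φ))

theorem exists_flasque_stalkwise (K : CochainComplex (CohTop.Ab X) ℤ) (a : ℤ)
    (hK : K.IsStrictlyGE a) :
    ∃ (G : CochainComplex (CohTop.Ab X) ℤ) (φ : K ⟶ G), G.IsStrictlyGE a ∧ QuasiIso φ ∧
      (∀ n : ℤ, TopCat.Sheaf.IsFlasque (G.X n)) ∧
      ∀ x : X, ∃ e : HomotopyEquiv ((CohCx.stalkCx x).obj K) ((CohCx.stalkCx x).obj G),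
        e.hom = (CohCx.stalkCx x).map φ := by
  have hK' : ∀ n, n < a → IsZero (K.X n) := fun n hn => K.isZero_of_isStrictlyGE a n hn
  have he : ∀ x : X, ∃ e : HomotopyEquiv ((CohCx.stalkCx x).obj K)
      ((CohCx.stalkCx x).obj (GodementTot.tot gdm unit K)),
      e.hom = (CohCx.stalkCx x).map (GodementTot.aug gdm unit K) := fun x =>
    ⟨GodementTot.homotopyEquiv gdm unit K (St x) (ret x) (eta_ret x)
      (fun f => ret_natural x f), rfl⟩
  refine ⟨GodementTot.tot gdm unit K, GodementTot.aug gdm unit K, ?_,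
    quasiIso_of_stalk _ fun x => ?_, isFlasque_tot K hK', he⟩
  · exact (CochainComplex.isStrictlyGE_iff _ _).2
      fun n hn => GodementTot.isZero_totX gdm unit K hK' n hn
  · obtain ⟨e, he⟩ := he x
    rw [← he]
    infer_instance

end Groth.Agent.HTop16.GodementSpace
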