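import Groth.Agent.HTop16.Std

/-!
# Refinement and the first h coverings
-/

set_option autoImplicit false
set_option backward.isDefEq.respectTransparency false
set_option linter.all false

universe w w' u

open CategoryTheory CategoryTheory.Limits AlgebraicGeometry TopologicalSpace IsLocalRing

namespace Groth.Agent.HTop16.VCover

variable {T : Scheme.{u}}

theorem isVCover_of_hom {E : PreZeroHypercover.{w} T} {E' : PreZeroHypercover.{w'} T} (e : E'.Hom E)
    (h : HTop.IsVCover E') : HTop.IsVCover E := fun U => by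
  obtain ⟨G, hG, hr⟩ := h U
  refine ⟨G, hG, fun j => ?_⟩
  obtain ⟨i, a, ha⟩ := hr j
  exact ⟨e.s₀ i, a ≫ e.h₀ i, by rw [Category.assoc, e.w₀, ha]⟩

theorem isVCover_openCover (𝒰 : T.OpenCover) : HTop.IsVCover 𝒰.toPreZeroHypercover :=
  isVCover_fpqc (𝒰.weaken Scheme.zariskiPrecoverage_le_fpqcPrecoverage)

theorem hasValLift_proper {X Y : Scheme.{u}} (f : Y ⟶ X) [IsProper f] [Surjective f] :
    HTop.HasValLift (PreZeroHypercover.singleton.{w} f) := by
  refine hasValLift_of_specializes _ fun V _ _ g => ⟨PUnit.unit, ?_⟩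
  obtain ⟨z', hz'⟩ := (pullback.fst g f).surjective (⟨⊥, Ideal.isPrime_bot⟩ : PrimeSpectrum V)
  have hb : pullback.fst g f z' ⤳ closedPoint V := by
    rw [hz']
    exact (PrimeSpectrum.le_iff_specializes _ _).1 bot_le
  obtain ⟨z, hz, hzc⟩ := (pullback.fst g f).isClosedMap.specializingMap hb
  exact ⟨z', z, hz, hz', hzc⟩

theorem isVCover_sigma_iff (E : PreZeroHypercover.{u} T) :
    HTop.IsVCover (PreZeroHypercover.singleton.{w} (Sigma.desc E.f)) ↔ HTop.IsVCover E := by
  refine ⟨fun h => ?_, fun h => isVCover_of_hom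
    { s₀ := fun _ => PUnit.unit
      h₀ := fun i => Sigma.ι E.X i
      w₀ := fun i => Sigma.ι_desc _ _ } h⟩
  refine isVCover_of_hom (E' := (PreZeroHypercover.singleton.{w} (Sigma.desc E.f)).bind
    fun _ => (sigmaOpenCover E.X).toPreZeroHypercover)
    { s₀ := fun i => i.2
      h₀ := fun i => 𝟙 _
      w₀ := fun i => ?_ } (isVCover_bind h fun _ => isVCover_openCover _)
  change 𝟙 _ ≫ E.f i.2 = Sigma.ι E.X i.2 ≫ Sigma.desc E.f
  rw [Category.id_comp, Sigma.ι_desc]

end Groth.Agent.HTop16.VCover
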