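import Groth.Agent.HTop16.PhRefine
import Groth.Agent.HTop16.HSheaf
import Groth.Agent.HTop16.HBasic
import Groth.Agent.BigSite16.GenSheaf

/-!
# The criterion for sheaves on the big h site
-/

set_option autoImplicit false
set_option backward.isDefEq.respectTransparency false
set_option linter.all false

universe w u

open CategoryTheory CategoryTheory.Limits AlgebraicGeometry TopologicalSpace Opposite

namespace Groth.Agent.HTop16.HCrit

variable {S : Scheme.{u}}

theorem zariskiTopology_le_hTopology : Scheme.zariskiTopology.{u} ≤ HTop.hTopology := by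
  refine Precoverage.toGrothendieck_mono fun X R hR => ?_
  obtain ⟨E, rfl⟩ := R.exists_eq_preZeroHypercover
  obtain ⟨hs, ho⟩ := (Scheme.presieve₀_mem_precoverage_iff _).1 hR
  let 𝒰 : X.OpenCover := { toPreZeroHypercover := E, mem₀ := hR }
  refine (HTop.presieve₀_mem_hPrecoverage_iff E).2 ⟨fun i => ?_, VCover.isVCover_openCover 𝒰⟩
  haveI : IsOpenImmersion (E.f i) := ho i
  infer_instance

theorem generate_singleton_mem_Jh {X V : Over S} (f : V ⟶ X) [IsProper f.left] [Surjective f.left]
    [LocallyOfFinitePresentation f.left] : Sieve.generate (Presieve.singleton f) ∈ HTop.Jh S X := by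
  rw [HTop.Jh, GrothendieckTopology.mem_over_iff]
  have h : HTop.IsHCover (PreZeroHypercover.singleton.{0} f.left) :=
    ⟨fun _ => inferInstanceAs (LocallyOfFinitePresentation f.left),
      VCover.isVCover_singleton_of_hasValLift f.left (VCover.hasValLift_proper.{0} f.left)⟩
  refine HTop.hTopology.superset_covering ?_
    (Precoverage.generate_mem_toGrothendieck ((HTop.presieve₀_mem_hPrecoverage_iff _).2 h))
  rw [Sieve.generate_le_iff]
  rintro Z g ⟨j⟩
  rw [Sieve.overEquiv_iff]
  exact ⟨V, Over.homMk (𝟙 _) (by simp), f, Presieve.singleton_self f, by ext; simp⟩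

/-- The affine open pieces of an object over the base. -/
abbrev piece (X : Over S) (U : X.left.Opens) : Over S := Over.mk (U.ι ≫ X.hom)

/-- The inclusion of an affine open piece. -/
abbrev pieceι (X : Over S) (U : X.left.Opens) : piece X U ⟶ X := Over.homMk U.ι rfl

variable {F : (Over S)ᵒᵖ ⥤ Type w}

theorem isSheafFor_pieces (hz : Presieve.IsSheaf (Scheme.zariskiTopology.over S) F) (X : Over S) {ι : Type u}
    (U : ι → X.left.Opens) (hU : ∀ x, ∃ i, x ∈ U i) :
    Presieve.IsSheafFor F (Presieve.ofArrows (fun i => piece X (U i)) fun i => pieceι X (U i)) := by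
  haveI : ∀ i, IsOpenImmersion (pieceι X (U i)).left := fun i => inferInstanceAs (IsOpenImmersion (U i).ι)
  refine (Presieve.isSheafFor_iff_generate _).2 (hz _ (BigSite16.GenTop.mem_zariski_over _ _ fun x => ?_))
  obtain ⟨i, hi⟩ := hU x
  exact ⟨i, ⟨x, hi⟩, rfl⟩

theorem map_comp_apply {X Y Z : Over S} (f : X ⟶ Y) (g : Y ⟶ Z) (a : F.obj (op Z)) :
    F.map f.op (F.map g.op a) = F.map (f ≫ g).op a := by
  rw [op_comp, F.map_comp]
  rfl

/-- The affine case of the sheaf condition for proper surjections gives the general case. -/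
theorem isSheafFor_singleton (hz : Presieve.IsSheaf (Scheme.zariskiTopology.over S) F)
    (hF : ∀ (U V : Over S) (f : V ⟶ U), IsAffine U.left → IsProper f.left → Surjective f.left →
      LocallyOfFinitePresentation f.left → Presieve.IsSheafFor F (Presieve.singleton f))
    {X Y : Over S} (f : Y ⟶ X) [IsProper f.left] [Surjective f.left] [LocallyOfFinitePresentation f.left] :
    Presieve.IsSheafFor F (Presieve.singleton f) := by
  rw [← Presieve.ofArrows_pUnit.{0}, Presieve.isSheafFor_arrows_iff]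
  intro x hx
  let g : ∀ U : X.left.affineOpens, piece Y (f.left ⁻¹ᵁ U.1) ⟶ piece X U.1 := fun U =>
    Over.homMk (f.left ∣_ U.1) (by
      change (f.left ∣_ U.1) ≫ U.1.ι ≫ X.hom = (f.left ⁻¹ᵁ U.1).ι ≫ Y.hom
      rw [← Category.assoc, morphismRestrict_ι, Category.assoc, Over.w f])
  have hg : ∀ U, g U ≫ pieceι X U.1 = pieceι Y (f.left ⁻¹ᵁ U.1) ≫ f := fun U => by
    ext
    exact morphismRestrict_ι _ _
  have haff : ∀ U : X.left.affineOpens, Presieve.IsSheafFor F (Presieve.singleton (g U)) := fun U => by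
    haveI : IsProper (g U).left := IsZariskiLocalAtTarget.restrict (P := @IsProper) ‹_› _
    haveI : Surjective (g U).left := IsZariskiLocalAtTarget.restrict (P := @Surjective) ‹_› _
    exact hF _ _ (g U) U.2 ‹_› ‹_› (inferInstanceAs (LocallyOfFinitePresentation (f.left ∣_ U.1)))
  have key : ∀ U : X.left.affineOpens, ∃! s : F.obj (op (piece X U.1)),
      F.map (g U).op s = F.map (pieceι Y (f.left ⁻¹ᵁ U.1)).op (x PUnit.unit) := by
    intro U
    have h := haff U
    rw [← Presieve.ofArrows_pUnit.{0}, Presieve.isSheafFor_arrows_iff] at h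
    obtain ⟨s, hs, huniq⟩ := h (fun _ => F.map (pieceι Y (f.left ⁻¹ᵁ U.1)).op (x PUnit.unit)) (by
      rintro ⟨⟩ ⟨⟩ Z a b e
      rw [map_comp_apply, map_comp_apply]
      exact hx _ _ Z _ _ (by rw [Category.assoc, Category.assoc, ← hg, reassoc_of% e]))
    exact ⟨s, hs PUnit.unit, fun t ht => huniq t fun _ => ht⟩
  choose s hs huniq using key
  -- compatibility on affine opens inside overlaps
  have nat : ∀ (U V : X.left.affineOpens) (h : V.1 ≤ U.1),
      F.map (Over.homMk (X.left.homOfLE h) (by simp) : piece X V.1 ⟶ piece X U.1).op (s U) = s V := by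
    intro U V h
    refine huniq V _ ?_
    let k : piece Y (f.left ⁻¹ᵁ V.1) ⟶ piece Y (f.left ⁻¹ᵁ U.1) :=
      Over.homMk (Y.left.homOfLE (f.left.preimage_mono h)) (by simp)
    have e : g V ≫ (Over.homMk (X.left.homOfLE h) (by simp) : piece X V.1 ⟶ piece X U.1) = k ≫ g U := by
      ext : 1
      change (f.left ∣_ V.1) ≫ X.left.homOfLE h = Y.left.homOfLE (f.left.preimage_mono h) ≫ (f.left ∣_ U.1)
      rw [← cancel_mono U.1.ι, Category.assoc, Scheme.homOfLE_ι, morphismRestrict_ι, Category.assoc,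
        morphismRestrict_ι, Scheme.homOfLE_ι_assoc]
    have e' : k ≫ pieceι Y (f.left ⁻¹ᵁ U.1) = pieceι Y (f.left ⁻¹ᵁ V.1) := by
      ext : 1
      change Y.left.homOfLE (f.left.preimage_mono h) ≫ (f.left ⁻¹ᵁ U.1).ι = (f.left ⁻¹ᵁ V.1).ι
      simp
    change F.map (g V).op (F.map _ (s U)) = _
    rw [map_comp_apply, e, ← map_comp_apply, hs, map_comp_apply, e']
  have hcov : ∀ z : X.left, ∃ U : X.left.affineOpens, z ∈ U.1 := fun z => by
    obtain ⟨_, ⟨U, hU, rfl⟩, hz, -⟩ :=
      X.left.isBasis_affineOpens.exists_subset_of_mem_open (Set.mem_univ z) isOpen_univ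
    exact ⟨⟨U, hU⟩, hz⟩
  have hP := isSheafFor_pieces hz X (fun U : X.left.affineOpens => U.1) hcov
  rw [Presieve.isSheafFor_arrows_iff] at hP
  obtain ⟨t, ht, htuniq⟩ := hP s fun U V Z a b e => by
    have hloc : ∀ z : Z.left, ∃ (O : Z.left.Opens) (W : X.left.affineOpens), z ∈ O ∧ W.1 ≤ U.1 ∧ W.1 ≤ V.1 ∧
        Set.range (O.ι ≫ a.left ≫ U.1.ι) ⊆ (W.1 : Set X.left) := fun z => by
      have hzV : (a.left ≫ U.1.ι) z ∈ V.1 := by
        have e' : a.left ≫ U.1.ι = b.left ≫ V.1.ι := congr($(e).left)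
        rw [e']
        exact (b.left z).2
      obtain ⟨_, ⟨W, hW, rfl⟩, hzW, hle⟩ := X.left.isBasis_affineOpens.exists_subset_of_mem_open
        (show (a.left ≫ U.1.ι) z ∈ (↑(U.1 ⊓ V.1) : Set X.left) from ⟨(a.left z).2, hzV⟩) (U.1 ⊓ V.1).isOpen
      refine ⟨(a.left ≫ U.1.ι) ⁻¹ᵁ W, ⟨W, hW⟩, hzW, fun y hy => (hle hy).1, fun y hy => (hle hy).2, ?_⟩
      rintro _ ⟨y, rfl⟩
      exact y.2
    choose O W hzO hWU hWV hOW using hloc
    refine (isSheafFor_pieces hz Z O fun z => ⟨z, hzO z⟩).isSeparatedFor.ext fun _ _ h => ?_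
    obtain ⟨z⟩ := h
    let l : piece Z (O z) ⟶ piece X (W z).1 :=
      Over.homMk (IsOpenImmersion.lift (W z).1.ι ((O z).ι ≫ a.left ≫ U.1.ι)
        ((hOW z).trans (Scheme.Opens.range_ι _).ge)) (by
        change IsOpenImmersion.lift _ _ _ ≫ (W z).1.ι ≫ X.hom = (O z).ι ≫ Z.hom
        rw [IsOpenImmersion.lift_fac_assoc, Category.assoc, Category.assoc]
        congr 1
        exact Over.w a)
    have e₁ : l ≫ (Over.homMk (X.left.homOfLE (hWU z)) (by simp) : piece X (W z).1 ⟶ piece X U.1) =
        pieceι Z (O z) ≫ a := by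
      ext : 1
      change IsOpenImmersion.lift _ _ _ ≫ X.left.homOfLE (hWU z) = (O z).ι ≫ a.left
      rw [← cancel_mono U.1.ι, Category.assoc, Scheme.homOfLE_ι, IsOpenImmersion.lift_fac, Category.assoc]
    have e₂ : l ≫ (Over.homMk (X.left.homOfLE (hWV z)) (by simp) : piece X (W z).1 ⟶ piece X V.1) =
        pieceι Z (O z) ≫ b := by
      ext : 1
      change IsOpenImmersion.lift _ _ _ ≫ X.left.homOfLE (hWV z) = (O z).ι ≫ b.left
      rw [← cancel_mono V.1.ι, Category.assoc, Scheme.homOfLE_ι, IsOpenImmersion.lift_fac, Category.assoc]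
      congr 1
      exact congr($(e).left)
    rw [map_comp_apply, map_comp_apply, ← e₁, ← e₂, ← map_comp_apply, nat, ← map_comp_apply, nat]
  refine ⟨t, ?_, fun t' ht' => htuniq t' fun U => huniq U _ ?_⟩
  · rintro ⟨⟩
    refine (isSheafFor_pieces hz Y (fun U : X.left.affineOpens => f.left ⁻¹ᵁ U.1) fun y => hcov (f.left y)).isSeparatedFor.ext
      fun _ _ h => ?_
    obtain ⟨U⟩ := h
    rw [map_comp_apply, ← hg, ← map_comp_apply, ht U, hs]
  · change F.map (g U).op (F.map _ t') = _
    rw [map_comp_apply, hg, ← map_comp_apply]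
    exact congrArg _ (ht' PUnit.unit)

theorem isSheaf_Jh_iff (F : (Over S)ᵒᵖ ⥤ Type w) :
    Presieve.IsSheaf (HTop.Jh S) F ↔ (Presieve.IsSheaf (Scheme.zariskiTopology.over S) F ∧
      ∀ (U V : Over S) (f : V ⟶ U), IsAffine U.left → IsProper f.left → Surjective f.left →
        LocallyOfFinitePresentation f.left → Presieve.IsSheafFor F (Presieve.singleton f)) := by
  constructor
  · intro h
    refine ⟨Presieve.isSheaf_of_le F (fun X R hR => ?_) h, fun U V f _ _ _ _ => ?_⟩
    · rw [GrothendieckTopology.mem_over_iff] at hR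
      rw [HTop.Jh, GrothendieckTopology.mem_over_iff]
      exact zariskiTopology_le_hTopology _ hR
    · exact (Presieve.isSheafFor_iff_generate _).2 (h _ (generate_singleton_mem_Jh f))
  rintro ⟨hz, hF⟩
  let T := Sheaf.finestTopology {F}
  refine Presieve.isSheaf_of_le F (?_ : HTop.Jh S ≤ T) (Sheaf.sheaf_for_finestTopology _ (Set.mem_singleton F))
  have hzT : Scheme.zariskiTopology.over S ≤ T :=
    Sheaf.le_finestTopology _ _ fun P hP => by
      rw [Set.mem_singleton_iff] at hP
      exact hP ▸ hz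
  have hsT : ∀ {X X' : Over S} (f : X' ⟶ X), IsProper f.left → Surjective f.left →
      LocallyOfFinitePresentation f.left → Sieve.generate (Presieve.singleton f) ∈ T X := by
    intro X X' f h₁ h₂ h₃
    refine Sheaf.mem_finestTopology_of_forall_isSheafFor fun P hP Y g => ?_
    rw [Set.mem_singleton_iff] at hP
    subst hP
    rw [← Sieve.pullbackArrows_comm, Presieve.pullback_singleton, ← Presieve.isSheafFor_iff_generate]
    have hpb := (IsPullback.of_hasPullback f g).map (Over.forget S)
    haveI : IsProper (pullback.snd f g).left := MorphismProperty.of_isPullback (P := @IsProper) hpb h₁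
    haveI : Surjective (pullback.snd f g).left := MorphismProperty.of_isPullback (P := @Surjective) hpb h₂
    haveI : LocallyOfFinitePresentation (pullback.snd f g).left :=
      MorphismProperty.of_isPullback (P := @LocallyOfFinitePresentation) hpb h₃
    exact isSheafFor_singleton hz hF _
  let J' : GrothendieckTopology Scheme.{u} :=
    { sieves := fun Z => {R | ∀ (X : Over S) (g : X.left ⟶ Z), (Sieve.overEquiv X).symm (R.pullback g) ∈ T X}
      top_mem' := fun Z X g => by
        convert T.top_mem X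
        ext W k
        simp
      pullback_stable' := fun Z Z' R f hR X g => by
        rw [← Sieve.pullback_comp]
        exact hR X (g ≫ f)
      transitive' := fun Z R hR R' h X g => by
        refine T.transitive (hR X g) _ fun W k hk => ?_
        rw [← Sieve.overEquiv_symm_pullback, ← Sieve.pullback_comp]
        have := h hk W (𝟙 _)
        exact (Sieve.pullback_id (S := Sieve.pullback _ R')) ▸ this }
  suffices hle : HTop.hTopology ≤ J' by
    intro X R hR
    rw [HTop.Jh, GrothendieckTopology.mem_over_iff] at hR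
    have := hle _ hR X (𝟙 _)
    rwa [Sieve.pullback_id, OrderIso.symm_apply_apply] at this
  refine Precoverage.toGrothendieck_le_iff_le_toPrecoverage.2 fun Z R hR => ?_
  rw [GrothendieckTopology.mem_toPrecoverage_iff]
  intro X g
  obtain ⟨E, rfl⟩ := R.exists_eq_preZeroHypercover
  have hE : HTop.IsHCover E := (HTop.presieve₀_mem_hPrecoverage_iff E).1 hR
  haveI : ∀ U : X.left.affineOpens, IsOpenImmersion (pieceι X U.1).left := fun U => inferInstanceAs (IsOpenImmersion U.1.ι)
  refine T.transitive (hzT _ (BigSite16.GenTop.mem_zariski_over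
    (fun U : X.left.affineOpens => piece X U.1) (fun U => pieceι X U.1) fun x => ?_)) _ ?_
  · obtain ⟨_, ⟨U, hU, rfl⟩, hx, -⟩ :=
      X.left.isBasis_affineOpens.exists_subset_of_mem_open (Set.mem_univ x) isOpen_univ
    exact ⟨⟨U, hU⟩, ⟨x, hx⟩, rfl⟩
  rintro Z₁ h₁ ⟨_, k, _, ⟨U⟩, rfl⟩
  rw [Sieve.pullback_comp]
  refine T.pullback_stable k ?_
  rw [← Sieve.overEquiv_symm_pullback, ← Sieve.pullback_comp]
  let h : (piece X U.1).left ⟶ Z := (pieceι X U.1).left ≫ g
  haveI : IsAffine (piece X U.1).left := U.2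
  obtain ⟨W, w, hw₁, hw₂, hw₃, hloc⟩ := PhRefine.exists_proper_of_isVCover (E := E.pullback₁ h)
    (fun i => by
      haveI := hE.1 i
      exact inferInstanceAs (LocallyOfFinitePresentation (pullback.fst h (E.f i))))
    (VCover.isVCover_pullback h hE.2)
  let B : Over S := Over.mk (w ≫ (piece X U.1).hom)
  let p : B ⟶ piece X U.1 := Over.homMk w rfl
  refine T.transitive (hsT p hw₁ hw₂ hw₃) _ ?_
  rintro Z₂ h₂ ⟨_, k₂, _, ⟨⟩, rfl⟩
  rw [Sieve.pullback_comp]
  refine T.pullback_stable k₂ ?_
  choose i O a hxO ha using hloc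
  haveI : ∀ x, IsOpenImmersion (pieceι B (O x)).left := fun x => inferInstanceAs (IsOpenImmersion (O x).ι)
  refine T.superset_covering ?_ (hzT _ (BigSite16.GenTop.mem_zariski_over
    (fun x : W => piece B (O x)) (fun x => pieceι B (O x)) fun x => ⟨x, ⟨x, hxO x⟩, rfl⟩))
  rw [Sieve.generate_le_iff]
  rintro Z₃ h₃ ⟨x⟩
  change Sieve.generate E.presieve₀ ((pieceι B (O x) ≫ p).left ≫ h)
  refine ⟨_, a x ≫ pullback.snd h (E.f (i x)), E.f (i x), ⟨i x⟩, ?_⟩
  rw [Category.assoc, ← pullback.condition]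
  exact (Category.assoc _ _ _).symm.trans (congrArg (· ≫ h) (ha x))

end Groth.Agent.HTop16.HCrit
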