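import Groth.Agent.HTop16.VCover
import Mathlib.AlgebraicGeometry.AffineTransitionLimit
import Mathlib.RingTheory.Valuation.ValuationRing

/-!
# V coverings and cofiltered limits of affine schemes
-/

set_option autoImplicit false
set_option backward.isDefEq.respectTransparency false
set_option linter.all false

universe w u

open CategoryTheory CategoryTheory.Limits AlgebraicGeometry TopologicalSpace IsLocalRing Opposite

namespace Groth.Agent.HTop16.VLimit

section Algebra

variable {V B : Type u} [CommRing V] [IsDomain V] [ValuationRing V] [CommRing B] (ψ : V →+* B)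

/-- Obstruction to a specialization over the generic and the closed point. -/
def Obstructed : Prop :=
  ∃ (a m : V) (b : B), a ≠ 0 ∧ m ∈ maximalIdeal V ∧ ψ a * (1 - ψ m * b) = 0

theorem not_obstructed_iff : ¬ Obstructed ψ ↔ ∃ q p : PrimeSpectrum B, q.asIdeal ≤ p.asIdeal ∧
    q.asIdeal.comap ψ = ⊥ ∧ p.asIdeal.comap ψ = maximalIdeal V := by
  constructor
  · intro h
    let J : Ideal B :=
      { carrier := {x | ∃ (a m : V) (b : B), a ≠ 0 ∧ m ∈ maximalIdeal V ∧ ψ a * (x - ψ m * b) = 0}
        zero_mem' := ⟨1, 0, 0, one_ne_zero, zero_mem _, by simp⟩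
        add_mem' := by
          rintro x y ⟨a, m, b, ha, hm, hx⟩ ⟨a', m', b', ha', hm', hy⟩
          rcases ValuationRing.cond m m' with ⟨c, hc | hc⟩
          · refine ⟨a * a', m, b + ψ c * b', mul_ne_zero ha ha', hm, ?_⟩
            have e : ψ m' = ψ m * ψ c := by rw [← map_mul, hc]
            rw [e] at hy
            rw [map_mul]; linear_combination ψ a' * hx + ψ a * hy
          · refine ⟨a * a', m', ψ c * b + b', mul_ne_zero ha ha', hm', ?_⟩
            have e : ψ m = ψ m' * ψ c := by rw [← map_mul, hc]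
            rw [e] at hx
            rw [map_mul]; linear_combination ψ a' * hx + ψ a * hy
        smul_mem' := by
          rintro r x ⟨a, m, b, ha, hm, hx⟩
          refine ⟨a, m, r * b, ha, hm, ?_⟩
          simp only [smul_eq_mul]
          linear_combination r * hx }
    have hJ : J ≠ ⊤ := by
      rw [Ne, Ideal.eq_top_iff_one]
      rintro ⟨a, m, b, ha, hm, h1⟩
      exact h ⟨a, m, b, ha, hm, h1⟩
    obtain ⟨p, hp, hJp⟩ := Ideal.exists_le_maximal J hJ
    have hmp : p.comap ψ = maximalIdeal V := by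
      refine ((maximalIdeal.isMaximal V).eq_of_le (Ideal.comap_ne_top _ hp.ne_top) fun m hm => hJp ?_).symm
      exact ⟨1, m, 1, one_ne_zero, hm, by simp⟩
    let M : Submonoid B :=
      { carrier := {x | ∃ (a : V) (t : B), a ≠ 0 ∧ t ∉ p ∧ ψ a * t = x}
        one_mem' := ⟨1, 1, one_ne_zero, (Ideal.ne_top_iff_one p).1 hp.ne_top, by simp⟩
        mul_mem' := by
          rintro x y ⟨a, t, ha, ht, rfl⟩ ⟨a', t', ha', ht', rfl⟩
          exact ⟨a * a', t * t', mul_ne_zero ha ha', fun h => (hp.isPrime.mem_or_mem h).elim ht ht',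
            by rw [map_mul]; ring⟩ }
    have hdis : Disjoint ((⊥ : Ideal B) : Set B) (M : Set B) := by
      rw [Set.disjoint_left]
      rintro x hx ⟨a, t, ha, ht, he⟩
      rw [SetLike.mem_coe, Ideal.mem_bot] at hx
      exact ht (hJp ⟨a, 0, 0, ha, zero_mem _, by simp [he, hx]⟩)
    obtain ⟨q, hq, -, hqM⟩ := Ideal.exists_le_prime_disjoint ⊥ M hdis
    refine ⟨⟨q, hq⟩, ⟨p, hp.isPrime⟩, fun x hx => ?_, ?_, hmp⟩
    · by_contra hxp
      exact (Set.disjoint_left.1 hqM) hx ⟨1, x, one_ne_zero, hxp, by simp⟩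
    · refine le_bot_iff.1 fun a ha => ?_
      by_contra ha0
      exact (Set.disjoint_left.1 hqM) ha ⟨a, 1, ha0, (Ideal.ne_top_iff_one p).1 hp.ne_top, by simp⟩
  · rintro ⟨q, p, hqp, hq, hp⟩ ⟨a, m, b, ha, hm, h⟩
    have h1 : 1 - ψ m * b ∈ q.asIdeal := (q.2.mem_or_mem (h ▸ q.asIdeal.zero_mem)).resolve_left fun h' => by
      have : a ∈ q.asIdeal.comap ψ := h'
      rw [hq, Ideal.mem_bot] at this
      exact ha this
    have h2 : ψ m * b ∈ p.asIdeal := Ideal.mul_mem_right _ _ (show m ∈ p.asIdeal.comap ψ from hp ▸ hm)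
    have := p.asIdeal.add_mem (hqp h1) h2
    rw [sub_add_cancel] at this
    exact p.2.ne_top ((Ideal.eq_top_iff_one _).2 this)

end Algebra

/-- Sections of an affine scheme over `Spec V` as a `V`-algebra. -/
noncomputable def struct {V : CommRingCat.{u}} {Z : Scheme.{u}} (π : Z ⟶ Spec V) : V →+* Γ(Z, ⊤) :=
  ((Scheme.ΓSpecIso V).inv ≫ π.appTop).hom

theorem exists_specializes_iff {V : CommRingCat.{u}} [IsDomain V] [ValuationRing V] {Z : Scheme.{u}} [IsAffine Z]
    (π : Z ⟶ Spec V) : (∃ z' z : Z, z' ⤳ z ∧ π z' = (⟨⊥, Ideal.isPrime_bot⟩ : PrimeSpectrum V) ∧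
      π z = closedPoint V) ↔ ¬ Obstructed (struct π) := by
  rw [not_obstructed_iff]
  have e : Z.isoSpec.hom ≫ Spec.map ((Scheme.ΓSpecIso V).inv ≫ π.appTop) = π := by
    rw [Spec.map_comp, Scheme.isoSpec_hom_naturality_assoc]
    simp [Scheme.isoSpec_Spec_hom, ← Spec.map_comp]
  let h := Z.isoSpec.hom.homeomorph
  have hπ : ∀ z, π z = PrimeSpectrum.comap (struct π) (h z) := fun z => by
    conv_lhs => rw [← e]
    rfl
  constructor
  · rintro ⟨z', z, hz, h', hc⟩
    refine ⟨h z', h z, (PrimeSpectrum.le_iff_specializes _ _).2 (hz.map h.continuous), ?_, ?_⟩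
    · exact congrArg PrimeSpectrum.asIdeal ((hπ z').symm.trans h')
    · exact congrArg PrimeSpectrum.asIdeal ((hπ z).symm.trans hc)
  · rintro ⟨q, p, hqp, hq, hp⟩
    refine ⟨h.symm q, h.symm p, ((PrimeSpectrum.le_iff_specializes q p).1 hqp).map h.symm.continuous, ?_, ?_⟩
    · rw [hπ, h.apply_symm_apply]; exact PrimeSpectrum.ext hq
    · rw [hπ, h.apply_symm_apply]; exact PrimeSpectrum.ext hp

theorem hasValLift_singleton_iff {X Y : Scheme.{u}} [IsAffine X] [IsAffine Y] (f : X ⟶ Y) :
    HTop.HasValLift (PreZeroHypercover.singleton.{w} f) ↔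
      ∀ (V : CommRingCat.{u}) [IsDomain V] [ValuationRing V] (g : Spec V ⟶ Y),
        ¬ Obstructed (struct (pullback.fst g f)) := by
  refine ⟨fun h V _ _ g => (exists_specializes_iff _).1 ?_, fun h => ?_⟩
  · obtain ⟨⟨⟩, w', w, hw, e', e⟩ := VCover.exists_specializes_of_hasValLift h g
      (z' := (⟨⊥, Ideal.isPrime_bot⟩ : PrimeSpectrum V)) (z := closedPoint V)
      ((PrimeSpectrum.le_iff_specializes _ _).1 bot_le)
    exact ⟨w', w, hw, e', e⟩
  · refine VCover.hasValLift_of_specializes _ fun V _ _ g => ⟨PUnit.unit, ?_⟩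
    haveI : IsAffine (pullback g ((PreZeroHypercover.singleton.{w} f).f PUnit.unit)) :=
      inferInstanceAs (IsAffine (pullback g f))
    exact (exists_specializes_iff _).2 (h V g)

variable {Y : Scheme.{u}} [IsAffine Y] {I : Type u} [SmallCategory I] [IsCofiltered I] (D : I ⥤ Over Y)
  [∀ i, IsAffine (D.obj i).left] (c : Cone D) (hc : IsLimit ((Over.forget Y).mapCone c))

include hc in
theorem isStandardV_limit_iff :
    HTop.IsStandardV (PreZeroHypercover.singleton.{w} c.pt.hom) ↔
      ∀ i, HTop.IsStandardV (PreZeroHypercover.singleton.{w} (D.obj i).hom) := by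
  haveI : ∀ i, IsAffine ((D ⋙ Over.forget Y).obj i) := fun i => inferInstanceAs (IsAffine (D.obj i).left)
  have hX : IsAffine c.pt.left := by
    haveI : ∀ {i j : I} (f : i ⟶ j), IsAffineHom ((D ⋙ Over.forget Y).map f) := fun f => inferInstance
    haveI := isAffineHom_π_app _ _ hc (IsCofiltered.nonempty.some : I)
    exact isAffine_of_isAffineHom (((Over.forget Y).mapCone c).π.app (IsCofiltered.nonempty.some : I))
  refine ⟨fun h i => ⟨‹_›, inferInstanceAs (Finite PUnit), fun _ => inferInstanceAs (IsAffine (D.obj i).left),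
    fun V _ _ g => ?_⟩, fun h => ⟨‹_›, inferInstanceAs (Finite PUnit), fun _ => hX, ?_⟩⟩
  · obtain ⟨W, hW, hW', φ, hφ, ⟨⟩, g', hg'⟩ := h.lift V g
    refine ⟨W, hW, hW', φ, hφ, PUnit.unit, g' ≫ (c.π.app i).left, ?_⟩
    change (g' ≫ (c.π.app i).left) ≫ (D.obj i).hom = _
    rw [Category.assoc, Over.w]
    exact hg'
  · refine (hasValLift_singleton_iff _).2 fun V _ _ g hobs => ?_
    obtain ⟨a, m, b, ha, hm, he⟩ := hobs
    let P := D ⋙ Over.pullback g ⋙ Over.forget (Spec V)
    let cP := (Over.forget (Spec V)).mapCone ((Over.pullback g).mapCone c)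
    haveI : PreservesLimitsOfShape I (Over.pullback g) := by
      haveI := (Over.mapPullbackAdj g).rightAdjoint_preservesLimits
      infer_instance
    haveI : IsConnected I := IsCofiltered.isConnected I
    have hP : IsLimit cP :=
      isLimitOfPreserves _ (isLimitOfPreserves _ (isLimitOfReflects (Over.forget Y) hc))
    haveI : ∀ i, IsAffine (((D ⋙ Over.pullback g) ⋙ Over.forget (Spec V)).obj i) := fun i =>
      inferInstanceAs (IsAffine (pullback (D.obj i).hom g))
    let b' : Γ(cP.pt, ⊤) := (pullbackSymmetry c.pt.hom g).hom.appTop b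
    obtain ⟨i, t, ht⟩ := exists_appTop_π_eq_of_isAffine_of_isLimit _ _ hP b'
    let π : ∀ j, ((D ⋙ Over.pullback g) ⋙ Over.forget (Spec V)).obj j ⟶ Spec V := fun j =>
      ((D ⋙ Over.pullback g).obj j).hom
    let x : Γ(((D ⋙ Over.pullback g) ⋙ Over.forget (Spec V)).obj i, ⊤) :=
      struct (π i) a * (1 - struct (π i) m * t)
    have hx : (cP.π.app i).appTop x = 0 := by
      have key : ∀ v : V, (cP.π.app i).appTop (struct (π i) v) =
          (pullbackSymmetry c.pt.hom g).hom.appTop (struct (pullback.fst g c.pt.hom) v) := fun v => by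
        have e : cP.π.app i ≫ π i = (pullbackSymmetry c.pt.hom g).hom ≫ pullback.fst g c.pt.hom := by
          rw [pullbackSymmetry_hom_comp_fst]
          exact Over.w (((Over.pullback g).mapCone c).π.app i)
        change ((π i).appTop ≫ (cP.π.app i).appTop) _ = ((pullback.fst g c.pt.hom).appTop ≫ _) _
        rw [← Scheme.Hom.comp_appTop, e, Scheme.Hom.comp_appTop]
      simp only [x, map_mul, map_sub, map_one, key, ht, b']
      have := congrArg (pullbackSymmetry c.pt.hom g).hom.appTop.hom he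
      simp only [map_mul, map_sub, map_one, map_zero] at this
      exact this
    obtain ⟨j, φ, hj⟩ := exists_appTop_map_eq_zero_of_isAffine_of_isLimit _ _ hP i x hx
    -- the obstruction at stage `j`
    have hjobs : Obstructed (struct (π j)) := by
      refine ⟨a, m, (((D ⋙ Over.pullback g) ⋙ Over.forget (Spec V)).map φ).appTop t, ha, hm, ?_⟩
      have key : ∀ v : V, (((D ⋙ Over.pullback g) ⋙ Over.forget (Spec V)).map φ).appTop (struct (π i) v) =
          struct (π j) v := fun v => by
        change ((π i).appTop ≫ _) _ = (π j).appTop _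
        rw [← Scheme.Hom.comp_appTop]
        exact congr(($(Over.w ((D ⋙ Over.pullback g).map φ))).appTop _)
      simp only [x, map_mul, map_sub, map_one, key] at hj
      exact hj
    obtain ⟨⟨⟩, w', w, hw, e', e⟩ := VCover.exists_specializes_of_hasValLift (h j).lift g
      (z' := (⟨⊥, Ideal.isPrime_bot⟩ : PrimeSpectrum V)) (z := closedPoint V)
      ((PrimeSpectrum.le_iff_specializes _ _).1 bot_le)
    haveI : IsAffine ((D ⋙ Over.pullback g).obj j).left := inferInstanceAs (IsAffine (pullback (D.obj j).hom g))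
    refine (exists_specializes_iff (π j)).1 ?_ hjobs
    let s : pullback g (D.obj j).hom ⟶ pullback (D.obj j).hom g := (pullbackSymmetry _ _).hom
    have hs : s ≫ π j = pullback.fst g (D.obj j).hom := pullbackSymmetry_hom_comp_snd _ _
    exact ⟨s w', s w, hw.map s.continuous, (congr($hs w')).trans e', (congr($hs w)).trans e⟩

end Groth.Agent.HTop16.VLimit
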