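import Groth.Agent.HTop16.PhRefine
import Groth.Agent.HTop16.VLimit
import Mathlib.AlgebraicGeometry.AffineTransitionLimit
import Mathlib.RingTheory.FinitePresentation

/-!
# Descent of standard h coverings along cofiltered limits of affine schemes
-/

set_option autoImplicit false
set_option backward.isDefEq.respectTransparency false
set_option linter.all false

universe w u

open CategoryTheory CategoryTheory.Limits AlgebraicGeometry TopologicalSpace IsLocalRing

namespace Groth.Agent.HTop16.HDescend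

/-- Every valuation ring has an extension with algebraically closed fraction field. -/
theorem exists_extVal_algClosed (V : CommRingCat.{u}) [IsDomain V] [ValuationRing V] :
    ∃ (W : CommRingCat.{u}) (_ : IsDomain W) (_ : ValuationRing W) (_ : IsAlgClosed (FractionRing W))
      (φ : V ⟶ W), HTop.IsExtVal V W φ := by
  let K := FractionRing V
  let Ω := AlgebraicClosure K
  let ι : V →+* Ω := (algebraMap K Ω).comp (algebraMap V K)
  have hι : Function.Injective ι := (algebraMap K Ω).injective.comp (IsFractionRing.injective V K)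
  let A : LocalSubring Ω := LocalSubring.range ι
  obtain ⟨B, hB⟩ := LocalSubring.exists_le_valuationSubring A
  obtain ⟨hle, hloc⟩ := hB
  let φ : V →+* B := ι.codRestrict B.toSubring fun v => hle ⟨v, rfl⟩
  haveI : IsAlgClosed (FractionRing B) :=
    IsAlgClosed.of_ringEquiv Ω _ (FractionRing.algEquiv B Ω).toRingEquiv.symm
  refine ⟨CommRingCat.of B, inferInstanceAs (IsDomain B), inferInstanceAs (ValuationRing B), ‹_›,
    CommRingCat.ofHom φ, fun a b h => hι (congrArg Subtype.val h), ⟨fun v hv => ?_⟩⟩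
  have h1 : IsUnit (Subring.inclusion hle ⟨ι v, ⟨v, rfl⟩⟩) := hv
  have h2 : IsUnit (⟨ι v, ⟨v, rfl⟩⟩ : A.toSubring) := hloc.map_nonunit _ h1
  obtain ⟨⟨_, c, rfl⟩, hc⟩ := isUnit_iff_exists_inv.1 h2
  refine IsUnit.of_mul_eq_one c (hι ?_)
  rw [map_mul, map_one]
  exact congrArg Subtype.val hc

variable {R : CommRingCat.{u}} {B : CommRingCat.{u}} {n : ℕ}

theorem exists_presentation (β : R ⟶ B) (h : β.hom.FinitePresentation) :
    ∃ (n : ℕ) (π : MvPolynomial (Fin n) R →+* B) (F : Finset (MvPolynomial (Fin n) R)),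
      Function.Surjective π ∧ π.comp MvPolynomial.C = β.hom ∧ RingHom.ker π = Ideal.span (F : Set _) := by
  letI := β.hom.toAlgebra
  haveI : Algebra.FinitePresentation R B := h
  obtain ⟨n, π, hπ, hker⟩ := Algebra.FinitePresentation.out (R := R) (A := B)
  obtain ⟨F, hF⟩ := hker
  exact ⟨n, π.toRingHom, F, hπ, RingHom.ext π.commutes, hF.symm⟩

/-- base change of a presentation is a pushout -/
theorem isPushout_presentation {R' : CommRingCat.{u}} (a : R' ⟶ R) (β : R ⟶ B)
    (π : MvPolynomial (Fin n) R →+* B) (hπ : Function.Surjective π) (hβ : π.comp MvPolynomial.C = β.hom)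
    (G : Set (MvPolynomial (Fin n) R'))
    (hker : RingHom.ker π = Ideal.span (MvPolynomial.map a.hom '' G)) :
    ∃ inr : CommRingCat.of (MvPolynomial (Fin n) R' ⧸ Ideal.span G) ⟶ B,
      IsPushout a (CommRingCat.ofHom ((Ideal.Quotient.mk (Ideal.span G)).comp MvPolynomial.C)) β inr := by
  let θ : MvPolynomial (Fin n) R' ⧸ Ideal.span G →+* B :=
    Ideal.Quotient.lift _ (π.comp (MvPolynomial.map a.hom)) (show Ideal.span G ≤ RingHom.ker _ from
      Ideal.span_le.2 fun g hg => by
        rw [SetLike.mem_coe, RingHom.mem_ker, RingHom.comp_apply, ← RingHom.mem_ker, hker]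
        exact Ideal.subset_span ⟨g, hg, rfl⟩)
  have w : a ≫ β = CommRingCat.ofHom ((Ideal.Quotient.mk (Ideal.span G)).comp MvPolynomial.C) ≫ CommRingCat.ofHom θ := by
    ext r
    show β.hom (a.hom r) = π (MvPolynomial.map a.hom (MvPolynomial.C r))
    rw [MvPolynomial.map_C, ← hβ]
    rfl
  refine ⟨CommRingCat.ofHom θ, IsPushout.of_isColimit (c := PushoutCocone.mk β (CommRingCat.ofHom θ) w) ?_⟩
  let ev : ∀ s : PushoutCocone a (CommRingCat.ofHom ((Ideal.Quotient.mk (Ideal.span G)).comp MvPolynomial.C)),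
      MvPolynomial (Fin n) R →+* s.pt :=
    fun s => MvPolynomial.eval₂Hom s.inl.hom fun j => s.inr.hom (Ideal.Quotient.mk _ (MvPolynomial.X j))
  have hev : ∀ s, (ev s).comp (MvPolynomial.map a.hom) = s.inr.hom.comp (Ideal.Quotient.mk (Ideal.span G)) := fun s => by
    refine MvPolynomial.ringHom_ext (fun r => ?_) fun j => ?_
    · simp only [RingHom.comp_apply, MvPolynomial.map_C, ev, MvPolynomial.eval₂Hom_C]
      exact congr($(s.condition) r)
    · simp [ev]
  have hle : ∀ s, RingHom.ker π ≤ RingHom.ker (ev s) := fun s => by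
    rw [hker, Ideal.span_le]
    rintro _ ⟨g, hg, rfl⟩
    rw [SetLike.mem_coe, RingHom.mem_ker]
    refine (RingHom.congr_fun (hev s) g).trans ?_
    rw [RingHom.comp_apply, Ideal.Quotient.eq_zero_iff_mem.2 (Ideal.subset_span hg), map_zero]
  let d : ∀ s, B →+* (s : PushoutCocone a _).pt := fun s => RingHom.liftOfSurjective π hπ ⟨ev s, hle s⟩
  have hd : ∀ s p, d s (π p) = ev s p := fun s p => RingHom.liftOfRightInverse_comp_apply _ _ _ _ p
  refine PushoutCocone.IsColimit.mk w (fun s => CommRingCat.ofHom (d s)) (fun s => ?_) (fun s => ?_) fun s m h1 h2 => ?_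
  · ext r
    show d s (β.hom r) = s.inl.hom r
    rw [← hβ, RingHom.comp_apply, hd]
    exact MvPolynomial.eval₂Hom_C _ _ r
  · refine CommRingCat.hom_ext (RingHom.ext fun q => ?_)
    obtain ⟨q, rfl⟩ := Ideal.Quotient.mk_surjective q
    show d s (π (MvPolynomial.map a.hom q)) = _
    rw [hd]
    exact RingHom.congr_fun (hev s) q
  · ext b
    obtain ⟨p, rfl⟩ := hπ b
    show m.hom (π p) = d s (π p)
    rw [hd]
    refine RingHom.congr_fun (MvPolynomial.ringHom_ext (f := m.hom.comp π) (fun r => ?_) fun j => ?_) p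
    · show m.hom (π (MvPolynomial.C r)) = _
      rw [show π (MvPolynomial.C r) = β.hom r from RingHom.congr_fun hβ r, MvPolynomial.eval₂Hom_C]
      exact congr($h1 r)
    · show m.hom (π (MvPolynomial.X j)) = _
      rw [MvPolynomial.eval₂Hom_X', ← MvPolynomial.map_X a.hom j]
      exact congr($h2 (Ideal.Quotient.mk _ (MvPolynomial.X j)))

/-- a map to a finitely generated ring factors through a stage of a limit -/
theorem exists_stage {I : Type u} [SmallCategory I] [IsCofiltered I] (D : I ⥤ Scheme.{u}) [∀ i, IsAffine (D.obj i)]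
    (c : Cone D) (hc : IsLimit c) (R₀ : CommRingCat.{u}) (t : Finset R₀) (ht : Subring.closure (t : Set R₀) = ⊤)
    (g : c.pt ⟶ Spec R₀) :
    ∃ (i : I) (h : D.obj i ⟶ Spec R₀), c.π.app i ≫ h = g := by
  let Z : CommRingCat.{u} := CommRingCat.of (ULift.{u} ℤ)
  let f₀ : Z ⟶ R₀ := CommRingCat.ofHom ((Int.castRingHom R₀).comp ULift.ringEquiv.toRingHom)
  haveI : IsNoetherianRing Z := isNoetherianRing_of_ringEquiv ℤ ULift.ringEquiv.symm
  have hfp : f₀.hom.FinitePresentation := by
    refine RingHom.FinitePresentation.of_finiteType.1 ?_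
    letI := f₀.hom.toAlgebra
    show Algebra.FiniteType (ULift.{u} ℤ) R₀
    refine ⟨⟨t, ?_⟩⟩
    refine top_unique fun x _ => ?_
    have hx : x ∈ Subring.closure (t : Set R₀) := ht.symm ▸ Subring.mem_top x
    exact (Subring.closure_le (t := (Algebra.adjoin (ULift.{u} ℤ) (t : Set R₀)).toSubring)).2 Algebra.subset_adjoin hx
  haveI : LocallyOfFinitePresentation (Spec.map f₀) :=
    (HasRingHomProperty.Spec_iff (P := @LocallyOfFinitePresentation)).2 hfp
  have hz : ∀ {T : Scheme.{u}} (a b : T ⟶ Spec Z), a = b := fun a b => specULiftZIsTerminal.hom_ext a b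
  haveI : ∀ {i j} (φ : i ⟶ j), IsAffineHom (D.map φ) := fun φ => inferInstance
  obtain ⟨i, h, hh, -⟩ := Scheme.exists_π_app_comp_eq_of_locallyOfFinitePresentation D
    { app := fun i => specULiftZIsTerminal.from (D.obj i), naturality := fun _ _ _ => hz _ _ }
    (Spec.map f₀) c hc g (NatTrans.ext (funext fun i => hz _ _))
  exact ⟨i, h, hh⟩

theorem isVCover_of_isStandardV {T : Scheme.{u}} {E : PreZeroHypercover.{w} T} (hE : HTop.IsStandardV E) :
    HTop.IsVCover E := fun U => by
  haveI : IsAffine (U.1 : Scheme.{u}) := U.2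
  haveI := hE.finite_index
  obtain ⟨m, ⟨e⟩⟩ := Finite.exists_equiv_fin E.I₀
  have h := VCover.isStandardV_pullback U.1.ι hE
  refine ⟨{ I₀ := Fin m
            X := fun k => pullback U.1.ι (E.f (e.symm k))
            f := fun k => pullback.fst U.1.ι (E.f (e.symm k)) },
    ⟨‹_›, inferInstanceAs (Finite (Fin m)), fun k => h.isAffine_obj (e.symm k), fun V _ _ g => ?_⟩,
    fun k => ⟨e.symm k, pullback.snd _ _, pullback.condition.symm⟩⟩
  obtain ⟨W, hW, hW', φ, hφ, j, g', hg'⟩ := h.lift V g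
  obtain ⟨k, rfl⟩ := e.symm.surjective j
  exact ⟨W, hW, hW', φ, hφ, k, g', hg'⟩

theorem exists_descend {I : Type u} [SmallCategory I] [IsCofiltered I] (D : I ⥤ Scheme.{u})
    [∀ i, IsAffine (D.obj i)] (c : Cone D) (hc : IsLimit c) [IsAffine c.pt] (V : PreZeroHypercover.{w} c.pt)
    (hV : HTop.IsStandardH V) :
    ∃ (i : I) (W : PreZeroHypercover.{w} (D.obj i)), HTop.IsStandardH W ∧ ∃ (σ : V.I₀ ≃ W.I₀)
      (e : ∀ j, V.X j ≅ pullback (c.π.app i) (W.f (σ j))),
      ∀ j, (e j).hom ≫ pullback.fst (c.π.app i) (W.f (σ j)) = V.f j := by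
  classical
  haveI := hV.finite_index
  haveI := hV.isAffine_obj
  haveI := hV.finitePresentation
  obtain ⟨m, ⟨e₀⟩⟩ := Finite.exists_equiv_fin V.I₀
  let R : CommRingCat.{u} := Γ(c.pt, ⊤)
  let B : Fin m → CommRingCat.{u} := fun k => Γ(V.X (e₀.symm k), ⊤)
  let β : ∀ k, R ⟶ B k := fun k => (V.f (e₀.symm k)).appTop
  have hfp : ∀ k, (β k).hom.FinitePresentation := fun k =>
    (HasRingHomProperty.iff_of_isAffine (P := @LocallyOfFinitePresentation)).1 (hV.finitePresentation _)
  choose n π F hπ hβ hker using fun k => exists_presentation (β k) (hfp k)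
  have hlift := VCover.hasValLift_of_isVCover hV.isVCover
  have hC : ValUltra.Cov (R := R) (n := n) fun k => (F k : Set (MvPolynomial (Fin (n k)) R)) := by
    intro A _ _ _ _ χ
    obtain ⟨W', _, _, φ, hφ, j, g', hg'⟩ :=
      hlift (CommRingCat.of A) (Spec.map (CommRingCat.ofHom χ) ≫ c.pt.isoSpec.inv)
    obtain ⟨k, rfl⟩ := e₀.symm.surjective j
    let ψ : B k ⟶ W' := Spec.preimage (g' ≫ (V.X (e₀.symm k)).isoSpec.hom)
    have hψ : β k ≫ ψ = CommRingCat.ofHom χ ≫ φ := Spec.map_injective (by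
      rw [Spec.map_comp, Spec.map_comp, Spec.map_preimage, Category.assoc,
        show Spec.map (β k) = (V.X (e₀.symm k)).isoSpec.inv ≫ V.f (e₀.symm k) ≫ c.pt.isoSpec.hom by
          rw [← Scheme.isoSpec_hom_naturality, Iso.inv_hom_id_assoc],
        Iso.hom_inv_id_assoc, reassoc_of% hg', Iso.inv_hom_id, Category.comp_id])
    let v : Fin (n k) → W' := fun j => ψ.hom (π k (MvPolynomial.X j))
    let fφ : A →+* W' := φ.hom
    have e : ψ.hom.comp (π k) = MvPolynomial.eval₂Hom (fφ.comp χ) v := by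
      refine MvPolynomial.ringHom_ext (fun r => ?_) fun j => ?_
      · rw [MvPolynomial.eval₂Hom_C, RingHom.comp_apply]
        exact (congrArg ψ.hom (RingHom.congr_fun (hβ k) r)).trans congr($hψ r)
      · rw [MvPolynomial.eval₂Hom_X']
        rfl
    let J : Ideal (MvPolynomial (Fin (n k)) A) := Ideal.span (MvPolynomial.map χ '' (F k : Set _))
    have hJ : ∀ a ∈ J, MvPolynomial.eval₂Hom fφ v a = 0 := fun a ha => by
      refine (Ideal.span_le.2 ?_ : J ≤ RingHom.ker (MvPolynomial.eval₂Hom fφ v)) ha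
      rintro _ ⟨p, hp, rfl⟩
      rw [SetLike.mem_coe, RingHom.mem_ker, MvPolynomial.coe_eval₂Hom, MvPolynomial.eval₂_map]
      refine (RingHom.congr_fun e p).symm.trans ?_
      rw [RingHom.comp_apply, show π k p = 0 from (hker k).ge (Ideal.subset_span hp), map_zero]
    haveI : IsLocalHom fφ := hφ.2
    obtain ⟨ρ⟩ := ValPoint.exists_point (A := MvPolynomial (Fin (n k)) A ⧸ J) fφ hφ.1
      (Ideal.Quotient.lift J (MvPolynomial.eval₂Hom fφ v) hJ)
      (RingHom.ext fun r => MvPolynomial.eval₂Hom_C fφ v r)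
    refine ⟨k, fun j => ρ (Ideal.Quotient.mk J (MvPolynomial.X j)), fun p hp => ?_⟩
    have e2 : (ρ.toRingHom.comp (Ideal.Quotient.mk J)).comp (MvPolynomial.map χ) =
        MvPolynomial.eval₂Hom χ (fun j => ρ (Ideal.Quotient.mk J (MvPolynomial.X j))) := by
      refine MvPolynomial.ringHom_ext (fun r => ?_) fun j => ?_
      · rw [MvPolynomial.eval₂Hom_C, RingHom.comp_apply, MvPolynomial.map_C]
        exact ρ.commutes (χ r)
      · rw [MvPolynomial.eval₂Hom_X', RingHom.comp_apply, MvPolynomial.map_X]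
        rfl
    refine (RingHom.congr_fun e2 p).symm.trans ?_
    rw [RingHom.comp_apply, RingHom.comp_apply,
      Ideal.Quotient.eq_zero_iff_mem.2 (show MvPolynomial.map χ p ∈ J from Ideal.subset_span ⟨p, hp, rfl⟩), map_zero]
  obtain ⟨R₀, G, ⟨t, ht⟩, hG, hC₀⟩ := ValUltra.exists_fg_cov _ (fun k => (F k).finite_toSet) hC
  let t₀ : Finset (CommRingCat.of R₀) := t.subtype (· ∈ R₀)
  obtain ⟨i, h, hh⟩ := exists_stage D c hc (CommRingCat.of R₀) t₀ (by
    refine top_unique ?_
    rintro ⟨x, hx⟩ -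
    have hx' : x ∈ (Subring.closure (t₀ : Set R₀)).map R₀.subtype := by
      rw [RingHom.map_closure]
      refine (Subring.closure_mono fun y hy => ?_) (ht.le hx)
      exact ⟨⟨y, ht.ge (Subring.subset_closure hy)⟩, Finset.mem_subtype.2 hy, rfl⟩
    obtain ⟨y, hy, hyx⟩ := hx'
    rwa [show (⟨x, hx⟩ : R₀) = y from Subtype.ext hyx.symm])
    (c.pt.isoSpec.hom ≫ Spec.map (CommRingCat.ofHom R₀.subtype))
  let R' : CommRingCat.{u} := Γ(D.obj i, ⊤)
  let a : R' ⟶ R := (c.π.app i).appTop
  let a₀ : CommRingCat.of R₀ ⟶ R' := Spec.preimage ((D.obj i).isoSpec.inv ≫ h)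
  have ha : a₀ ≫ a = CommRingCat.ofHom R₀.subtype := Spec.map_injective (by
    rw [← cancel_epi c.pt.isoSpec.hom, Spec.map_comp, Spec.map_preimage,
      Scheme.isoSpec_hom_naturality_assoc, Iso.hom_inv_id_assoc, hh])
  let G' : ∀ k, Set (MvPolynomial (Fin (n k)) R') := fun k => MvPolynomial.map a₀.hom '' G k
  have hG' : ∀ k, MvPolynomial.map a.hom '' G' k = F k := fun k => by
    rw [← hG k, Set.image_image]
    refine Set.image_congr fun g _ => ?_
    rw [MvPolynomial.map_map, ← CommRingCat.hom_comp, ha]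
    rfl
  let Q : Fin m → CommRingCat.{u} := fun k => CommRingCat.of (MvPolynomial (Fin (n k)) R' ⧸ Ideal.span (G' k))
  let q : ∀ k, R' ⟶ Q k := fun k =>
    CommRingCat.ofHom ((Ideal.Quotient.mk (Ideal.span (G' k))).comp MvPolynomial.C)
  choose inr hpo using fun k => isPushout_presentation (B := B k) a (β k) (π k) (hπ k) (hβ k) (G' k)
    (by rw [hG' k]; exact hker k)
  let W : PreZeroHypercover.{w} (D.obj i) :=
    { I₀ := ULift.{w} (Fin m)
      X := fun k => Spec (Q k.down)
      f := fun k => Spec.map (q k.down) ≫ (D.obj i).isoSpec.inv }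
  have hWlift : HTop.HasValLift W := by
    intro A _ _ g
    obtain ⟨A', _, _, _, φ, hφ⟩ := exists_extVal_algClosed A
    let χ : R' ⟶ A' := Spec.preimage (g ≫ (D.obj i).isoSpec.hom) ≫ φ
    obtain ⟨k, v, hv⟩ := hC₀ A' (a₀ ≫ χ).hom
    let θ : Q k ⟶ A' := CommRingCat.ofHom (Ideal.Quotient.lift _ (MvPolynomial.eval₂Hom χ.hom v)
      (show Ideal.span (G' k) ≤ RingHom.ker _ from Ideal.span_le.2 (by
        rintro _ ⟨g, hg, rfl⟩
        rw [SetLike.mem_coe, RingHom.mem_ker, MvPolynomial.coe_eval₂Hom, MvPolynomial.eval₂_map]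
        exact hv g hg)))
    have hθ : q k ≫ θ = χ := by
      ext r
      exact MvPolynomial.eval₂Hom_C _ _ r
    refine ⟨A', ‹_›, ‹_›, φ, hφ, ⟨k⟩, Spec.map θ, ?_⟩
    show Spec.map θ ≫ Spec.map (q k) ≫ (D.obj i).isoSpec.inv = _
    rw [← Spec.map_comp_assoc, hθ, Spec.map_comp, Spec.map_preimage]
    simp
  haveI : ∀ k, LocallyOfFinitePresentation (Spec.map (q k)) := fun k => by
    refine (HasRingHomProperty.Spec_iff (P := @LocallyOfFinitePresentation)).2 ?_
    refine (RingHom.FinitePresentation.of_surjective _ Ideal.Quotient.mk_surjective ?_).comp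
      (RingHom.finitePresentation_algebraMap.2 (inferInstanceAs (Algebra.FinitePresentation R' (MvPolynomial (Fin (n k)) R'))))
    have hGfin : (G k).Finite := Set.Finite.of_finite_image (by rw [hG k]; exact (F k).finite_toSet)
      (MvPolynomial.map_injective _ R₀.subtype_injective).injOn
    rw [Ideal.mk_ker]
    exact ⟨(hGfin.image _).toFinset, by rw [Set.Finite.coe_toFinset]⟩
  refine ⟨i, W, ⟨inferInstance, inferInstanceAs (Finite (ULift (Fin m))), fun k => inferInstanceAs (IsAffine (Spec _)),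
    fun k => ?_, isVCover_of_isStandardV ⟨inferInstance, inferInstanceAs (Finite (ULift (Fin m))),
      fun k => inferInstanceAs (IsAffine (Spec _)), hWlift⟩⟩, e₀.trans Equiv.ulift.symm, ?_⟩
  · exact inferInstanceAs (LocallyOfFinitePresentation (Spec.map (q k.down) ≫ (D.obj i).isoSpec.inv))
  have key : ∀ k, ∃ e : V.X (e₀.symm k) ≅ pullback (c.π.app i) (W.f ⟨k⟩),
      e.hom ≫ pullback.fst (c.π.app i) (W.f ⟨k⟩) = V.f (e₀.symm k) := fun k => by
    haveI : IsAffine (((Functor.const I).obj c.pt).obj i) := ‹IsAffine c.pt›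
    have sq := isPullback_SpecMap_of_isPushout _ _ _ _ (hpo k)
    have sq' : IsPullback (V.f (e₀.symm k)) ((V.X (e₀.symm k)).isoSpec.hom ≫ Spec.map (inr k))
        (c.π.app i) (W.f ⟨k⟩) :=
      sq.of_iso (V.X (e₀.symm k)).isoSpec.symm c.pt.isoSpec.symm (Iso.refl _) (D.obj i).isoSpec.symm
        (Scheme.isoSpec_inv_naturality (V.f (e₀.symm k))) (by simp [Iso.hom_inv_id_assoc])
        (Scheme.isoSpec_inv_naturality (c.π.app i)) (by simp [W, q])
    exact ⟨sq'.isoPullback, sq'.isoPullback_hom_fst⟩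
  have key' : ∀ j, ∃ e : V.X j ≅ pullback (c.π.app i) (W.f ((e₀.trans Equiv.ulift.symm) j)),
      e.hom ≫ pullback.fst (c.π.app i) (W.f ((e₀.trans Equiv.ulift.symm) j)) = V.f j := fun j => by
    have : ∀ j', j' = e₀.symm (e₀ j) → ∃ e : V.X j' ≅ pullback (c.π.app i) (W.f ⟨e₀ j⟩),
        e.hom ≫ pullback.fst (c.π.app i) (W.f ⟨e₀ j⟩) = V.f j' := fun j' hj => by
      subst hj
      exact key (e₀ j)
    exact this j (e₀.symm_apply_apply j).symm
  choose e he using key'
  exact ⟨e, he⟩

end Groth.Agent.HTop16.HDescend
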