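import Groth.Agent.HTop16.SectOn
import Groth.Agent.ExtSS.Global
import Groth.Agent.ExtSS.QuotZ
import Groth.Agent.SpecSeq.CompExact

/-!
# The local-to-global spectral sequence of cohomology with supports
-/

set_option autoImplicit false
set_option backward.isDefEq.respectTransparency false

universe u

open CategoryTheory CategoryTheory.Limits CategoryTheory.Abelian Opposite

namespace Groth.Agent.HTop16.HZLocalGlobal

open ExtSS

variable {C : Type u} [SmallCategory C] {J : GrothendieckTopology C} {O : Sheaf J CommRingCat.{u}} (U : C)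
  [ModSite.HasPushOver O U]

/-- Global sections with support are the maps out of `ℤ / ℤ_U`. -/
noncomputable def compIso :
    (ModSite.sectOn O U ⋙ toAbF O) ⋙ SpecSeq.homFrom (constZ J) ≅
      toAbF O ⋙ SpecSeq.homFrom (ToposFin.quotZ (ToposFin.eps J U)) :=
  Functor.associator _ _ _ ≪≫ Functor.isoWhiskerLeft _ globalIso ≪≫
    SpecSeq.homFromCompIso (quotSectAdj U) (ModSite.unit O) ≪≫ (quotZHomIso U).symm

theorem isZero_rightDerived_global (Q : ModSite.Mod O) [Injective Q] {q : ℕ} (hq : 0 < q) :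
    IsZero (((SpecSeq.homFrom (constZ J)).rightDerived q).obj ((toAbF O).obj ((ModSite.sectOn O U).obj Q))) := by
  obtain ⟨k, rfl⟩ : ∃ k, q = k + 1 := ⟨q - 1, by omega⟩
  haveI := preservesInjectiveObjects_sectOn (O := O) U
  haveI : Injective ((ModSite.sectOn O U).obj Q) := (ModSite.sectOn O U).injective_obj_of_injective inferInstance
  have : Subsingleton (Ext.{u} (constZ J) ((toAbF O).obj ((ModSite.sectOn O U).obj Q)) (k + 1)) :=
    S0491.subsingleton_of_iso J (S0491.constFreeIso J) (k + 1)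
      (SiteDer16.ModAcyclic.isTotallyAcyclic_toSheaf (ModSite.ringSh O) ((ModSite.sectOn O U).obj Q)
        (S0491.ptSheaf J) k)
  exact IsZero.of_iso (AddCommGrpCat.isZero_of_subsingleton _) (SpecSeq.homFromDerivedIso _ _ (k + 1))

/-- The spectral sequence. -/
theorem exists_spectralSequence (M : ModSite.Mod O) [HasInjectiveResolutions (ModSite.Mod O)]
    {H : ℤ → AddCommGrpCat.{u}} {E₂ : ℤ → ℤ → AddCommGrpCat.{u}}
    (eH : ∀ n : ℕ, Nonempty (AddCommGrpCat.of (ModSite.HZ U M n) ≅ H n))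
    (zH : ∀ n : ℤ, n < 0 → IsZero (H n))
    (eX : ∀ p q : ℕ, Nonempty (AddCommGrpCat.of (ModSite.HC O ((ModSite.HZsh O U q).obj M) p) ≅ E₂ p q))
    (zX : ∀ p q : ℤ, ¬ (0 ≤ p ∧ 0 ≤ q) → IsZero (E₂ p q)) :
    ∃ (E : E₂CohomologicalSpectralSequence AddCommGrpCat.{u}) (a : SpSeq.Abutment E H),
      (∀ n, a.IsFinite n) ∧ SpSeq.IsBounded E ∧
      ∀ p q : ℤ, Nonempty ((E.page 2 le_rfl).X (p, q) ≅ E₂ p q) := by
  have := SpecSeq.enoughInjectives_of_hasInjectiveResolutions (ModSite.Mod O)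
  haveI : (ModSite.sectOn O U ⋙ toAbF O).Additive := inferInstance
  refine SpecSeq.exists_composite (ModSite.sectOn O U ⋙ toAbF O) (SpecSeq.homFrom (constZ J))
    (fun Q _ q hq => isZero_rightDerived_global U Q hq) M (fun n => ?_) zH (fun p q => ?_) zX
  · obtain ⟨e⟩ := eH n
    obtain ⟨e₁⟩ := SpecSeq.nonempty_rightDerived_exactComp (toAbF O)
      (SpecSeq.homFrom (ToposFin.quotZ (ToposFin.eps J U))) (fun Q _ q hq => by
        obtain ⟨k, rfl⟩ : ∃ k, q = k + 1 := ⟨q - 1, by omega⟩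
        haveI := SectOn.subsingleton_HZ U Q (SiteDer16.ModAcyclic.isTotallyAcyclic_toSheaf (ModSite.ringSh O) Q) k
        exact IsZero.of_iso (AddCommGrpCat.isZero_of_subsingleton (AddCommGrpCat.of (ModSite.HZ U Q (k + 1))))
          (SpecSeq.homFromDerivedIso _ _ (k + 1))) M n
    exact ⟨(SiteCoh.rightDerivedCongr (compIso U) n).app M ≪≫ e₁ ≪≫ SpecSeq.homFromDerivedIso _ _ n ≪≫ e⟩
  · obtain ⟨e⟩ := eX p q
    exact ⟨((SpecSeq.homFrom (constZ J)).rightDerived p).mapIso
        ((SiteCoh.rightDerivedCompExactIso (ModSite.sectOn O U) (toAbF O) q).app M) ≪≫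
      SpecSeq.homFromDerivedIso _ _ p ≪≫ e⟩

end Groth.Agent.HTop16.HZLocalGlobal
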