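import Groth.Prelude.Def_ModSite
import Groth.Agent.DerCompLib.SiteFlat
import Mathlib.CategoryTheory.Sites.Over

/-!
# Gluing along locally flat functors on slices

A natural family on the spans `v ← w → d` of `D` glues to a natural family on the spans
`fn v ← c → fn d` of `C`, and the functor between the slices is continuous.
-/

set_option autoImplicit false
set_option backward.isDefEq.respectTransparency false
set_option linter.all false

universe u

open CategoryTheory CategoryTheory.Limits Opposite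

namespace Groth.Agent.HTop16.PullOver

open Groth.Agent.DerCompLib

section Glue

variable {E : Type u} [SmallCategory E] {L : GrothendieckTopology E} {P : Eᵒᵖ ⥤ Type u}

lemma sep_loc (hP : Presieve.IsSheaf L P) {o : E} {x x' : P.obj (op o)}
    (h : Loc L o fun Z g => P.map g.op x = P.map g.op x') : x = x' := by
  obtain ⟨S, hS, hS'⟩ := h
  exact (hP S hS).isSeparatedFor.ext fun Z g hg => hS' g hg

/-- Gluing along a functional relation which is locally defined. -/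
theorem exists_glue (hP : Presieve.IsSheaf L P) {o : E} (Rel : ∀ ⦃Z : E⦄, (Z ⟶ o) → P.obj (op Z) → Prop)
    (hres : ∀ ⦃Z Z' : E⦄ (g : Z ⟶ o) (h : Z' ⟶ Z) v, Rel g v → Rel (h ≫ g) (P.map h.op v))
    (huniq : ∀ ⦃Z : E⦄ (g : Z ⟶ o) v v', Rel g v → Rel g v' → v = v')
    (hloc : Loc L o fun Z g => ∃ v, Rel g v) :
    ∃ x : P.obj (op o), ∀ ⦃Z : E⦄ (g : Z ⟶ o) v, Rel g v → P.map g.op x = v := by
  obtain ⟨S, hS, hS'⟩ := hloc
  choose v hv using fun (Z : E) (g : Z ⟶ o) (hg : S g) => hS' g hg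
  have hc : Presieve.FamilyOfElements.Compatible (fun Z g hg => v Z g hg : Presieve.FamilyOfElements P S.arrows) := by
    rw [Presieve.compatible_iff_sieveCompatible]
    intro Y Z g h hg
    exact huniq _ _ _ (hv _ _ _) (hres g h _ (hv _ _ hg))
  obtain ⟨x, hx, -⟩ := hP S hS _ hc
  refine ⟨x, fun Z g w hw => sep_loc hP ⟨S.pullback g, L.pullback_stable g hS, fun Z' h hh => ?_⟩⟩
  show P.map h.op (P.map g.op x) = P.map h.op w
  rw [← types_comp_apply (P.map g.op) (P.map h.op), ← P.map_comp, ← op_comp, hx (h ≫ g) hh]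
  exact huniq _ _ _ (hv _ _ hh) (hres g h _ hw)

end Glue

variable {C D : Type u} [SmallCategory C] [SmallCategory D] {J : GrothendieckTopology C}
  {K : GrothendieckTopology D} {fn : D ⥤ C} {d : D} {P : (Over (fn.obj d))ᵒᵖ ⥤ Type u}

lemma loc_over {c₀ : C} {o : Over c₀} {Q : ∀ ⦃Z : C⦄, (Z ⟶ o.left) → Prop} (h : Loc J o.left Q) :
    Loc (J.over c₀) o fun Z g => Q g.left := by
  obtain ⟨S, hS, hS'⟩ := h
  exact ⟨_, J.overEquiv_symm_mem_over o S hS, fun Z g hg => hS' g.left ((Sieve.overEquiv_symm_iff S g).1 hg)⟩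

/-- The image of an object of the slice. -/
abbrev im {w : D} (q : w ⟶ d) : Over (fn.obj d) := Over.mk (fn.map q)

/-- The image of a map of the slice. -/
abbrev imMap {w w' : D} (r : w' ⟶ w) (q : w ⟶ d) : (im (fn := fn) (r ≫ q)) ⟶ im q :=
  Over.homMk (fn.map r) (fn.map_comp r q).symm

/-- A natural family on spans. -/
structure SpanFam (P : (Over (fn.obj d))ᵒᵖ ⥤ Type u) (v : D) where
  /-- The domain. -/
  Dom : ∀ w : D, (w ⟶ v) → (w ⟶ d) → Prop
  dom_comp : ∀ {w w' : D} (r : w' ⟶ w) p q, Dom w p q → Dom w' (r ≫ p) (r ≫ q)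
  /-- The values. -/
  val : ∀ (w : D) (p : w ⟶ v) (q : w ⟶ d), Dom w p q → P.obj (op (im q))
  nat : ∀ {w w' : D} (r : w' ⟶ w) p q (h : Dom w p q),
    P.map (imMap r q).op (val w p q h) = val w' (r ≫ p) (r ≫ q) (dom_comp r p q h)

/-- The glued value has to restrict to the values on spans. -/
def IsGlued {v : D} (y : SpanFam P v) (o : Over (fn.obj d)) (a : o.left ⟶ fn.obj v) (x : P.obj (op o)) : Prop :=
  ∀ (Z : Over (fn.obj d)) (g : Z ⟶ o) (w : D) (p : w ⟶ v) (q : w ⟶ d) (h : y.Dom w p q) (k : Z ⟶ im q),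
    k.left ≫ fn.map p = g.left ≫ a → P.map g.op x = P.map k.op (y.val w p q h)

variable (hflat : LocFlat K J fn) (hP : Presieve.IsSheaf (J.over (fn.obj d)) P)

include hflat hP in
/-- Two spans give the same restrictions. -/
lemma span_indep {v : D} (y : SpanFam P v) {Z : Over (fn.obj d)} {w w' : D} {p : w ⟶ v} {q : w ⟶ d}
    (h : y.Dom w p q) {p' : w' ⟶ v} {q' : w' ⟶ d} (h' : y.Dom w' p' q') (k : Z ⟶ im q) (k' : Z ⟶ im q')
    (e : k.left ≫ fn.map p = k'.left ≫ fn.map p') :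
    P.map k.op (y.val w p q h) = P.map k'.op (y.val w' p' q' h') := by
  have H : Loc J Z.left fun Z₂ g => ∃ (u : D) (r : u ⟶ w) (r' : u ⟶ w') (l : Z₂ ⟶ fn.obj u), r ≫ p = r' ≫ p' ∧
      r ≫ q = r' ≫ q' ∧ l ≫ fn.map r = g ≫ k.left ∧ l ≫ fn.map r' = g ≫ k'.left := by
    refine (hflat.pair k.left k'.left).bind fun Z₁ g₁ ⟨u, r, r', l, hl, hl'⟩ => ?_
    have e₁ : l ≫ fn.map (r ≫ p) = l ≫ fn.map (r' ≫ p') := by
      simp only [Functor.map_comp, ← Category.assoc, hl, hl']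
      simp only [Category.assoc, e]
    refine (hflat.equ _ _ l e₁).bind fun Z₂ g₂ ⟨u₂, i, l₂, hi, hl₂⟩ => ?_
    have hq : k.left ≫ fn.map q = Z.hom := Over.w k
    have hq' : k'.left ≫ fn.map q' = Z.hom := Over.w k'
    have e₂ : l₂ ≫ fn.map (i ≫ r ≫ q) = l₂ ≫ fn.map (i ≫ r' ≫ q') := by
      simp only [Functor.map_comp, reassoc_of% hl₂, reassoc_of% hl, reassoc_of% hl', hq, hq']
    refine (hflat.equ _ _ l₂ e₂).mono fun Z₃ g₃ ⟨u₃, i', l₃, hi', hl₃⟩ =>
      ⟨u₃, i' ≫ i ≫ r, i' ≫ i ≫ r', l₃, ?_, ?_, ?_, ?_⟩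
    · simp only [Category.assoc]
      rw [hi]
    · simpa only [Category.assoc] using hi'
    · simp only [Functor.map_comp, reassoc_of% hl₃, reassoc_of% hl₂, hl, Category.assoc]
    · simp only [Functor.map_comp, reassoc_of% hl₃, reassoc_of% hl₂, hl', Category.assoc]
  refine sep_loc hP ((loc_over H).mono ?_)
  rintro Z₂ g ⟨u, r, r', l, hp, hq, hl, hl'⟩
  let l₀ : Z₂ ⟶ im (fn := fn) (r ≫ q) := Over.homMk l (by
    show l ≫ fn.map (r ≫ q) = Z₂.hom
    rw [fn.map_comp, reassoc_of% hl]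
    exact (congrArg (g.left ≫ ·) (Over.w k)).trans (Over.w g))
  let l₀' : Z₂ ⟶ im (fn := fn) (r' ≫ q') := Over.homMk l (by
    show l ≫ fn.map (r' ≫ q') = Z₂.hom
    rw [fn.map_comp, reassoc_of% hl']
    exact (congrArg (g.left ≫ ·) (Over.w k')).trans (Over.w g))
  have a₁ : g ≫ k = l₀ ≫ imMap r q := Over.OverMorphism.ext hl.symm
  have a₂ : g ≫ k' = l₀' ≫ imMap r' q' := Over.OverMorphism.ext hl'.symm
  simp only [← types_comp_apply (P.map _) (P.map _), ← P.map_comp, ← op_comp, a₁, a₂]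
  simp only [op_comp, P.map_comp, types_comp_apply, y.nat]
  have key : ∀ (p₁ p₂ : u ⟶ v) (q₁ q₂ : u ⟶ d) (hp : p₁ = p₂) (hq : q₁ = q₂) (h₁ : y.Dom u p₁ q₁)
      (h₂ : y.Dom u p₂ q₂) (m₁ : Z₂ ⟶ im q₁) (m₂ : Z₂ ⟶ im q₂), m₁.left = m₂.left →
      P.map m₁.op (y.val u p₁ q₁ h₁) = P.map m₂.op (y.val u p₂ q₂ h₂) := by
    rintro p₁ _ q₁ _ rfl rfl h₁ h₂ m₁ m₂ hm
    rw [Over.OverMorphism.ext hm]
  exact key _ _ _ _ hp hq _ _ _ _ rfl

include hflat hP in
/-- Gluing. -/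
theorem exists_isGlued {v : D} (y : SpanFam P v) (o : Over (fn.obj d)) (a : o.left ⟶ fn.obj v)
    (hdom : Loc J o.left fun Z g => ∃ (w : D) (p : w ⟶ v) (q : w ⟶ d) (k : Z ⟶ fn.obj w),
      y.Dom w p q ∧ k ≫ fn.map p = g ≫ a ∧ k ≫ fn.map q = g ≫ o.hom) :
    ∃ x, IsGlued y o a x := by
  obtain ⟨x, hx⟩ := exists_glue hP (o := o) (fun Z g t => ∃ (w : D) (p : w ⟶ v) (q : w ⟶ d) (h : y.Dom w p q)
      (k : Z ⟶ im q), k.left ≫ fn.map p = g.left ≫ a ∧ P.map k.op (y.val w p q h) = t)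
    (fun Z Z' g i t ⟨w, p, q, h, k, e, ht⟩ => ⟨w, p, q, h, i ≫ k, by simp [e],
      by rw [op_comp, P.map_comp, types_comp_apply, ht]⟩)
    (fun Z g t t' ⟨w, p, q, h, k, e, ht⟩ ⟨w', p', q', h', k', e', ht'⟩ => by
      rw [← ht, ← ht']
      exact span_indep hflat hP y h h' k k' (e.trans e'.symm))
    ((loc_over hdom).mono fun Z g ⟨w, p, q, k, h, e, e'⟩ => by
      have hk : k ≫ (im (fn := fn) q).hom = Z.hom := e'.trans (Over.w g)
      exact ⟨_, w, p, q, h, Over.homMk k hk, e, rfl⟩)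
  exact ⟨x, fun Z g w p q h k e => hx g _ ⟨w, p, q, h, k, e, rfl⟩⟩

include hP in
/-- Uniqueness. -/
lemma isGlued_unique {v : D} {y : SpanFam P v} {o : Over (fn.obj d)} {a : o.left ⟶ fn.obj v}
    (hdom : Loc J o.left fun Z g => ∃ (w : D) (p : w ⟶ v) (q : w ⟶ d) (k : Z ⟶ fn.obj w),
      y.Dom w p q ∧ k ≫ fn.map p = g ≫ a ∧ k ≫ fn.map q = g ≫ o.hom)
    {x x' : P.obj (op o)} (hx : IsGlued y o a x) (hx' : IsGlued y o a x') : x = x' :=
  sep_loc hP ((loc_over hdom).mono fun Z g ⟨w, p, q, k, h, e, e'⟩ => by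
    have hk : k ≫ (im (fn := fn) q).hom = Z.hom := e'.trans (Over.w g)
    exact (hx Z g w p q h (Over.homMk k hk) e).trans (hx' Z g w p q h (Over.homMk k hk) e).symm)

include hflat in
lemma dom_full {v : D} (o : Over (fn.obj d)) (a : o.left ⟶ fn.obj v) :
    Loc J o.left fun Z g => ∃ (w : D) (p : w ⟶ v) (q : w ⟶ d) (k : Z ⟶ fn.obj w),
      True ∧ k ≫ fn.map p = g ≫ a ∧ k ≫ fn.map q = g ≫ o.hom :=
  (hflat.pair a o.hom).mono fun Z g ⟨w, p, q, k, e, e'⟩ => ⟨w, p, q, k, trivial, e, e'⟩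

include hflat in
/-- The functor between slices is continuous. -/
theorem isContinuous_post : (Over.post (X := d) fn).IsContinuous (K.over d) (J.over (fn.obj d)) := by
  refine ⟨fun Q => ?_⟩
  intro V R hR t ht
  rw [Presieve.compatible_iff_sieveCompatible] at ht
  have hP := (isSheaf_iff_isSheaf_of_type _ _).1 Q.2
  let y : SpanFam Q.obj V.left :=
    { Dom := fun w p q => ∃ e : p ≫ V.hom = q, R (Over.homMk p e : Over.mk q ⟶ V)
      dom_comp := fun {w w'} r p q ⟨e, h⟩ => ⟨by rw [Category.assoc, e], by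
        exact R.downward_closed h (Over.homMk r : Over.mk (r ≫ q) ⟶ Over.mk q)⟩
      val := fun w p q h => t (Over.homMk p h.choose : Over.mk q ⟶ V) h.choose_spec
      nat := fun {w w'} r p q h =>
        (ht (Over.homMk p h.choose : Over.mk q ⟶ V) (Over.homMk r : Over.mk (r ≫ q) ⟶ Over.mk q) h.choose_spec).symm }
  have hd : Loc J ((Over.post fn).obj V).left fun Z g => ∃ (w : D) (p : w ⟶ V.left) (q : w ⟶ d) (k : Z ⟶ fn.obj w),
      y.Dom w p q ∧ k ≫ fn.map p = g ≫ 𝟙 _ ∧ k ≫ fn.map q = g ≫ fn.map V.hom :=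
    (hflat.cov _ ((K.mem_over_iff R).1 hR) (𝟙 (fn.obj V.left))).mono fun Z g ⟨w, p, k, hp, e⟩ =>
      ⟨w, p, p ≫ V.hom, k, ⟨rfl, (Sieve.overEquiv_iff R p).1 hp⟩, e, by
        rw [fn.map_comp, ← Category.assoc, e, Category.comp_id]⟩
  obtain ⟨x, hx⟩ := exists_isGlued hflat hP y ((Over.post fn).obj V) (𝟙 _) hd
  refine ⟨x, fun Y r hr => ?_, fun x' hx' => isGlued_unique hP hd (fun Z g w p q h k e => ?_) hx⟩
  · exact (hx ((Over.post fn).obj Y) ((Over.post fn).map r) Y.left r.left Y.hom ⟨Over.w r, hr⟩ (𝟙 _)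
      ((Category.id_comp _).trans (Category.comp_id _).symm)).trans
        (ConcreteCategory.congr_hom (Q.obj.map_id (op _)) _)
  · have := hx' (Over.homMk p h.choose : Over.mk q ⟶ V) h.choose_spec
    have hg : g = k ≫ (Over.post fn).map (Over.homMk p h.choose : Over.mk q ⟶ V) :=
      Over.OverMorphism.ext ((Category.comp_id _).symm.trans e.symm)
    rw [hg, op_comp, Q.obj.map_comp, types_comp_apply]
    exact congrArg (Q.obj.map k.op) this

end Groth.Agent.HTop16.PullOver
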