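import Groth.Agent.HTop16.TensorElt
import Groth.Agent.HTop16.PullOverGlue

/-!
# Evaluation of sections of the internal hom
-/

set_option autoImplicit false
set_option backward.isDefEq.respectTransparency false
set_option linter.all false

universe u

open CategoryTheory CategoryTheory.Limits Opposite MonoidalCategory TensorProduct

namespace Groth.Agent.HTop16.HomEval

open DerCompLib (Sec secRes secMap Loc)
open TensorElt SiteTen

variable {C : Type u} [SmallCategory C] {J : GrothendieckTopology C} {O : Sheaf J CommRingCat.{u}}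
  {F : ModSite.Mod O} [ModSite.HasSheafHom F]

/-- The evaluation map. -/
noncomputable def evm (Y : ModSite.Mod O) : ten O ((ModSite.sheafHom F).obj Y) F ⟶ Y :=
  (ModSite.sheafHomAdj F).counit.app Y

/-- Evaluation. -/
noncomputable def sv {Y : ModSite.Mod O} {V : C} (s : Sec ((ModSite.sheafHom F).obj Y) V) (x : Sec F V) : Sec Y V :=
  secMap (evm Y) V (tm s x)

lemma sv_res {Y : ModSite.Mod O} {V W : C} (g : W ⟶ V) (s : Sec ((ModSite.sheafHom F).obj Y) V) (x : Sec F V) :
    secRes Y g (sv s x) = sv (secRes _ g s) (secRes F g x) := by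
  show secRes Y g (secMap _ V _) = _
  rw [← DerCompLib.secMap_secRes, secRes_tm]
  rfl

/-- `s ↦ sv s x`. -/
noncomputable def svL {Y : ModSite.Mod O} {V : C} (x : Sec F V) :
    Sec ((ModSite.sheafHom F).obj Y) V →ₗ[O.obj.obj (op V)] Sec Y V :=
  (secMap (evm Y) V).comp (tmL x)

/-- `x ↦ sv s x`. -/
noncomputable def svR {Y : ModSite.Mod O} {V : C} (s : Sec ((ModSite.sheafHom F).obj Y) V) :
    Sec F V →ₗ[O.obj.obj (op V)] Sec Y V :=
  (secMap (evm Y) V).comp (tmR s)

/-- Transposition. -/
noncomputable def untr {A Y : ModSite.Mod O} (φ : A ⟶ (ModSite.sheafHom F).obj Y) : ten O A F ⟶ Y :=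
  ((ModSite.sheafHomAdj F).homEquiv A Y).symm φ

/-- Transposition. -/
noncomputable def trn {A Y : ModSite.Mod O} (ψ : ten O A F ⟶ Y) : A ⟶ (ModSite.sheafHom F).obj Y :=
  (ModSite.sheafHomAdj F).homEquiv A Y ψ

lemma untr_eq {A Y : ModSite.Mod O} (φ : A ⟶ (ModSite.sheafHom F).obj Y) :
    untr φ = ((ModSite.tensorBi O).map φ).app F ≫ evm Y :=
  (ModSite.sheafHomAdj F).homEquiv_counit (X := A) (Y := Y) (g := φ)

lemma untr_trn {A Y : ModSite.Mod O} (ψ : ten O A F ⟶ Y) : untr (trn ψ) = ψ :=
  Equiv.symm_apply_apply _ _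

lemma untr_injective {A Y : ModSite.Mod O} : Function.Injective (untr (F := F) (A := A) (Y := Y)) :=
  Equiv.injective _

lemma symm_tm {A Y : ModSite.Mod O} (φ : A ⟶ (ModSite.sheafHom F).obj Y) {V : C} (a : Sec A V) (x : Sec F V) :
    secMap (untr φ) V (tm a x) = sv (secMap φ V a) x := by
  rw [untr_eq, sv]
  erw [DerCompLib.secMap_comp]
  rw [secMap_left]

lemma sv_transpose {A Y : ModSite.Mod O} (ψ : ten O A F ⟶ Y) {V : C} (a : Sec A V) (x : Sec F V) :
    sv (secMap (trn ψ) V a) x = secMap ψ V (tm a x) := by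
  rw [← symm_tm, untr_trn]

variable (O) (V : C)

/-- The unit presheaf on the slice. -/
noncomputable abbrev one : ModSite.preMod (O.over V) := 𝟙_ (ModSite.preMod (O.over V))

/-- The free module on a section over `V`. -/
noncomputable abbrev gP : ModSite.Mod O := (ModSite.shPre O).obj ((preExt O V).obj (one O V))

variable {O V}

/-- The translate of the generator along `φ`, before sheafifying. -/
noncomputable def tr {W : C} (φ : W ⟶ V) : ((preExt O V).obj (one O V)).obj (op W) :=
  inclExt O V (one O V) (op W) φ (1 : O.obj.obj (op W))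

/-- Multiplication of the generator. -/
noncomputable def unitTo {M : ModSite.Mod O} (s : Sec M V) : one O V ⟶ (preR O V).obj (pre M) where
  app X := ModuleCat.ofHom (R := O.obj.obj (op X.unop.left)) (X := O.obj.obj (op X.unop.left))
    (Y := Sec M X.unop.left)
    { toFun := fun r => r • secRes M X.unop.hom s
      map_add' := fun r r' => add_smul r r' _
      map_smul' := fun r r' => mul_smul r r' _ }
  naturality {X Y} g := ModuleCat.hom_ext (LinearMap.ext fun (r : O.obj.obj (op X.unop.left)) => by
    show (O.obj.map g.unop.left.op).hom r • secRes M Y.unop.hom s =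
      secRes M g.unop.left (r • secRes M X.unop.hom s)
    rw [DerCompLib.secRes_smul, DerCompLib.secRes_comp, Over.w g.unop])

/-- The map classified by a section. -/
noncomputable def classify {M : ModSite.Mod O} (s : Sec M V) : gP O V ⟶ M :=
  ((shAdj O).homEquiv _ _).symm (((preAdj O V).homEquiv _ _).symm (unitTo s))

/-- The translate of the generator. -/
noncomputable def gen {W : C} (φ : W ⟶ V) : Sec (gP O V) W :=
  (η O ((preExt O V).obj (one O V))).app (op W) (tr φ)

lemma secMap_classify {M : ModSite.Mod O} (s : Sec M V) {W : C} (φ : W ⟶ V) :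
    secMap (classify s) W (gen φ) = secRes M φ s := by
  have e : η O _ ≫ (ModSite.toPre O).map (classify s) = ((preAdj O V).homEquiv _ _).symm (unitTo s) :=
    ((shAdj O).homEquiv_unit _ _ _).symm.trans (Equiv.apply_symm_apply _ _)
  refine (congrArg (fun q => q.app (op W) (tr φ)) e).trans ?_
  refine (homEquiv_symm_inclExt (O := O) (U := V) (unitTo s) (op W) φ _).trans ?_
  exact one_smul _ _

/-- The map out of `gP ⊗ F` given by a natural family. -/
noncomputable def ofFamily {Y : ModSite.Mod O} (β : (preR O V).obj (pre F) ⟶ (preR O V).obj (pre Y)) :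
    ten O (gP O V) F ⟶ Y :=
  (((shTenRightIso F).app ((preExt O V).obj (one O V))).inv ≫
    ((shAdj O).homEquiv _ _).symm ((projIso (one O V) (pre F)).inv ≫
      ((preAdj O V).homEquiv _ _).symm ((λ_ _).hom ≫ β)))

lemma secMap_ofFamily {Y : ModSite.Mod O} (β : (preR O V).obj (pre F) ⟶ (preR O V).obj (pre Y)) {W : C}
    (φ : W ⟶ V) (x : Sec F W) :
    secMap (ofFamily β) W (tm (gen φ) x) = β.app (op (Over.mk φ)) x := by
  let P := (preExt O V).obj (one O V)
  let m := (projIso (one O V) (pre F)).inv ≫ ((preAdj O V).homEquiv _ _).symm ((λ_ _).hom ≫ β)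
  let z : (P ⊗ pre F).obj (op W) := tmO P (pre F) (op W) (tr φ) x
  have h₁ : secMap ((shTenRightIso F).app P).hom W ((η O (P ⊗ pre F)).app (op W) z) = tm (gen φ) x :=
    secMap_unit (η O P ▷ pre F) z
  show secMap (((shAdj O).homEquiv _ _).symm m) W (secMap ((shTenRightIso F).app P).inv W _) = _
  rw [← h₁, ← DerCompLib.secMap_comp ((shTenRightIso F).app P).hom, Iso.hom_inv_id]
  have e : η O _ ≫ (ModSite.toPre O).map (((shAdj O).homEquiv _ _).symm m) = m :=
    ((shAdj O).homEquiv_unit _ _ _).symm.trans (Equiv.apply_symm_apply _ _)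
  refine (congrArg (fun q => q.app (op W) z) e).trans ?_
  let y := tmE (one O V) (pre F) (op W) φ (1 : O.obj.obj (op W)) x
  have h₂ : (projHom (one O V) (pre F)).app (op W) (inclExt O V _ (op W) φ y) = z :=
    projHom_incl (one O V) (pre F) (op W) φ _ x
  refine (congrArg (fun t => (((preAdj O V).homEquiv _ _).symm ((λ_ _).hom ≫ β)).app (op W)
    ((projIso (one O V) (pre F)).inv.app (op W) t)) h₂.symm).trans ?_
  refine (congrArg (fun q => (((preAdj O V).homEquiv _ _).symm ((λ_ _).hom ≫ β)).app (op W)
    (q.app (op W) (inclExt O V _ (op W) φ y))) (projIso (one O V) (pre F)).hom_inv_id).trans ?_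
  refine (homEquiv_symm_inclExt (O := O) (U := V) ((λ_ _).hom ≫ β) (op W) φ y).trans ?_
  exact congrArg (β.app (op (Over.mk φ))) (one_smul _ x)

/-- Natural families come from sections of the internal hom. -/
theorem exists_sv {Y : ModSite.Mod O} (β : (preR O V).obj (pre F) ⟶ (preR O V).obj (pre Y)) :
    ∃ s : Sec ((ModSite.sheafHom F).obj Y) V,
      ∀ ⦃W : C⦄ (φ : W ⟶ V) (x : Sec F W), sv (secRes _ φ s) x = β.app (op (Over.mk φ)) x := by
  refine ⟨secMap (trn (ofFamily β)) V (gen (𝟙 V)), fun W φ x => ?_⟩
  have e : secRes (gP O V) φ (gen (𝟙 V)) = gen φ := by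
    refine (PresheafOfModules.naturality_apply (η O ((preExt O V).obj (one O V))) φ.op (tr (𝟙 V))).symm.trans ?_
    refine congrArg ((η O ((preExt O V).obj (one O V))).app (op W)) ?_
    refine (DerCompLib.sumMap_incl (R := O.obj ⋙ forget₂ CommRingCat.{u} RingCat.{u}) (U := V) (one O V)
      φ.op (𝟙 V) (1 : O.obj.obj (op V))).trans ?_
    refine (congrArg _ (map_one (O.obj.map φ.op).hom)).trans ?_
    show inclExt O V (one O V) (op W) (φ ≫ 𝟙 V) (1 : O.obj.obj (op W)) = _
    rw [Category.comp_id]
    rfl
  rw [← DerCompLib.secMap_secRes, e, sv_transpose, secMap_ofFamily]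

/-- A section of the internal hom with vanishing values is zero. -/
theorem eq_zero_of_sv {Y : ModSite.Mod O} (s : Sec ((ModSite.sheafHom F).obj Y) V)
    (h : ∀ ⦃W : C⦄ (φ : W ⟶ V) (x : Sec F W), sv (secRes _ φ s) x = 0) : s = 0 := by
  have hψ : untr (classify s) = untr (0 : gP O V ⟶ (ModSite.sheafHom F).obj Y) := by
    haveI : Epi ((shTenRightIso F).app ((preExt O V).obj (one O V))).hom := inferInstance
    rw [← cancel_epi ((shTenRightIso F).app ((preExt O V).obj (one O V))).hom]
    apply ((shAdj O).homEquiv _ _).injective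
    rw [← cancel_epi (projIso (one O V) (pre F)).hom]
    refine hom_ext_tmE _ _ fun X φ r x => ?_
    have key : ∀ (σ : gP O V ⟶ (ModSite.sheafHom F).obj Y) (r : O.obj.obj X),
        ((projIso (one O V) (pre F)).hom ≫ (shAdj O).homEquiv _ _
          (((shTenRightIso F).app ((preExt O V).obj (one O V))).hom ≫
            untr σ)).app X (inclExt O V _ X φ (tmE (one O V) (pre F) X φ r x)) =
          r • sv (secMap σ X.unop (gen φ)) x := fun σ r => by
      let P := (preExt O V).obj (one O V)
      let z : (P ⊗ pre F).obj X := tmO P (pre F) X (tr φ) x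
      have h₂ : (projHom (one O V) (pre F)).app X (inclExt O V _ X φ (tmE (one O V) (pre F) X φ r x)) = r • z := by
        refine (projHom_incl (one O V) (pre F) X φ r x).trans ?_
        refine Eq.trans ?_ (TensorProduct.smul_tmul' (R := O.obj.obj X) (M := (P.obj X : Type u))
          (N := Sec F X.unop) r (tr φ) x).symm
        refine congrArg (fun a => tmO P (pre F) X a x) ?_
        refine Eq.trans ?_ ((DerCompLib.sumIncl (R := O.obj ⋙ forget₂ CommRingCat.{u} RingCat.{u}) (one O V) X φ).hom.map_smul r
          (1 : O.obj.obj X))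
        exact congrArg _ (mul_one r).symm
      have e : (shAdj O).homEquiv _ _ (((shTenRightIso F).app P).hom ≫ untr σ) =
          η O _ ≫ (ModSite.toPre O).map (((shTenRightIso F).app P).hom ≫ untr σ) := (shAdj O).homEquiv_unit _ _ _
      refine (congrArg (((shAdj O).homEquiv _ _ (((shTenRightIso F).app P).hom ≫ untr σ)).app X) h₂).trans ?_
      rw [map_smul]
      refine congrArg (r • ·) ?_
      refine (congrArg (fun q => q.app X z) e).trans ?_
      refine Eq.trans ?_ (symm_tm σ (gen φ) x)
      exact congrArg (secMap (untr σ) X.unop) (secMap_unit (η O P ▷ pre F) z)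
    refine (key (classify s) r).trans (Eq.trans ?_ (key 0 r).symm)
    rw [secMap_classify, h φ x, smul_zero]
    show (0 : Sec Y X.unop) = r • sv (0 : Sec ((ModSite.sheafHom F).obj Y) X.unop) x
    rw [show sv (0 : Sec ((ModSite.sheafHom F).obj Y) X.unop) x = 0 from (svL x).map_zero, smul_zero]
  have h0 : classify s = 0 := untr_injective hψ
  have := secMap_classify s (𝟙 V)
  rw [h0, DerCompLib.secRes_id] at this
  exact this.symm

end Groth.Agent.HTop16.HomEval
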