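import Groth.Agent.HTop16.TensorElt

/-!
# Vanishing sums of pure tensors with a flat module
-/

set_option autoImplicit false
set_option backward.isDefEq.respectTransparency false
set_option linter.all false

universe u

open CategoryTheory CategoryTheory.Limits Opposite TensorProduct

namespace Groth.Agent.HTop16.TensorVanish

open DerCompLib (Sec secRes secMap Loc)
open TensorElt SiteHom16

variable {C : Type u} [SmallCategory C] {J : GrothendieckTopology C} {O : Sheaf J CommRingCat.{u}}

open Classical in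
/-- The relations behind a vanishing sum of pure tensors. -/
theorem exists_rel {R M N : Type u} [CommRing R] [AddCommGroup M] [Module R M] [AddCommGroup N] [Module R N]
    {ι : Type*} [Fintype ι] (a : ι → M) (b : ι → N) (h : (∑ k, a k ⊗ₜ[R] b k : M ⊗[R] N) = 0) :
    ∃ (m : ℕ) (v : Fin m → N) (T : Finset M) (c : Fin m → M → R), (∀ k, a k ∈ T) ∧
      (∀ j, ∑ y ∈ T, c j y • y = 0) ∧ ∀ y ∈ T, ∑ k, (if a k = y then (1 : R) else 0) • b k = ∑ j, c j y • v j := by
  let q : (M →₀ R) →ₗ[R] M := Finsupp.linearCombination R _root_.id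
  have hq : Function.Surjective q := fun y => ⟨Finsupp.single y 1, by simp [q]⟩
  let e : (M →₀ R) ⊗[R] N := ∑ k, Finsupp.single (a k) (1 : R) ⊗ₜ[R] b k
  have he : LinearMap.rTensor N q e = 0 := by
    refine Eq.trans ?_ h
    rw [map_sum]
    exact Finset.sum_congr rfl fun i _ => by simp [q]
  have hex : Function.Exact (LinearMap.rTensor N (LinearMap.ker q).subtype) (LinearMap.rTensor N q) := by
    refine rTensor_exact (M := LinearMap.ker q) (N := M →₀ R) N ?_ hq
    exact LinearMap.exact_subtype_ker_map q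
  obtain ⟨ζ, hζ⟩ := (hex e).1 he
  obtain ⟨u, rfl⟩ := TensorProduct.exists_finset ζ
  let d := u.equivFin.symm
  let T : Finset M := Finset.univ.image a ∪ Finset.univ.biUnion fun k : ↥u => k.1.1.1.support
  refine ⟨u.card, fun j => (d j).1.2, T, fun j y => (d j).1.1.1 y,
    fun k => Finset.mem_union_left _ (Finset.mem_image_of_mem _ (Finset.mem_univ k)), fun j => ?_, fun y _ => ?_⟩
  · refine Eq.trans ?_ (LinearMap.mem_ker.1 (d j).1.1.2)
    refine Eq.trans ?_ (Finsupp.linearCombination_apply R (d j).1.1.1).symm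
    refine (Finsupp.sum_of_support_subset _ (s := T) (fun y hy => ?_) (fun y r => r • y) fun y _ => zero_smul R y).symm
    exact Finset.mem_union_right _ (Finset.mem_biUnion.2 ⟨d j, Finset.mem_univ _, hy⟩)
  · have h' := congrArg (fun v => TensorProduct.lid R N (LinearMap.rTensor N (Finsupp.lapply y) v)) hζ
    simp only [e, map_sum, LinearMap.rTensor_tmul, TensorProduct.lid_tmul, Finsupp.lapply_apply,
      Submodule.subtype_apply, Finsupp.single_apply] at h'
    refine h'.symm.trans ?_
    rw [← Finset.sum_coe_sort u]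
    exact (Equiv.sum_comp d (fun p : ↥u => (p.1.1.1 y) • p.1.2)).symm

open Classical in
/-- A vanishing sum of pure tensors with a flat module is locally trivial. -/
theorem single {A H : ModSite.Mod O} (hH : HasLocalTriv H) {W : C} {n : ℕ} (a : Fin n → Sec A W)
    (b : Fin n → Sec H W) (hz : ∑ k, tm (a k) (b k) = 0) :
    Loc J W fun W' g => ∃ (l : ℕ) (t : Fin l → Sec H W') (B : Fin n → Fin l → O.obj.obj (op W')),
      (∀ k, secRes H g (b k) = ∑ p, B k p • t p) ∧ ∀ p, ∑ k, B k p • secRes A g (a k) = 0 := by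
  refine (exists_local_tp a b hz).bind fun W₁ g₁ hz₁ => ?_
  obtain ⟨m, v, T, c, ha, hc, hrel⟩ := exists_rel (R := O.obj.obj (op W₁)) _ _ hz₁
  let rel : Sec A W₁ → Fin n ⊕ Fin m → O.obj.obj (op W₁) := fun y =>
    Sum.elim (fun k => if secRes A g₁ (a k) = y then 1 else 0) fun j => -(c j y)
  have hT : ∀ y ∈ T, ∑ i, rel y i • Sum.elim (fun k => secRes H g₁ (b k)) v i = 0 := fun y hy => by
    rw [Fintype.sum_sum_type]
    simp only [rel, Sum.elim_inl, Sum.elim_inr, neg_smul, Finset.sum_neg_distrib, ← sub_eq_add_neg]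
    rw [sub_eq_zero]
    exact hrel y hy
  refine Loc.mono (exists_factors_finset hH _ rel T hT : Loc J W₁ _) ?_
  rintro W' g ⟨l, t, B, hw, hkill⟩
  refine ⟨l, t, fun k => B (Sum.inl k), fun k => (DerCompLib.secRes_comp H g g₁ (b k)).symm.trans (hw (Sum.inl k)),
    fun p => ?_⟩
  let φ := (O.obj.map g.op).hom
  have h0 : ∑ y ∈ T, (∑ i, B i p * φ (rel y i)) • secRes A g y = 0 :=
    Finset.sum_eq_zero fun y hy => by rw [hkill y hy p, zero_smul]
  simp only [Finset.sum_smul] at h0
  rw [Finset.sum_comm, Fintype.sum_sum_type] at h0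
  have h2 : ∀ j, ∑ y ∈ T, (B (Sum.inr j) p * φ (rel y (Sum.inr j))) • secRes A g y = 0 := fun j => by
    simp only [rel, φ, Sum.elim_inr, map_neg, mul_neg, neg_smul, Finset.sum_neg_distrib, neg_eq_zero, mul_smul]
    simp only [← DerCompLib.secRes_smul, ← Finset.smul_sum, ← map_sum, hc j, map_zero, smul_zero]
  rw [Finset.sum_eq_zero (s := (Finset.univ : Finset (Fin m))) (fun j _ => h2 j), add_zero] at h0
  refine Eq.trans (Finset.sum_congr rfl fun k _ => ?_) h0
  rw [← DerCompLib.secRes_comp A g g₁, Finset.sum_eq_single (secRes A g₁ (a k))]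
  · simp [rel, φ]
  · intro y _ hy
    simp [rel, φ, Ne.symm hy]
  · exact fun h => absurd (ha k) h

/-- Finitely many vanishing sums of pure tensors with common right factors are locally trivial. -/
theorem factor {A H : ModSite.Mod O} (hH : HasLocalTriv H) {V : C} {γ : Type*} [Fintype γ] {ι : Type*}
    (s : Finset ι) (a : ι → γ → Sec A V) (b : γ → Sec H V) (h : ∀ i ∈ s, ∑ k, tm (a i k) (b k) = 0) :
    Loc J V fun W g => ∃ (l : ℕ) (t : Fin l → Sec H W) (B : γ → Fin l → O.obj.obj (op W)),
      (∀ k, secRes H g (b k) = ∑ p, B k p • t p) ∧ ∀ i ∈ s, ∀ p, ∑ k, B k p • secRes A g (a i k) = 0 := by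
  classical
  induction s using Finset.induction with
  | empty =>
    refine Loc.of_forall fun W g => ⟨Fintype.card γ, fun p => secRes H g (b ((Fintype.equivFin γ).symm p)),
      fun k p => if Fintype.equivFin γ k = p then 1 else 0, fun k => ?_, by simp⟩
    simp [ite_smul]
  | insert i s hi ih =>
    refine (ih fun j hj => h j (Finset.mem_insert_of_mem hj)).bind fun W g ⟨l, t, B, hb, hs⟩ => ?_
    have e : ∑ p, tm (∑ k, B k p • secRes A g (a i k)) (t p) = 0 := by
      have h' := congrArg (secRes (SiteTen.ten O A H) g) (h i (Finset.mem_insert_self i s))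
      rw [map_zero, map_sum] at h'
      refine Eq.trans ?_ h'
      simp only [secRes_tm, hb, tm_sum_left, tm_sum_right, tm_smul_left, tm_smul_right]
      exact Finset.sum_comm
    refine (single hH _ t e).mono fun W₂ g₂ ⟨l', t', B', ht, hi'⟩ => ?_
    refine ⟨l', t', fun k q => ∑ p, (O.obj.map g₂.op).hom (B k p) * B' p q, fun k => ?_, fun j hj q => ?_⟩
    · rw [← DerCompLib.secRes_comp H g₂ g, hb, map_sum]
      simp only [DerCompLib.secRes_smul, ht, Finset.smul_sum, smul_smul, Finset.sum_smul]
      exact Finset.sum_comm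
    · simp only [Finset.sum_smul, mul_comm _ (B' _ q), mul_smul]
      rw [Finset.sum_comm]
      simp only [← Finset.smul_sum]
      have e₂ : ∀ p, ∑ k, (O.obj.map g₂.op).hom (B k p) • secRes A (g₂ ≫ g) (a j k) =
          secRes A g₂ (∑ k, B k p • secRes A g (a j k)) := fun p => by
        rw [map_sum]
        exact Finset.sum_congr rfl fun k _ => by rw [DerCompLib.secRes_smul, DerCompLib.secRes_comp]
      simp only [e₂]
      rcases Finset.mem_insert.1 hj with rfl | hj
      · exact hi' q
      · simp [hs j hj]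

end Groth.Agent.HTop16.TensorVanish
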