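import Groth.Agent.HTop16.SecPres
import Groth.Agent.HTop16.TensorVanish

/-!
# `ℋom(F, G) ⊗ H ≅ ℋom(F, G ⊗ H)` for `F` finitely presented and `H` flat
-/

set_option autoImplicit false
set_option backward.isDefEq.respectTransparency false
set_option linter.all false

universe u

open CategoryTheory CategoryTheory.Limits Opposite

namespace Groth.Agent.HTop16.HomTensor

open DerCompLib (Sec secRes secMap Loc)
open TensorElt HomEval SecPres SiteHom16

variable {C : Type u} [SmallCategory C] {J : GrothendieckTopology C} {O : Sheaf J CommRingCat.{u}}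
  {F : ModSite.Mod O} [ModSite.HasSheafHom F] {U : C} (P : Pres F U)

/-- The value is a combination of the values on generators. -/
def IsVal {Y : ModSite.Mod O} {W : C} (g : W ⟶ U) (y : P.ι → Sec Y W) {Z : C} (p : Z ⟶ W) (x : Sec F Z)
    (v : Sec Y Z) : Prop :=
  ∀ ⦃Z' : C⦄ (h : Z' ⟶ Z) (c : P.ι → O.obj.obj (op Z')),
    secRes F h x = ∑ i, c i • secRes F ((h ≫ p) ≫ g) (P.x i) → secRes Y h v = ∑ i, c i • secRes Y (h ≫ p) (y i)

lemma isVal_unique {Y : ModSite.Mod O} {W : C} {g : W ⟶ U} {y : P.ι → Sec Y W} {Z : C} {p : Z ⟶ W} {x : Sec F Z}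
    {v v' : Sec Y Z} (h : IsVal P g y p x v) (h' : IsVal P g y p x v') : v = v' := by
  obtain ⟨S, hS, hS'⟩ := P.gen (p ≫ g) x
  refine DerCompLib.sec_ext Y S hS v v' fun Z' k hk => ?_
  obtain ⟨c, hc⟩ := hS' k hk
  rw [← Category.assoc] at hc
  rw [h k c hc, h' k c hc]

lemma comb_eq {Y : ModSite.Mod O} {W : C} (g : W ⟶ U) (y : P.ι → Sec Y W)
    (hy : ∀ j, ∑ i, (O.obj.map g.op).hom (P.r j i) • y i = 0) {Z : C} (q : Z ⟶ W) (c c' : P.ι → O.obj.obj (op Z))
    (h : ∑ i, c i • secRes F (q ≫ g) (P.x i) = ∑ i, c' i • secRes F (q ≫ g) (P.x i)) :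
    ∑ i, c i • secRes Y q (y i) = ∑ i, c' i • secRes Y q (y i) := by
  rw [← sub_eq_zero, ← Finset.sum_sub_distrib] at h ⊢
  simp only [← sub_smul] at h ⊢
  obtain ⟨S, hS, hS'⟩ := P.rel _ _ h
  refine DerCompLib.sec_ext Y S hS _ _ fun Z'' k hk => ?_
  obtain ⟨d, hd⟩ := hS' k hk
  rw [map_sum, map_zero]
  simp only [DerCompLib.secRes_smul, hd, DerCompLib.secRes_comp, Finset.sum_smul, mul_smul]
  rw [Finset.sum_comm]
  refine Finset.sum_eq_zero fun j _ => ?_
  rw [← Finset.smul_sum]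
  have e := congrArg (secRes Y (k ≫ q)) (hy j)
  rw [map_zero, map_sum] at e
  simp only [DerCompLib.secRes_smul, res_res] at e
  simp only [Category.assoc] at e ⊢
  rw [e, smul_zero]

theorem exists_isVal {Y : ModSite.Mod O} {W : C} (g : W ⟶ U) (y : P.ι → Sec Y W)
    (hy : ∀ j, ∑ i, (O.obj.map g.op).hom (P.r j i) • y i = 0) {Z : C} (p : Z ⟶ W) (x : Sec F Z) :
    ∃ v, IsVal P g y p x v := by
  obtain ⟨v, hv⟩ := PullOver.exists_glue (L := J) (o := Z)
    (SiteTen.sheaf_forget Y)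
    (fun Z' h v => ∃ c : P.ι → O.obj.obj (op Z'),
      secRes F h x = ∑ i, c i • secRes F ((h ≫ p) ≫ g) (P.x i) ∧ v = ∑ i, c i • secRes Y (h ≫ p) (y i))
    (fun Z' Z'' h k v ⟨c, hc, hv⟩ => ⟨fun i => (O.obj.map k.op).hom (c i), by
      rw [← DerCompLib.secRes_comp F k h, hc, map_sum]
      simp only [DerCompLib.secRes_smul, DerCompLib.secRes_comp, Category.assoc], by
      show secRes Y k v = _
      rw [hv, map_sum]
      simp only [DerCompLib.secRes_smul, DerCompLib.secRes_comp, Category.assoc]⟩)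
    (fun Z' h v v' ⟨c, hc, hv⟩ ⟨c', hc', hv'⟩ => hv.trans ((comb_eq P g y hy (h ≫ p) c c' (hc.symm.trans hc')).trans hv'.symm))
    ((P.gen (p ≫ g) x).mono fun Z' h ⟨c, hc⟩ => ⟨_, c, by rw [Category.assoc]; exact hc, rfl⟩)
  exact ⟨v, fun Z' h c hc => hv h _ ⟨c, hc, rfl⟩⟩

lemma IsVal.res {Y : ModSite.Mod O} {W : C} {g : W ⟶ U} {y : P.ι → Sec Y W} {Z : C} {p : Z ⟶ W} {x : Sec F Z}
    {v : Sec Y Z} (h : IsVal P g y p x v) {Z' : C} (k : Z' ⟶ Z) :
    IsVal P g y (k ≫ p) (secRes F k x) (secRes Y k v) := fun Z'' l c hc => by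
  simp only [DerCompLib.secRes_comp] at hc ⊢
  rw [h (l ≫ k) c (by simpa only [Category.assoc] using hc)]
  simp only [Category.assoc]

/-- Values on generators satisfying the relations come from a section of the internal hom. -/
theorem exists_of_values {Y : ModSite.Mod O} {W : C} (g : W ⟶ U) (y : P.ι → Sec Y W)
    (hy : ∀ j, ∑ i, (O.obj.map g.op).hom (P.r j i) • y i = 0) :
    ∃ s : Sec ((ModSite.sheafHom F).obj Y) W, ∀ i, sv s (secRes F g (P.x i)) = y i := by
  choose v hv using fun (X : (Over W)ᵒᵖ) (x : Sec F X.unop.left) => exists_isVal P g y hy X.unop.hom x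
  have hadd : ∀ X x x', v X (x + x') = v X x + v X x' := fun X x x' => by
    refine (isVal_unique P (hv X (x + x')) ?_)
    intro Z h c hc
    have hx := P.gen (X.unop.hom ≫ g)
    obtain ⟨S₁, hS₁, hS₁'⟩ := (hx x).pullback h
    refine DerCompLib.sec_ext Y S₁ hS₁ _ _ fun Z₁ k hk => ?_
    obtain ⟨c₁, hc₁⟩ := hS₁' k hk
    have hcs : secRes F (k ≫ h) x' =
        ∑ i, ((O.obj.map k.op).hom (c i) - c₁ i) • secRes F (((k ≫ h) ≫ X.unop.hom) ≫ g) (P.x i) := by
      have e := congrArg (secRes F k) hc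
      rw [DerCompLib.secRes_comp, map_add, map_sum] at e
      simp only [DerCompLib.secRes_smul, DerCompLib.secRes_comp] at e
      simp only [sub_smul, Finset.sum_sub_distrib, Category.assoc] at e hc₁ ⊢
      rw [← hc₁, ← e, add_sub_cancel_left]
    rw [DerCompLib.secRes_comp, map_add, hv X x (k ≫ h) c₁ (by simpa only [Category.assoc] using hc₁),
      hv X x' (k ≫ h) _ hcs, map_sum]
    simp only [DerCompLib.secRes_smul, DerCompLib.secRes_comp, sub_smul, Finset.sum_sub_distrib, Category.assoc]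
    abel
  have hsmul : ∀ X (r : O.obj.obj (op X.unop.left)) x, v X (r • x) = r • v X x := fun X r x => by
    refine (isVal_unique P (hv X (r • x)) ?_)
    intro Z h c hc
    obtain ⟨S₁, hS₁, hS₁'⟩ := (P.gen (X.unop.hom ≫ g) x).pullback h
    refine DerCompLib.sec_ext Y S₁ hS₁ _ _ fun Z₁ k hk => ?_
    obtain ⟨c₁, hc₁⟩ := hS₁' k hk
    have h₁ : secRes F (k ≫ h) (r • x) =
        ∑ i, ((O.obj.map k.op).hom (c i)) • secRes F (((k ≫ h) ≫ X.unop.hom) ≫ g) (P.x i) := by
      rw [← DerCompLib.secRes_comp, hc, map_sum]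
      simp only [DerCompLib.secRes_smul, DerCompLib.secRes_comp, Category.assoc]
    have h₂ : secRes F (k ≫ h) (r • x) = ∑ i, ((O.obj.map (k ≫ h).op).hom r * c₁ i) •
        secRes F (((k ≫ h) ≫ X.unop.hom) ≫ g) (P.x i) := by
      rw [DerCompLib.secRes_smul, hc₁]
      simp only [Finset.smul_sum, smul_smul, Category.assoc]
    have e₁ := hv X (r • x) (k ≫ h) _ h₁
    have e₂ := hv X (r • x) (k ≫ h) _ h₂
    rw [DerCompLib.secRes_comp, DerCompLib.secRes_smul,
      hv X x (k ≫ h) c₁ (by simpa only [Category.assoc] using hc₁), map_sum, Finset.smul_sum]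
    simp only [DerCompLib.secRes_smul, DerCompLib.secRes_comp, smul_smul, ← Category.assoc]
    exact e₂.symm.trans e₁
  let β : (SiteTen.preR O W).obj (pre F) ⟶ (SiteTen.preR O W).obj (pre Y) :=
    { app := fun X => ModuleCat.ofHom (R := O.obj.obj (op X.unop.left)) (X := Sec F X.unop.left)
        (Y := Sec Y X.unop.left) { toFun := v X, map_add' := hadd X, map_smul' := hsmul X }
      naturality := fun {X X'} k => ModuleCat.hom_ext (LinearMap.ext fun (x : Sec F X.unop.left) => by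
        show v X' (secRes F k.unop.left x) = secRes Y k.unop.left (v X x)
        refine isVal_unique P (hv X' _) ?_
        have := (hv X x).res (P := P) k.unop.left
        rwa [Over.w k.unop] at this) }
  obtain ⟨s, hs⟩ := exists_sv β
  refine ⟨s, fun i => ?_⟩
  classical
  have h1 := hs (𝟙 W) (secRes F g (P.x i))
  rw [DerCompLib.secRes_id] at h1
  refine h1.trans ?_
  show v (op (Over.mk (𝟙 W))) _ = _
  refine ((DerCompLib.secRes_id Y _).symm.trans
    (hv (op (Over.mk (𝟙 W))) (secRes F g (P.x i)) (𝟙 W) (fun i' => if i' = i then 1 else 0) ?_)).trans ?_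
  · simp [DerCompLib.secRes_comp, DerCompLib.secRes_id, ite_smul]
  · simp [DerCompLib.secRes_id, ite_smul]

include P in
/-- A section of the internal hom is determined by its values on the generators. -/
theorem eq_zero_of_values {Y : ModSite.Mod O} {W : C} (g : W ⟶ U) (s : Sec ((ModSite.sheafHom F).obj Y) W)
    (h : ∀ i, sv s (secRes F g (P.x i)) = 0) : s = 0 := by
  refine eq_zero_of_sv s fun Z φ x => ?_
  obtain ⟨S, hS, hS'⟩ := P.gen (φ ≫ g) x
  refine DerCompLib.sec_ext Y S hS _ _ fun Z' k hk => ?_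
  obtain ⟨c, hc⟩ := hS' k hk
  rw [sv_res, DerCompLib.secRes_comp, map_zero, hc]
  refine (map_sum (svR _) _ _).trans (Finset.sum_eq_zero fun i _ => ?_)
  rw [map_smul]
  refine Eq.trans (congrArg (c i • ·) ?_) (smul_zero _)
  show sv (secRes _ (k ≫ φ) s) _ = 0
  rw [← Category.assoc, ← DerCompLib.secRes_comp F (k ≫ φ) g, ← sv_res, h, map_zero]

section Compare

variable (F)

/-- The comparison map. -/
noncomputable def cmp (G H : ModSite.Mod O) :
    SiteTen.ten O ((ModSite.sheafHom F).obj G) H ⟶ (ModSite.sheafHom F).obj (SiteTen.ten O G H) :=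
  trn (sig ((ModSite.sheafHom F).obj G) H F ≫ ((ModSite.tensorBi O).map (evm G)).app H)

variable {F}

lemma sv_cmp {G H : ModSite.Mod O} {V : C} (s : Sec ((ModSite.sheafHom F).obj G) V) (h : Sec H V) (x : Sec F V) :
    sv (secMap (cmp F G H) V (tm s h)) x = tm (sv s x) h := by
  rw [cmp, sv_transpose, DerCompLib.secMap_comp, sig_tm, secMap_left]
  rfl

lemma sv_cmp_sum {G H : ModSite.Mod O} {V : C} {γ : Type*} [Fintype γ] (s : γ → Sec ((ModSite.sheafHom F).obj G) V)
    (h : γ → Sec H V) (x : Sec F V) :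
    sv (secMap (cmp F G H) V (∑ k, tm (s k) (h k))) x = ∑ k, tm (sv (s k) x) (h k) := by
  rw [map_sum]
  exact (map_sum (svL x) _ _).trans (Finset.sum_congr rfl fun k _ => sv_cmp (s k) (h k) x)

include P in
theorem cmp_injective {G H : ModSite.Mod O} (hH : HasLocalTriv H) {W : C} (g : W ⟶ U)
    (z : Sec (SiteTen.ten O ((ModSite.sheafHom F).obj G) H) W) (hz : secMap (cmp F G H) W z = 0) :
    Loc J W fun W' h => secRes _ h z = 0 := by
  refine (exists_local_tm z).bind fun W₁ g₁ ⟨n, s, b, e⟩ => ?_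
  have h0 : ∀ i ∈ (Finset.univ : Finset P.ι), ∑ k, tm (sv (s k) (secRes F (g₁ ≫ g) (P.x i))) (b k) = 0 :=
    fun i _ => by
      rw [← sv_cmp_sum, ← e, DerCompLib.secMap_secRes, hz, map_zero]
      exact (svL _).map_zero
  refine (TensorVanish.factor hH Finset.univ _ b h0).mono fun W₂ g₂ ⟨l, t, B, hb, hk⟩ => ?_
  have h1 : ∀ p, ∑ k, B k p • secRes _ g₂ (s k) = 0 := fun p =>
    eq_zero_of_values P (g₂ ≫ g₁ ≫ g) _ fun i => by
      refine ((map_sum (svL (secRes F (g₂ ≫ g₁ ≫ g) (P.x i))) _ _).trans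
        (Finset.sum_congr rfl fun k _ => ?_)).trans (hk i (Finset.mem_univ i) p)
      rw [map_smul, sv_res, DerCompLib.secRes_comp]
      rfl
  rw [← DerCompLib.secRes_comp, e, map_sum]
  simp only [secRes_tm, hb, tm_sum_right, tm_smul_right]
  rw [Finset.sum_comm]
  refine Finset.sum_eq_zero fun p _ => ?_
  refine Eq.trans (Finset.sum_congr rfl fun k _ => ?_) ((tm_sum_left _ _ (t p)).symm.trans
    ((congrArg (fun a => tm a (t p)) (h1 p)).trans (tm_zero_left _)))
  rw [tm_smul_left]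

include P in
theorem cmp_surjective {G H : ModSite.Mod O} (hH : HasLocalTriv H) {W : C} (g : W ⟶ U)
    (y : Sec ((ModSite.sheafHom F).obj (SiteTen.ten O G H)) W) :
    Loc J W fun W' h => ∃ z, secMap (cmp F G H) W' z = secRes _ h y := by
  classical
  refine (loc_all (Finset.univ : Finset P.ι) (fun i W₁ g₁ => ∃ (n : ℕ) (a : Fin n → Sec G W₁) (b : Fin n → Sec H W₁),
    secRes _ g₁ (sv y (secRes F g (P.x i))) = ∑ k, tm (a k) (b k)) fun i _ => exists_local_tm _).bind ?_
  intro W₁ g₁ hrep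
  choose n a b hab using fun i => hrep i (Finset.mem_univ i)
  let a' : P.ι → (Σ i, Fin (n i)) → Sec G W₁ := fun i k => if k.1 = i then a k.1 k.2 else 0
  let b' : (Σ i, Fin (n i)) → Sec H W₁ := fun k => b k.1 k.2
  have hab' : ∀ i, sv (secRes _ g₁ y) (secRes F (g₁ ≫ g) (P.x i)) = ∑ k, tm (a' i k) (b' k) := fun i => by
    rw [← DerCompLib.secRes_comp F g₁ g, ← sv_res, hab i, Fintype.sum_sigma, Finset.sum_eq_single i]
    · simp [a', b']
    · intro j _ hj
      exact Finset.sum_eq_zero fun k _ => by simp [a', hj, tm_zero_left]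
    · exact fun h => absurd (Finset.mem_univ i) h
  have h0 : ∀ j ∈ (Finset.univ : Finset P.κ),
      ∑ k, tm (∑ i, (O.obj.map (g₁ ≫ g).op).hom (P.r j i) • a' i k) (b' k) = 0 := fun j _ => by
    simp only [tm_sum_left, tm_smul_left]
    rw [Finset.sum_comm]
    simp only [← Finset.smul_sum, ← hab']
    have e := congrArg (svR (secRes _ g₁ y)) (congrArg (secRes F (g₁ ≫ g)) (P.rel_zero j))
    simp only [map_sum, DerCompLib.secRes_smul, map_smul, map_zero] at e
    exact e
  refine (TensorVanish.factor hH Finset.univ _ b' h0).mono fun W₂ g₂ ⟨l, t, B, hb, hk⟩ => ?_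
  have hy : ∀ p j, ∑ i, (O.obj.map (g₂ ≫ g₁ ≫ g).op).hom (P.r j i) • (∑ k, B k p • secRes G g₂ (a' i k)) = 0 :=
    fun p j => by
      refine Eq.trans ?_ (hk j (Finset.mem_univ j) p)
      simp only [Finset.smul_sum, map_sum, DerCompLib.secRes_smul, smul_smul, res_res]
      rw [Finset.sum_comm]
      exact Finset.sum_congr rfl fun k _ => Finset.sum_congr rfl fun i _ => by rw [mul_comm]
  choose s hs using fun p => exists_of_values P (g₂ ≫ g₁ ≫ g) _ (hy p)
  refine ⟨∑ p, tm (s p) (t p), sub_eq_zero.1 (eq_zero_of_values P (g₂ ≫ g₁ ≫ g) _ fun i => ?_)⟩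
  refine ((svL (secRes F (g₂ ≫ g₁ ≫ g) (P.x i))).map_sub _ _).trans (sub_eq_zero.2 ?_)
  refine (sv_cmp_sum s t _).trans ?_
  show _ = sv (secRes _ (g₂ ≫ g₁) y) (secRes F (g₂ ≫ g₁ ≫ g) (P.x i))
  rw [← DerCompLib.secRes_comp _ g₂ g₁, ← DerCompLib.secRes_comp F g₂ (g₁ ≫ g), ← sv_res, hab', map_sum]
  simp only [DerCompLib.secRes_comp, hs, secRes_tm, hb, tm_sum_left, tm_sum_right, tm_smul_left, tm_smul_right]
  exact Finset.sum_comm

end Compare

/-- The comparison map is an isomorphism for finitely presented `F` and flat `H`. -/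
theorem isIso_cmp {hF : SheafOfModules.IsFinitePresentation (R := ModSite.ringSh O) F} (G : ModSite.Mod O)
    {H : ModSite.Mod O} (hH : HasLocalTriv H) : IsIso (cmp F G H) := by
  obtain ⟨σ, hσ⟩ := hF.exists_quasicoherentData
  have hpres : ∀ i, Nonempty (Pres F (σ.X i)) := fun i => by
    haveI := (hσ.isFinite_presentation i).isFiniteType_generators.finite
    haveI := (hσ.isFinite_presentation i).isFiniteType_relations.finite
    exact nonempty_pres (σ.presentation i)
  let ψ := (SheafOfModules.toSheaf.{u} (ModSite.ringSh O)).map (cmp F G H)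
  haveI : Presheaf.IsLocallyInjective J ψ.hom := ⟨fun {V} x y hxy => by
    let x' : Sec _ V.unop := x
    let y' : Sec _ V.unop := y
    have h0 : secMap (cmp F G H) V.unop (x' - y') = 0 :=
      (map_sub _ _ _).trans (sub_eq_zero.2 hxy)
    have hl : Loc J V.unop fun W g => secRes _ g x' = secRes _ g y' :=
      (show Loc J V.unop fun W g => ∃ i, Nonempty (W ⟶ σ.X i) from ⟨_, σ.coversTop V.unop, fun W g hg => hg⟩).bind
        fun W g ⟨i, ⟨a⟩⟩ => by
          obtain ⟨P⟩ := hpres i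
          refine (cmp_injective P hH a (secRes _ g (x' - y')) (by
            rw [DerCompLib.secMap_secRes, h0, map_zero])).mono fun W' g' hg' => ?_
          rw [DerCompLib.secRes_comp, map_sub, sub_eq_zero] at hg'
          exact hg'
    obtain ⟨S, hS, hS'⟩ := hl
    exact J.superset_covering (fun W g hg => hS' g hg) hS⟩
  haveI : Presheaf.IsLocallySurjective J ψ.hom := ⟨fun {V} s => by
    let s' : Sec _ V := s
    have hl : Loc J V fun W g => ∃ z, secMap (cmp F G H) W z = secRes _ g s' :=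
      (show Loc J V fun W g => ∃ i, Nonempty (W ⟶ σ.X i) from ⟨_, σ.coversTop V, fun W g hg => hg⟩).bind
        fun W g ⟨i, ⟨a⟩⟩ => by
          obtain ⟨P⟩ := hpres i
          refine (cmp_surjective P hH a (secRes _ g s')).mono fun W' g' hg' => ?_
          simp only [DerCompLib.secRes_comp] at hg'
          exact hg'
    obtain ⟨S, hS, hS'⟩ := hl
    exact J.superset_covering (fun W g hg => hS' g hg) hS⟩
  haveI hψ : IsIso ψ := (Sheaf.isLocallyBijective_iff_isIso ψ).1 ⟨‹_›, ‹_›⟩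
  exact @isIso_of_reflects_iso _ _ _ _ _ _ (cmp F G H) (SheafOfModules.toSheaf.{u} (ModSite.ringSh O)) hψ _

end Groth.Agent.HTop16.HomTensor
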