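import Groth.Agent.HTop16.HyperPrism

/-!
# Hypercoverings up to homotopy form a cofiltered category
-/

set_option autoImplicit false
set_option linter.all false
set_option backward.isDefEq.respectTransparency false

universe u

open CategoryTheory CategoryTheory.Limits Opposite
open scoped Simplicial

namespace Groth.Agent.HTop16.HyperCofilt

open SiteCoh.Hyp HyperPrism

unseal SimplexCategory.Hom

variable {C : Type u} [SmallCategory C] [HasFiniteLimits (FormalCoproduct.{u} C)] {J : GrothendieckTopology C}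
  {K L : SimplicialObject (FormalCoproduct.{u} C)}

/-- The levelwise product. -/
noncomputable def prodObj (K L : SimplicialObject (FormalCoproduct.{u} C)) : SimplicialObject (FormalCoproduct.{u} C) where
  obj m := K.obj m ⨯ L.obj m
  map α := prod.map (K.map α) (L.map α)
  map_id m := by simp
  map_comp α β := by simp

/-- First projection. -/
noncomputable def prodFst : prodObj K L ⟶ K where
  app m := prod.fst
  naturality m m' α := by simp [prodObj]

/-- Second projection. -/
noncomputable def prodSnd : prodObj K L ⟶ L where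
  app m := prod.snd
  naturality m m' α := by simp [prodObj]

theorem locFill_prod (hK : LocFill J K) (hL : LocFill J L) : LocFill J (prodObj K L) := by
  constructor
  · intro V
    refine J.superset_covering ?_ (J.intersection_covering (hK.zero V) (hL.zero V))
    rintro W g ⟨⟨z⟩, ⟨z'⟩⟩
    exact ⟨prod.lift z z'⟩
  · intro n V y hy
    refine J.superset_covering ?_ (J.intersection_covering
      (hK.fill n V _ (HyperFill.compat_map hy prodFst)) (hL.fill n V _ (HyperFill.compat_map hy prodSnd)))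
    rintro W g ⟨⟨z, hz⟩, ⟨z', hz'⟩⟩
    refine ⟨prod.lift z z', fun i => Limits.prod.hom_ext ?_ ?_⟩
    · have := hz i
      simp [prodObj, prodFst, SimplicialObject.δ, res] at this ⊢
      exact this
    · have := hz' i
      simp [prodObj, prodSnd, SimplicialObject.δ, res] at this ⊢
      exact this

/-- The prism. -/
abbrev P2 (n : SimplexCategory) : Type := Fin 2 × Fin (n.len + 1)

/-- Functoriality of prisms. -/
def tMap {m n : SimplexCategory} (α : m ⟶ n) : P2 m →o P2 n :=
  ⟨fun p => (p.1, α.toOrderHom p.2), fun p q h => ⟨h.1, α.toOrderHom.monotone h.2⟩⟩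

/-- A simplex of the prism. -/
def mkS {m n : SimplexCategory} (t : Fin (m.len + 1) →o Fin 2) (a : m ⟶ n) : Sim (P2 n) m :=
  ⟨fun x => (t x, a.toOrderHom x), fun x y h => ⟨t.monotone h, a.toOrderHom.monotone h⟩⟩

/-- The first component of a simplex. -/
def fstO {m n : SimplexCategory} (s : Sim (P2 n) m) : Fin (m.len + 1) →o Fin 2 :=
  ⟨fun x => (s x).1, fun x y h => (s.monotone h).1⟩

/-- The second component of a simplex. -/
def sndH {m n : SimplexCategory} (s : Sim (P2 n) m) : m ⟶ n :=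
  SimplexCategory.Hom.mk ⟨fun x => (s x).2, fun x y h => (s.monotone h).2⟩

lemma mkS_fst_snd {m n : SimplexCategory} (s : Sim (P2 n) m) : mkS (fstO s) (sndH s) = s := rfl

variable (L) in
/-- The path object. -/
noncomputable def path : SimplicialObject (FormalCoproduct.{u} C) where
  obj n := cot (P2 n.unop) L
  map α := cotMap (tMap α.unop)
  map_id n := cot_ext fun m s => by
    rw [cotMap_cev, Category.id_comp]
    rfl
  map_comp α β := cot_ext fun m s => by
    rw [cotMap_cev, Category.assoc, cotMap_cev, cotMap_cev]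
    rfl

/-- The ends of a path. -/
noncomputable def pEnd (ε : Fin 2) : path L ⟶ L where
  app n := cev L n.unop (mkS ⟨fun _ => ε, monotone_const⟩ (𝟙 n.unop))
  naturality n n' α := by
    show cotMap (tMap α.unop) ≫ _ = cev L _ _ ≫ L.map α
    rw [cotMap_cev, ← Quiver.Hom.op_unop α, ← natl_cev L]
    rfl

variable (f : Fin 2 → (K ⟶ L))

/-- The first map. -/
noncomputable def eq₁ (n : SimplexCategoryᵒᵖ) : K.obj n ⨯ (path L).obj n ⟶ L.obj n ⨯ L.obj n :=
  prod.lift (prod.fst ≫ (f 0).app n) (prod.fst ≫ (f 1).app n)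

/-- The second map. -/
noncomputable def eq₂ (n : SimplexCategoryᵒᵖ) : K.obj n ⨯ (path L).obj n ⟶ L.obj n ⨯ L.obj n :=
  prod.lift (prod.snd ≫ (pEnd 0).app n) (prod.snd ≫ (pEnd 1).app n)

lemma eq_nat {n n' : SimplexCategoryᵒᵖ} (α : n ⟶ n') :
    prod.map (K.map α) ((path L).map α) ≫ eq₁ f n' = eq₁ f n ≫ prod.map (L.map α) (L.map α) ∧
      prod.map (K.map α) ((path L).map α) ≫ eq₂ (K := K) (L := L) n' = eq₂ n ≫ prod.map (L.map α) (L.map α) := by
  constructor <;> apply Limits.prod.hom_ext <;> simp [eq₁, eq₂]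

/-- The homotopy equalizer. -/
noncomputable def hEq : SimplicialObject (FormalCoproduct.{u} C) where
  obj n := equalizer (eq₁ f n) (eq₂ n)
  map {n n'} α := equalizer.lift (equalizer.ι _ _ ≫ prod.map (K.map α) ((path L).map α)) (by
    rw [Category.assoc, Category.assoc, (eq_nat f α).1, (eq_nat f α).2, equalizer.condition_assoc])
  map_id n := equalizer.hom_ext (by simp)
  map_comp α β := equalizer.hom_ext (by simp)

/-- The projection. -/
noncomputable def hFst : hEq f ⟶ K where
  app n := equalizer.ι _ _ ≫ prod.fst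
  naturality n n' α := by simp [hEq]

/-- The path component. -/
noncomputable def hSnd : hEq f ⟶ path L where
  app n := equalizer.ι _ _ ≫ prod.snd
  naturality n n' α := by simp [hEq]

lemma h_end (ε : Fin 2) (n : SimplexCategoryᵒᵖ) :
    (hSnd f).app n ≫ (pEnd ε).app n = (hFst f).app n ≫ (f ε).app n := by
  have h := equalizer.condition (eq₁ f n) (eq₂ n)
  fin_cases ε
  · have := congrArg (· ≫ prod.fst) h
    simp [eq₁, eq₂] at this
    simp [hSnd, hFst]
    exact this.symm
  · have := congrArg (· ≫ prod.snd) h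
    simp [eq₁, eq₂] at this
    simp [hSnd, hFst]
    exact this.symm

/-- The homotopy in simplicial terms. -/
noncomputable def phi (m : SimplexCategory) (t : Fin (m.len + 1) →o Fin 2) :
    (hEq f).obj (op m) ⟶ L.obj (op m) :=
  (hSnd f).app (op m) ≫ cev L m (mkS t (𝟙 m))

lemma phi_map {m k : SimplexCategory} (γ : k ⟶ m) (t : Fin (m.len + 1) →o Fin 2) :
    phi f m t ≫ L.map γ.op = (hEq f).map γ.op ≫ phi f k (t.comp γ.toOrderHom) := by
  unfold phi
  rw [Category.assoc, ← natl_cev L, ← Category.assoc, (hSnd f).naturality γ.op, Category.assoc]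
  show _ = _ ≫ cotMap (tMap γ) ≫ _
  rw [cotMap_cev]
  rfl

lemma phi_const (m : SimplexCategory) (ε : Fin 2) (t : Fin (m.len + 1) →o Fin 2) (ht : ∀ x, t x = ε) :
    phi f m t = (hFst f).app (op m) ≫ (f ε).app (op m) := by
  rw [← h_end f ε (op m), phi]
  obtain rfl : t = ⟨fun _ => ε, monotone_const⟩ := OrderHom.ext _ _ (funext ht)
  rfl

/-- The step functions. -/
def stp {n : ℕ} (i : Fin (n + 1)) : Fin (n + 2) →o Fin 2 :=
  ⟨fun x => if (x : ℕ) ≤ (i : ℕ) then 0 else 1, fun x y h => by
    show (if (x : ℕ) ≤ (i : ℕ) then (0 : Fin 2) else 1) ≤ if (y : ℕ) ≤ (i : ℕ) then 0 else 1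
    have : (x : ℕ) ≤ (y : ℕ) := h
    split_ifs <;> first | omega | decide⟩

/-- The components of the homotopy. -/
noncomputable def hh {n : ℕ} (i : Fin (n + 1)) : (hEq f).obj (op ⦋n⦌) ⟶ L.obj (op ⦋n + 1⦌) :=
  (hEq f).σ i ≫ phi f ⦋n + 1⦌ (stp i)

lemma hh_map {n : ℕ} (i : Fin (n + 1)) {k : SimplexCategory} (γ : k ⟶ ⦋n + 1⦌) :
    hh f i ≫ L.map γ.op = (hEq f).map (γ ≫ SimplexCategory.σ i).op ≫ phi f k ((stp i).comp γ.toOrderHom) := by
  rw [hh, Category.assoc, phi_map, op_comp, CategoryTheory.Functor.map_comp, Category.assoc]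
  rfl

lemma map_phi_congr {n : ℕ} {k : SimplexCategory} {α α' : k ⟶ ⦋n⦌} {t t' : Fin (k.len + 1) →o Fin 2}
    (h₁ : ∀ x, (α.toOrderHom x : ℕ) = α'.toOrderHom x) (h₂ : ∀ x, t x = t' x) :
    (hEq f).map α.op ≫ phi f k t = (hEq f).map α'.op ≫ phi f k t' := by
  obtain rfl : α = α' := SimplexCategory.Hom.ext _ _ (OrderHom.ext _ _ (funext fun x => Fin.ext (h₁ x)))
  obtain rfl : t = t' := OrderHom.ext _ _ (funext h₂)
  rfl

lemma val_succAbove {n : ℕ} (i : Fin (n + 1)) (x : Fin n) :
    ((i.succAbove x : Fin (n + 1)) : ℕ) = if (x : ℕ) < (i : ℕ) then (x : ℕ) else (x : ℕ) + 1 := by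
  by_cases h : (x : ℕ) < (i : ℕ)
  · rw [if_pos h, Fin.succAbove_of_castSucc_lt _ _ h, Fin.val_castSucc]
  · rw [if_neg h, Fin.succAbove_of_le_castSucc _ _ (by simpa [Fin.le_iff_val_le_val] using not_lt.1 h), Fin.val_succ]

lemma val_predAbove {n : ℕ} (i : Fin n) (x : Fin (n + 1)) :
    ((i.predAbove x : Fin n) : ℕ) = if (i : ℕ) < (x : ℕ) then (x : ℕ) - 1 else (x : ℕ) := by
  by_cases h : (i : ℕ) < (x : ℕ)
  · rw [if_pos h, Fin.predAbove_of_castSucc_lt _ _ h, Fin.val_pred]
  · rw [if_neg h, Fin.predAbove_of_le_castSucc _ _ (by simpa [Fin.le_iff_val_le_val] using not_lt.1 h), Fin.coe_castPred]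

/-- The two composites are homotopic. -/
noncomputable def homotopy : SimplicialObject.Homotopy (hFst f ≫ f 0) (hFst f ≫ f 1) where
  h := hh f
  h_zero_comp_δ_zero n := by
    show hh f 0 ≫ L.map (SimplexCategory.δ 0).op = _
    rw [hh_map, phi_const f _ 1 _ (fun x => by simp [stp, SimplexCategory.δ, val_succAbove])]
    rw [show SimplexCategory.δ 0 ≫ SimplexCategory.σ (0 : Fin (n + 1)) = 𝟙 _ from SimplexCategory.δ_comp_σ_self' rfl]
    simp
  h_last_comp_δ_last n := by
    show hh f _ ≫ L.map (SimplexCategory.δ (Fin.last (n + 1))).op = _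
    rw [hh_map, phi_const f _ 0 _ (fun x => if_pos (by simp [SimplexCategory.δ]; omega))]
    rw [show SimplexCategory.δ (Fin.last (n + 1)) ≫ SimplexCategory.σ (Fin.last n) = 𝟙 _ from
      SimplexCategory.δ_comp_σ_succ' (Fin.succ_last n).symm]
    simp
  h_succ_comp_δ_castSucc_of_lt {n} i j hij := by
    show hh f j.succ ≫ L.map (SimplexCategory.δ i.castSucc).op = (hEq f).δ i ≫ hh f j
    rw [hh_map, hh, ← Category.assoc, SimplicialObject.δ, SimplicialObject.σ, ← CategoryTheory.Functor.map_comp, ← op_comp]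
    rw [Fin.le_iff_val_le_val, Fin.val_castSucc] at hij
    refine map_phi_congr f (fun x => ?_) (fun x => ?_) <;>
      simp [stp, SimplexCategory.δ, SimplexCategory.σ, val_succAbove, val_predAbove] <;>
      split_ifs <;> first | rfl | omega
  h_succ_comp_δ_castSucc_succ {n} j := by
    show hh f j.succ ≫ L.map (SimplexCategory.δ j.castSucc.succ).op = hh f j.castSucc ≫ L.map (SimplexCategory.δ j.castSucc.succ).op
    rw [hh_map, hh_map]
    refine map_phi_congr f (fun x => ?_) (fun x => ?_) <;>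
      simp [stp, SimplexCategory.δ, SimplexCategory.σ, val_succAbove, val_predAbove] <;>
      split_ifs <;> first | rfl | omega
  h_castSucc_comp_δ_succ_of_lt {n} i j hji := by
    show hh f j.castSucc ≫ L.map (SimplexCategory.δ i.succ).op = (hEq f).δ i ≫ hh f j
    rw [hh_map, hh, ← Category.assoc, SimplicialObject.δ, SimplicialObject.σ, ← CategoryTheory.Functor.map_comp, ← op_comp]
    rw [Fin.lt_def, Fin.val_castSucc] at hji
    refine map_phi_congr f (fun x => ?_) (fun x => ?_) <;>
      simp [stp, SimplexCategory.δ, SimplexCategory.σ, val_succAbove, val_predAbove] <;>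
      split_ifs <;> first | rfl | omega
  h_comp_σ_castSucc_of_le {n} i j hij := by
    show hh f j ≫ L.map (SimplexCategory.σ i.castSucc).op = (hEq f).σ i ≫ hh f j.succ
    rw [hh_map, hh, ← Category.assoc, SimplicialObject.σ, SimplicialObject.σ, ← CategoryTheory.Functor.map_comp, ← op_comp]
    rw [Fin.le_iff_val_le_val] at hij
    refine map_phi_congr f (fun x => ?_) (fun x => ?_) <;>
      simp [stp, SimplexCategory.δ, SimplexCategory.σ, val_succAbove, val_predAbove] <;>
      split_ifs <;> first | rfl | omega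
  h_comp_σ_succ_of_lt {n} i j hji := by
    show hh f j ≫ L.map (SimplexCategory.σ i.succ).op = (hEq f).σ i ≫ hh f j.castSucc
    rw [hh_map, hh, ← Category.assoc, SimplicialObject.σ, SimplicialObject.σ, ← CategoryTheory.Functor.map_comp, ← op_comp]
    rw [Fin.le_iff_val_le_val] at hji
    refine map_phi_congr f (fun x => ?_) (fun x => ?_) <;>
      simp [stp, SimplexCategory.δ, SimplexCategory.σ, val_succAbove, val_predAbove] <;>
      split_ifs <;> first | rfl | omega

/-- Local points of the homotopy equalizer. -/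
theorem exists_point (hL : LocFill J L) {n : SimplexCategory} {V : C} (k : Pt V (K.obj (op n)))
    (B : ∀ m, Sim (P2 n) m → Prop) (hB : ∀ (m m' : SimplexCategory) (γ : m' ⟶ m) s, B m s → B m' (pl γ s))
    (H : ∀ m s, B m s → Pt V (L.obj (op m)))
    (hH : ∀ (m m' : SimplexCategory) (γ : m' ⟶ m) s (h : B m s), H m' (pl γ s) (hB m m' γ s h) = H m s h ≫ L.map γ.op)
    (hends : ∀ m s (h : B m s) ε, (∀ x, (s x).1 = ε) → H m s h = k ≫ (f ε).app (op n) ≫ L.map (sndH s).op) :
    ∃ S ∈ J V, ∀ ⦃W : C⦄ (g : W ⟶ V), S g → ∃ z : Pt W ((hEq f).obj (op n)),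
      z ≫ (hFst f).app (op n) = res g k ∧ ∀ m s (h : B m s), z ≫ (hSnd f).app (op n) ≫ cev L m s = res g (H m s h) := by
  classical
  let A : ∀ m, Sim (P2 n) m → Prop := fun m s => (∀ x, (s x).1 = (s 0).1) ∨ B m s
  have hA : ∀ (m m' : SimplexCategory) (γ : m' ⟶ m) s, A m s → A m' (pl γ s) := fun m m' γ s h =>
    h.imp (fun h x => (h _).trans (h _).symm) (hB m m' γ s)
  let H₁ : ∀ m s, A m s → Pt V (L.obj (op m)) := fun m s h =>
    if hc : ∀ x, (s x).1 = (s 0).1 then k ≫ (f (s 0).1).app (op n) ≫ L.map (sndH s).op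
    else H m s (h.resolve_left hc)
  have hH₁ : ∀ m s (h : A m s) (hb : B m s), H₁ m s h = H m s hb := fun m s h hb => by
    by_cases hc : ∀ x, (s x).1 = (s 0).1
    · simp only [H₁, dif_pos hc]
      exact (hends m s hb _ hc).symm
    · simp only [H₁, dif_neg hc]
  have hH₁' : ∀ m s (h : A m s) ε, (∀ x, (s x).1 = ε) → H₁ m s h = k ≫ (f ε).app (op n) ≫ L.map (sndH s).op :=
    fun m s h ε hc => by
      obtain rfl : ε = (s 0).1 := (hc 0).symm
      simp only [H₁, dif_pos hc]
  obtain ⟨S, hS, hS'⟩ := exists_extend hL _ A hA le_rfl V H₁ fun m m' γ s h => by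
    by_cases hc : ∀ x, (s x).1 = (s 0).1
    · rw [hH₁' m s h _ hc, hH₁' m' (pl γ s) (hA m m' γ s h) (s 0).1 (fun x => hc _)]
      simp only [Category.assoc, ← CategoryTheory.Functor.map_comp, ← op_comp]
      rfl
    · rw [hH₁ m s h (h.resolve_left hc), hH₁ m' (pl γ s) (hA m m' γ s h) (hB m m' γ s (h.resolve_left hc)), hH]
  refine ⟨S, hS, fun W g hg => ?_⟩
  obtain ⟨H', hH', hH''⟩ := hS' g hg
  have he : ∀ ε, clift H' hH' ≫ (pEnd ε).app (op n) = res g k ≫ (f ε).app (op n) := fun ε => by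
    show clift H' hH' ≫ cev L n (mkS ⟨fun _ => ε, monotone_const⟩ (𝟙 n)) = _
    rw [clift_cev, hH'' _ _ (Or.inl fun x => rfl), hH₁' _ _ (Or.inl fun x => rfl) ε (fun x => rfl)]
    show res g (k ≫ (f ε).app (op n) ≫ L.map (𝟙 n).op) = _
    rw [op_id, CategoryTheory.Functor.map_id, Category.comp_id]
    exact (Category.assoc _ _ _).symm
  let z₀ : Pt W (K.obj (op n) ⨯ (path L).obj (op n)) := prod.lift (res g k) (clift H' hH')
  have z₁ : z₀ ≫ prod.fst = res g k := prod.lift_fst _ _
  have z₂ : z₀ ≫ prod.snd = clift H' hH' := prod.lift_snd _ _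
  have hcond : z₀ ≫ eq₁ f (op n) = z₀ ≫ eq₂ (op n) := by
    refine Limits.prod.hom_ext ?_ ?_ <;>
      simp only [eq₁, eq₂, Category.assoc, prod.lift_fst, prod.lift_snd, reassoc_of% z₁, reassoc_of% z₂, he]
  refine ⟨equalizer.lift z₀ hcond, ?_, fun m s h => ?_⟩
  · show equalizer.lift z₀ hcond ≫ equalizer.ι _ _ ≫ prod.fst = _
    rw [equalizer.lift_ι_assoc, z₁]
  · show equalizer.lift z₀ hcond ≫ (equalizer.ι _ _ ≫ prod.snd) ≫ _ = _
    rw [Category.assoc, equalizer.lift_ι_assoc, ← Category.assoc, z₂]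
    rw [clift_cev, hH'' m s (Or.inr h), hH₁ m s (Or.inr h) h]

/-- The homotopy equalizer has local fillers. -/
theorem locFill_hEq (hK : LocFill J K) (hL : LocFill J L) : LocFill J (hEq f) := by
  constructor
  · intro V
    refine J.transitive (hK.zero V) _ fun W g ⟨k⟩ => ?_
    obtain ⟨S, hS, hS'⟩ := exists_point f hL k (fun _ _ => False) (fun _ _ _ _ h => h) (fun _ _ h => h.elim)
      (fun _ _ _ _ h => h.elim) (fun _ _ h => h.elim)
    refine J.superset_covering ?_ hS
    intro W' g' hg'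
    obtain ⟨z, -⟩ := hS' g' hg'
    exact ⟨z⟩
  · intro p V y hy
    refine J.transitive (hK.fill p V _ (HyperFill.compat_map hy (hFst f))) _ fun W g ⟨k, hk⟩ => ?_
    let B : ∀ m, Sim (P2 ⦋p + 1⦌) m → Prop := fun m s =>
      ∃ (i : Fin (p + 2)) (a : m ⟶ ⦋p⦌), sndH s = a ≫ SimplexCategory.δ i
    have hB : ∀ (m m' : SimplexCategory) (γ : m' ⟶ m) s, B m s → B m' (pl γ s) := fun m m' γ s ⟨i, a, e⟩ =>
      ⟨i, γ ≫ a, (show sndH (pl γ s) = γ ≫ sndH s from rfl).trans (by rw [e, Category.assoc])⟩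
    let v : ∀ (m : SimplexCategory) (t : Fin (m.len + 1) →o Fin 2) (i : Fin (p + 2)) (a : m ⟶ ⦋p⦌),
        Pt W (L.obj (op m)) := fun m t i a => res g (y i) ≫ (hSnd f).app (op ⦋p⦌) ≫ cev L m (mkS t a)
    have hv : ∀ (m : SimplexCategory) (t : Fin (m.len + 1) →o Fin 2) (i : Fin (p + 2)) (a : m ⟶ ⦋p⦌),
        v m t i a = (res g (y i) ≫ (hEq f).map a.op) ≫ (hSnd f).app (op m) ≫ cev L m (mkS t (𝟙 m)) := by
      intro m t i a
      rw [Category.assoc, ← Category.assoc ((hEq f).map a.op), (hSnd f).naturality a.op, Category.assoc]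
      simp only [v, res, Category.assoc]
      show _ = _ ≫ _ ≫ _ ≫ cotMap (L := L) (tMap a) ≫ _
      rw [cotMap_cev]
      rfl
    have hindep : ∀ (m : SimplexCategory) (t : Fin (m.len + 1) →o Fin 2) (i j : Fin (p + 2)) (a b : m ⟶ ⦋p⦌),
        a ≫ SimplexCategory.δ i = b ≫ SimplexCategory.δ j → v m t i a = v m t j b := fun m t i j a b e => by
      rw [hv, hv, HyperFill.compat_res hy g m i j a b e]
    let H : ∀ m s, B m s → Pt W (L.obj (op m)) := fun m s h => v m (fstO s) h.choose h.choose_spec.choose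
    have hHv : ∀ m s (h : B m s) i a, sndH s = a ≫ SimplexCategory.δ i → H m s h = v m (fstO s) i a :=
      fun m s h i a e => hindep _ _ _ _ _ _ (h.choose_spec.choose_spec.symm.trans e)
    obtain ⟨S, hS, hS'⟩ := exists_point f hL k B hB H (fun m m' γ s h => by
      obtain ⟨i, a, e⟩ := h
      rw [hHv m s _ i a e, hHv m' (pl γ s) _ i (γ ≫ a)
        ((show sndH (pl γ s) = γ ≫ sndH s from rfl).trans (by rw [e, Category.assoc]))]
      show res g (y i) ≫ _ ≫ cev L m' (pl γ (mkS (fstO s) a)) = (res g (y i) ≫ _ ≫ _) ≫ L.map γ.op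
      rw [natl_cev L]
      simp only [Category.assoc])
      (fun m s h ε hε => by
        obtain ⟨i, a, e⟩ := h
        rw [hHv m s _ i a e, hv]
        have he : (hSnd f).app (op m) ≫ cev L m (mkS (fstO s) (𝟙 m)) = (hFst f).app (op m) ≫ (f ε).app (op m) :=
          phi_const f m ε (fstO s) hε
        have hki : k ≫ K.map (SimplexCategory.δ i).op = res g (y i) ≫ (hFst f).app (op ⦋p⦌) :=
          (hk i).trans (Category.assoc _ _ _).symm
        rw [he, e]
        simp only [res, Category.assoc] at hki ⊢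
        rw [← (f ε).naturality, op_comp, K.map_comp, Category.assoc, reassoc_of% hki,
          (hFst f).naturality_assoc a.op])
    refine J.superset_covering ?_ hS
    intro W' g' hg'
    obtain ⟨z, hz₁, hz₂⟩ := hS' g' hg'
    refine ⟨z, fun i => ?_⟩
    refine equalizer.hom_ext (Limits.prod.hom_ext ?_ ?_)
    · show ((z ≫ (hEq f).map (SimplexCategory.δ i).op) ≫ equalizer.ι _ _) ≫ prod.fst = (_ ≫ equalizer.ι _ _) ≫ prod.fst
      rw [Category.assoc, Category.assoc, Category.assoc]
      show z ≫ (hEq f).map (SimplexCategory.δ i).op ≫ (hFst f).app _ = res (g' ≫ g) (y i) ≫ (hFst f).app _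
      rw [(hFst f).naturality, ← Category.assoc, hz₁]
      refine (Category.assoc _ _ _).trans ((congrArg ((FormalCoproduct.incl.{u} C).map g' ≫ ·) (hk i)).trans ?_)
      simp [res]
    · show ((z ≫ (hEq f).map (SimplexCategory.δ i).op) ≫ equalizer.ι _ _) ≫ prod.snd = (_ ≫ equalizer.ι _ _) ≫ prod.snd
      rw [Category.assoc, Category.assoc, Category.assoc]
      show z ≫ (hEq f).map (SimplexCategory.δ i).op ≫ (hSnd f).app _ = res (g' ≫ g) (y i) ≫ (hSnd f).app _
      refine cot_ext fun m s => ?_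
      rw [(hSnd f).naturality, Category.assoc, Category.assoc]
      show z ≫ _ ≫ cotMap (tMap (SimplexCategory.δ i)) ≫ _ = _
      rw [cotMap_cev, hz₂ m _ ⟨i, sndH s, rfl⟩, hHv m _ _ i (sndH s) rfl]
      simp [v, res]
      rfl

end Groth.Agent.HTop16.HyperCofilt
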