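import Groth.Agent.HTop16.HyperSite
import Groth.Agent.SiteCoh.HyperPts

/-!
# Cofree hypercoverings by a class of objects

In degree `n` the index set is the set of functors on the category of simplices of `Δ[n]` with values in
the given class.
-/

set_option autoImplicit false
set_option linter.all false
set_option backward.isDefEq.respectTransparency false

universe u

open CategoryTheory CategoryTheory.Limits Opposite
open scoped Simplicial

namespace Groth.Agent.HTop16.HyperCofree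

open SiteCoh.Hyp

unseal SimplexCategory.Hom

/-- A simplex of `Δ[n]`, with the monotone map stored as such, so that composition is strict. -/
structure Sx (n : SimplexCategory) where
  /-- The dimension. -/
  src : SimplexCategory
  /-- The monotone map. -/
  f : Fin (src.len + 1) →o Fin (n.len + 1)

instance (n : SimplexCategory) : SmallCategory (Sx n) where
  Hom s t := {γ : s.src ⟶ t.src // t.f.comp γ.toOrderHom = s.f}
  id s := ⟨𝟙 _, rfl⟩
  comp {s t r} γ γ' := ⟨γ.1 ≫ γ'.1, (congrArg (fun z => OrderHom.comp z γ.1.toOrderHom) γ'.2).trans γ.2⟩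
  id_comp γ := Subtype.ext (Category.id_comp _)
  comp_id γ := Subtype.ext (Category.comp_id _)
  assoc γ γ' γ'' := Subtype.ext (Category.assoc _ _ _)

lemma Sx.hom_ext {n : SimplexCategory} {s t : Sx n} {γ γ' : s ⟶ t} (h : γ.1 = γ'.1) : γ = γ' :=
  Subtype.ext h

/-- Functoriality of the simplices. -/
def pre {m n : SimplexCategory} (α : m ⟶ n) : Sx m ⥤ Sx n where
  obj s := ⟨s.src, α.toOrderHom.comp s.f⟩
  map γ := ⟨γ.1, congrArg (OrderHom.comp α.toOrderHom) γ.2⟩

/-- The top simplex. -/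
abbrev top (n : SimplexCategory) : Sx n := ⟨n, OrderHom.id⟩

/-- The map to the top simplex. -/
def toTop {n : SimplexCategory} (s : Sx n) : s ⟶ top n :=
  ⟨SimplexCategory.Hom.mk s.f, by simp⟩

variable {C : Type u} [SmallCategory C] (P : C → Prop)

/-- The diagrams indexing the cofree object in degree `n`. -/
def Idx (n : SimplexCategory) : Type u := {G : (Sx n)ᵒᵖ ⥤ C // ∀ f, P (G.obj f)}

/-- The cofree simplicial object. -/
def cofree : SimplicialObject (FormalCoproduct.{u} C) where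
  obj n := ⟨Idx P n.unop, fun G => G.1.obj (op (top n.unop))⟩
  map {n m} α :=
    { f := fun G => ⟨(pre α.unop).op ⋙ G.1, fun f => G.2 _⟩
      φ := fun G => G.1.map (toTop ((pre α.unop).obj (top m.unop))).op }
  map_id n := by
    refine FormalCoproduct.hom_ext (funext fun G => Subtype.ext rfl) fun G => ?_
    exact (Category.comp_id _).trans
      ((congrArg G.1.map (Quiver.Hom.unop_inj (Sx.hom_ext (SimplexCategory.Hom.ext _ _ rfl)))).trans
        (G.1.map_id _))
  map_comp {n m k} α β := by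
    refine FormalCoproduct.hom_ext (funext fun G => Subtype.ext rfl) fun G => ?_
    exact (Category.comp_id _).trans
      ((congrArg G.1.map (show (toTop ((pre (α ≫ β).unop).obj (top k.unop))).op =
        (toTop ((pre α.unop).obj (top m.unop))).op ≫
          ((pre α.unop).map (toTop ((pre β.unop).obj (top k.unop)))).op from
        Quiver.Hom.unop_inj (Sx.hom_ext (SimplexCategory.Hom.ext _ _ rfl)))).trans (G.1.map_comp _ _))

lemma cofree_mem (n : SimplexCategoryᵒᵖ) (G : ((cofree P).obj n).I) : P (((cofree P).obj n).obj G) :=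
  G.2 _

variable {P}

section Fill

variable {n : ℕ} {W : C} (y : Fin (n + 2) → Pt W ((cofree P).obj (op ⦋n⦌)))

/-- The diagram of a member of a boundary family. -/
abbrev gi (i : Fin (n + 2)) : (Sx ⦋n⦌)ᵒᵖ ⥤ C := ((y i).f PUnit.unit).1

/-- The structure arrow of a member of a boundary family. -/
abbrev ai (i : Fin (n + 2)) (a : Sx ⦋n⦌) : W ⟶ (gi y i).obj (op a) :=
  (y i).φ PUnit.unit ≫ (gi y i).map (toTop a).op

/-- Simplices in the boundary. -/
def InBd (f : Sx ⦋n + 1⦌) : Prop :=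
  ∃ (i : Fin (n + 2)) (a : f.src ⟶ ⦋n⦌), (SimplexCategory.δ i).toOrderHom.comp a.toOrderHom = f.f

open Classical in
/-- The values of the filling diagram. -/
noncomputable def fillObj (f : Sx ⦋n + 1⦌) : C :=
  if h : InBd f then (gi y h.choose).obj (op ⟨f.src, h.choose_spec.choose.toOrderHom⟩) else W

lemma fillObj_pos {f : Sx ⦋n + 1⦌} (h : InBd f) :
    fillObj y f = (gi y h.choose).obj (op ⟨f.src, h.choose_spec.choose.toOrderHom⟩) := dif_pos h

lemma fillObj_neg {f : Sx ⦋n + 1⦌} (h : ¬ InBd f) : fillObj y f = W := dif_neg h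

open Classical in
/-- The arrows to the values of the filling diagram. -/
noncomputable def fillArr (f : Sx ⦋n + 1⦌) : W ⟶ fillObj y f :=
  if h : InBd f then ai y h.choose ⟨f.src, h.choose_spec.choose.toOrderHom⟩ ≫ eqToHom (fillObj_pos y h).symm
  else eqToHom (fillObj_neg y h).symm

variable (hy : Compat (cofree P) n y)
include hy

lemma gi_eq {m : SimplexCategory} {i j : Fin (n + 2)} (a b : m ⟶ ⦋n⦌)
    (e : (SimplexCategory.δ i).toOrderHom.comp a.toOrderHom = (SimplexCategory.δ j).toOrderHom.comp b.toOrderHom) :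
    (pre a).op ⋙ gi y i = (pre b).op ⋙ gi y j :=
  congrArg (fun t : Pt W ((cofree P).obj (op m)) => (t.f PUnit.unit).1)
    (hy m i j a b (SimplexCategory.Hom.ext _ _ e))

lemma ai_eq {m : SimplexCategory} {i j : Fin (n + 2)} (a b : m ⟶ ⦋n⦌)
    (e : (SimplexCategory.δ i).toOrderHom.comp a.toOrderHom = (SimplexCategory.δ j).toOrderHom.comp b.toOrderHom)
    (h : (gi y i).obj (op ⟨m, a.toOrderHom⟩) = (gi y j).obj (op ⟨m, b.toOrderHom⟩)) :
    ai y i ⟨m, a.toOrderHom⟩ ≫ eqToHom h = ai y j ⟨m, b.toOrderHom⟩ := by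
  obtain ⟨h₁, h₂⟩ := (FormalCoproduct.hom_ext_iff' _ _).1 (hy m i j a b (SimplexCategory.Hom.ext _ _ e)) PUnit.unit
  exact h₂

lemma obj_eq {f : Sx ⦋n + 1⦌} {i : Fin (n + 2)} {a : f.src ⟶ ⦋n⦌}
    (e : (SimplexCategory.δ i).toOrderHom.comp a.toOrderHom = f.f) :
    fillObj y f = (gi y i).obj (op ⟨f.src, a.toOrderHom⟩) := by
  have h : InBd f := ⟨i, a, e⟩
  rw [fillObj_pos y h]
  exact Functor.congr_obj (gi_eq y hy h.choose_spec.choose a (h.choose_spec.choose_spec.trans e.symm))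
    (op (top f.src))

lemma arr_eq {f : Sx ⦋n + 1⦌} {i : Fin (n + 2)} {a : f.src ⟶ ⦋n⦌}
    (e : (SimplexCategory.δ i).toOrderHom.comp a.toOrderHom = f.f) :
    fillArr y f ≫ eqToHom (obj_eq y hy e) = ai y i ⟨f.src, a.toOrderHom⟩ := by
  have h : InBd f := ⟨i, a, e⟩
  rw [fillArr, dif_pos h, Category.assoc, eqToHom_trans]
  exact ai_eq y hy _ _ (h.choose_spec.choose_spec.trans e.symm) _

omit hy in
lemma face_eq {f f' : Sx ⦋n + 1⦌} (γ : f' ⟶ f) {i : Fin (n + 2)} {a : f.src ⟶ ⦋n⦌}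
    (e : (SimplexCategory.δ i).toOrderHom.comp a.toOrderHom = f.f) :
    (SimplexCategory.δ i).toOrderHom.comp (γ.1 ≫ a).toOrderHom = f'.f :=
  (congrArg (fun z => OrderHom.comp z γ.1.toOrderHom) e).trans γ.2

/-- The map between two faces. -/
abbrev fmap {m m' : SimplexCategory} (γ : m' ⟶ m) (a : m ⟶ ⦋n⦌) :
    (⟨m', (γ ≫ a).toOrderHom⟩ : Sx ⦋n⦌) ⟶ ⟨m, a.toOrderHom⟩ := ⟨γ, rfl⟩

open Classical in
/-- The maps of the filling diagram. -/
noncomputable def fillMap {f f' : Sx ⦋n + 1⦌} (γ : f' ⟶ f) : fillObj y f ⟶ fillObj y f' :=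
  if h : InBd f then
    eqToHom (obj_eq y hy h.choose_spec.choose_spec) ≫
      (gi y h.choose).map (fmap γ.1 h.choose_spec.choose).op ≫
      eqToHom (obj_eq y hy (face_eq γ h.choose_spec.choose_spec)).symm
  else eqToHom (fillObj_neg y h) ≫ fillArr y f'

lemma map_eq {f f' : Sx ⦋n + 1⦌} (γ : f' ⟶ f) {i : Fin (n + 2)} {a : f.src ⟶ ⦋n⦌}
    (e : (SimplexCategory.δ i).toOrderHom.comp a.toOrderHom = f.f) :
    fillMap y hy γ = eqToHom (obj_eq y hy e) ≫ (gi y i).map (fmap γ.1 a).op ≫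
      eqToHom (obj_eq y hy (face_eq γ e)).symm := by
  have h : InBd f := ⟨i, a, e⟩
  rw [fillMap, dif_pos h]
  have E := gi_eq y hy h.choose_spec.choose a (h.choose_spec.choose_spec.trans e.symm)
  have key' : (gi y h.choose).map (fmap γ.1 h.choose_spec.choose).op =
    eqToHom (Functor.congr_obj E (op (top f.src))) ≫ (gi y i).map (fmap γ.1 a).op ≫
      eqToHom (Functor.congr_obj E (op ⟨f'.src, γ.1.toOrderHom⟩)).symm :=
    Functor.congr_hom E (Quiver.Hom.op (show (⟨f'.src, γ.1.toOrderHom⟩ : Sx f.src) ⟶ top f.src from ⟨γ.1, rfl⟩))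
  rw [key']
  simp

omit hy in
lemma fmap_toTop {m m' : SimplexCategory} (γ : m' ⟶ m) (a : m ⟶ ⦋n⦌) :
    fmap γ a ≫ toTop (⟨m, a.toOrderHom⟩ : Sx ⦋n⦌) = toTop ⟨m', (γ ≫ a).toOrderHom⟩ :=
  Sx.hom_ext (SimplexCategory.Hom.ext _ _ rfl)

lemma arr_map {f f' : Sx ⦋n + 1⦌} (γ : f' ⟶ f) : fillArr y f ≫ fillMap y hy γ = fillArr y f' := by
  by_cases h : InBd f
  · obtain ⟨i, a, e⟩ := h
    rw [map_eq y hy γ e, ← Category.assoc, arr_eq y hy e, ← Category.assoc, comp_eqToHom_iff,
      arr_eq y hy (face_eq γ e), ai, ai, Category.assoc, ← Functor.map_comp, ← op_comp, fmap_toTop]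
  · rw [fillMap, dif_neg h, fillArr, dif_neg h, eqToHom_trans_assoc, eqToHom_refl, Category.id_comp]

lemma map_id' (f : Sx ⦋n + 1⦌) : fillMap y hy (𝟙 f) = 𝟙 (fillObj y f) := by
  by_cases h : InBd f
  · obtain ⟨i, a, e⟩ := h
    have : (gi y i).map (fmap (𝟙 f : f ⟶ f).1 a).op = eqToHom (congrArg
        (fun z => (gi y i).obj (op (⟨f.src, z⟩ : Sx ⦋n⦌))) (by rfl :
          a.toOrderHom = ((𝟙 f : f ⟶ f).1 ≫ a).toOrderHom)) := (gi y i).map_id _
    rw [map_eq y hy (𝟙 f) e, this]
    simp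
  · rw [fillMap, dif_neg h, fillArr, dif_neg h, eqToHom_trans, eqToHom_refl]

lemma map_comp' {f f' f'' : Sx ⦋n + 1⦌} (γ : f' ⟶ f) (γ' : f'' ⟶ f') :
    fillMap y hy (γ' ≫ γ) = fillMap y hy γ ≫ fillMap y hy γ' := by
  by_cases h : InBd f
  · obtain ⟨i, a, e⟩ := h
    rw [map_eq y hy (γ' ≫ γ) e, map_eq y hy γ e, map_eq y hy γ' (face_eq γ e)]
    simp only [Category.assoc, eqToHom_trans_assoc, eqToHom_refl, Category.id_comp, ← Functor.map_comp_assoc]
    rfl
  · rw [fillMap, dif_neg h, fillMap, dif_neg h, Category.assoc, arr_map]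

/-- The filling diagram. -/
noncomputable def fillFun : (Sx ⦋n + 1⦌)ᵒᵖ ⥤ C where
  obj f := fillObj y f.unop
  map γ := fillMap y hy γ.unop
  map_id f := map_id' y hy f.unop
  map_comp γ γ' := map_comp' y hy γ.unop γ'.unop

lemma fillFun_mem (hW : P W) (f : (Sx ⦋n + 1⦌)ᵒᵖ) : P ((fillFun y hy).obj f) := by
  show P (fillObj y f.unop)
  by_cases h : InBd f.unop
  · rw [fillObj_pos y h]
    exact ((y h.choose).f PUnit.unit).2 _
  · rw [fillObj_neg y h]
    exact hW

/-- A filler over an object of the class. -/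
theorem exists_fill (hW : P W) : ∃ z : Pt W ((cofree P).obj (op ⦋n + 1⦌)), ∀ i, z ≫ (cofree P).δ i = y i := by
  refine ⟨FormalCoproduct.Hom.fromIncl
    (⟨fillFun y hy, fillFun_mem y hy hW⟩ : ((cofree P).obj (op ⦋n + 1⦌)).I) (fillArr y _), fun i => ?_⟩
  refine (FormalCoproduct.hom_ext_iff' _ _).2 fun j => ?_
  cases j
  have e : (pre (SimplexCategory.δ i)).op ⋙ fillFun y hy = gi y i := by
    refine CategoryTheory.Functor.ext (fun a => (obj_eq y hy (f := (pre (SimplexCategory.δ i)).obj a.unop)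
      (i := i) (a := SimplexCategory.Hom.mk a.unop.f) rfl).trans rfl) fun a b g => ?_
    obtain ⟨⟨ma, fa⟩⟩ := a
    obtain ⟨⟨mb, fb⟩⟩ := b
    obtain ⟨γ, rfl⟩ : ∃ γ : (⟨mb, fb⟩ : Sx ⦋n⦌) ⟶ ⟨ma, fa⟩, γ.op = g := ⟨g.unop, rfl⟩
    obtain ⟨γ, hγ⟩ := γ
    change mb ⟶ ma at γ
    obtain rfl : fb = fa.comp γ.toOrderHom := hγ.symm
    let γ' : (⟨mb, fa.comp γ.toOrderHom⟩ : Sx ⦋n⦌) ⟶ ⟨ma, fa⟩ := ⟨γ, rfl⟩
    show fillMap y hy ((pre (SimplexCategory.δ i)).map γ') = _
    rw [map_eq y hy ((pre (SimplexCategory.δ i)).map γ') (i := i) (a := SimplexCategory.Hom.mk fa) rfl]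
    rfl
  refine ⟨Subtype.ext e, ?_⟩
  show (fillArr y _ ≫ fillMap y hy _) ≫ eqToHom _ = _
  rw [arr_map]
  refine (arr_eq y hy (f := (pre (SimplexCategory.δ i)).obj (top ⦋n⦌)) (i := i) (a := 𝟙 ⦋n⦌) rfl).trans ?_
  exact (congrArg (fun t => (y i).φ PUnit.unit ≫ (gi y i).map t)
    (Quiver.Hom.unop_inj (Sx.hom_ext (SimplexCategory.Hom.ext _ _ rfl)))).trans
      ((congrArg (_ ≫ ·) ((gi y i).map_id _)).trans (Category.comp_id _))

end Fill

variable {J : GrothendieckTopology C}

/-- Fillers are local liftings to the coskeleton. -/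
theorem localLift_of_fill (K : SimplicialObject (FormalCoproduct.{u} C)) (n : ℕ)
    [∀ (F : (SimplexCategory.Truncated n)ᵒᵖ ⥤ FormalCoproduct.{u} C),
      (SimplexCategory.Truncated.inclusion n).op.HasRightKanExtension F]
    (hfill : ∀ (V : C) (y : Fin (n + 2) → Pt V (K.obj (op ⦋n⦌))), Compat K n y → fillSieve K n y ∈ J V) :
    LocalLift J (((SimplicialObject.coskAdj n).unit.app K).app (op ⦋n + 1⦌)) := fun V e => by
  let h := ((SimplicialObject.coskAdj n).homEquiv (test (n + 1) V) _).symm (fromTest e)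
  let y : Fin (n + 2) → Pt V (K.obj (op ⦋n⦌)) := fun i =>
    tι (m := op ⦋n⦌) (SimplexCategory.δ i) ≫ h.app (op ⟨⦋n⦌, le_refl n⟩)
  have hh : ∀ (m : SimplexCategory.Truncated n) (i : Fin (n + 2)) (a : m.obj ⟶ ⦋n⦌),
      tι (a ≫ SimplexCategory.δ i) ≫ h.app (op m) = y i ≫ K.map a.op := fun m i a => by
    have hn := h.naturality ((ObjectProperty.homMk a : m ⟶ ⟨⦋n⦌, le_refl n⟩).op)
    change (test (n + 1) V).map a.op ≫ h.app (op m) = h.app (op ⟨⦋n⦌, le_refl n⟩) ≫ K.map a.op at hn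
    rw [Category.assoc, ← hn]
    exact (tι_map_assoc (m := op ⦋n⦌) a.op (SimplexCategory.δ i) _).symm
  have hy : Compat K n y := by
    intro m i j a b hab
    by_cases hm : m.len ≤ n
    · rw [← hh ⟨m, hm⟩ i a, ← hh ⟨m, hm⟩ j b, hab]
    · obtain ⟨i', hi'⟩ : ∃ i' : Fin (n + 2), ∀ k, (a ≫ SimplexCategory.δ i).toOrderHom k ≠ i' :=
        ⟨i, fun k => by simpa [SimplexCategory.δ] using Fin.succAbove_ne i _⟩
      let I := image (a ≫ SimplexCategory.δ i)
      let π := factorThruImage (a ≫ SimplexCategory.δ i)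
      have hπ : π ≫ image.ι (a ≫ SimplexCategory.δ i) = a ≫ SimplexCategory.δ i := image.fac _
      have hI : I.len ≤ n := by
        by_contra hc
        have hle : I.len ≤ n + 1 := SimplexCategory.len_le_of_mono (image.ι (a ≫ SimplexCategory.δ i))
        have heq : I = ⦋n + 1⦌ := SimplexCategory.ext (by simp only [SimplexCategory.len_mk]; omega)
        have : Function.Surjective (a ≫ SimplexCategory.δ i).toOrderHom := by
          rw [← hπ]
          show Function.Surjective (⇑(image.ι (a ≫ SimplexCategory.δ i)).toOrderHom ∘ ⇑π.toOrderHom)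
          refine Function.Surjective.comp ?_
            (SimplexCategory.epi_iff_surjective.1 (inferInstance : Epi π))
          have hinj := SimplexCategory.mono_iff_injective.1
            (inferInstance : Mono (image.ι (a ≫ SimplexCategory.δ i)))
          exact ((Fintype.bijective_iff_injective_and_card _).2 ⟨hinj, by simp only [Fintype.card_fin]; exact congrArg (·.len + 1) heq⟩).2
        obtain ⟨k, hk⟩ := this i'
        exact hi' k hk
      obtain ⟨l, c, hc⟩ := exists_factor hI (image.ι (a ≫ SimplexCategory.δ i))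
      have red : ∀ (p : Fin (n + 2)) (q : m ⟶ ⦋n⦌), q ≫ SimplexCategory.δ p = a ≫ SimplexCategory.δ i →
          y p ≫ K.map q.op = y l ≫ K.map c.op ≫ K.map π.op := by
        intro p q hq
        have hf : ∀ k, ∃ k', (SimplexCategory.δ p).toOrderHom k' =
            (image.ι (a ≫ SimplexCategory.δ i)).toOrderHom k := fun k => by
          obtain ⟨k₀, rfl⟩ := (SimplexCategory.epi_iff_surjective.1 (inferInstance : Epi π)) k
          exact ⟨q.toOrderHom k₀, congr($(hq.trans hπ.symm).toOrderHom k₀)⟩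
        obtain ⟨d, hd⟩ := SimplexCategory.eq_comp_δ_of_not_surjective' (image.ι (a ≫ SimplexCategory.δ i)) p
          fun k hk => by
            obtain ⟨k', hk'⟩ := hf k
            exact Fin.succAbove_ne p k' (hk'.trans hk)
        have hqd : q = π ≫ d := by
          rw [← cancel_mono (SimplexCategory.δ p), Category.assoc, ← hd, hπ, hq]
        rw [hqd, op_comp, K.map_comp, ← Category.assoc, ← Category.assoc,
          ← hh ⟨I, hI⟩ p d, ← hh ⟨I, hI⟩ l c, ← hd, ← hc]
      rw [red i a rfl, red j b hab.symm]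
  refine J.superset_covering ?_ (hfill V y hy)
  rintro W g ⟨z, hz⟩
  refine ⟨z, ?_⟩
  have key : fromTest z ≫ (SimplicialObject.coskAdj n).unit.app K = testMap (n + 1) g ≫ fromTest e := by
    refine Eq.trans ?_ (congrArg (testMap (n + 1) g ≫ ·)
      (Equiv.apply_symm_apply ((SimplicialObject.coskAdj n).homEquiv (test (n + 1) V) _) (fromTest e)))
    rw [← (SimplicialObject.coskAdj n).homEquiv_naturality_left, Adjunction.homEquiv_unit]
    refine ((SimplicialObject.coskAdj n).unit_naturality (fromTest z)).symm.trans ?_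
    refine congrArg (fun t => (SimplicialObject.coskAdj n).unit.app _ ≫ (SimplicialObject.Truncated.cosk n).map t) ?_
    refine NatTrans.ext (funext fun m => tι_ext (m := op m.unop.obj) fun θ => ?_)
    obtain ⟨i, a, rfl⟩ := exists_factor m.unop.property θ
    show tι _ ≫ (fromTest z).app (op m.unop.obj) = tι _ ≫ (testMap (n + 1) g).app (op m.unop.obj) ≫ h.app m
    rw [tι_fromTest, tι_testMap_assoc]
    refine Eq.trans ?_ (congrArg ((FormalCoproduct.incl.{u} C).map g ≫ ·) (hh m.unop i a)).symm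
    rw [op_comp, K.map_comp, ← Category.assoc, ← Category.assoc]
    exact congrArg (· ≫ _) (hz i)
  have := congrArg evalTest key
  rw [evalTest_comp, evalTest_fromTest, evalTest_testMap_comp, evalTest_fromTest] at this
  exact this

theorem isSRCovering_of_localLift {A B : FormalCoproduct.{u} C} {f : A ⟶ B} (hf : LocalLift J f) :
    Hyper.IsSRCovering J f := fun j => by
  refine J.superset_covering ?_ (hf (B.obj j) (ptι B j))
  rintro W g ⟨z, hz⟩
  obtain ⟨h₁, h₂⟩ := (FormalCoproduct.hom_ext_iff' _ _).1 hz PUnit.unit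
  refine ⟨_, z.φ PUnit.unit, _, Presieve.ofArrows.mk (⟨z.f PUnit.unit, h₁⟩ : {i : A.I // f.f i = j}), ?_⟩
  exact ((Category.assoc _ _ _).symm.trans h₂).trans (Category.comp_id g)

/-- The class covers everything. -/
def Covers (J : GrothendieckTopology C) (P : C → Prop) : Prop :=
  ∀ V : C, ∃ S ∈ J V, ∀ ⦃W : C⦄ (g : W ⟶ V), S g → ∃ (U : C) (a : W ⟶ U) (b : U ⟶ V), P U ∧ a ≫ b = g

theorem fill_cofree (hP : Covers J P) (n : ℕ) (V : C) (y : Fin (n + 2) → Pt V ((cofree P).obj (op ⦋n⦌)))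
    (hy : Compat (cofree P) n y) : fillSieve (cofree P) n y ∈ J V := by
  obtain ⟨S, hS, h⟩ := hP V
  refine J.superset_covering ?_ hS
  intro W g hg
  obtain ⟨U, a, b, hU, rfl⟩ := h g hg
  refine Sieve.downward_closed _ ?_ a
  have hy' : Compat (cofree P) n (fun i => res b (y i)) := fun m i j c d e => by
    simp only [res, Category.assoc]
    rw [hy m i j c d e]
  exact exists_fill _ hy' hU

/-- The point of the constant diagram. -/
def constPt {U W : C} (hU : P U) (a : W ⟶ U) : Pt W ((cofree P).obj (op ⦋0⦌)) :=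
  FormalCoproduct.Hom.fromIncl (⟨(Functor.const (Sx ⦋0⦌)ᵒᵖ).obj U, fun _ => hU⟩ : ((cofree P).obj (op ⦋0⦌)).I) a

theorem ptSieve_cofree (hP : Covers J P) (V : C) : ptSieve (cofree P) V ∈ J V := by
  obtain ⟨S, hS, h⟩ := hP V
  refine J.superset_covering ?_ hS
  intro W g hg
  obtain ⟨U, a, b, hU, -⟩ := h g hg
  exact ⟨constPt hU a⟩

theorem isHypercoveringSite_cofree (hP : Covers J P)
    [∀ (n : ℕ) (F : (SimplexCategory.Truncated n)ᵒᵖ ⥤ FormalCoproduct.{u} C),
      (SimplexCategory.Truncated.inclusion n).op.HasRightKanExtension F] :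
    Hyper.IsHypercoveringSite J (cofree P) := by
  refine ⟨⟨fun {V} s => ?_⟩, ⟨fun {V} s => ?_⟩,
    fun n _ => HyperSite.isLocallySurjective_of_localLift (localLift_of_fill _ n (fill_cofree hP n))⟩
  · refine J.superset_covering ?_ (ptSieve_cofree hP V)
    rintro W g ⟨z⟩
    exact ⟨(yonedaPtsIso.inv.app _).app (op W) z, yonedaEquiv.symm.injective (Subsingleton.elim _ _)⟩
  · let Y := FormalCoproduct.yoneda.obj ((cofree P).obj (op ⦋0⦌))
    let a : Fin 2 → Y.obj (op V) := ![(prod.snd : Y ⨯ Y ⟶ Y).app (op V) s, (prod.fst : Y ⨯ Y ⟶ Y).app (op V) s]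
    let y : Fin 2 → Pt V ((cofree P).obj (op ⦋0⦌)) := fun i => (yonedaPtsIso.hom.app _).app (op V) (a i)
    refine J.superset_covering ?_ (fill_cofree hP 0 V y (compat_zero _ y))
    rintro W g ⟨z, hz⟩
    refine ⟨(yonedaPtsIso.inv.app _).app (op W) z, ?_⟩
    have key : ∀ i : Fin 2, (FormalCoproduct.yoneda.map ((cofree P).δ i)).app (op W)
        ((yonedaPtsIso.inv.app _).app (op W) z) = Y.map g.op (a i) := fun i => by
      refine (ConcreteCategory.congr_hom (NatTrans.congr_app (yonedaPtsIso.inv.naturality ((cofree P).δ i)) (op W)) z).symm.trans ?_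
      refine (congrArg ((yonedaPtsIso.inv.app _).app (op W)) (hz i)).trans ?_
      refine (ConcreteCategory.congr_hom ((yonedaPtsIso.inv.app _).naturality g.op) _).trans ?_
      exact congrArg _ (ConcreteCategory.congr_hom
        (NatTrans.congr_app (yonedaPtsIso.hom_inv_id_app _) (op V)) (a i))
    refine HyperSite.prod_elem_ext _ _ ?_ ?_
    · rw [← ConcreteCategory.comp_apply, ← NatTrans.comp_app, prod.lift_fst]
      exact (key 1).trans (ConcreteCategory.congr_hom ((prod.fst : Y ⨯ Y ⟶ Y).naturality g.op) s).symm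
    · rw [← ConcreteCategory.comp_apply, ← NatTrans.comp_app, prod.lift_snd]
      exact (key 0).trans (ConcreteCategory.congr_hom ((prod.snd : Y ⨯ Y ⟶ Y).naturality g.op) s).symm

/-- The cofree object over a class of objects covering an object. -/
theorem exists_isHypercovering {X : C} (B : Set C)
    (hB : ∀ U : C, ∃ S ∈ J U, ∀ ⦃W : C⦄ (g : W ⟶ U), S g → ∃ (U' : C) (a : W ⟶ U') (b : U' ⟶ U), U' ∈ B ∧ a ≫ b = g)
    [∀ (n : ℕ) (F : (SimplexCategory.Truncated n)ᵒᵖ ⥤ FormalCoproduct.{u} (Over X)),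
      (SimplexCategory.Truncated.inclusion n).op.HasRightKanExtension F] :
    ∃ K : SimplicialObject (FormalCoproduct.{u} (Over X)), Hyper.IsHypercovering J X K ∧
      ∀ (n : ℕ) (i : (K.obj (op (SimplexCategory.mk n))).I),
        ((K.obj (op (SimplexCategory.mk n))).obj i).left ∈ B := by
  let P : Over X → Prop := fun Z => Z.left ∈ B
  have hP : Covers (J.over X) P := fun V => by
    obtain ⟨S, hS, h⟩ := hB V.left
    refine ⟨(Sieve.overEquiv V).symm S, J.overEquiv_symm_mem_over V S hS, fun W g hg => ?_⟩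
    obtain ⟨U', a, b, hU', e⟩ := h g.left ((Sieve.overEquiv_symm_iff S g).1 hg)
    refine ⟨Over.mk (b ≫ V.hom), Over.homMk a ?_, Over.homMk b, hU', Over.OverMorphism.ext e⟩
    show a ≫ b ≫ V.hom = W.hom
    rw [← Category.assoc, e, Over.w]
  refine ⟨cofree P, ⟨?_, fun n => isSRCovering_of_localLift (localLift_of_fill _ n (fill_cofree hP n))⟩,
    fun n i => cofree_mem P _ i⟩
  obtain ⟨S, hS, h⟩ := hB X
  refine J.superset_covering ?_ hS
  intro W g hg
  obtain ⟨U', a, b, hU', e⟩ := h g hg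
  exact ⟨_, a, _, Presieve.ofArrows.mk
    (⟨(Functor.const (Sx ⦋0⦌)ᵒᵖ).obj (Over.mk b), fun _ => hU'⟩ : ((cofree P).obj (op ⦋0⦌)).I), e⟩

end Groth.Agent.HTop16.HyperCofree
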