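import Groth.Agent.HTop16.HyperFill
import Mathlib.CategoryTheory.Limits.Constructions.FiniteProductsOfBinaryProducts
import Mathlib.CategoryTheory.Limits.Shapes.Pullback.HasPullback
import Mathlib.CategoryTheory.Limits.Constructions.LimitsOfProductsAndEqualizers

/-!
# Refinements of hypercoverings at one degree
-/

set_option autoImplicit false
set_option linter.all false
set_option backward.isDefEq.respectTransparency false

universe u

open CategoryTheory CategoryTheory.Limits Opposite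
open scoped Simplicial

namespace Groth.Agent.HTop16.HyperRefine

open SiteCoh.Hyp

variable {C : Type u} [SmallCategory C] [HasFiniteProducts (FormalCoproduct.{u} C)]

instance finite_hom (a b : SimplexCategory) : Finite (a ⟶ b) :=
  Finite.of_injective (fun f : a ⟶ b => (f.toOrderHom : Fin (a.len + 1) → Fin (b.len + 1)))
    fun f g h => SimplexCategory.Hom.ext _ _ (OrderHom.ext _ _ h)

/-- The right adjoint of evaluation in degree `n`. -/
noncomputable def coind (n : ℕ) (A : FormalCoproduct.{u} C) : SimplicialObject (FormalCoproduct.{u} C) where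
  obj m := ∏ᶜ fun _ : ⦋n⦌ ⟶ m.unop => A
  map {m m'} g := Pi.lift fun α => Pi.π (fun _ : ⦋n⦌ ⟶ m.unop => A) (α ≫ g.unop)
  map_id m := Limits.Pi.hom_ext _ _ fun α => by simp
  map_comp g h := Limits.Pi.hom_ext _ _ fun α => by simp

/-- Functoriality. -/
noncomputable def coindMap (n : ℕ) {A B : FormalCoproduct.{u} C} (u : A ⟶ B) : coind n A ⟶ coind n B where
  app m := Pi.lift fun α => Pi.π (fun _ : ⦋n⦌ ⟶ m.unop => A) α ≫ u
  naturality m m' g := Limits.Pi.hom_ext _ _ fun α => by simp [coind]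

/-- The unit. -/
noncomputable def coindUnit (n : ℕ) (K : SimplicialObject (FormalCoproduct.{u} C)) :
    K ⟶ coind n (K.obj (op ⦋n⦌)) where
  app m := Pi.lift fun α => K.map α.op
  naturality m m' g := Limits.Pi.hom_ext _ _ fun α => by simp [coind]

variable {J : GrothendieckTopology C}

lemma inter_mem {V : C} {ι : Type} [Finite ι] (S : ι → Sieve V) (hS : ∀ i, S i ∈ J V) :
    ∃ T ∈ J V, ∀ ⦃W : C⦄ (g : W ⟶ V), T g → ∀ i, S i g := by
  classical
  haveI := Fintype.ofFinite ι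
  suffices h : ∀ s : Finset ι, ∃ T ∈ J V, ∀ ⦃W : C⦄ (g : W ⟶ V), T g → ∀ i ∈ s, S i g by
    obtain ⟨T, hT, hT'⟩ := h Finset.univ
    exact ⟨T, hT, fun W g hg i => hT' g hg i (Finset.mem_univ i)⟩
  intro s
  induction s using Finset.induction with
  | empty => exact ⟨⊤, J.top_mem _, fun W g _ i hi => (Finset.notMem_empty i hi).elim⟩
  | insert a t _ ih =>
    obtain ⟨T, hT, hT'⟩ := ih
    refine ⟨S a ⊓ T, J.intersection_covering (hS a) hT, fun W g hg i hi => ?_⟩
    rcases Finset.mem_insert.1 hi with rfl | hi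
    · exact hg.1
    · exact hT' g hg.2 i hi

variable [HasPullbacks C]

/-- A refinement factoring through a covering in degree `n`. -/
theorem exists_refine {K : SimplicialObject (FormalCoproduct.{u} C)} (hK : LocFill J K) (n : ℕ)
    (Z : FormalCoproduct.{u} C) (u : Z ⟶ K.obj (op ⦋n⦌)) (hu : Hyper.IsSRCovering J u) :
    ∃ (L : SimplicialObject (FormalCoproduct.{u} C)) (f : L ⟶ K) (g : L.obj (op ⦋n⦌) ⟶ Z),
      LocFill J L ∧ g ≫ u = f.app (op ⦋n⦌) := by
  obtain ⟨L, f, q, hd⟩ : ∃ (L : SimplicialObject (FormalCoproduct.{u} C)) (f : L ⟶ K) (q : L ⟶ coind n Z),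
      ∀ m, IsPullback (f.app m) (q.app m) ((coindUnit n K).app m) ((coindMap n u).app m) :=
    ⟨_, _, _, fun m => (IsPullback.of_hasPullback (coindUnit n K) (coindMap n u)).map
      ((evaluation SimplexCategoryᵒᵖ (FormalCoproduct.{u} C)).obj m)⟩
  refine ⟨L, f, q.app (op ⦋n⦌) ≫ Pi.π (fun _ : ⦋n⦌ ⟶ ⦋n⦌ => Z) (𝟙 ⦋n⦌), ⟨fun V => ?_, fun p V y hy => ?_⟩, ?_⟩
  · refine J.transitive (hK.zero V) _ fun W g ⟨zK⟩ => ?_
    obtain ⟨T, hT, hT'⟩ := inter_mem (J := J) (fun α : ⦋n⦌ ⟶ ⦋0⦌ => liftSieve u (zK ≫ K.map α.op))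
      fun α => localLift_of_isSRCovering J hu _ _
    refine J.superset_covering ?_ hT
    intro W' g' hg'
    choose w hw using fun α => hT' g' hg' α
    exact ⟨(hd (op ⦋0⦌)).lift (res g' zK) (Pi.lift w) (Limits.Pi.hom_ext _ _ fun α => by
      simp [coindUnit, coindMap, hw, res])⟩
  · refine J.transitive (hK.fill p V _ (HyperFill.compat_map hy f)) _ fun W g ⟨zK, hzK⟩ => ?_
    obtain ⟨T, hT, hT'⟩ := inter_mem (J := J) (fun α : ⦋n⦌ ⟶ ⦋p + 1⦌ => liftSieve u (zK ≫ K.map α.op))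
      fun α => localLift_of_isSRCovering J hu _ _
    refine J.superset_covering ?_ hT
    intro W' g' hg'
    choose w hw using fun α => hT' g' hg' α
    let v : ∀ i, Pt W' ((coind n Z).obj (op ⦋p⦌)) := fun i => res (g' ≫ g) (y i) ≫ q.app (op ⦋p⦌)
    let Bd : (⦋n⦌ ⟶ ⦋p + 1⦌) → Prop := fun α => ∃ (i : Fin (p + 2)) (a : ⦋n⦌ ⟶ ⦋p⦌), a ≫ SimplexCategory.δ i = α
    classical
    let t : ∀ α : ⦋n⦌ ⟶ ⦋p + 1⦌, Pt W' Z := fun α =>
      if h : Bd α then v h.choose ≫ Pi.π (fun _ : ⦋n⦌ ⟶ ⦋p⦌ => Z) h.choose_spec.choose else w α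
    have hv : ∀ i (a : ⦋n⦌ ⟶ ⦋p⦌), t (a ≫ SimplexCategory.δ i) = v i ≫ Pi.π (fun _ : ⦋n⦌ ⟶ ⦋p⦌ => Z) a := fun i a => by
      have h : Bd (a ≫ SimplexCategory.δ i) := ⟨i, a, rfl⟩
      simp only [t, dif_pos h]
      have e := HyperFill.compat_map (HyperFill.compat_res hy (g' ≫ g)) q ⦋n⦌ _ i _ a h.choose_spec.choose_spec
      have e' := congrArg (fun z => z ≫ Pi.π (fun _ : ⦋n⦌ ⟶ ⦋n⦌ => Z) (𝟙 ⦋n⦌)) e
      simpa [coind, v] using e'
    have hvu : ∀ i (a : ⦋n⦌ ⟶ ⦋p⦌), v i ≫ Pi.π (fun _ : ⦋n⦌ ⟶ ⦋p⦌ => Z) a ≫ u =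
        res g' zK ≫ K.map (a ≫ SimplexCategory.δ i).op := fun i a => by
      have e := congrArg (fun z => res (g' ≫ g) (y i) ≫ z ≫ Pi.π (fun _ : ⦋n⦌ ⟶ ⦋p⦌ => K.obj (op ⦋n⦌)) a) (hd (op ⦋p⦌)).w.symm
      simp [coindUnit, coindMap, v] at e ⊢
      rw [e]
      have e' := congrArg (fun z => (FormalCoproduct.incl.{u} C).map g' ≫ z ≫ K.map a.op) (hzK i)
      simp [res] at e'
      simp [res, SimplicialObject.δ] at e' ⊢
      exact e'.symm
    have ht : ∀ α, t α ≫ u = res g' zK ≫ K.map α.op := fun α => by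
      by_cases h : Bd α
      · obtain ⟨i, a, rfl⟩ := h
        rw [hv, Category.assoc, hvu]
      · simp only [t, dif_neg h, hw, res, Category.assoc]
    refine ⟨(hd (op ⦋p + 1⦌)).lift (res g' zK) (Pi.lift t) (Limits.Pi.hom_ext _ _ fun α => by
      simp [coindUnit, coindMap, ht]), fun i => (hd (op ⦋p⦌)).hom_ext ?_ ?_⟩
    · simp only [SimplicialObject.δ, Category.assoc, f.naturality]
      rw [IsPullback.lift_fst_assoc]
      simp only [res, Category.assoc]
      refine (congrArg ((FormalCoproduct.incl.{u} C).map g' ≫ ·) (hzK i)).trans ?_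
      simp [res]
    · simp only [SimplicialObject.δ, Category.assoc, q.naturality]
      rw [IsPullback.lift_snd_assoc]
      refine Limits.Pi.hom_ext _ _ fun a => ?_
      simp [coind, hv, v]
  · rw [Category.assoc]
    have e := congrArg (· ≫ Pi.π (fun _ : ⦋n⦌ ⟶ ⦋n⦌ => K.obj (op ⦋n⦌)) (𝟙 ⦋n⦌)) (hd (op ⦋n⦌)).w
    simpa [coindUnit, coindMap] using e.symm

/-- The family of all elements of a presheaf. -/
def allElts (P : Cᵒᵖ ⥤ Type u) : FormalCoproduct.{u} C := ⟨Σ V : C, P.obj (op V), fun x => x.1⟩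

/-- Refinements through locally surjective maps of presheaves. -/
theorem exists_refine_presheaf {K : SimplicialObject (FormalCoproduct.{u} C)} (hK : LocFill J K) (n : ℕ)
    (P : Cᵒᵖ ⥤ Type u) (u : P ⟶ FormalCoproduct.yoneda.obj (K.obj (op ⦋n⦌)))
    (hu : Presheaf.IsLocallySurjective J u) :
    ∃ (L : SimplicialObject (FormalCoproduct.{u} C)) (f : L ⟶ K)
      (g : FormalCoproduct.yoneda.obj (L.obj (op ⦋n⦌)) ⟶ P),
      LocFill J L ∧ g ≫ u = FormalCoproduct.yoneda.map (f.app (op ⦋n⦌)) := by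
  let pt : ∀ x : (allElts P).I, Pt x.1 (K.obj (op ⦋n⦌)) := fun x => (yonedaPtsIso.hom.app _).app (op x.1) (u.app _ x.2)
  let w : allElts P ⟶ K.obj (op ⦋n⦌) := { f := fun x => (pt x).f PUnit.unit, φ := fun x => (pt x).φ PUnit.unit }
  have hw : Hyper.IsSRCovering J w := HyperCofree.isSRCovering_of_localLift fun V e => by
    refine J.superset_covering ?_ (hu.imageSieve_mem ((yonedaPtsIso.inv.app _).app (op V) e))
    rintro W g ⟨t, ht⟩
    refine ⟨ptι (allElts P) ⟨W, t⟩, ?_⟩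
    have h₁ : ptι (allElts P) ⟨W, t⟩ ≫ w = pt ⟨W, t⟩ := (FormalCoproduct.hom_ext_iff' _ _).2 fun j => by
      cases j
      exact ⟨rfl, (Category.comp_id _).trans (Category.id_comp _)⟩
    refine h₁.trans ((congrArg ((yonedaPtsIso.hom.app _).app (op W)) ht).trans ?_)
    refine (ConcreteCategory.congr_hom ((yonedaPtsIso.hom.app _).naturality g.op) _).trans ?_
    exact congrArg (res g) (ConcreteCategory.congr_hom (NatTrans.congr_app (yonedaPtsIso.inv_hom_id_app _) (op V)) e)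
  obtain ⟨L, f, g, hL, hg⟩ := exists_refine hK n (allElts P) w hw
  let h : FormalCoproduct.yoneda.obj (allElts P) ⟶ P :=
    Sigma.desc fun x : (allElts P).I => yonedaEquiv.symm x.2
  refine ⟨L, f, FormalCoproduct.yoneda.map g ≫ h, hL, ?_⟩
  have hh : h ≫ u = FormalCoproduct.yoneda.map w := by
    rw [← cancel_mono (yonedaPtsIso.hom.app (K.obj (op ⦋n⦌)))]
    refine Eq.trans ?_ (yonedaPtsIso.hom.naturality w).symm
    refine Sigma.hom_ext _ _ fun x => ?_
    show Sigma.ι _ x ≫ (Sigma.desc (fun x : (allElts P).I => yonedaEquiv.symm x.2) ≫ u) ≫ _ =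
      Sigma.ι _ x ≫ (yonedaPtsApp (allElts P)).hom ≫ pts.map w
    rw [yonedaPtsApp, Category.assoc, Sigma.ι_desc_assoc, Sigma.ι_desc_assoc]
    apply yonedaEquiv.injective
    rw [yonedaEquiv_comp, yonedaEquiv_comp, Equiv.apply_symm_apply]
    erw [Equiv.apply_symm_apply]
    show pt x = ptι (allElts P) x ≫ w
    exact (FormalCoproduct.hom_ext_iff' _ _).2 fun j => by
      cases j
      exact ⟨rfl, (Category.comp_id _).trans (Category.id_comp _).symm⟩
  rw [Category.assoc, hh, ← Functor.map_comp, hg]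

end Groth.Agent.HTop16.HyperRefine
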