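import Groth.Agent.SiteCoh.HyperSlice
import Groth.Agent.SiteCoh.Basics
import Groth.Agent.HTop16.HyperRefine
import Groth.Agent.HTop16.HyperCofree
import Groth.Prelude.Def_Hyper2
import Mathlib.CategoryTheory.Sites.LocallyBijective
import Mathlib.CategoryTheory.Sites.Abelian

/-!
# Cech classes dying on refinements of hypercoverings and cohomology

Cocycles are moved along short exact sequences by lifting cochains after refinement, so that the classes of a
sheaf die in degree `q` exactly when the sheaf has no cohomology in that degree.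
-/

set_option autoImplicit false
set_option backward.isDefEq.respectTransparency false
set_option backward.isDefEq.respectTransparency.types false
set_option linter.all false

universe u

open CategoryTheory CategoryTheory.Limits CategoryTheory.Abelian Opposite
open scoped Simplicial

namespace Groth.Agent.HTop16.HyperColim

open Groth.Agent.SiteCoh Groth.Agent.SiteCoh.Hyp

variable {C : Type u} [SmallCategory C] [HasPullbacks C] {J : GrothendieckTopology C} {X : C}
  [∀ (n : ℕ) (F : (SimplexCategory.Truncated n)ᵒᵖ ⥤ FormalCoproduct.{u} (Over X)),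
    (SimplexCategory.Truncated.inclusion n).op.HasRightKanExtension F]

/-- Cochains. -/
noncomputable abbrev Cc (K : SimplicialObject (FormalCoproduct.{u} (Over X))) (P : Cᵒᵖ ⥤ AddCommGrpCat.{u})
    (n : ℕ) : AddCommGrpCat.{u} :=
  (Hyper.cechCx X K P).X n

/-- The values on the members. -/
abbrev vv (K : SimplicialObject (FormalCoproduct.{u} (Over X))) (P : Cᵒᵖ ⥤ AddCommGrpCat.{u}) (n : ℕ)
    (i : (K.obj (op ⦋n⦌)).I) : AddCommGrpCat.{u} :=
  P.obj (op ((K.obj (op ⦋n⦌)).obj i).left)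

variable {K L M : SimplicialObject (FormalCoproduct.{u} (Over X))} {P Q : Cᵒᵖ ⥤ AddCommGrpCat.{u}} {n : ℕ}

/-- A component of a cochain. -/
noncomputable def ev (x : Cc K P n) (i : (K.obj (op ⦋n⦌)).I) : vv K P n i := Pi.π (vv K P n) i x

/-- A cochain from components. -/
noncomputable def mk (f : ∀ i : (K.obj (op ⦋n⦌)).I, vv K P n i) : Cc K P n := Cech.prodMk (vv K P n) f

omit [HasPullbacks C] in
lemma ev_mk (f : ∀ i : (K.obj (op ⦋n⦌)).I, vv K P n i) (i : (K.obj (op ⦋n⦌)).I) : ev (mk f) i = f i :=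
  Cech.π_prodMk _ _ i

lemma cext {x y : Cc K P n} (h : ∀ i, ev x i = ev y i) : x = y := Cech.prod_ext h

lemma ev_zero (i : (K.obj (op ⦋n⦌)).I) : ev (0 : Cc K P n) i = 0 := map_zero _

lemma ev_sub (x y : Cc K P n) (i : (K.obj (op ⦋n⦌)).I) : ev (x - y) i = ev x i - ev y i := map_sub _ _ _

/-- Restriction of cochains along a morphism of simplicial objects. -/
noncomputable def cm (f : L ⟶ K) (x : Cc K P n) : Cc L P n := (Hyper.cechMap X f P).f n x

/-- Functoriality of cochains in the presheaf. -/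
noncomputable def pm (φ : P ⟶ Q) (x : Cc K P n) : Cc K Q n := ((cxFun X K).map φ).f n x

lemma ev_cm (f : L ⟶ K) (x : Cc K P n) (l : (L.obj (op ⦋n⦌)).I) :
    ev (cm f x) l = P.map ((f.app (op ⦋n⦌)).φ l).left.op (ev x ((f.app (op ⦋n⦌)).f l)) :=
  ConcreteCategory.congr_hom (Pi.lift_π
    (fun l => Pi.π (vv K P n) ((f.app (op ⦋n⦌)).f l) ≫ P.map ((f.app (op ⦋n⦌)).φ l).left.op) l) x

lemma ev_pm (φ : P ⟶ Q) (x : Cc K P n) (i : (K.obj (op ⦋n⦌)).I) :
    ev (pm φ x) i = φ.app _ (ev x i) :=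
  ConcreteCategory.congr_hom (Pi.map_π _ i) x

lemma pm_cm (φ : P ⟶ Q) (f : L ⟶ K) (x : Cc K P n) : pm φ (cm f x) = cm f (pm φ x) :=
  cext fun l => by
    rw [ev_pm, ev_cm, ev_cm, ev_pm]
    exact ConcreteCategory.congr_hom (φ.naturality ((f.app (op ⦋n⦌)).φ l).left.op) _

lemma cm_cm (f : L ⟶ K) (g : M ⟶ L) (x : Cc K P n) : cm g (cm f x) = cm (g ≫ f) x :=
  cext fun l => by
    rw [ev_cm, ev_cm, ev_cm]
    exact (ConcreteCategory.congr_hom (P.map_comp _ _) _).symm

lemma cm_sub (f : L ⟶ K) (x y : Cc K P n) : cm f (x - y) = cm f x - cm f y := map_sub _ _ _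
lemma pm_sub (φ : P ⟶ Q) (x y : Cc K P n) : pm φ (x - y) = pm φ x - pm φ y := map_sub _ _ _

/-- The differential. -/
noncomputable def dd (m k : ℕ) (x : Cc K P m) : Cc K P k := (Hyper.cechCx X K P).d m k x

lemma cm_dd (f : L ⟶ K) (m k : ℕ) (x : Cc K P m) : cm f (dd m k x) = dd m k (cm f x) :=
  (ConcreteCategory.congr_hom ((Hyper.cechMap X f P).comm m k) x).symm

lemma pm_dd (φ : P ⟶ Q) (m k : ℕ) (x : Cc K P m) : pm φ (dd m k x) = dd m k (pm φ x) :=
  (ConcreteCategory.congr_hom (((cxFun X K).map φ).comm m k) x).symm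

lemma dd_sub (m k : ℕ) (x y : Cc K P m) : dd m k (x - y) = dd m k x - dd m k y := map_sub _ _ _
lemma dd_zero (m k : ℕ) : dd m k (0 : Cc K P m) = 0 := map_zero _
lemma cm_zero (f : L ⟶ K) : cm f (0 : Cc K P n) = 0 := map_zero _
lemma pm_zero (φ : P ⟶ Q) : pm φ (0 : Cc K P n) = 0 := map_zero _

lemma dd_dd (m k l : ℕ) (x : Cc K P m) : dd k l (dd m k x) = 0 :=
  ConcreteCategory.congr_hom ((Hyper.cechCx X K P).d_comp_d m k l) x

lemma pm_injective (φ : P ⟶ Q) (h : ∀ V, Function.Injective (φ.app V)) :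
    Function.Injective (pm (K := K) (n := n) φ) := fun x y e =>
  cext fun i => h _ (by rw [← ev_pm, ← ev_pm, e])

/-- Coboundaries. -/
def Bd (q : ℕ) (x : Cc K P q) : Prop := ∃ z, dd ((ComplexShape.up ℕ).prev q) q z = x

lemma bd_succ {q : ℕ} (x : Cc K P (q + 1)) : Bd (q + 1) x ↔ ∃ z, dd q (q + 1) z = x := by
  unfold Bd
  rw [CochainComplex.prev_nat_succ]

lemma bd_zero (x : Cc K P 0) : Bd 0 x ↔ x = 0 := by
  have h : ∀ z : Cc K P ((ComplexShape.up ℕ).prev 0), dd _ 0 z = 0 := fun z => by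
    show (Hyper.cechCx X K P).d _ 0 z = 0
    rw [(Hyper.cechCx X K P).shape _ 0 (by simp)]
    rfl
  exact ⟨fun ⟨z, hz⟩ => hz ▸ h z, fun hx => ⟨0, hx ▸ h 0⟩⟩

lemma Bd.cm {q : ℕ} {x : Cc K P q} (h : Bd q x) (f : L ⟶ K) : Bd q (HyperColim.cm f x) := by
  obtain ⟨z, rfl⟩ := h
  exact ⟨_, (cm_dd f _ _ z).symm⟩

lemma Bd.pm {q : ℕ} {x : Cc K P q} (h : Bd q x) (φ : P ⟶ Q) : Bd q (HyperColim.pm φ x) := by
  obtain ⟨z, rfl⟩ := h
  exact ⟨_, (pm_dd φ _ _ z).symm⟩

variable (J) in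
/-- Cocycles die on refinements. -/
def Dies (P : Cᵒᵖ ⥤ AddCommGrpCat.{u}) (q : ℕ) : Prop :=
  ∀ (K : SimplicialObject (FormalCoproduct.{u} (Over X))), Hyper.IsHypercovering J X K →
    ∀ x : Cc K P q, dd q (q + 1) x = 0 →
      ∃ (L : SimplicialObject (FormalCoproduct.{u} (Over X))) (f : L ⟶ K),
        Hyper.IsHypercovering J X L ∧ Bd q (cm f x)

/-- Classes die when cocycles do. -/
theorem dies_iff (P : Cᵒᵖ ⥤ AddCommGrpCat.{u}) (q : ℕ) :
    Dies J (X := X) P q ↔ ∀ (K : SimplicialObject (FormalCoproduct.{u} (Over X))), Hyper.IsHypercovering J X K →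
      ∀ ξ : Hyper.cechH X K P q, ∃ (L : SimplicialObject (FormalCoproduct.{u} (Over X))) (f : L ⟶ K),
        Hyper.IsHypercovering J X L ∧ Hyper.cechHMap X f P q ξ = 0 := by
  have key : ∀ (K L : SimplicialObject (FormalCoproduct.{u} (Over X))) (f : L ⟶ K)
      (z : (Hyper.cechCx X K P).cycles q),
      Hyper.cechHMap X f P q ((Hyper.cechCx X K P).homologyπ q z) = 0 ↔
        Bd q (cm f ((Hyper.cechCx X K P).iCycles q z)) := by
    intro K L f z
    let CL := Hyper.cechCx X L P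
    let w := HomologicalComplex.cyclesMap (Hyper.cechMap X f P) q z
    have e₁ : Hyper.cechHMap X f P q ((Hyper.cechCx X K P).homologyπ q z) = CL.homologyπ q w :=
      ConcreteCategory.congr_hom (HomologicalComplex.homologyπ_naturality (Hyper.cechMap X f P) q) z
    have e₂ : cm f ((Hyper.cechCx X K P).iCycles q z) = CL.iCycles q w :=
      (ConcreteCategory.congr_hom (HomologicalComplex.cyclesMap_i (Hyper.cechMap X f P) q) z).symm
    rw [e₁, e₂]
    constructor
    · intro h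
      obtain ⟨v, hv⟩ := (ShortComplex.ab_exact_iff _).1 (ShortComplex.exact_of_g_is_cokernel
        (ShortComplex.mk _ _ (CL.toCycles_comp_homologyπ ((ComplexShape.up ℕ).prev q) q))
        (CL.homologyIsCokernel _ q rfl)) w h
      refine ⟨v, ?_⟩
      rw [← hv]
      exact (ConcreteCategory.congr_hom (CL.toCycles_i _ q) v).symm
    · rintro ⟨v, hv⟩
      have : CL.toCycles ((ComplexShape.up ℕ).prev q) q v = w :=
        (AddCommGrpCat.mono_iff_injective (CL.iCycles q)).1 inferInstance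
          ((ConcreteCategory.congr_hom (CL.toCycles_i _ q) v).trans hv)
      rw [← this]
      exact ConcreteCategory.congr_hom (CL.toCycles_comp_homologyπ _ q) v
  constructor
  · intro h K hK ξ
    obtain ⟨z, rfl⟩ := (AddCommGrpCat.epi_iff_surjective _).1
      (inferInstance : Epi ((Hyper.cechCx X K P).homologyπ q)) ξ
    obtain ⟨L, f, hL, hb⟩ := h K hK ((Hyper.cechCx X K P).iCycles q z)
      (ConcreteCategory.congr_hom ((Hyper.cechCx X K P).iCycles_d q (q + 1)) z)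
    exact ⟨L, f, hL, (key K L f z).2 hb⟩
  · intro h K hK x hx
    obtain ⟨z, rfl⟩ := (ShortComplex.ab_exact_iff _).1 (ShortComplex.exact_of_f_is_kernel
      (ShortComplex.mk _ _ ((Hyper.cechCx X K P).iCycles_d q (q + 1)))
      ((Hyper.cechCx X K P).cyclesIsKernel q (q + 1) (by simp))) x hx
    obtain ⟨L, f, hL, hb⟩ := h K hK ((Hyper.cechCx X K P).homologyπ q z)
    exact ⟨L, f, hL, (key K L f z).1 hb⟩

/-- Refinement making a local property hold on every member in a degree. -/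
theorem exists_refine_local (hK : Hyper.IsHypercovering J X K) (n : ℕ)
    (Pr : ∀ (i : (K.obj (op ⦋n⦌)).I) {W : C}, (W ⟶ ((K.obj (op ⦋n⦌)).obj i).left) → Prop)
    (h : ∀ i, ∃ S ∈ J ((K.obj (op ⦋n⦌)).obj i).left,
      ∀ ⦃W : C⦄ (a : W ⟶ ((K.obj (op ⦋n⦌)).obj i).left), S a → Pr i a) :
    ∃ (L : SimplicialObject (FormalCoproduct.{u} (Over X))) (f : L ⟶ K),
      Hyper.IsHypercovering J X L ∧ ∀ l : (L.obj (op ⦋n⦌)).I,
        ∃ (W : C) (a : W ⟶ ((K.obj (op ⦋n⦌)).obj ((f.app (op ⦋n⦌)).f l)).left)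
          (b : ((L.obj (op ⦋n⦌)).obj l).left ⟶ W), Pr _ a ∧ b ≫ a = ((f.app (op ⦋n⦌)).φ l).left := by
  haveI : HasBinaryProducts (FormalCoproduct.{u} (Over X)) := hasBinaryProducts_of_hasTerminal_and_pullbacks _
  haveI : HasFiniteProducts (FormalCoproduct.{u} (Over X)) := hasFiniteProducts_of_has_binary_and_terminal
  let Kn := K.obj (op ⦋n⦌)
  let Z : FormalCoproduct.{u} (Over X) :=
    ⟨{w : Σ i : Kn.I, Σ W : C, (W ⟶ (Kn.obj i).left) // Pr w.1 w.2.2},
      fun w => Over.mk (w.1.2.2 ≫ (Kn.obj w.1.1).hom)⟩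
  let u : Z ⟶ Kn := { f := fun w => w.1.1, φ := fun w => Over.homMk w.1.2.2 }
  have hu : Hyper.IsSRCovering (J.over X) u := fun i => by
    obtain ⟨S, hS, hS'⟩ := h i
    refine (J.over X).superset_covering ?_ (J.overEquiv_symm_mem_over _ S hS)
    intro W g hg
    let w : {w : Z.I // u.f w = i} := ⟨⟨⟨i, W.left, g.left⟩, hS' g.left ((Sieve.overEquiv_symm_iff S g).1 hg)⟩, rfl⟩
    refine ⟨Z.obj w.1, Over.homMk (𝟙 W.left) ((Category.id_comp (g.left ≫ (Kn.obj i).hom)).trans (Over.w g)), _, Presieve.ofArrows.mk w, ?_⟩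
    apply Over.OverMorphism.ext
    simp [u, w]
  obtain ⟨L, f, g, hL, hg⟩ := HyperRefine.exists_refine (locFill_of_isHypercovering hK) n Z u hu
  refine ⟨L, f, HyperFill.isHypercovering_of_locFill L hL, fun l => ?_⟩
  obtain ⟨h₁, h₂⟩ := (FormalCoproduct.hom_ext_iff' _ _).1 hg l
  have key : ∀ (j : Kn.I) (hj : u.f (g.f l) = j) (v : (L.obj (op ⦋n⦌)).obj l ⟶ Kn.obj j),
      (g.φ l ≫ u.φ (g.f l)) ≫ eqToHom (congrArg Kn.obj hj) = v →
      ∃ (W : C) (a : W ⟶ (Kn.obj j).left) (b : ((L.obj (op ⦋n⦌)).obj l).left ⟶ W), Pr j a ∧ b ≫ a = v.left := by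
    rintro j rfl v rfl
    exact ⟨_, (g.f l).1.2.2, (g.φ l).left, (g.f l).2, by simp [u]⟩
  exact key _ h₁ _ h₂

/-- Lifting cochains after refinement. -/
theorem exists_lift (hK : Hyper.IsHypercovering J X K) (φ : P ⟶ Q) (hφ : Presheaf.IsLocallySurjective J φ)
    (x : Cc K Q n) :
    ∃ (L : SimplicialObject (FormalCoproduct.{u} (Over X))) (f : L ⟶ K),
      Hyper.IsHypercovering J X L ∧ ∃ y : Cc L P n, pm φ y = cm f x := by
  obtain ⟨L, f, hL, hf⟩ := exists_refine_local hK n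
    (fun i W a => ∃ p : P.obj (op W), φ.app _ p = Q.map a.op (ev x i))
    fun i => ⟨_, hφ.imageSieve_mem (ev x i), fun W a ha => ha⟩
  choose W a b hp hab using hf
  choose p hp using hp
  refine ⟨L, f, hL, mk fun l => P.map (b l).op (p l), cext fun l => ?_⟩
  rw [ev_pm, ev_mk, ev_cm, ← hab l, op_comp]
  refine (ConcreteCategory.congr_hom (φ.naturality (b l).op) (p l)).trans ?_
  exact (congrArg (Q.map (b l).op) (hp l)).trans (ConcreteCategory.congr_hom (Q.map_comp _ _) _).symm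

/-- Killing cochains after refinement. -/
theorem exists_kill (hK : Hyper.IsHypercovering J X K) (φ : P ⟶ Q) (hφ : Presheaf.IsLocallyInjective J φ)
    (x : Cc K P n) (hx : pm φ x = 0) :
    ∃ (L : SimplicialObject (FormalCoproduct.{u} (Over X))) (f : L ⟶ K),
      Hyper.IsHypercovering J X L ∧ cm f x = 0 := by
  obtain ⟨L, f, hL, hf⟩ := exists_refine_local hK n (fun i W a => P.map a.op (ev x i) = 0) fun i => by
    have h0 : φ.app _ (ev x i) = φ.app _ 0 := by rw [← ev_pm, hx, ev_zero, map_zero]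
    exact ⟨_, Presheaf.equalizerSieve_mem J φ (ev x i) 0 h0, fun W a ha => ha.trans (map_zero _)⟩
  refine ⟨L, f, hL, cext fun l => ?_⟩
  obtain ⟨W, a, b, ha, hab⟩ := hf l
  rw [ev_cm, ev_zero, ← hab, op_comp]
  exact (ConcreteCategory.congr_hom (P.map_comp _ _) _).trans ((congrArg (P.map b.op) ha).trans (map_zero _))

/-- Invariance under locally bijective maps. -/
theorem dies_iff_of_locallyBijective (φ : P ⟶ Q) (h₁ : Presheaf.IsLocallyInjective J φ)
    (h₂ : Presheaf.IsLocallySurjective J φ) (q : ℕ) : Dies J (X := X) P q ↔ Dies J (X := X) Q q := by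
  constructor
  · intro h K hK x hx
    obtain ⟨L, f, hL, y, hy⟩ := exists_lift hK φ h₂ x
    obtain ⟨L₁, f₁, hL₁, hy₁⟩ := exists_kill hL φ h₁ (dd q (q + 1) y)
      (by rw [pm_dd, hy, ← cm_dd, hx, cm_zero])
    obtain ⟨L₂, f₂, hL₂, hb⟩ := h L₁ hL₁ (cm f₁ y) (by rw [← cm_dd, hy₁])
    refine ⟨L₂, f₂ ≫ f₁ ≫ f, hL₂, ?_⟩
    have := hb.pm φ
    rw [pm_cm, pm_cm, hy, cm_cm, cm_cm] at this
    rwa [Category.assoc] at this
  · intro h K hK x hx
    obtain ⟨L, f, hL, θ, hθ⟩ := h K hK (pm φ x) (by rw [← pm_dd, hx, pm_zero])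
    obtain ⟨L₁, f₁, hL₁, z, hz⟩ := exists_lift hL φ h₂ θ
    obtain ⟨L₂, f₂, hL₂, hx₂⟩ := exists_kill hL₁ φ h₁ (cm f₁ (cm f x) - dd _ q z)
      (by rw [pm_sub, pm_dd, hz, ← cm_dd, hθ, pm_cm, pm_cm, sub_self])
    refine ⟨L₂, f₂ ≫ f₁ ≫ f, hL₂, cm f₂ z, ?_⟩
    rw [cm_sub, sub_eq_zero, cm_cm, cm_cm, cm_dd] at hx₂
    rw [← hx₂, Category.assoc]

section Sheaves

variable (F : Sheaf J AddCommGrpCat.{u})

/-- The cochain of a section on `X`. -/
noncomputable def aug {P : Cᵒᵖ ⥤ AddCommGrpCat.{u}} (s : P.obj (op X))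
    (K : SimplicialObject (FormalCoproduct.{u} (Over X))) : Cc K P 0 :=
  mk fun i => P.map ((K.obj (op ⦋0⦌)).obj i).hom.op s

lemma dd_aug {P : Cᵒᵖ ⥤ AddCommGrpCat.{u}} (s : P.obj (op X))
    (K : SimplicialObject (FormalCoproduct.{u} (Over X))) : dd 0 1 (aug s K) = 0 := by
  refine cext fun l => ?_
  rw [ev_zero]
  have e₂ : (Hyper.cechCx X K P).d 0 1 = ∑ i : Fin 2, (-1 : ℤ) ^ (i : ℕ) •
      ((FormalCoproduct.evalOp.{u} (Over X) AddCommGrpCat.{u}).obj ((Over.forget X).op ⋙ P)).map (K.δ i).op := by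
    show (AlgebraicTopology.AlternatingCofaceMapComplex.obj
      ((FormalCoproduct.cosimplicialObjectFunctor K).obj ((Over.forget X).op ⋙ P))).d 0 (0 + 1) = _
    dsimp only [AlgebraicTopology.AlternatingCofaceMapComplex.obj]
    rw [CochainComplex.of_d]
    rfl
  have hface : ∀ i : Fin 2, Pi.π (vv K P 1) l
      (((FormalCoproduct.evalOp.{u} (Over X) AddCommGrpCat.{u}).obj ((Over.forget X).op ⋙ P)).map (K.δ i).op (aug s K)) =
        P.map ((K.obj (op ⦋1⦌)).obj l).hom.op s := fun i => by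
    refine (ConcreteCategory.congr_hom (Pi.lift_π
      (fun l => Pi.π (vv K P 0) ((K.δ i).f l) ≫ P.map ((K.δ i).φ l).left.op) l) (aug s K)).trans ?_
    refine (congrArg (P.map ((K.δ i).φ l).left.op) (ev_mk _ _)).trans ?_
    refine (ConcreteCategory.congr_hom (P.map_comp _ _) s).symm.trans ?_
    rw [← op_comp, Over.w]
  show Pi.π (vv K P 1) l ((Hyper.cechCx X K P).d 0 1 (aug s K)) = 0
  rw [e₂, Fin.sum_univ_two]
  simp only [Fin.val_zero, Fin.val_one, pow_zero, pow_one, one_zsmul, neg_zsmul]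
  erw [map_add, map_neg]
  erw [hface 0, hface 1]
  exact add_neg_cancel _

lemma aug_sub {P : Cᵒᵖ ⥤ AddCommGrpCat.{u}} (s t : P.obj (op X))
    (K : SimplicialObject (FormalCoproduct.{u} (Over X))) : aug (s - t) K = aug s K - aug t K :=
  cext fun i => by rw [ev_sub, aug, aug, aug, ev_mk, ev_mk, ev_mk, map_sub]

lemma cm_aug {P : Cᵒᵖ ⥤ AddCommGrpCat.{u}} (s : P.obj (op X)) (f : L ⟶ K) : cm f (aug s K) = aug s L :=
  cext fun l => by
    rw [ev_cm, aug, aug, ev_mk, ev_mk]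
    refine (ConcreteCategory.congr_hom (P.map_comp _ _) s).symm.trans ?_
    rw [← op_comp, Over.w]

lemma pm_aug (φ : P ⟶ Q) (s : P.obj (op X)) (K : SimplicialObject (FormalCoproduct.{u} (Over X))) :
    pm φ (aug s K) = aug (φ.app _ s) K :=
  cext fun i => by
    rw [ev_pm, aug, aug, ev_mk, ev_mk]
    exact ConcreteCategory.congr_hom (φ.naturality _) s

/-- Sections are determined on a hypercovering. -/
lemma eq_of_aug_eq (hK : Hyper.IsHypercovering J X K) (s t : F.obj.obj (op X))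
    (h : aug s K = aug t K) : s = t := by
  refine ((isSheaf_iff_isSheaf_of_type _ _).1 ((sheafCompose J (forget AddCommGrpCat.{u})).obj F).2).isSeparated
    _ hK.1 |>.ext ?_
  rintro W g ⟨W', a, b, ⟨i⟩, rfl⟩
  have := congrArg (fun x => F.obj.map a.op (ev x i)) h
  simp only [aug, ev_mk] at this
  rw [op_comp, Functor.map_comp]
  exact this

theorem exists_hyp : ∃ K : SimplicialObject (FormalCoproduct.{u} (Over X)), Hyper.IsHypercovering J X K :=
  let ⟨K, hK, _⟩ := HyperCofree.exists_isHypercovering (J := J) (X := X) Set.univ fun U =>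
    ⟨⊤, J.top_mem U, fun W g _ => ⟨W, 𝟙 W, g, trivial, Category.id_comp g⟩⟩
  ⟨K, hK⟩

theorem dies_zero_iff : Dies J (X := X) F.obj 0 ↔ Subsingleton (F.obj.obj (op X)) := by
  constructor
  · intro h
    refine subsingleton_of_forall_eq 0 fun s => ?_
    obtain ⟨K, hK⟩ := exists_hyp (J := J) (X := X)
    obtain ⟨L, f, hL, hb⟩ := h K hK (aug s K) (dd_aug s K)
    rw [bd_zero, cm_aug] at hb
    exact eq_of_aug_eq F hL s 0 (hb.trans (cext fun i => by rw [ev_zero, aug, ev_mk, map_zero]))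
  · intro h K hK x hx
    obtain ⟨s, hs⟩ := exists_section_of_d_zero (locFill_of_isHypercovering hK) F x hx
    refine ⟨K, 𝟙 K, hK, (bd_zero _).2 (cext fun i => ?_)⟩
    rw [ev_cm, ev_zero]
    show F.obj.map _ (Pi.π (vv K F.obj 0) _ x) = 0
    refine (congrArg (F.obj.map _) ((hs _).trans ?_)).trans (map_zero _)
    rw [Subsingleton.elim s 0, map_zero]

variable {F} (hK : Hyper.IsHypercovering J X K)

/-- The short exact sequence used for dimension shifting. -/
noncomputable abbrev sseq : ShortComplex (Sheaf J AddCommGrpCat.{u}) := injEmbed F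

include hK in
lemma bd_of_injective {I : Sheaf J AddCommGrpCat.{u}} [Injective I] (m : ℕ) (x : Cc K I.obj (m + 1))
    (hx : dd (m + 1) (m + 2) x = 0) : ∃ z, dd m (m + 1) z = x := by
  have := isZero_cechH_of_injective (locFill_of_isHypercovering hK) I m
  rw [← HomologicalComplex.exactAt_iff_isZero_homology,
    HomologicalComplex.exactAt_iff' _ m (m + 1) (m + 2) (by simp) (by simp), ShortComplex.ab_exact_iff] at this
  exact this x hx

variable (F)

lemma exact_cochain (S : ShortComplex (Sheaf J AddCommGrpCat.{u})) (hS : S.ShortExact)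
    (y : Cc K S.X₂.obj n) (hy : pm S.g.hom y = 0) : ∃ x : Cc K S.X₁.obj n, pm S.f.hom x = y := by
  have h : ∀ i, ∃ a : vv K S.X₁.obj n i, S.f.hom.app _ a = ev y i := fun i =>
    sections_exact hS _ (ev y i) (by rw [← ev_pm, hy, ev_zero])
  choose a ha using h
  exact ⟨mk a, cext fun i => by rw [ev_pm, ev_mk, ha]⟩

lemma locSurj (S : ShortComplex (Sheaf J AddCommGrpCat.{u})) (hS : S.ShortExact) :
    Presheaf.IsLocallySurjective J S.g.hom := by
  haveI := hS.epi_g
  exact (Sheaf.isLocallySurjective_iff_epi' (A := AddCommGrpCat.{u}) S.g).2 inferInstance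

lemma injS (S : ShortComplex (Sheaf J AddCommGrpCat.{u})) (hS : S.ShortExact) (V : Cᵒᵖ) :
    Function.Injective (S.f.hom.app V) :=
  haveI := hS.mono_f
  sections_injective S.f V.unop

variable {F}

theorem dies_succ_succ_iff (S : ShortComplex (Sheaf J AddCommGrpCat.{u})) (hS : S.ShortExact)
    [Injective S.X₂] (m : ℕ) : Dies J (X := X) S.X₁.obj (m + 2) ↔ Dies J (X := X) S.X₃.obj (m + 1) := by
  constructor
  · intro h K hK η hη
    obtain ⟨L, f, hL, y, hy⟩ := exists_lift hK S.g.hom (locSurj S hS) η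
    obtain ⟨x, hx⟩ := exact_cochain S hS (dd (m + 1) (m + 2) y) (by rw [pm_dd, hy, ← cm_dd, hη, cm_zero])
    obtain ⟨L₁, f₁, hL₁, hb⟩ := h L hL x (pm_injective _ (injS S hS) (by rw [pm_dd, hx, dd_dd, pm_zero]))
    obtain ⟨ζ, hζ⟩ := (bd_succ _).1 hb
    obtain ⟨w, hw⟩ := bd_of_injective hL₁ m (cm f₁ y - pm S.f.hom ζ)
      (by rw [dd_sub, ← cm_dd, ← hx, ← pm_dd, hζ, pm_cm, sub_self])
    refine ⟨L₁, f₁ ≫ f, hL₁, (bd_succ _).2 ⟨pm S.g.hom w, ?_⟩⟩
    rw [← pm_dd, hw, pm_sub, pm_cm, hy, cm_cm]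
    have : pm S.g.hom (pm S.f.hom ζ) = 0 := cext fun i => by
      rw [ev_pm, ev_pm, ev_zero]
      exact ConcreteCategory.congr_hom (NatTrans.congr_app (congrArg InducedCategory.Hom.hom S.zero) _) _
    rw [this, sub_zero]
  · intro h K hK x hx
    obtain ⟨y, hy⟩ := bd_of_injective hK (m + 1) (pm S.f.hom x) (by rw [← pm_dd, hx, pm_zero])
    have h0 : ∀ {L : SimplicialObject (FormalCoproduct.{u} (Over X))} {k : ℕ} (z : Cc L S.X₁.obj k),
        pm S.g.hom (pm S.f.hom z) = 0 := fun z => cext fun i => by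
      rw [ev_pm, ev_pm, ev_zero]
      exact ConcreteCategory.congr_hom (NatTrans.congr_app (congrArg InducedCategory.Hom.hom S.zero) _) _
    obtain ⟨L, f, hL, hb⟩ := h K hK (pm S.g.hom y) (by rw [← pm_dd, hy, h0])
    obtain ⟨θ, hθ⟩ := (bd_succ _).1 hb
    obtain ⟨L₁, f₁, hL₁, w, hw⟩ := exists_lift hL S.g.hom (locSurj S hS) θ
    obtain ⟨ζ, hζ⟩ := exact_cochain S hS (cm f₁ (cm f y) - dd m (m + 1) w)
      (by rw [pm_sub, pm_cm, pm_cm, pm_dd, hw, ← cm_dd, hθ, sub_self])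
    refine ⟨L₁, f₁ ≫ f, hL₁, (bd_succ _).2 ⟨ζ, pm_injective _ (injS S hS) ?_⟩⟩
    rw [pm_dd, hζ, dd_sub, dd_dd, sub_zero, ← cm_dd, ← cm_dd, hy, cm_cm, pm_cm]

theorem dies_one_iff (S : ShortComplex (Sheaf J AddCommGrpCat.{u})) (hS : S.ShortExact) [Injective S.X₂] :
    Dies J (X := X) S.X₁.obj 1 ↔ Function.Surjective (S.g.hom.app (op X)) := by
  have h0 : ∀ {L : SimplicialObject (FormalCoproduct.{u} (Over X))} {k : ℕ} (z : Cc L S.X₁.obj k),
      pm S.g.hom (pm S.f.hom z) = 0 := fun z => cext fun i => by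
    rw [ev_pm, ev_pm, ev_zero]
    exact ConcreteCategory.congr_hom (NatTrans.congr_app (congrArg InducedCategory.Hom.hom S.zero) _) _
  constructor
  · intro h s
    obtain ⟨K, hK⟩ := exists_hyp (J := J) (X := X)
    obtain ⟨L, f, hL, y, hy⟩ := exists_lift hK S.g.hom (locSurj S hS) (aug s K)
    rw [cm_aug] at hy
    obtain ⟨x, hx⟩ := exact_cochain S hS (dd 0 1 y) (by rw [pm_dd, hy, dd_aug])
    obtain ⟨L₁, f₁, hL₁, hb⟩ := h L hL x (pm_injective _ (injS S hS) (by rw [pm_dd, hx, dd_dd, pm_zero]))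
    obtain ⟨ζ, hζ⟩ := (bd_succ _).1 hb
    obtain ⟨t, ht⟩ := exists_section_of_d_zero (locFill_of_isHypercovering hL₁) S.X₂
      (cm f₁ y - pm S.f.hom ζ)
      (show dd 0 1 (cm f₁ y - pm S.f.hom ζ) = 0 by
        rw [dd_sub, ← cm_dd, ← hx, ← pm_dd, hζ, pm_cm, sub_self])
    refine ⟨t, eq_of_aug_eq S.X₃ hL₁ _ _ ?_⟩
    rw [← pm_aug, show aug t L₁ = cm f₁ y - pm S.f.hom ζ from cext fun i => (ev_mk _ i).trans (ht i).symm,
      pm_sub, h0, sub_zero, pm_cm, hy, cm_aug]
  · intro h K hK x hx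
    obtain ⟨y, hy⟩ := bd_of_injective hK 0 (pm S.f.hom x) (by rw [← pm_dd, hx, pm_zero])
    obtain ⟨s, hs⟩ := exists_section_of_d_zero (locFill_of_isHypercovering hK) S.X₃ (pm S.g.hom y)
      (show dd 0 1 (pm S.g.hom y) = 0 by rw [← pm_dd, hy, h0])
    obtain ⟨t, rfl⟩ := h s
    obtain ⟨ζ, hζ⟩ := exact_cochain S hS (y - aug t K) (by
      rw [pm_sub, pm_aug, sub_eq_zero]
      exact cext fun i => (hs i).trans (by rw [aug, ev_mk]))
    refine ⟨K, 𝟙 K, hK, (bd_succ _).2 ⟨cm (𝟙 K) ζ, ?_⟩⟩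
    rw [← cm_dd]
    congr 1
    apply pm_injective _ (injS S hS)
    rw [pm_dd, hζ, dd_sub, dd_aug, sub_zero, hy]

/-- The comparison with cohomology. -/
theorem subsingleton_HU_iff_dies (q : ℕ) : ∀ F : Sheaf J AddCommGrpCat.{u},
    Subsingleton (CohSite.HU F q X) ↔ Dies J (X := X) F.obj q := by
  induction q using Nat.strong_induction_on with
  | _ q ih =>
  intro F
  match q with
  | 0 =>
    rw [dies_zero_iff]
    exact ((Ext.addEquiv₀ (X := CohCx.freeSheaf J X) (Y := F)).trans (homEquiv X F)).toEquiv.subsingleton_congr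
  | m + 1 =>
    have hS := injEmbed_shortExact F
    haveI : Injective (injEmbed F).X₂ := inferInstanceAs (Injective (Injective.under F))
    have h2 : ∀ k, Subsingleton (Ext (CohCx.freeSheaf J X) (injEmbed F).X₂ (k + 1)) := fun k =>
      ⟨fun a b => (Ext.eq_zero_of_injective a).trans (Ext.eq_zero_of_injective b).symm⟩
    have key : Subsingleton (CohSite.HU F (m + 1) X) ↔
        ∀ z : Ext (CohCx.freeSheaf J X) (injEmbed F).X₃ m,
          z.comp hS.extClass rfl = (0 : Ext (CohCx.freeSheaf J X) F (m + 1)) := by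
      refine ⟨fun h z => Subsingleton.elim (α := CohSite.HU F (m + 1) X) _ _, fun h => ?_⟩
      refine subsingleton_of_forall_eq (0 : Ext (CohCx.freeSheaf J X) F (m + 1)) fun x => ?_
      obtain ⟨z, rfl⟩ := Ext.covariant_sequence_exact₁ _ hS x ((h2 m).elim _ _) rfl
      exact h z
    match m with
    | 0 =>
      refine Iff.trans ?_ (dies_one_iff (injEmbed F) hS).symm
      refine ⟨fun h => surjective_sections_of_subsingleton hS X h, fun h => key.2 fun z => ?_⟩
      obtain ⟨a, rfl⟩ := Ext.addEquiv₀.symm.surjective z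
      obtain ⟨b, rfl⟩ := (surjective_sections_iff _ X).1 h a
      show (Ext.mk₀ (b ≫ (injEmbed F).g)).comp hS.extClass rfl = 0
      rw [← Ext.mk₀_comp_mk₀]
      erw [Ext.comp_assoc_of_second_deg_zero]
      rw [hS.comp_extClass, Ext.comp_zero]
    | m + 1 =>
      refine Iff.trans ?_ (dies_succ_succ_iff (injEmbed F) hS m).symm
      refine Iff.trans ?_ (ih (m + 1) (Nat.lt_succ_self _) (injEmbed F).X₃)
      refine ⟨fun h => subsingleton_ext_X₃ hS (m + 1) (h2 m) h, fun h => key.2 fun z => ?_⟩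
      haveI : Subsingleton (Ext (CohCx.freeSheaf J X) (injEmbed F).X₃ (m + 1)) := h
      rw [Subsingleton.elim z 0, Ext.zero_comp]

end Sheaves

end Groth.Agent.HTop16.HyperColim
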