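import Groth.Agent.HTop16.HyperCofree

/-!
# Hypercoverings and local fillers
-/

set_option autoImplicit false
set_option linter.all false
set_option backward.isDefEq.respectTransparency false

universe u

open CategoryTheory CategoryTheory.Limits Opposite
open scoped Simplicial

namespace Groth.Agent.HTop16.HyperFill

open SiteCoh.Hyp HyperCofree

variable {C : Type u} [SmallCategory C] {J : GrothendieckTopology C}

/-- Hypercoverings of an object are exactly the objects with local fillers. -/
theorem isHypercovering_of_locFill {X : C} (K : SimplicialObject (FormalCoproduct.{u} (Over X)))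
    [∀ (n : ℕ) (F : (SimplexCategory.Truncated n)ᵒᵖ ⥤ FormalCoproduct.{u} (Over X)),
      (SimplexCategory.Truncated.inclusion n).op.HasRightKanExtension F]
    (h : LocFill (J.over X) K) : Hyper.IsHypercovering J X K := by
  refine ⟨?_, fun n => isSRCovering_of_localLift (localLift_of_fill _ n (h.fill n))⟩
  refine J.superset_covering ?_ ((J.mem_over_iff _).1 (h.zero (Over.mk (𝟙 X))))
  rintro W g hg
  obtain ⟨W', k, a, ⟨z⟩, e⟩ := hg
  refine ⟨_, a ≫ (z.φ PUnit.unit).left, _, Presieve.ofArrows.mk (z.f PUnit.unit), ?_⟩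
  rw [Category.assoc]
  have hk : k.left = W'.hom := (Category.comp_id _).symm.trans (Over.w k)
  have hz : (z.φ PUnit.unit).left ≫ ((K.obj (op ⦋0⦌)).obj (z.f PUnit.unit)).hom = W'.hom := Over.w _
  exact ((congrArg (a ≫ ·) (hz.trans hk.symm)).trans e.symm)

variable {K L : SimplicialObject (FormalCoproduct.{u} C)} {n : ℕ}
  {V : C} {y : Fin (n + 2) → Pt V (K.obj (op ⦋n⦌))}

lemma compat_map (hy : Compat K n y) (b : K ⟶ L) : Compat L n fun i => y i ≫ b.app (op ⦋n⦌) :=
  fun m i j c d e => by
    simp only [Category.assoc, ← b.naturality]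
    rw [← Category.assoc, hy m i j c d e, Category.assoc]

lemma compat_res (hy : Compat K n y) {W : C} (g : W ⟶ V) : Compat K n fun i => res g (y i) :=
  fun m i j c d e => by
    simp only [res, Category.assoc]
    rw [hy m i j c d e]

variable [∀ (F : (SimplexCategory.Truncated n)ᵒᵖ ⥤ FormalCoproduct.{u} C),
    (SimplexCategory.Truncated.inclusion n).op.HasRightKanExtension F]

/-- The point of the coskeleton with a given boundary. -/
noncomputable def toCosk (hy : Compat K n y) :
    Pt V (((SimplicialObject.truncation n ⋙ SimplicialObject.Truncated.cosk n).obj K).obj (op ⦋n + 1⦌)) :=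
  evalTest ((SimplicialObject.coskAdj n).homEquiv _ _ (bdHom hy))

/-- A filler maps to the point of the coskeleton. -/
lemma unit_eq_toCosk (hy : Compat K n y) (z : Pt V (K.obj (op ⦋n + 1⦌))) (hz : ∀ i, z ≫ K.δ i = y i) :
    z ≫ ((SimplicialObject.coskAdj n).unit.app K).app (op ⦋n + 1⦌) = toCosk hy := by
  have key : fromTest z ≫ (SimplicialObject.coskAdj n).unit.app K =
      (SimplicialObject.coskAdj n).homEquiv _ _ (bdHom hy) := by
    rw [Adjunction.homEquiv_unit]
    refine ((SimplicialObject.coskAdj n).unit_naturality (fromTest z)).symm.trans ?_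
    refine congrArg (fun t => (SimplicialObject.coskAdj n).unit.app _ ≫ (SimplicialObject.Truncated.cosk n).map t) ?_
    refine NatTrans.ext (funext fun m => tι_ext (m := op m.unop.obj) fun θ => ?_)
    obtain ⟨i, a, rfl⟩ := exists_factor m.unop.property θ
    show tι _ ≫ (fromTest z).app (op m.unop.obj) = tι _ ≫ tdesc (m := op m.unop.obj) (fun θ => bdVal y m.unop.property θ)
    rw [tι_fromTest, tι_tdesc, bdVal_eq hy m.unop.property _ i a rfl, op_comp, K.map_comp, ← Category.assoc]
    exact congrArg (· ≫ _) (hz i)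
  have := congrArg evalTest key
  rw [evalTest_comp, evalTest_fromTest] at this
  exact this

/-- The point of the coskeleton is natural. -/
lemma toCosk_map (hy : Compat K n y) (b : K ⟶ L)
    (hy' : Compat L n fun i => y i ≫ b.app (op ⦋n⦌)) :
    toCosk hy ≫ ((SimplicialObject.truncation n ⋙ SimplicialObject.Truncated.cosk n).map b).app (op ⦋n + 1⦌) =
      toCosk hy' := by
  unfold toCosk
  rw [← evalTest_comp]
  congr 1
  show _ ≫ (SimplicialObject.Truncated.cosk n).map ((SimplicialObject.truncation n).map b) = _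
  rw [← Adjunction.homEquiv_naturality_right]
  congr 1
  refine NatTrans.ext (funext fun m => tι_ext (m := op m.unop.obj) fun θ => ?_)
  obtain ⟨i, a, ha⟩ := exists_factor m.unop.property θ
  show tι _ ≫ tdesc (m := op m.unop.obj) (fun θ => bdVal y m.unop.property θ) ≫ b.app (op m.unop.obj) =
    tι _ ≫ tdesc (m := op m.unop.obj) (fun θ => bdVal (fun i => y i ≫ b.app (op ⦋n⦌)) m.unop.property θ)
  rw [tι_tdesc_assoc, tι_tdesc, bdVal_eq hy m.unop.property θ i a ha, bdVal_eq hy' m.unop.property θ i a ha,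
    Category.assoc, Category.assoc, b.naturality]

lemma toCosk_res (hy : Compat K n y) {W : C} (g : W ⟶ V) :
    res g (toCosk hy) = toCosk (compat_res hy g) := by
  unfold toCosk
  rw [← evalTest_testMap_comp]
  congr 1
  rw [← (SimplicialObject.coskAdj n).homEquiv_naturality_left]
  congr 1
  refine NatTrans.ext (funext fun m => tι_ext (m := op m.unop.obj) fun θ => ?_)
  obtain ⟨i, a, ha⟩ := exists_factor m.unop.property θ
  show tι _ ≫ (testMap (n + 1) g).app (op m.unop.obj) ≫ tdesc (m := op m.unop.obj) (fun θ => bdVal y m.unop.property θ) =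
    tι _ ≫ tdesc (m := op m.unop.obj) (fun θ => bdVal (fun i => res g (y i)) m.unop.property θ)
  rw [tι_testMap_assoc]
  refine (congrArg ((FormalCoproduct.incl.{u} C).map g ≫ ·) (tι_tdesc _ _)).trans ?_
  refine Eq.trans ?_ (tι_tdesc _ _).symm
  rw [bdVal_eq hy m.unop.property θ i a ha, bdVal_eq (compat_res hy g) m.unop.property θ i a ha]
  exact (Category.assoc _ _ _).symm

end Groth.Agent.HTop16.HyperFill

namespace Groth.Agent.HTop16.HyperFill

open SiteCoh.Hyp HyperCofree

variable {E : Type u} [SmallCategory E] {J : GrothendieckTopology E} [HasPullbacks E]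
  [∀ (n : ℕ) (F : (SimplexCategory.Truncated n)ᵒᵖ ⥤ FormalCoproduct.{u} E),
    (SimplexCategory.Truncated.inclusion n).op.HasRightKanExtension F]

/-- Fibre products have local fillers. -/
theorem locFill_pullback {K L M P : SimplicialObject (FormalCoproduct.{u} E)} (a : K ⟶ L) (b : M ⟶ L)
    (p1 : P ⟶ K) (p2 : P ⟶ M) (hP : IsPullback p1 p2 a b) (hK : LocFill J K)
    (h0 : Hyper.IsSRCovering J (b.app (op ⦋0⦌)))
    (hγ : ∀ (n : ℕ) (Q : FormalCoproduct.{u} E)
      (q1 : Q ⟶ L.obj (op ⦋n + 1⦌))
      (q2 : Q ⟶ ((SimplicialObject.truncation n ⋙ SimplicialObject.Truncated.cosk n).obj M).obj (op ⦋n + 1⦌))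
      (γ : M.obj (op ⦋n + 1⦌) ⟶ Q),
      IsPullback q1 q2 (((SimplicialObject.coskAdj n).unit.app L).app (op ⦋n + 1⦌))
        (((SimplicialObject.truncation n ⋙ SimplicialObject.Truncated.cosk n).map b).app (op ⦋n + 1⦌)) →
      γ ≫ q1 = b.app (op ⦋n + 1⦌) →
      γ ≫ q2 = ((SimplicialObject.coskAdj n).unit.app M).app (op ⦋n + 1⦌) →
      Hyper.IsSRCovering J γ) :
    LocFill J P := by
  have hPd : ∀ k, IsPullback (p1.app k) (p2.app k) (a.app k) (b.app k) := fun k =>
    hP.map ((evaluation SimplexCategoryᵒᵖ (FormalCoproduct.{u} E)).obj k)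
  constructor
  · intro V
    refine J.transitive (hK.zero V) _ fun W g ⟨zK⟩ => ?_
    refine J.superset_covering ?_ (localLift_of_isSRCovering J h0 W (zK ≫ a.app (op ⦋0⦌)))
    rintro W' g' ⟨zM, hzM⟩
    exact ⟨(hPd _).lift (res g' zK) zM (by rw [hzM]; exact (Category.assoc _ _ _))⟩
  · intro n V y hy
    refine J.transitive (hK.fill n V _ (compat_map hy p1)) _ fun W g ⟨zK, hzK⟩ => ?_
    let yM : Fin (n + 2) → Pt W (M.obj (op ⦋n⦌)) := fun i => res g (y i) ≫ p2.app (op ⦋n⦌)
    have hyM : Compat M n yM := compat_map (compat_res hy g) p2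
    have hL : ∀ i, (zK ≫ a.app (op ⦋n + 1⦌)) ≫ L.δ i = yM i ≫ b.app (op ⦋n⦌) := fun i => by
      rw [Category.assoc, SimplicialObject.δ, ← a.naturality, ← Category.assoc]
      refine (congrArg (· ≫ a.app (op ⦋n⦌)) (hzK i)).trans ?_
      simp only [yM, res, Category.assoc, (hPd (op ⦋n⦌)).w]
    have w : (zK ≫ a.app (op ⦋n + 1⦌)) ≫ ((SimplicialObject.coskAdj n).unit.app L).app (op ⦋n + 1⦌) =
        toCosk hyM ≫ ((SimplicialObject.truncation n ⋙ SimplicialObject.Truncated.cosk n).map b).app (op ⦋n + 1⦌) :=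
      (unit_eq_toCosk (compat_map hyM b) _ hL).trans (toCosk_map hyM b _).symm
    let sq := IsPullback.of_hasPullback (((SimplicialObject.coskAdj n).unit.app L).app (op ⦋n + 1⦌))
      (((SimplicialObject.truncation n ⋙ SimplicialObject.Truncated.cosk n).map b).app (op ⦋n + 1⦌))
    have hw := (NatTrans.congr_app ((SimplicialObject.coskAdj n).unit_naturality b) (op ⦋n + 1⦌)).symm
    simp only [NatTrans.comp_app] at hw
    let γ := sq.lift (b.app (op ⦋n + 1⦌)) (((SimplicialObject.coskAdj n).unit.app M).app (op ⦋n + 1⦌)) hw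
    refine J.superset_covering ?_ (localLift_of_isSRCovering J
      (hγ n _ _ _ γ sq (sq.lift_fst _ _ _) (sq.lift_snd _ _ _)) W (sq.lift _ _ w))
    rintro W' g' ⟨zM, hzM⟩
    have h₁ : zM ≫ b.app (op ⦋n + 1⦌) = res g' (zK ≫ a.app (op ⦋n + 1⦌)) := by
      rw [← sq.lift_fst (b.app (op ⦋n + 1⦌)) (((SimplicialObject.coskAdj n).unit.app M).app (op ⦋n + 1⦌)) hw,
        ← Category.assoc, hzM]
      exact (Category.assoc _ _ _).trans (congrArg ((FormalCoproduct.incl.{u} E).map g' ≫ ·) (sq.lift_fst _ _ _))
    have h₂ : zM ≫ ((SimplicialObject.coskAdj n).unit.app M).app (op ⦋n + 1⦌) = toCosk (compat_res hyM g') := by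
      rw [← toCosk_res hyM, ← sq.lift_snd (b.app (op ⦋n + 1⦌)) (((SimplicialObject.coskAdj n).unit.app M).app (op ⦋n + 1⦌)) hw,
        ← Category.assoc, hzM]
      exact (Category.assoc _ _ _).trans (congrArg ((FormalCoproduct.incl.{u} E).map g' ≫ ·) (sq.lift_snd _ _ _))
    refine ⟨(hPd _).lift (res g' zK) zM (by rw [h₁]; exact (Category.assoc _ _ _)), fun i => ?_⟩
    refine (hPd _).hom_ext ?_ ?_
    · simp only [SimplicialObject.δ, Category.assoc, p1.naturality]
      rw [IsPullback.lift_fst_assoc]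
      simp only [res, Category.assoc]
      refine (congrArg ((FormalCoproduct.incl.{u} E).map g' ≫ ·) (hzK i)).trans ?_
      simp [res]
    · simp only [SimplicialObject.δ, Category.assoc, p2.naturality]
      rw [IsPullback.lift_snd_assoc]
      have key : fromTest zM ≫ (SimplicialObject.coskAdj n).unit.app M =
          (SimplicialObject.coskAdj n).homEquiv _ _ (bdHom (compat_res hyM g')) := by
        apply test_hom_ext
        rw [evalTest_comp, evalTest_fromTest]
        exact h₂
      rw [Adjunction.homEquiv_unit] at key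
      have key' : (SimplicialObject.truncation n).map (fromTest zM) = bdHom (compat_res hyM g') := by
        apply ((SimplicialObject.coskAdj n).homEquiv _ _).injective
        rw [Adjunction.homEquiv_unit, Adjunction.homEquiv_unit, ← key]
        exact (SimplicialObject.coskAdj n).unit_naturality (fromTest zM)
      have k : tι (m := op ⦋n⦌) (SimplexCategory.δ i) ≫ (fromTest zM).app (op ⦋n⦌) =
          tι (m := op ⦋n⦌) (SimplexCategory.δ i) ≫ (bdHom (compat_res hyM g')).app (op ⟨⦋n⦌, le_refl n⟩) :=
        congr(tι (m := op ⦋n⦌) (SimplexCategory.δ i) ≫ $(key').app (op ⟨⦋n⦌, le_refl n⟩))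
      refine ((tι_fromTest zM _).symm.trans k).trans ((tι_tdesc _ _).trans ?_)
      rw [bdVal_eq (compat_res hyM g') (le_refl n) _ i (𝟙 _) (Category.id_comp _).symm]
      simp [yM, res]

end Groth.Agent.HTop16.HyperFill
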