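import Groth.Agent.HTop16.HyperRefine
import Mathlib.CategoryTheory.Limits.Constructions.LimitsOfProductsAndEqualizers
import Mathlib.Data.Fintype.EquivFin

/-!
# Hypercoverings with finitely many members of a class in each degree

A finite sub-object of the cofree object: in each degree one adds fillers over finitely many members of
the class for the finitely many universal boundary families.
-/

set_option autoImplicit false
set_option linter.all false
set_option backward.isDefEq.respectTransparency false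

universe u

open CategoryTheory CategoryTheory.Limits Opposite
open scoped Simplicial

namespace Groth.Agent.HTop16.HyperFinite

open SiteCoh.Hyp HyperCofree

variable {C : Type u} [SmallCategory C] {J : GrothendieckTopology C}

/-- The finitely many relations between the faces of a simplex. -/
def Rel (n : ℕ) : Type :=
  Σ l : Fin (n + 1), {q : (Fin (n + 2) × (⦋(l : ℕ)⦌ ⟶ ⦋n⦌)) × (Fin (n + 2) × (⦋(l : ℕ)⦌ ⟶ ⦋n⦌)) //
    q.1.2 ≫ SimplexCategory.δ q.1.1 = q.2.2 ≫ SimplexCategory.δ q.2.1}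

instance finite_rel (n : ℕ) : Finite (Rel n) := by
  unfold Rel
  infer_instance

/-- Compatibility is given by finitely many relations. -/
theorem compat_of_rel (K : SimplicialObject (FormalCoproduct.{u} C)) (n : ℕ) {V : C}
    (y : Fin (n + 2) → Pt V (K.obj (op ⦋n⦌)))
    (h : ∀ r : Rel n, y r.2.1.1.1 ≫ K.map r.2.1.1.2.op = y r.2.1.2.1 ≫ K.map r.2.1.2.2.op) :
    Compat K n y := by
  cases n with
  | zero => exact compat_zero K y
  | succ n =>
    refine compat_succ K n y fun i j hij => ?_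
    exact h ⟨⟨n, by omega⟩, ⟨((j.succ, SimplexCategory.δ i), (i.castSucc, SimplexCategory.δ j)),
      SimplexCategory.δ_comp_δ hij⟩⟩

section Universal

variable [HasFiniteLimits C] (K : SimplicialObject (FormalCoproduct.{u} C)) {n : ℕ}

/-- A tuple of indices with compatible images. -/
def IdxCompat (j : Fin (n + 2) → (K.obj (op ⦋n⦌)).I) : Prop :=
  ∀ r : Rel n, (K.map r.2.1.1.2.op).f (j r.2.1.1.1) = (K.map r.2.1.2.2.op).f (j r.2.1.2.1)

/-- Universal boundary families with a given tuple of indices. -/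
theorem exists_universal (j : Fin (n + 2) → (K.obj (op ⦋n⦌)).I) (hj : IdxCompat K j) :
    ∃ (M : C) (y₀ : Fin (n + 2) → Pt M (K.obj (op ⦋n⦌))), Compat K n y₀ ∧
      (∀ i, (y₀ i).f PUnit.unit = j i) ∧
      ∀ (V : C) (y : Fin (n + 2) → Pt V (K.obj (op ⦋n⦌))), Compat K n y →
        (∀ i, (y i).f PUnit.unit = j i) → ∃ g : V ⟶ M, ∀ i, res g (y₀ i) = y i := by
  haveI : HasProductsOfShape (Rel n) C := by
    haveI := hasFiniteProducts_of_hasFiniteLimits C
    infer_instance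
  haveI : HasProductsOfShape (Fin (n + 2)) C := inferInstance
  let O : Fin (n + 2) → C := fun i => (K.obj (op ⦋n⦌)).obj (j i)
  let T : Rel n → C := fun r => (K.obj (op ⦋(r.1 : ℕ)⦌)).obj ((K.map r.2.1.2.2.op).f (j r.2.1.2.1))
  let f₁ : (∏ᶜ O) ⟶ ∏ᶜ T := Pi.lift fun r =>
    Pi.π O r.2.1.1.1 ≫ (K.map r.2.1.1.2.op).φ _ ≫ eqToHom (congrArg _ (hj r))
  let f₂ : (∏ᶜ O) ⟶ ∏ᶜ T := Pi.lift fun r => Pi.π O r.2.1.2.1 ≫ (K.map r.2.1.2.2.op).φ _
  refine ⟨equalizer f₁ f₂, fun i => FormalCoproduct.Hom.fromIncl (j i) (equalizer.ι f₁ f₂ ≫ Pi.π O i),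
    compat_of_rel K n _ fun r => ?_, fun i => rfl, fun V y hy hyj => ?_⟩
  · have h := congrArg (· ≫ Pi.π T r) (equalizer.condition f₁ f₂)
    simp only [f₁, f₂, Category.assoc, limit.lift_π, Fan.mk_π_app] at h
    rw [FormalCoproduct.hom_ext_iff']
    intro w
    refine ⟨hj r, ?_⟩
    cases w
    simp [Category.assoc]
    exact h
  · let a : ∀ i, V ⟶ O i := fun i => (y i).φ PUnit.unit ≫ eqToHom (congrArg _ (hyj i))
    have ha : ∀ i, FormalCoproduct.Hom.fromIncl (j i) (a i) = y i := fun i => by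
      rw [FormalCoproduct.hom_ext_iff']
      intro w
      cases w
      refine ⟨(hyj i).symm, ?_⟩
      simp [a]
    have heq : Pi.lift a ≫ f₁ = Pi.lift a ≫ f₂ := by
      refine Pi.hom_ext _ _ fun r => ?_
      simp only [f₁, f₂, Category.assoc, limit.lift_π, Fan.mk_π_app, limit.lift_π_assoc]
      have h := hy _ _ _ _ _ r.2.2
      rw [← ha, ← ha, FormalCoproduct.hom_ext_iff'] at h
      obtain ⟨h₁, h₂⟩ := h PUnit.unit
      simp [Category.assoc] at h₂
      exact h₂
    refine ⟨equalizer.lift (Pi.lift a) heq, fun i => ?_⟩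
    refine Eq.trans ?_ (ha i)
    rw [FormalCoproduct.hom_ext_iff']
    intro w
    cases w
    refine ⟨rfl, ?_⟩
    simp

end Universal

variable (P : C → Prop)

/-- Indices of the cofree object. -/
abbrev CI (n : ℕ) : Type u := ((cofree P).obj (op ⦋n⦌)).I

/-- Images of a set of indices in a degree. -/
def img (G : Set (Σ l : ℕ, CI P l)) (n : ℕ) : Set (CI P n) :=
  {s | ∃ g ∈ G, ∃ θ : ⦋n⦌ ⟶ ⦋g.1⦌, ((cofree P).map θ.op).f g.2 = s}

lemma img_finite {G : Set (Σ l : ℕ, CI P l)} (hG : G.Finite) (n : ℕ) : (img P G n).Finite := by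
  have : img P G n ⊆ ⋃ g ∈ G, Set.range fun θ : ⦋n⦌ ⟶ ⦋g.1⦌ => ((cofree P).map θ.op).f g.2 := by
    rintro s ⟨g, hg, θ, rfl⟩
    exact Set.mem_biUnion hg ⟨θ, rfl⟩
  exact (hG.biUnion fun g _ => Set.finite_range _).subset this

lemma cofree_map_f_comp {l m k : SimplexCategory} (a : k ⟶ m) (b : m ⟶ l) (g : ((cofree P).obj (op l)).I) :
    ((cofree P).map (a ≫ b).op).f g = ((cofree P).map a.op).f (((cofree P).map b.op).f g) := by
  rw [op_comp, Functor.map_comp]
  rfl

/-- Enough fillers over members of the class for boundaries with indices in `T`. -/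
def IsFillSet (J : GrothendieckTopology C) {n : ℕ} (T : Set (CI P n)) (G : Set (CI P (n + 1))) : Prop :=
  G.Finite ∧ (∀ g ∈ G, ∀ i, ((cofree P).δ i).f g ∈ T) ∧
    ∀ (V : C) (y : Fin (n + 2) → Pt V ((cofree P).obj (op ⦋n⦌))), Compat (cofree P) n y →
      (∀ i, (y i).f PUnit.unit ∈ T) → ∃ R ∈ J V, ∀ ⦃W : C⦄ (a : W ⟶ V), R a →
        ∃ z : Pt W ((cofree P).obj (op ⦋n + 1⦌)), z.f PUnit.unit ∈ G ∧ ∀ i, z ≫ (cofree P).δ i = res a (y i)

variable {P}

/-- The finite coverings by members of the class. -/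
def FinCovers (J : GrothendieckTopology C) (P : C → Prop) : Prop :=
  ∀ V : C, ∃ (ι : Type u) (_ : Finite ι) (U : ι → C) (f : ∀ i, U i ⟶ V),
    Sieve.ofArrows U f ∈ J V ∧ ∀ i, P (U i)

variable [HasFiniteLimits C]

theorem exists_fillSet (hP : FinCovers J P) {n : ℕ} (T : Set (CI P n)) :
    ∃ G, T.Finite → IsFillSet P J T G := by
  by_cases hT : T.Finite
  swap
  · exact ⟨∅, fun h => absurd h hT⟩
  let Tup : Type u := {j : Fin (n + 2) → CI P n // (∀ i, j i ∈ T) ∧ IdxCompat (cofree P) j}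
  haveI : Finite Tup := by
    haveI := hT.to_subtype
    exact Finite.of_injective (fun j : Tup => fun i => (⟨j.1 i, j.2.1 i⟩ : T)) fun a b h =>
      Subtype.ext (funext fun i => congrArg Subtype.val (congrFun h i))
  choose M y₀ hy₀ hidx huniv using fun j : Tup => exists_universal (cofree P) j.1 j.2.2
  choose ι hι U f hf hU using fun j : Tup => hP (M j)
  choose z hz using fun (j : Tup) (l : ι j) =>
    exists_fill (P := P) (fun i => res (f j l) (y₀ j i)) (HyperFill.compat_res (hy₀ j) (f j l)) (hU j l)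
  haveI : ∀ j, Finite (ι j) := hι
  refine ⟨Set.range fun p : Σ j : Tup, ι j => (z p.1 p.2).f PUnit.unit, fun _ =>
    ⟨Set.finite_range _, ?_, fun V y hy hyT => ?_⟩⟩
  · rintro _ ⟨⟨j, l⟩, rfl⟩ i
    obtain ⟨h₁, -⟩ := (FormalCoproduct.hom_ext_iff' _ _).1 (hz j l i) PUnit.unit
    have h₂ : (res (f j l) (y₀ j i)).f PUnit.unit = j.1 i := hidx j i
    exact (h₁.trans h₂) ▸ j.2.1 i
  · have hc : IdxCompat (cofree P) fun i => (y i).f PUnit.unit := fun r => by
      obtain ⟨h₁, -⟩ := (FormalCoproduct.hom_ext_iff' _ _).1 (hy _ _ _ _ _ r.2.2) PUnit.unit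
      exact h₁
    let j : Tup := ⟨fun i => (y i).f PUnit.unit, hyT, hc⟩
    obtain ⟨g, hg⟩ := huniv j V y hy fun i => rfl
    refine ⟨(Sieve.ofArrows (U j) (f j)).pullback g, J.pullback_stable g (hf j), fun W a ha => ?_⟩
    obtain ⟨l, b, hb⟩ := (Sieve.mem_ofArrows_iff _ _ _).1 ha
    refine ⟨res b (z j l), ⟨⟨j, l⟩, rfl⟩, fun i => ?_⟩
    rw [Category.assoc, hz j l i, ← hg i]
    simp only [res, ← Category.assoc, ← Functor.map_comp, hb]

variable (hP : FinCovers J P)

/-- The generators up to a degree. -/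
noncomputable def gens (G₀ : Set (CI P 0)) : ℕ → Set (Σ l : ℕ, CI P l)
  | 0 => Sigma.mk 0 '' G₀
  | n + 1 => gens G₀ n ∪ Sigma.mk (n + 1) '' (exists_fillSet hP (img P (gens G₀ n) n)).choose

variable {G₀ : Set (CI P 0)} (hG₀ : G₀.Finite)

include hG₀ in
lemma gens_finite (n : ℕ) : (gens hP G₀ n).Finite := by
  induction n with
  | zero => exact hG₀.image _
  | succ n ih =>
    exact ih.union (((exists_fillSet hP (img P (gens hP G₀ n) n)).choose_spec (img_finite P ih n)).1.image _)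

lemma gens_mono {m n : ℕ} (h : m ≤ n) : gens hP G₀ m ⊆ gens hP G₀ n := by
  induction h with
  | refl => exact subset_rfl
  | step _ ih => exact ih.trans Set.subset_union_left

lemma gens_le {n : ℕ} : ∀ g ∈ gens hP G₀ n, g.1 ≤ n ∧ g ∈ gens hP G₀ g.1 := by
  induction n with
  | zero =>
    rintro _ ⟨s, hs, rfl⟩
    exact ⟨le_rfl, s, hs, rfl⟩
  | succ n ih =>
    rintro g (hg | ⟨s, hs, rfl⟩)
    · exact ⟨(ih g hg).1.trans (Nat.le_succ n), (ih g hg).2⟩
    · exact ⟨le_rfl, Or.inr ⟨s, hs, rfl⟩⟩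

/-- The indices of the finite object. -/
noncomputable def T (G₀ : Set (CI P 0)) (n : ℕ) : Set (CI P n) := img P (gens hP G₀ n) n

include hG₀ in
lemma mem_T_of_gen : ∀ (l : ℕ) (g : CI P l), (⟨l, g⟩ : Σ l, CI P l) ∈ gens hP G₀ l →
    ∀ (n : ℕ) (θ : ⦋n⦌ ⟶ ⦋l⦌), ((cofree P).map θ.op).f g ∈ T hP G₀ n := by
  intro l
  induction l using Nat.strong_induction_on with
  | _ l ih =>
    intro g hg n θ
    by_cases hln : l ≤ n
    · exact ⟨⟨l, g⟩, gens_mono hP hln hg, θ, rfl⟩
    · cases l with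
      | zero => omega
      | succ l =>
        obtain ⟨i, θ', rfl⟩ := exists_factor (n := l) (m := ⦋n⦌) (by
          show n ≤ l
          omega) θ
        rcases hg with hg | ⟨s, hs, hsg⟩
        · exact absurd (gens_le hP _ hg).1 (by simp)
        · obtain rfl : s = g := eq_of_heq (Sigma.mk.inj hsg).2
          obtain ⟨⟨k, g'⟩, hg', φ, hφ⟩ := ((exists_fillSet hP (img P (gens hP G₀ l) l)).choose_spec
            (img_finite P (gens_finite hP hG₀ l) l)).2.1 s hs i
          rw [cofree_map_f_comp P θ' (SimplexCategory.δ i) s]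
          have hφ' : ((cofree P).map (SimplexCategory.δ i).op).f s = ((cofree P).map φ.op).f g' := hφ.symm
          rw [hφ', ← cofree_map_f_comp]
          exact ih k (Nat.lt_succ_of_le (gens_le hP _ hg').1) g' (gens_le hP _ hg').2 n _

include hG₀ in
lemma map_mem_T {m n : SimplexCategoryᵒᵖ} (a : m ⟶ n) (s : CI P m.unop.len) (hs : s ∈ T hP G₀ m.unop.len) :
    ((cofree P).map a).f s ∈ T hP G₀ n.unop.len := by
  obtain ⟨⟨l, g⟩, hg, θ, rfl⟩ := hs
  have := mem_T_of_gen hP hG₀ l g (gens_le hP _ hg).2 n.unop.len (a.unop ≫ θ)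
  rw [cofree_map_f_comp] at this
  exact this

/-- The finite sub-object. -/
noncomputable def sub : SimplicialObject (FormalCoproduct.{u} C) where
  obj m := ⟨{s : CI P m.unop.len // s ∈ T hP G₀ m.unop.len}, fun s => ((cofree P).obj m).obj s.1⟩
  map a :=
    { f := fun s => ⟨((cofree P).map a).f s.1, map_mem_T hP hG₀ a s.1 s.2⟩
      φ := fun s => ((cofree P).map a).φ s.1 }
  map_id m := by
    rw [FormalCoproduct.hom_ext_iff']
    intro s
    obtain ⟨h₁, h₂⟩ := (FormalCoproduct.hom_ext_iff' _ _).1 ((cofree P).map_id m) s.1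
    exact ⟨Subtype.ext h₁, h₂⟩
  map_comp a b := by
    rw [FormalCoproduct.hom_ext_iff']
    intro s
    obtain ⟨h₁, h₂⟩ := (FormalCoproduct.hom_ext_iff' _ _).1 ((cofree P).map_comp a b) s.1
    exact ⟨Subtype.ext h₁, h₂⟩

/-- The inclusion in the cofree object. -/
noncomputable def incl : sub hP hG₀ ⟶ cofree P where
  app m := { f := fun s => s.1, φ := fun s => 𝟙 _ }
  naturality _ _ a := by
    rw [FormalCoproduct.hom_ext_iff']
    intro s
    refine ⟨rfl, ?_⟩
    simp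
    rfl

lemma pt_ext {V : C} {m : SimplexCategoryᵒᵖ} {p q : Pt V ((sub hP hG₀).obj m)}
    (h : p ≫ (incl hP hG₀).app m = q ≫ (incl hP hG₀).app m) : p = q := by
  rw [FormalCoproduct.hom_ext_iff']
  intro w
  obtain ⟨h₁, h₂⟩ := (FormalCoproduct.hom_ext_iff' _ _).1 h w
  refine ⟨Subtype.ext h₁, ?_⟩
  simpa [incl] using h₂

theorem locFill_sub (h₀ : ∀ V, ∃ R ∈ J V, ∀ ⦃W : C⦄ (a : W ⟶ V), R a →
    ∃ s ∈ G₀, Nonempty (W ⟶ ((cofree P).obj (op ⦋0⦌)).obj s)) :
    LocFill J (sub hP hG₀) where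
  zero V := by
    obtain ⟨R, hR, h⟩ := h₀ V
    refine J.superset_covering ?_ hR
    intro W a ha
    obtain ⟨s, hs, ⟨b⟩⟩ := h a ha
    have hsT : s ∈ T hP G₀ 0 := ⟨⟨0, s⟩, ⟨s, hs, rfl⟩, 𝟙 _, by rw [op_id, (cofree P).map_id]; rfl⟩
    exact ⟨FormalCoproduct.Hom.fromIncl (⟨s, hsT⟩ : ((sub hP hG₀).obj (op ⦋0⦌)).I) b⟩
  fill n V y hy := by
    let y' : Fin (n + 2) → Pt V ((cofree P).obj (op ⦋n⦌)) := fun i => y i ≫ (incl hP hG₀).app _
    obtain ⟨-, -, h⟩ := (exists_fillSet hP (img P (gens hP G₀ n) n)).choose_spec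
      (img_finite P (gens_finite hP hG₀ n) n)
    obtain ⟨R, hR, hfill⟩ := h V y' (HyperFill.compat_map hy (incl hP hG₀)) fun i => ((y i).f PUnit.unit).2
    refine J.superset_covering ?_ hR
    intro W a ha
    obtain ⟨z, hzG, hz⟩ := hfill a ha
    have hzT : z.f PUnit.unit ∈ T hP G₀ (n + 1) :=
      ⟨⟨n + 1, z.f PUnit.unit⟩, Or.inr ⟨_, hzG, rfl⟩, 𝟙 _, by rw [op_id, (cofree P).map_id]; rfl⟩
    let z' : Pt W ((sub hP hG₀).obj (op ⦋n + 1⦌)) :=
      FormalCoproduct.Hom.fromIncl (⟨_, hzT⟩ : ((sub hP hG₀).obj (op ⦋n + 1⦌)).I) (z.φ PUnit.unit)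
    have hz' : z' ≫ (incl hP hG₀).app _ = z := by
      rw [FormalCoproduct.hom_ext_iff']
      intro w
      cases w
      refine ⟨rfl, ?_⟩
      simp [z', incl]
    refine ⟨z', fun i => pt_ext hP hG₀ ?_⟩
    rw [Category.assoc, res, Category.assoc, SimplicialObject.δ, (incl hP hG₀).naturality, ← Category.assoc, hz']
    exact hz i

lemma sub_finite (m : ℕ) : Finite ((sub hP hG₀).obj (op ⦋m⦌)).I :=
  (img_finite P (gens_finite hP hG₀ m) m).to_subtype

/-- Hypercoverings of an object with finitely many members in each degree. -/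
theorem exists_isHypercovering {C : Type u} [SmallCategory C] [HasPullbacks C] (J : GrothendieckTopology C)
    (B : Set C) (h2 : FinCovers J (· ∈ B)) (X : C)
    [∀ (n : ℕ) (F : (SimplexCategory.Truncated n)ᵒᵖ ⥤ FormalCoproduct.{u} (Over X)),
      (SimplexCategory.Truncated.inclusion n).op.HasRightKanExtension F] :
    ∃ K : SimplicialObject (FormalCoproduct.{u} (Over X)), Hyper.IsHypercovering J X K ∧
      ∀ n : ℕ, Finite (K.obj (op (SimplexCategory.mk n))).I ∧
        ∀ i, ((K.obj (op (SimplexCategory.mk n))).obj i).left ∈ B := by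
  haveI : HasFiniteLimits (Over X) := by
    haveI : HasTerminal (Over X) := Over.mkIdTerminal.hasTerminal
    exact hasFiniteLimits_of_hasTerminal_and_pullbacks
  let P : Over X → Prop := fun Z => Z.left ∈ B
  have hP : FinCovers (J.over X) P := fun V => by
    obtain ⟨ι, hι, U, f, hf, hU⟩ := h2 V.left
    refine ⟨ι, hι, fun i => Over.mk (f i ≫ V.hom), fun i => Over.homMk (f i), ?_, hU⟩
    rw [GrothendieckTopology.mem_over_iff]
    refine J.superset_covering ?_ hf
    rw [Sieve.ofArrows, Sieve.generate_le_iff]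
    rintro _ _ ⟨i⟩
    rw [Sieve.overEquiv_iff]
    exact Sieve.ofArrows_mk (fun i => Over.mk (f i ≫ V.hom)) (fun i => (Over.homMk (f i) : _ ⟶ V)) i
  obtain ⟨ι, hι, U, f, hf, hU⟩ := h2 X
  haveI := hι
  let G₀ : Set (CI P 0) := Set.range fun i : ι =>
    (⟨(Functor.const (Sx ⦋0⦌)ᵒᵖ).obj (Over.mk (f i)), fun _ => hU i⟩ : CI P 0)
  refine ⟨sub hP (Set.finite_range _ : G₀.Finite), HyperFill.isHypercovering_of_locFill _
    (locFill_sub hP _ fun V => ?_), fun n => ⟨sub_finite hP _ n, fun i => cofree_mem P _ i.1⟩⟩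
  refine ⟨(Sieve.overEquiv V).symm ((Sieve.ofArrows U f).pullback V.hom),
    J.overEquiv_symm_mem_over V _ (J.pullback_stable _ hf), fun W a ha => ?_⟩
  have h' : (Sieve.ofArrows U f) (a.left ≫ V.hom) := (Sieve.overEquiv_symm_iff _ a).1 ha
  obtain ⟨i, b, hb⟩ := (Sieve.mem_ofArrows_iff _ _ _).1 h'
  refine ⟨_, ⟨i, rfl⟩, ⟨Over.homMk b ?_⟩⟩
  exact hb.symm.trans (Over.w a)

end Groth.Agent.HTop16.HyperFinite
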