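import Groth.Agent.HTop16.HyperRefine
import Mathlib.AlgebraicTopology.SimplicialObject.Homotopy
import Mathlib.Order.Fin.Basic

/-!
# Path objects of hypercoverings

Maps from nerves of finite posets to a simplicial object are representable, and extend locally from subcomplexes when
the simplicial object has local fillers.  This gives the homotopy equalizer of two maps of hypercoverings.
-/

set_option autoImplicit false
set_option linter.all false
set_option backward.isDefEq.respectTransparency false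

universe u

open CategoryTheory CategoryTheory.Limits Opposite
open scoped Simplicial

namespace Groth.Agent.HTop16.HyperPrism

open SiteCoh.Hyp HyperRefine

unseal SimplexCategory.Hom

/-- Simplices of the nerve of a poset. -/
abbrev Sim (T : Type) [PartialOrder T] (m : SimplexCategory) : Type := Fin (m.len + 1) →o T

variable {T : Type} [PartialOrder T]

/-- Faces and degeneracies of simplices. -/
abbrev pl {m m' : SimplexCategory} (γ : m' ⟶ m) (s : Sim T m) : Sim T m' := s.comp γ.toOrderHom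

/-- A non injective simplex is degenerate. -/
lemma degenerate {n : ℕ} (s : Sim T ⦋n + 1⦌) (h : ¬ Function.Injective s) :
    ∃ (i : Fin (n + 1)) (s' : Sim T ⦋n⦌), s' = pl (SimplexCategory.δ i.succ) s ∧ s = pl (SimplexCategory.σ i) s' := by
  obtain ⟨a, b, hab, hne⟩ : ∃ a b, s a = s b ∧ a ≠ b := by
    simpa [Function.Injective] using h
  wlog hlt : a < b generalizing a b
  · exact this b a hab.symm hne.symm (lt_of_le_of_ne (not_lt.1 hlt) hne.symm)
  let i : Fin (n + 1) := a.castPred (fun e => by subst e; exact absurd hlt (not_lt.2 (Fin.le_last b)))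
  have hi : s i.castSucc = s i.succ := by
    have e : i.castSucc = a := Fin.castSucc_castPred _ _
    refine le_antisymm (s.monotone Fin.castSucc_lt_succ.le) ?_
    rw [e, hab]
    refine s.monotone ?_
    rw [Fin.le_iff_val_le_val, Fin.val_succ]
    have : (i.castSucc : ℕ) = (a : ℕ) := congrArg Fin.val e
    rw [Fin.val_castSucc] at this
    have := Fin.lt_def.1 hlt
    omega
  refine ⟨i, _, rfl, OrderHom.ext _ _ (funext fun x => ?_)⟩
  show s x = s (i.succ.succAbove (i.predAbove x))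
  by_cases hx : x = i.succ
  · subst hx
    rw [Fin.predAbove_succ_self, Fin.succAbove_succ_of_le _ _ le_rfl, hi]
  · rw [Fin.succ_succAbove_predAbove hx]

/-- Every simplex is a degeneracy of an injective one. -/
lemma exists_factor : ∀ (N : ℕ) (m : SimplexCategory), m.len = N → ∀ s : Sim T m,
    ∃ (d : ℕ) (t : Sim T ⦋d⦌) (σ : m ⟶ ⦋d⦌), Function.Injective t ∧ Function.Surjective σ.toOrderHom ∧
      s = pl σ t := by
  intro N
  induction N with
  | zero =>
    intro m hm s
    obtain rfl : m = ⦋0⦌ := SimplexCategory.ext (by simpa using hm)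
    exact ⟨0, s, 𝟙 _, fun a b _ => Subsingleton.elim (α := Fin 1) a b, fun x => ⟨x, rfl⟩, rfl⟩
  | succ N ih =>
    intro m hm s
    obtain rfl : m = ⦋N + 1⦌ := SimplexCategory.ext (by simpa using hm)
    by_cases h : Function.Injective s
    · exact ⟨N + 1, s, 𝟙 _, h, fun x => ⟨x, rfl⟩, rfl⟩
    · obtain ⟨i, s', -, hs⟩ := degenerate s h
      obtain ⟨d, t, σ, ht, hσ, rfl⟩ := ih ⦋N⦌ rfl s'
      exact ⟨d, t, SimplexCategory.σ i ≫ σ, ht, hσ.comp (fun y => ⟨i.predAbove.invFun y, by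
        exact (Function.invFun_eq (Fin.predAbove_surjective i y))⟩), hs⟩

variable [Finite T]

/-- The injective simplices. -/
def Inj (T : Type) [PartialOrder T] : Type :=
  Σ d : Fin (Nat.card T), {s : Sim T ⦋(d : ℕ)⦌ // Function.Injective s}

lemma lt_card {d : ℕ} {s : Sim T ⦋d⦌} (h : Function.Injective s) : d < Nat.card T := by
  have := Nat.card_le_card_of_injective s h
  simp at this
  omega

instance : Finite (Inj T) := by
  haveI : ∀ d : Fin (Nat.card T), Finite (Sim T ⦋(d : ℕ)⦌) := fun d => Finite.of_injective (fun f : Sim T ⦋(d : ℕ)⦌ => ⇑f) DFunLike.coe_injective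
  unfold Inj
  infer_instance

/-- An injective simplex as an element of `Inj`. -/
def Inj.of {d : ℕ} (s : Sim T ⦋d⦌) (h : Function.Injective s) : Inj T := ⟨⟨d, lt_card h⟩, s, h⟩

variable {C : Type u} [SmallCategory C] [HasFiniteProducts (FormalCoproduct.{u} C)]
  [HasEqualizers (FormalCoproduct.{u} C)] (L : SimplicialObject (FormalCoproduct.{u} C))

/-- A compatible family on all simplices. -/
def Natl {X : FormalCoproduct.{u} C} (H : ∀ m, Sim T m → (X ⟶ L.obj (op m))) : Prop :=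
  ∀ (m m' : SimplexCategory) (γ : m' ⟶ m) (s : Sim T m), H m' (pl γ s) = H m s ≫ L.map γ.op

variable (T) in
/-- Incidences of injective simplices. -/
def Inc : Type :=
  {p : Σ (q : Inj T) (q' : Inj T), (⦋(q'.1 : ℕ)⦌ ⟶ ⦋(q.1 : ℕ)⦌) // pl p.2.2 p.1.2.1 = p.2.1.2.1}

instance : Finite (Inc T) := by
  unfold Inc
  infer_instance

variable (T) in
/-- The first map of the equalizer. -/
noncomputable def r₁ : (∏ᶜ fun q : Inj T => L.obj (op ⦋(q.1 : ℕ)⦌)) ⟶
    ∏ᶜ fun p : Inc T => L.obj (op ⦋(p.1.2.1.1 : ℕ)⦌) :=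
  Pi.lift fun p => Pi.π _ p.1.1 ≫ L.map p.1.2.2.op

variable (T) in
/-- The second map of the equalizer. -/
noncomputable def r₂ : (∏ᶜ fun q : Inj T => L.obj (op ⦋(q.1 : ℕ)⦌)) ⟶
    ∏ᶜ fun p : Inc T => L.obj (op ⦋(p.1.2.1.1 : ℕ)⦌) :=
  Pi.lift fun p => Pi.π _ p.1.2.1

variable (T) in
/-- The object of maps from the nerve of a poset. -/
noncomputable def cot : FormalCoproduct.{u} C := equalizer (r₁ T L) (r₂ T L)

/-- The components on injective simplices. -/
noncomputable def cπ (q : Inj T) : cot T L ⟶ L.obj (op ⦋(q.1 : ℕ)⦌) := equalizer.ι _ _ ≫ Pi.π _ q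

lemma cπ_inc (q q' : Inj T) (γ : ⦋(q'.1 : ℕ)⦌ ⟶ ⦋(q.1 : ℕ)⦌) (h : pl γ q.2.1 = q'.2.1) :
    cπ L q ≫ L.map γ.op = cπ L q' := by
  have := congrArg (· ≫ Pi.π (fun p : Inc T => L.obj (op ⦋(p.1.2.1.1 : ℕ)⦌)) ⟨⟨q, q', γ⟩, h⟩)
    (equalizer.condition (r₁ T L) (r₂ T L))
  simpa [r₁, r₂, cπ] using this

/-- The universal family. -/
noncomputable def cev (m : SimplexCategory) (s : Sim T m) : cot T L ⟶ L.obj (op m) :=
  cπ L (Inj.of (exists_factor m.len m rfl s).choose_spec.choose
      (exists_factor m.len m rfl s).choose_spec.choose_spec.choose_spec.1) ≫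
    L.map (exists_factor m.len m rfl s).choose_spec.choose_spec.choose.op

lemma cev_eq {m : SimplexCategory} {d : ℕ} (t : Sim T ⦋d⦌) (ht : Function.Injective t) (σ : m ⟶ ⦋d⦌)
    (s : Sim T m) (hs : s = pl σ t) : cev L m s = cπ L (Inj.of t ht) ≫ L.map σ.op := by
  let e := exists_factor m.len m rfl s
  obtain ⟨ht₀, hσ₀, hs₀⟩ := e.choose_spec.choose_spec.choose_spec
  show cπ L (Inj.of e.choose_spec.choose ht₀) ≫ L.map e.choose_spec.choose_spec.choose.op = _
  generalize e.choose_spec.choose_spec.choose = σ₀ at hσ₀ hs₀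
  generalize e.choose_spec.choose = t₀ at ht₀ hs₀
  generalize e.choose = d₀ at t₀ ht₀ σ₀ hσ₀ hs₀
  obtain ⟨ι, hι⟩ := hσ₀.hasRightInverse
  have hι' : Monotone ι := fun a b hab => by
    by_contra hc
    have := σ₀.toOrderHom.monotone (not_le.1 hc).le
    rw [hι, hι] at this
    exact (not_le.1 hc).ne (congrArg ι (le_antisymm this hab))
  let ρ : ⦋d₀⦌ ⟶ ⦋d⦌ := SimplexCategory.Hom.mk (σ.toOrderHom.comp ⟨ι, hι'⟩)
  have hρ : pl ρ t = t₀ := OrderHom.ext _ _ (funext fun x => by
    have h1 := congrArg (fun z : Sim T m => z (ι x)) (hs.symm.trans hs₀)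
    exact h1.trans (congrArg t₀ (hι x)))
  have e₁ : σ₀ ≫ ρ = σ := SimplexCategory.Hom.ext _ _ (OrderHom.ext _ _ (funext fun x => ht (by
    have h1 := congrArg (fun z : Sim T ⦋d₀⦌ => z (σ₀.toOrderHom x)) hρ
    exact h1.trans (congrArg (fun z : Sim T m => z x) (hs₀.symm.trans hs)))))
  rw [← cπ_inc L (Inj.of t ht) (Inj.of t₀ ht₀) ρ hρ, Category.assoc, ← L.map_comp, ← op_comp, e₁]

lemma natl_cev : Natl L (cev (T := T) L) := by
  intro m m' γ s
  obtain ⟨d, t, σ, ht, -, hs⟩ := exists_factor m.len m rfl s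
  rw [cev_eq L t ht σ s hs, cev_eq L t ht (γ ≫ σ) (pl γ s) (by subst hs; rfl), Category.assoc, ← L.map_comp,
    op_comp]

variable {L}

/-- The map classifying a family. -/
noncomputable def clift {X : FormalCoproduct.{u} C} (H : ∀ m, Sim T m → (X ⟶ L.obj (op m))) (hH : Natl L H) :
    X ⟶ cot T L :=
  equalizer.lift (Pi.lift fun q => H _ q.2.1) (Limits.Pi.hom_ext _ _ fun p => by
    simp [r₁, r₂]
    rw [← p.2]
    exact (hH _ _ _ _).symm)

lemma clift_cev {X : FormalCoproduct.{u} C} (H : ∀ m, Sim T m → (X ⟶ L.obj (op m))) (hH : Natl L H)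
    (m : SimplexCategory) (s : Sim T m) : clift H hH ≫ cev L m s = H m s := by
  obtain ⟨d, t, σ, ht, -, rfl⟩ := exists_factor m.len m rfl s
  rw [cev_eq L t ht σ _ rfl, ← Category.assoc]
  simp [clift, cπ, Inj.of]
  exact (hH _ _ _ _).symm

lemma cot_ext {X : FormalCoproduct.{u} C} {f g : X ⟶ cot T L} (h : ∀ m s, f ≫ cev L m s = g ≫ cev L m s) :
    f = g := by
  refine equalizer.hom_ext (Limits.Pi.hom_ext _ _ fun q => ?_)
  obtain ⟨d, t, ht⟩ := q
  let q : Inj T := ⟨d, t, ht⟩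
  have := h _ q.2.1
  rw [cev_eq L q.2.1 q.2.2 (𝟙 _) q.2.1 rfl] at this
  simp only [op_id, CategoryTheory.Functor.map_id, Category.comp_id] at this
  simpa [cπ, Inj.of] using this

/-- Functoriality in the poset. -/
noncomputable def cotMap {T' : Type} [PartialOrder T'] [Finite T'] (f : T' →o T) : cot T L ⟶ cot T' L :=
  clift (fun m s => cev L m (f.comp s)) fun m m' γ s => natl_cev L m m' γ (f.comp s)

lemma cotMap_cev {T' : Type} [PartialOrder T'] [Finite T'] (f : T' →o T) (m : SimplexCategory) (s : Sim T' m) :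
    cotMap f ≫ cev L m s = cev L m (f.comp s) := clift_cev _ _ m s

/-- Local extension from subcomplexes. -/
theorem exists_extend {J : GrothendieckTopology C} (hL : LocFill J L) :
    ∀ (N : ℕ) (A : ∀ m, Sim T m → Prop) (hA : ∀ (m m' : SimplexCategory) (γ : m' ⟶ m) s, A m s → A m' (pl γ s)),
    Nat.card {q : Inj T // ¬ A _ q.2.1} ≤ N →
    ∀ (V : C) (H : ∀ m s, A m s → Pt V (L.obj (op m))),
    (∀ (m m' : SimplexCategory) (γ : m' ⟶ m) s (h : A m s), H m' (pl γ s) (hA m m' γ s h) = H m s h ≫ L.map γ.op) →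
    ∃ S ∈ J V, ∀ ⦃W : C⦄ (g : W ⟶ V), S g → ∃ H' : ∀ m, Sim T m → Pt W (L.obj (op m)),
      Natl L H' ∧ ∀ m s (h : A m s), H' m s = res g (H m s h) := by
  classical
  intro N
  induction N using Nat.strong_induction_on with
  | _ N ih =>
  intro A hA hN V H hH
  by_cases hall : ∀ d (s : Sim T ⦋d⦌), A _ s
  · have hall' : ∀ m s, A m s := fun m s => by
      obtain ⟨d, t, σ, -, -, rfl⟩ := exists_factor m.len m rfl s
      exact hA _ _ σ t (hall d t)
    exact ⟨⊤, J.top_mem V, fun W g _ => ⟨fun m s => res g (H m s (hall' m s)), fun m m' γ s => by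
      show res g (H m' (pl γ s) _) = _
      rw [hH m m' γ s (hall' m s)]
      exact (Category.assoc _ _ _).symm, fun m s h => rfl⟩⟩
  push Not at hall
  let d := Nat.find hall
  obtain ⟨s, hs⟩ : ∃ s : Sim T ⦋d⦌, ¬ A _ s := Nat.find_spec hall
  have hmin : ∀ k, k < d → ∀ t : Sim T ⦋k⦌, A _ t := fun k hk t => by
    by_contra ht
    exact Nat.find_min hall hk ⟨t, ht⟩
  have hinj : Function.Injective s := by
    clear_value d
    cases d with
    | zero => exact fun a b _ => Subsingleton.elim (α := Fin 1) a b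
    | succ p =>
      by_contra hc
      obtain ⟨i, s', -, rfl⟩ := degenerate s hc
      exact hs (hA _ _ _ _ (hmin p (Nat.lt_succ_self p) s'))
  -- the new simplices
  have hsurj : ∀ (m : SimplexCategory) (σ : m ⟶ ⦋d⦌), ¬ A m (pl σ s) ∨ ¬ Function.Surjective σ.toOrderHom := by
    intro m σ
    by_cases hσ : Function.Surjective σ.toOrderHom
    · refine Or.inl fun h => hs ?_
      obtain ⟨ι, hι⟩ := hσ.hasRightInverse
      have hι' : Monotone ι := fun a b hab => by
        by_contra hc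
        have := σ.toOrderHom.monotone (not_le.1 hc).le
        rw [hι, hι] at this
        exact (not_le.1 hc).ne (congrArg ι (le_antisymm this hab))
      have := hA m ⦋d⦌ (SimplexCategory.Hom.mk ⟨ι, hι'⟩) _ h
      have e : pl (SimplexCategory.Hom.mk (⟨ι, hι'⟩ : Fin (d + 1) →o Fin (m.len + 1))) (pl σ s) = s :=
        OrderHom.ext _ _ (funext fun x => congrArg s (hι x))
      rwa [e] at this
    · exact Or.inr hσ
  -- the filler
  obtain ⟨S₀, hS₀, hz⟩ : ∃ S₀ ∈ J V, ∀ ⦃W : C⦄ (g : W ⟶ V), S₀ g → ∃ z : Pt W (L.obj (op ⦋d⦌)),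
      ∀ (k : SimplexCategory) (δ : k ⟶ ⦋d⦌) (h : A k (pl δ s)), z ≫ L.map δ.op = res g (H k _ h) := by
    clear_value d
    cases d with
    | zero =>
      refine ⟨ptSieve L V, hL.zero V, fun W g ⟨z⟩ => ⟨z, fun k δ h => absurd ?_ ((hsurj k δ).resolve_right
        (fun hn => hn fun x => ⟨0, Subsingleton.elim (α := Fin 1) _ _⟩))⟩⟩
      exact h
    | succ p =>
      let y : Fin (p + 2) → Pt V (L.obj (op ⦋p⦌)) := fun i =>
        H _ (pl (SimplexCategory.δ i) s) (hmin p (Nat.lt_succ_self p) _)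
      have hy : Compat L p y := fun m i j a b e => by
        have h1 := hH ⦋p⦌ m a (pl (SimplexCategory.δ i) s) (hmin p (Nat.lt_succ_self p) _)
        have h2 := hH ⦋p⦌ m b (pl (SimplexCategory.δ j) s) (hmin p (Nat.lt_succ_self p) _)
        refine h1.symm.trans (Eq.trans ?_ h2)
        have : pl a (pl (SimplexCategory.δ i) s) = pl b (pl (SimplexCategory.δ j) s) :=
          congrArg (fun z : m ⟶ ⦋p + 1⦌ => pl z s) e
        congr 1
      refine ⟨fillSieve L p y, hL.fill p V y hy, fun W g ⟨z, hz⟩ => ⟨z, fun k δ h => ?_⟩⟩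
      obtain ⟨i, a, rfl⟩ := SimplexCategory.eq_comp_δ_of_not_surjective δ
        ((hsurj k δ).resolve_left (not_not.2 h))
      rw [op_comp, L.map_comp, ← Category.assoc]
      refine (congrArg (· ≫ L.map a.op) (hz i)).trans ?_
      refine (Category.assoc _ _ _).trans ?_
      exact congrArg ((FormalCoproduct.incl.{u} C).map g ≫ ·)
        (hH ⦋p⦌ k a (pl (SimplexCategory.δ i) s) (hmin p (Nat.lt_succ_self p) _)).symm
  -- the bigger subcomplex
  let A' : ∀ m, Sim T m → Prop := fun m t => A m t ∨ ∃ σ : m ⟶ ⦋d⦌, t = pl σ s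
  have hA' : ∀ (m m' : SimplexCategory) (γ : m' ⟶ m) t, A' m t → A' m' (pl γ t) := fun m m' γ t h =>
    h.imp (hA m m' γ t) fun ⟨σ, hσ⟩ => ⟨γ ≫ σ, by subst hσ; rfl⟩
  have hlt : Nat.card {q : Inj T // ¬ A' _ q.2.1} < N := by
    refine lt_of_lt_of_le ?_ hN
    let f : {q : Inj T // ¬ A' _ q.2.1} → {q : Inj T // ¬ A _ q.2.1} := fun q => ⟨q.1, fun h => q.2 (Or.inl h)⟩
    have finj : Function.Injective f := fun a b e =>
      Subtype.ext (congrArg (fun q : {q : Inj T // ¬ A _ q.2.1} => q.1) e)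
    haveI := Fintype.ofFinite {q : Inj T // ¬ A _ q.2.1}
    haveI := Fintype.ofFinite {q : Inj T // ¬ A' _ q.2.1}
    rw [Nat.card_eq_fintype_card (α := {q : Inj T // ¬ A' _ q.2.1}),
      Nat.card_eq_fintype_card (α := {q : Inj T // ¬ A _ q.2.1})]
    refine Fintype.card_lt_of_injective_of_notMem f finj (b := ⟨Inj.of s hinj, hs⟩) ?_
    rintro ⟨q, hq⟩
    have hq' : q.1 = Inj.of s hinj := congrArg Subtype.val hq
    have hmem : A' _ (Inj.of s hinj).2.1 := Or.inr ⟨𝟙 _, rfl⟩
    exact q.2 (hq' ▸ hmem)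
  have key : ∀ ⦃W : C⦄ (g : W ⟶ V), S₀ g → ∃ S ∈ J W, ∀ ⦃W' : C⦄ (g' : W' ⟶ W), S g' →
      ∃ H' : ∀ m, Sim T m → Pt W' (L.obj (op m)), Natl L H' ∧ ∀ m t (h : A m t), H' m t = res (g' ≫ g) (H m t h) := by
    intro W g hg
    obtain ⟨z, hz⟩ := hz g hg
    have uniq : ∀ {m : SimplexCategory} {σ σ' : m ⟶ ⦋d⦌}, pl σ s = pl σ' s → σ = σ' := fun e =>
      SimplexCategory.Hom.ext _ _ (OrderHom.ext _ _ (funext fun x => hinj (congrArg (fun t : Sim T _ => t x) e)))
    let H₁ : ∀ m t, A' m t → Pt W (L.obj (op m)) := fun m t h =>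
      if hA₀ : A m t then res g (H m t hA₀) else z ≫ L.map (h.resolve_left hA₀).choose.op
    have hH₁ : ∀ (m : SimplexCategory) (σ : m ⟶ ⦋d⦌) (h : A' m (pl σ s)), H₁ m (pl σ s) h = z ≫ L.map σ.op := by
      intro m σ h
      by_cases hA₀ : A m (pl σ s)
      · simp only [H₁, dif_pos hA₀]
        exact (hz m σ hA₀).symm
      · simp only [H₁, dif_neg hA₀]
        rw [← uniq (h.resolve_left hA₀).choose_spec]
    obtain ⟨S, hS, hS'⟩ := ih _ hlt A' hA' le_rfl W H₁ fun m m' γ t h => by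
      by_cases hA₀ : A m t
      · simp only [H₁, dif_pos hA₀, dif_pos (hA m m' γ t hA₀)]
        rw [hH m m' γ t hA₀]
        exact (Category.assoc _ _ _).symm
      · obtain ⟨σ, rfl⟩ := h.resolve_left hA₀
        rw [hH₁ m σ h]
        exact (hH₁ m' (γ ≫ σ) (hA' m m' γ _ h)).trans (by rw [op_comp, L.map_comp, Category.assoc])
    refine ⟨S, hS, fun W' g' hg' => ?_⟩
    obtain ⟨H', h1, h2⟩ := hS' g' hg'
    refine ⟨H', h1, fun m t h => (h2 m t (Or.inl h)).trans ?_⟩
    simp only [H₁, dif_pos h]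
    exact (res_res g' g (H m t h))
  choose S hS hS' using key
  refine ⟨Sieve.bind S₀.arrows fun W g hg => S g hg, J.bind_covering hS₀ hS, ?_⟩
  rintro W g ⟨W₁, a, b, hb, ha, rfl⟩
  exact hS' b hb a ha

end Groth.Agent.HTop16.HyperPrism
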