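import Groth.Agent.SiteCoh.HyperPts

/-!
# Hypercoverings of an object are hypercoverings of the final object of the slice topos
-/

set_option autoImplicit false

universe u

open CategoryTheory CategoryTheory.Limits Opposite
open scoped Simplicial

namespace Groth.Agent.HTop16.HyperSite

open SiteCoh.Hyp

variable {C : Type u} [SmallCategory C] {J : GrothendieckTopology C}

theorem isLocallySurjective_of_localLift {A B : FormalCoproduct.{u} C} {f : A ⟶ B}
    (hf : LocalLift J f) : Presheaf.IsLocallySurjective J (FormalCoproduct.yoneda.map f) := ⟨fun {V} s => by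
  refine J.superset_covering ?_ (hf V ((yonedaPtsIso.hom.app B).app (op V) s))
  rintro W g ⟨z, hz⟩
  refine ⟨(yonedaPtsIso.inv.app A).app (op W) z, ?_⟩
  refine (ConcreteCategory.congr_hom (NatTrans.congr_app (yonedaPtsIso.inv.naturality f) (op W)) z).symm.trans ?_
  refine (congrArg ((yonedaPtsIso.inv.app B).app (op W)) hz).trans ?_
  refine (ConcreteCategory.congr_hom ((yonedaPtsIso.inv.app B).naturality g.op) _).trans ?_
  exact congrArg _ (ConcreteCategory.congr_hom (NatTrans.congr_app (yonedaPtsIso.hom_inv_id_app B) (op V)) s)⟩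

lemma prod_elem_ext {P Q : Cᵒᵖ ⥤ Type u} {W : C} (x y : (P ⨯ Q).obj (op W))
    (h₁ : (prod.fst : P ⨯ Q ⟶ P).app (op W) x = (prod.fst : P ⨯ Q ⟶ P).app (op W) y)
    (h₂ : (prod.snd : P ⨯ Q ⟶ Q).app (op W) x = (prod.snd : P ⨯ Q ⟶ Q).app (op W) y) : x = y := by
  apply yonedaEquiv.symm.injective
  refine Limits.prod.hom_ext ?_ ?_ <;> apply yonedaEquiv.injective
  · rw [yonedaEquiv_comp, yonedaEquiv_comp, Equiv.apply_symm_apply, Equiv.apply_symm_apply]; exact h₁
  · rw [yonedaEquiv_comp, yonedaEquiv_comp, Equiv.apply_symm_apply, Equiv.apply_symm_apply]; exact h₂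

theorem isHypercoveringSite_over {X : C} (K : SimplicialObject (FormalCoproduct.{u} (Over X)))
    [∀ (n : ℕ) (F : (SimplexCategory.Truncated n)ᵒᵖ ⥤ FormalCoproduct.{u} (Over X)),
      (SimplexCategory.Truncated.inclusion n).op.HasRightKanExtension F]
    (hK : Hyper.IsHypercovering J X K) : Hyper.IsHypercoveringSite (J.over X) K := by
  have hF := locFill_of_isHypercovering hK
  refine ⟨⟨fun {V} s => ?_⟩, ⟨fun {V} s => ?_⟩,
    fun n _ => isLocallySurjective_of_localLift (localLift_of_isSRCovering (J.over X) (hK.2 n))⟩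
  · refine (J.over X).superset_covering ?_ (hF.zero V)
    rintro W g ⟨z⟩
    refine ⟨(yonedaPtsIso.inv.app _).app (op W) z, ?_⟩
    refine yonedaEquiv.symm.injective ?_
    exact Subsingleton.elim _ _
  · let Y := FormalCoproduct.yoneda.obj (K.obj (op ⦋0⦌))
    let a : Fin 2 → Y.obj (op V) := ![(prod.snd : Y ⨯ Y ⟶ Y).app (op V) s, (prod.fst : Y ⨯ Y ⟶ Y).app (op V) s]
    let y : Fin 2 → Pt V (K.obj (op ⦋0⦌)) := fun i => (yonedaPtsIso.hom.app _).app (op V) (a i)
    refine (J.over X).superset_covering ?_ (hF.fill 0 V y (compat_zero K y))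
    rintro W g ⟨z, hz⟩
    refine ⟨(yonedaPtsIso.inv.app _).app (op W) z, ?_⟩
    have key : ∀ i : Fin 2, (FormalCoproduct.yoneda.map (K.δ i)).app (op W)
        ((yonedaPtsIso.inv.app _).app (op W) z) = Y.map g.op (a i) := fun i => by
      refine (ConcreteCategory.congr_hom (NatTrans.congr_app (yonedaPtsIso.inv.naturality (K.δ i)) (op W)) z).symm.trans ?_
      refine (congrArg ((yonedaPtsIso.inv.app _).app (op W)) (hz i)).trans ?_
      refine (ConcreteCategory.congr_hom ((yonedaPtsIso.inv.app _).naturality g.op) _).trans ?_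
      exact congrArg _ (ConcreteCategory.congr_hom
        (NatTrans.congr_app (yonedaPtsIso.hom_inv_id_app _) (op V)) (a i))
    refine prod_elem_ext _ _ ?_ ?_
    · rw [← ConcreteCategory.comp_apply, ← NatTrans.comp_app, prod.lift_fst]
      refine (key 1).trans ?_
      exact (ConcreteCategory.congr_hom ((prod.fst : Y ⨯ Y ⟶ Y).naturality g.op) s).symm
    · rw [← ConcreteCategory.comp_apply, ← NatTrans.comp_app, prod.lift_snd]
      refine (key 0).trans ?_
      exact (ConcreteCategory.congr_hom ((prod.snd : Y ⨯ Y ⟶ Y).naturality g.op) s).symm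

end Groth.Agent.HTop16.HyperSite
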