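import Groth.Prelude.Def_ModSite2
import Groth.Agent.DerCompLib.SiteFlat
import Groth.Agent.HTop16.PullOverGlue
import Groth.Agent.SiteHom16.PullFlat
import Mathlib.Algebra.Ring.MinimalAxioms

/-!
# Sections of the inverse image of the structure sheaf

The inverse image of a sheaf of rings is, as a sheaf of sets, the inverse image of the underlying sheaf of sets:
sections are locally translates, and translates agree only if they agree locally on the source.
-/

set_option autoImplicit false
set_option backward.isDefEq.respectTransparency false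
set_option linter.all false

universe u

open CategoryTheory CategoryTheory.Limits Opposite

namespace Groth.Agent.HTop16.InvRingSet

open Groth.Agent.DerCompLib Groth.Agent.HTop16.PullOver

variable {C D : Type u} [SmallCategory C] [SmallCategory D] {J : GrothendieckTopology C}
  {K : GrothendieckTopology D} (fn : D ⥤ C) [hcont : fn.IsContinuous K J]
  [hexact : PreservesFiniteLimits (fn.sheafPullback (Type u) K J)]

/-- The inverse image of a sheaf of sets. -/
noncomputable abbrev uS (F : Sheaf K (Type u)) : Sheaf J (Type u) := (fn.sheafPullback (Type u) K J).obj F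

/-- Translates of sections. -/
noncomputable def tl (F : Sheaf K (Type u)) {X : C} {E : D} (k : X ⟶ fn.obj E) (a : F.obj.obj (op E)) :
    (uS (J := J) fn F).obj.obj (op X) :=
  (uS (J := J) fn F).obj.map k.op (((fn.sheafAdjunctionContinuous (Type u) K J).unit.app F).hom.app (op E) a)

variable {fn}

lemma tl_res (F : Sheaf K (Type u)) {W X : C} {E : D} (g : W ⟶ X) (k : X ⟶ fn.obj E) (a : F.obj.obj (op E)) :
    (uS (J := J) fn F).obj.map g.op (tl fn F k a) = tl fn F (g ≫ k) a :=
  (ConcreteCategory.congr_hom ((uS (J := J) fn F).obj.map_comp k.op g.op) _).symm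

lemma tl_map (F : Sheaf K (Type u)) {X : C} {E E' : D} (h : E' ⟶ E) (k : X ⟶ fn.obj E') (a : F.obj.obj (op E)) :
    tl (J := J) fn F k (F.obj.map h.op a) = tl fn F (k ≫ fn.map h) a := by
  rw [← tl_res]
  exact congrArg ((uS (J := J) fn F).obj.map k.op)
    (ConcreteCategory.congr_hom (((fn.sheafAdjunctionContinuous (Type u) K J).unit.app F).hom.naturality h.op) a)

lemma tl_natural {F G : Sheaf K (Type u)} (φ : F ⟶ G) {X : C} {E : D} (k : X ⟶ fn.obj E) (a : F.obj.obj (op E)) :
    ((fn.sheafPullback (Type u) K J).map φ).hom.app (op X) (tl fn F k a) = tl fn G k (φ.hom.app (op E) a) := by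
  refine (ConcreteCategory.congr_hom (((fn.sheafPullback (Type u) K J).map φ).hom.naturality k.op) _).trans ?_
  exact congrArg ((uS (J := J) fn G).obj.map k.op) (ConcreteCategory.congr_hom
    (congrArg (fun q : F ⟶ (fn.sheafPushforwardContinuous (Type u) K J).obj (uS (J := J) fn G) => q.hom.app (op E))
      ((fn.sheafAdjunctionContinuous (Type u) K J).unit.naturality φ)) a).symm

include hexact in
/-- Translates agree only if they agree locally on the source. -/
theorem local_eq (F : Sheaf K (Type u)) {X : C} {E : D} (k : X ⟶ fn.obj E) (a a' : F.obj.obj (op E))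
    (e : tl (J := J) fn F k a = tl fn F k a') :
    Loc J X fun W g => ∃ (E' : D) (h : E' ⟶ E) (k' : W ⟶ fn.obj E'),
      F.obj.map h.op a = F.obj.map h.op a' ∧ k' ≫ fn.map h = g ≫ k := by
  let u := fn.sheafPullback (Type u) K J
  let fa := (hShEquiv K E F).symm a
  let fb := (hShEquiv K E F).symm a'
  let t := (hShEquiv J X _).symm (transl K J fn k)
  have hab : ∀ b, (u.map ((hShEquiv K E F).symm b)).hom.app (op X) (transl K J fn k) = tl fn F k b := fun b => by
    refine (tl_natural ((hShEquiv K E F).symm b) k (hGen K E)).trans ?_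
    rw [← hShEquiv_apply, Equiv.apply_symm_apply]
  have ht : t ≫ u.map fa = t ≫ u.map fb := by
    apply (hShEquiv J X _).injective
    rw [hShEquiv_apply, hShEquiv_apply]
    change (u.map fa).hom.app (op X) (t.hom.app (op X) _) = (u.map fb).hom.app (op X) (t.hom.app (op X) _)
    rw [← hShEquiv_apply J X _ t, Equiv.apply_symm_apply, hab, hab, e]
  let w : hSh J X ⟶ u.obj (equalizer fa fb) := equalizer.lift t ht ≫ inv (equalizerComparison fa fb u)
  have hw : w ≫ u.map (equalizer.ι fa fb) = t := by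
    simp only [w, Category.assoc]
    rw [(IsIso.inv_comp_eq _).2 (equalizerComparison_comp_π fa fb u).symm]
    exact equalizer.lift_ι _ _
  let w₀ := hShEquiv J X _ w
  have hw₀ : (u.map (equalizer.ι fa fb)).hom.app (op X) w₀ = transl K J fn k := by
    rw [← (hShEquiv J X _).apply_symm_apply (transl K J fn k)]
    change _ = hShEquiv J X _ t
    rw [← hw]
    simp only [w₀, hShEquiv_apply]
    rfl
  refine (exists_local_translate K J fn _ w₀).bind fun W g ⟨F₀, z, k₁, ez⟩ => ?_
  obtain ⟨R, hR, hRz⟩ := exists_local_hGen K ((equalizer.ι fa fb).hom.app (op F₀) z)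
  refine (cov_of_isContinuous K J fn R hR k₁).bind fun W' g' ⟨E', h, k', hh, ek⟩ => ?_
  obtain ⟨c, hc⟩ := hRz h hh
  have hca : ∀ b, ((hShEquiv K E F).symm b).hom.app (op E') ((hSh K E).obj.map c.op (hGen K E)) = F.obj.map c.op b := by
    intro b
    refine (ConcreteCategory.congr_hom (((hShEquiv K E F).symm b).hom.naturality c.op) (hGen K E)).trans ?_
    exact congrArg (F.obj.map c.op) ((hShEquiv_apply K E F _).symm.trans (Equiv.apply_symm_apply _ _))
  have hab' : F.obj.map c.op a = F.obj.map c.op a' := by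
    rw [← hca, ← hca, hc]
    refine (ConcreteCategory.congr_hom (fa.hom.naturality h.op) _).trans
      ((congrArg (F.obj.map h.op) ?_).trans (ConcreteCategory.congr_hom (fb.hom.naturality h.op) _).symm)
    exact ConcreteCategory.congr_hom (congrArg (fun q : equalizer fa fb ⟶ F => q.hom.app (op F₀))
      (equalizer.condition fa fb)) z
  have key : transl K J fn (k' ≫ fn.map c) = transl K J fn ((g' ≫ g) ≫ k) := by
    show tl (J := J) fn (hSh K E) (k' ≫ fn.map c) (hGen K E) = tl fn (hSh K E) ((g' ≫ g) ≫ k) (hGen K E)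
    rw [← tl_map, hc, tl_map, ek, ← tl_res, ← tl_natural (equalizer.ι fa fb) k₁ z]
    refine (congrArg ((uS (J := J) fn (hSh K E)).obj.map g'.op) ((congrArg ((u.map (equalizer.ι fa fb)).hom.app (op W)) ez).trans
      ((ConcreteCategory.congr_hom ((u.map (equalizer.ι fa fb)).hom.naturality g.op) w₀).trans
        (congrArg ((uS (J := J) fn (hSh K E)).obj.map g.op) hw₀)))).trans ?_
    show (uS (J := J) fn (hSh K E)).obj.map g'.op ((uS (J := J) fn (hSh K E)).obj.map g.op (tl fn _ k _)) = _
    rw [tl_res, tl_res, Category.assoc]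
  exact (local_eq_of_transl K J fn key).mono fun W'' g'' e₁ =>
    ⟨E', c, g'' ≫ k', hab', by rw [Category.assoc, e₁]; simp only [Category.assoc]⟩

variable (fn)

lemma isSheaf_uS (F : Sheaf K (Type u)) : Presieve.IsSheaf J (uS (J := J) fn F).obj :=
  (isSheaf_iff_isSheaf_of_type _ _).1 (uS (J := J) fn F).property

include hexact in
/-- A binary operation passes to the inverse image. -/
theorem exists_op (F : Sheaf K (Type u)) (op₂ : ∀ E : D, F.obj.obj (op E) → F.obj.obj (op E) → F.obj.obj (op E))
    (hop : ∀ {E E' : D} (h : E' ⟶ E) a b, F.obj.map h.op (op₂ E a b) = op₂ E' (F.obj.map h.op a) (F.obj.map h.op b))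
    {X : C} (p q : (uS (J := J) fn F).obj.obj (op X)) :
    ∃ x, ∀ ⦃W : C⦄ (g : W ⟶ X) (E : D) (k : W ⟶ fn.obj E) a b,
      tl fn F k a = (uS (J := J) fn F).obj.map g.op p → tl fn F k b = (uS (J := J) fn F).obj.map g.op q →
        (uS (J := J) fn F).obj.map g.op x = tl fn F k (op₂ E a b) := by
  have hflat : LocFlat K J fn := locFlat_of_exact K J fn
  obtain ⟨x, hx⟩ := exists_glue (isSheaf_uS fn F) (o := X) (fun W g v => ∃ (E : D) (k : W ⟶ fn.obj E) (a b : F.obj.obj (op E)),
      tl fn F k a = (uS (J := J) fn F).obj.map g.op p ∧ tl fn F k b = (uS (J := J) fn F).obj.map g.op q ∧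
        v = tl fn F k (op₂ E a b))
    (fun W W' g h v ⟨E, k, a, b, ha, hb, hv⟩ => ⟨E, h ≫ k, a, b,
      by rw [← tl_res, ha, op_comp, Functor.map_comp]; rfl,
      by rw [← tl_res, hb, op_comp, Functor.map_comp]; rfl, by rw [hv, tl_res]⟩)
    (fun W g v v' ⟨E, k, a, b, ha, hb, hv⟩ ⟨E', k', a', b', ha', hb', hv'⟩ => by
      subst hv hv'
      refine sep_loc (isSheaf_uS fn F) ((hflat.pair k k').bind fun W₁ g₁ ⟨E₁, r, r', l, hl, hl'⟩ => ?_)
      have e₁ : tl (J := J) fn F l (F.obj.map r.op a) = tl fn F l (F.obj.map r'.op a') := by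
        rw [tl_map, tl_map, hl, hl', ← tl_res, ← tl_res, ha, ha']
      refine (local_eq F l _ _ e₁).bind fun W₂ g₂ ⟨E₂, h, l₂, hh, hl₂⟩ => ?_
      have e₂ : tl (J := J) fn F l₂ (F.obj.map (h ≫ r).op b) = tl fn F l₂ (F.obj.map (h ≫ r').op b') := by
        simp only [tl_map, Functor.map_comp, reassoc_of% hl₂, hl, hl', ← tl_res, hb, hb']
      refine (local_eq F l₂ _ _ e₂).mono fun W₃ g₃ ⟨E₃, h', l₃, hh', hl₃⟩ => ?_
      have ea : F.obj.map (h' ≫ h ≫ r).op a = F.obj.map (h' ≫ h ≫ r').op a' := by
        simp only [op_comp, Functor.map_comp, ConcreteCategory.comp_apply] at hh ⊢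
        rw [hh]
      have eb : F.obj.map (h' ≫ h ≫ r).op b = F.obj.map (h' ≫ h ≫ r').op b' := by
        simp only [op_comp, Functor.map_comp, ConcreteCategory.comp_apply] at hh' ⊢
        exact hh'
      have ek : l₃ ≫ fn.map (h' ≫ h ≫ r) = ((g₃ ≫ g₂) ≫ g₁) ≫ k := by
        simp only [Functor.map_comp, reassoc_of% hl₃, reassoc_of% hl₂, hl, Category.assoc]
      have ek' : l₃ ≫ fn.map (h' ≫ h ≫ r') = ((g₃ ≫ g₂) ≫ g₁) ≫ k' := by
        simp only [Functor.map_comp, reassoc_of% hl₃, reassoc_of% hl₂, hl', Category.assoc]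
      rw [tl_res, tl_res, ← ek, ← ek', ← tl_map, ← tl_map, hop, hop, ea, eb])
    ((exists_local_translate K J fn F p).bind fun W g ⟨E, a, k, ha⟩ =>
      (exists_local_translate K J fn F ((uS (J := J) fn F).obj.map g.op q)).bind fun W₁ g₁ ⟨E', b, k', hb⟩ =>
        (hflat.pair (g₁ ≫ k) k').mono fun W₂ g₂ ⟨E₂, r, r', l, hl, hl'⟩ =>
          ⟨_, E₂, l, F.obj.map r.op a, F.obj.map r'.op b, by
            rw [tl_map, hl, ← tl_res, ← tl_res, show tl (J := J) fn F k a = _ from ha]
            simp only [op_comp, Functor.map_comp, ConcreteCategory.comp_apply], by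
            rw [tl_map, hl', ← tl_res, show tl (J := J) fn F k' b = _ from hb]
            simp only [op_comp, Functor.map_comp, ConcreteCategory.comp_apply], rfl⟩)
  exact ⟨x, fun W g E k a b ha hb => hx g _ ⟨E, k, a, b, ha, hb, rfl⟩⟩

include hexact in
/-- Three sections are locally translates from a common object. -/
lemma loc_three (F : Sheaf K (Type u)) {X : C} (p q r : (uS (J := J) fn F).obj.obj (op X)) :
    Loc J X fun W g => ∃ (E : D) (k : W ⟶ fn.obj E) (a b c : F.obj.obj (op E)),
      (uS (J := J) fn F).obj.map g.op p = tl fn F k a ∧ (uS (J := J) fn F).obj.map g.op q = tl fn F k b ∧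
        (uS (J := J) fn F).obj.map g.op r = tl fn F k c := by
  have hflat : LocFlat K J fn := locFlat_of_exact K J fn
  refine (exists_local_translate K J fn F p).bind fun W g ⟨E, a, k, ha⟩ => ?_
  refine (exists_local_translate K J fn F ((uS (J := J) fn F).obj.map g.op q)).bind fun W₁ g₁ ⟨E₁, b, k₁, hb⟩ => ?_
  refine (exists_local_translate K J fn F ((uS (J := J) fn F).obj.map (g₁ ≫ g).op r)).bind fun W₂ g₂ ⟨E₂, c, k₂, hc⟩ => ?_
  refine (hflat.pair ((g₂ ≫ g₁) ≫ k) (g₂ ≫ k₁)).bind fun W₃ g₃ ⟨E₃, s, s', l, hl, hl'⟩ => ?_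
  refine (hflat.pair l (g₃ ≫ k₂)).mono fun W₄ g₄ ⟨E₄, t, t', m, hm, hm'⟩ =>
    ⟨E₄, m, F.obj.map (t ≫ s).op a, F.obj.map (t ≫ s').op b, F.obj.map t'.op c, ?_, ?_, ?_⟩
  · rw [tl_map, fn.map_comp, reassoc_of% hm, hl]
    simp only [← tl_res, show tl (J := J) fn F k a = _ from ha]
    simp only [op_comp, Functor.map_comp, ConcreteCategory.comp_apply]
  · rw [tl_map, fn.map_comp, reassoc_of% hm, hl']
    simp only [← tl_res, show tl (J := J) fn F k₁ b = _ from hb]
    simp only [op_comp, Functor.map_comp, ConcreteCategory.comp_apply]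
  · rw [tl_map, hm']
    simp only [← tl_res, show tl (J := J) fn F k₂ c = _ from hc]
    simp only [op_comp, Functor.map_comp, ConcreteCategory.comp_apply]

section Ring

variable (O : Sheaf K CommRingCat.{u})

/-- The underlying sheaf of sets. -/
noncomputable abbrev setSh : Sheaf K (Type u) := (sheafCompose K (CategoryTheory.forget CommRingCat.{u})).obj O

/-- The candidate. -/
abbrev PT (X : C) : Type u := (uS (J := J) fn (setSh O)).obj.obj (op X)

/-- Translates. -/
noncomputable abbrev tO {X : C} {E : D} (k : X ⟶ fn.obj E) (a : O.obj.obj (op E)) : PT (J := J) fn O X :=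
  tl fn (setSh O) k a

/-- Restriction. -/
noncomputable abbrev rO {W X : C} (g : W ⟶ X) (p : PT (J := J) fn O X) : PT (J := J) fn O W :=
  (uS (J := J) fn (setSh O)).obj.map g.op p

lemma rO_tO {W X : C} {E : D} (g : W ⟶ X) (k : X ⟶ fn.obj E) (a : O.obj.obj (op E)) :
    rO (J := J) fn O g (tO fn O k a) = tO fn O (g ≫ k) a := tl_res (setSh O) g k a

lemma rO_rO {U W X : C} (h : U ⟶ W) (g : W ⟶ X) (p : PT (J := J) fn O X) :
    rO fn O h (rO fn O g p) = rO fn O (h ≫ g) p :=
  (ConcreteCategory.congr_hom ((uS (J := J) fn (setSh O)).obj.map_comp g.op h.op) p).symm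

/-- Addition. -/
abbrev addOp (E : D) (a b : (setSh O).obj.obj (op E)) : (setSh O).obj.obj (op E) :=
  (show O.obj.obj (op E) from a) + (show O.obj.obj (op E) from b)

/-- Multiplication. -/
abbrev mulOp (E : D) (a b : (setSh O).obj.obj (op E)) : (setSh O).obj.obj (op E) :=
  (show O.obj.obj (op E) from a) * (show O.obj.obj (op E) from b)

/-- Negation. -/
abbrev negOp (E : D) (a _b : (setSh O).obj.obj (op E)) : (setSh O).obj.obj (op E) :=
  -(show O.obj.obj (op E) from a)

noncomputable instance (X : C) : Add (PT (J := J) fn O X) :=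
  ⟨fun p q => (exists_op fn (setSh O) (addOp O)
    (fun h a b => map_add (O.obj.map h.op).hom _ _) p q).choose⟩

noncomputable instance (X : C) : Mul (PT (J := J) fn O X) :=
  ⟨fun p q => (exists_op fn (setSh O) (mulOp O)
    (fun h a b => map_mul (O.obj.map h.op).hom _ _) p q).choose⟩

noncomputable instance (X : C) : Neg (PT (J := J) fn O X) :=
  ⟨fun p => (exists_op fn (setSh O) (negOp O)
    (fun h a b => map_neg (O.obj.map h.op).hom _) p p).choose⟩

lemma add_res {W X : C} {E : D} {g : W ⟶ X} {k : W ⟶ fn.obj E} {p q : PT (J := J) fn O X} {a b : O.obj.obj (op E)}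
    (ha : rO fn O g p = tO fn O k a) (hb : rO fn O g q = tO fn O k b) : rO fn O g (p + q) = tO fn O k (a + b) :=
  (exists_op fn (setSh O) (addOp O)
    (fun h a b => map_add (O.obj.map h.op).hom _ _) p q).choose_spec g E k a b ha.symm hb.symm

lemma mul_res {W X : C} {E : D} {g : W ⟶ X} {k : W ⟶ fn.obj E} {p q : PT (J := J) fn O X} {a b : O.obj.obj (op E)}
    (ha : rO fn O g p = tO fn O k a) (hb : rO fn O g q = tO fn O k b) : rO fn O g (p * q) = tO fn O k (a * b) :=
  (exists_op fn (setSh O) (mulOp O)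
    (fun h a b => map_mul (O.obj.map h.op).hom _ _) p q).choose_spec g E k a b ha.symm hb.symm

lemma neg_res {W X : C} {E : D} {g : W ⟶ X} {k : W ⟶ fn.obj E} {p : PT (J := J) fn O X} {a : O.obj.obj (op E)}
    (ha : rO fn O g p = tO fn O k a) : rO fn O g (-p) = tO fn O k (-a) :=
  (exists_op fn (setSh O) (negOp O)
    (fun h a b => map_neg (O.obj.map h.op).hom _) p p).choose_spec g E k a a ha.symm ha.symm

lemma const_indep {X : C} (c : ∀ E, O.obj.obj (op E))
    (hc : ∀ {E E' : D} (h : E' ⟶ E), O.obj.map h.op (c E) = c E') :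
    ∃ x : PT (J := J) fn O X, ∀ ⦃W : C⦄ (g : W ⟶ X) (E : D) (k : W ⟶ fn.obj E), rO fn O g x = tO fn O k (c E) := by
  have hflat : LocFlat K J fn := locFlat_of_exact K J fn
  obtain ⟨x, hx⟩ := exists_glue (isSheaf_uS fn (setSh O)) (o := X)
    (fun W g v => ∃ (E : D) (k : W ⟶ fn.obj E), v = tO fn O k (c E))
    (fun W W' g h v ⟨E, k, hv⟩ => ⟨E, h ≫ k, by rw [hv]; exact tl_res (setSh O) h k _⟩)
    (fun W g v v' ⟨E, k, hv⟩ ⟨E', k', hv'⟩ => by
      subst hv hv'
      refine sep_loc (isSheaf_uS fn (setSh O)) ((hflat.pair k k').mono fun W₁ g₁ ⟨E₁, r, r', l, hl, hl'⟩ => ?_)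
      show rO fn O g₁ (tO fn O k (c E)) = rO fn O g₁ (tO fn O k' (c E'))
      rw [rO_tO, rO_tO, ← hl, ← hl']
      exact (tl_map (setSh O) r l (c E)).symm.trans
        ((congrArg (tO fn O l) ((hc r).trans (hc r').symm)).trans (tl_map (setSh O) r' l (c E'))))
    ((hflat.nonempty X).mono fun W g ⟨E, ⟨k⟩⟩ => ⟨_, E, k, rfl⟩)
  exact ⟨x, fun W g E k => hx g _ ⟨E, k, rfl⟩⟩

noncomputable instance (X : C) : Zero (PT (J := J) fn O X) :=
  ⟨(const_indep fn O (fun E => 0) (fun h => map_zero (O.obj.map h.op).hom)).choose⟩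

noncomputable instance (X : C) : One (PT (J := J) fn O X) :=
  ⟨(const_indep fn O (fun E => 1) (fun h => map_one (O.obj.map h.op).hom)).choose⟩

lemma zero_res {W X : C} {E : D} (g : W ⟶ X) (k : W ⟶ fn.obj E) :
    rO fn O g (0 : PT (J := J) fn O X) = tO fn O k 0 :=
  (const_indep fn O (fun E => 0) (fun h => map_zero (O.obj.map h.op).hom)).choose_spec g E k

lemma one_res {W X : C} {E : D} (g : W ⟶ X) (k : W ⟶ fn.obj E) :
    rO fn O g (1 : PT (J := J) fn O X) = tO fn O k 1 :=
  (const_indep fn O (fun E => 1) (fun h => map_one (O.obj.map h.op).hom)).choose_spec g E k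

lemma ext_three {X : C} {x y : PT (J := J) fn O X} (p q r : PT (J := J) fn O X)
    (h : ∀ ⦃W : C⦄ (g : W ⟶ X) (E : D) (k : W ⟶ fn.obj E) (a b c : O.obj.obj (op E)),
      rO fn O g p = tO fn O k a → rO fn O g q = tO fn O k b → rO fn O g r = tO fn O k c →
        rO fn O g x = rO fn O g y) : x = y :=
  sep_loc (isSheaf_uS fn (setSh O)) ((loc_three fn (setSh O) p q r).mono fun W g ⟨E, k, a, b, c, ha, hb, hc⟩ =>
    h g E k a b c ha hb hc)

noncomputable instance (X : C) : CommRing (PT (J := J) fn O X) :=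
  CommRing.ofMinimalAxioms
    (fun p q r => ext_three fn O p q r fun W g E k a b c ha hb hc => by
      rw [add_res fn O (add_res fn O ha hb) hc, add_res fn O ha (add_res fn O hb hc), add_assoc])
    (fun p => ext_three fn O p p p fun W g E k a b c ha hb hc => by
      rw [add_res fn O (zero_res fn O g k) ha, ha, zero_add])
    (fun p => ext_three fn O p p p fun W g E k a b c ha hb hc => by
      rw [add_res fn O (neg_res fn O ha) ha, zero_res fn O g k, neg_add_cancel])
    (fun p q r => ext_three fn O p q r fun W g E k a b c ha hb hc => by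
      rw [mul_res fn O (mul_res fn O ha hb) hc, mul_res fn O ha (mul_res fn O hb hc), mul_assoc])
    (fun p q => ext_three fn O p q q fun W g E k a b c ha hb hc => by
      rw [mul_res fn O ha hb, mul_res fn O hb ha, mul_comm])
    (fun p => ext_three fn O p p p fun W g E k a b c ha hb hc => by
      rw [mul_res fn O (one_res fn O g k) ha, ha, one_mul])
    (fun p q r => ext_three fn O p q r fun W g E k a b c ha hb hc => by
      rw [mul_res fn O ha (add_res fn O hb hc), add_res fn O (mul_res fn O ha hb) (mul_res fn O ha hc), mul_add])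

/-- Restriction is a ring map. -/
noncomputable def rHom {W X : C} (g : W ⟶ X) : PT (J := J) fn O X →+* PT (J := J) fn O W where
  toFun := rO fn O g
  map_one' := ext_three fn O 1 1 1 fun U h E k a b c ha hb hc => by
    exact (rO_rO fn O h g _).trans ((one_res fn O (h ≫ g) k).trans (one_res fn O h k).symm)
  map_zero' := ext_three fn O 0 0 0 fun U h E k a b c ha hb hc => by
    exact (rO_rO fn O h g _).trans ((zero_res fn O (h ≫ g) k).trans (zero_res fn O h k).symm)
  map_mul' p q := ext_three fn O (rO fn O g p) (rO fn O g q) (rO fn O g q) fun U h E k a b c ha hb hc => by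
    exact (rO_rO fn O h g _).trans ((mul_res fn O ((rO_rO fn O h g p).symm.trans ha)
      ((rO_rO fn O h g q).symm.trans hb)).trans (mul_res fn O ha hb).symm)
  map_add' p q := ext_three fn O (rO fn O g p) (rO fn O g q) (rO fn O g q) fun U h E k a b c ha hb hc => by
    exact (rO_rO fn O h g _).trans ((add_res fn O ((rO_rO fn O h g p).symm.trans ha)
      ((rO_rO fn O h g q).symm.trans hb)).trans (add_res fn O ha hb).symm)

/-- The presheaf of rings. -/
noncomputable abbrev ringPre : Cᵒᵖ ⥤ CommRingCat.{u} where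
  obj X := CommRingCat.of (PT (J := J) fn O X.unop)
  map g := CommRingCat.ofHom (rHom (J := J) fn O g.unop)
  map_id X := CommRingCat.hom_ext (RingHom.ext fun p =>
    ConcreteCategory.congr_hom ((uS (J := J) fn (setSh O)).obj.map_id X) p)
  map_comp g h := CommRingCat.hom_ext (RingHom.ext fun p => (rO_rO fn O h.unop g.unop p).symm)

/-- The sheaf of rings on the inverse image of sets. -/
noncomputable abbrev ringSh' : Sheaf J CommRingCat.{u} :=
  ⟨ringPre (J := J) fn O, by
    rw [Presheaf.isSheaf_iff_isSheaf_comp J (ringPre (J := J) fn O) (CategoryTheory.forget CommRingCat.{u})]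
    exact (isSheaf_iff_isSheaf_of_type _ _).2 (isSheaf_uS fn (setSh O))⟩

/-- The unit. -/
noncomputable def unitHom : O ⟶ (fn.sheafPushforwardContinuous CommRingCat.{u} K J).obj (ringSh' (J := J) fn O) :=
  ⟨{ app := fun E => CommRingCat.ofHom
      { toFun := fun a => tO (J := J) fn O (𝟙 (fn.obj E.unop)) a
        map_one' := ext_three fn O 1 1 1 fun U h F k a b c ha hb hc => by
          exact (rO_tO fn O h (𝟙 _) _).trans (one_res fn O h (h ≫ 𝟙 _)).symm
        map_zero' := ext_three fn O 0 0 0 fun U h F k a b c ha hb hc => by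
          exact (rO_tO fn O h (𝟙 _) _).trans (zero_res fn O h (h ≫ 𝟙 _)).symm
        map_mul' := fun p q => ext_three fn O 0 0 0 fun U h F k a b c ha hb hc => by
          exact (rO_tO fn O h (𝟙 _) _).trans (mul_res fn O (rO_tO fn O h (𝟙 _) p) (rO_tO fn O h (𝟙 _) q)).symm
        map_add' := fun p q => ext_three fn O 0 0 0 fun U h F k a b c ha hb hc => by
          exact (rO_tO fn O h (𝟙 _) _).trans (add_res fn O (rO_tO fn O h (𝟙 _) p) (rO_tO fn O h (𝟙 _) q)).symm }
     naturality := fun E E' h => CommRingCat.hom_ext (RingHom.ext fun a => by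
       show tl (J := J) fn (setSh O) (𝟙 _) ((setSh O).obj.map h a) =
         rO fn O (fn.map h.unop) (tO fn O (𝟙 (fn.obj E.unop)) a)
       rw [rO_tO, Category.comp_id, ← Category.id_comp (fn.map h.unop)]
       exact tl_map (setSh O) h.unop (𝟙 _) a) }⟩

end Ring

section RMor

variable {O_C : Sheaf J CommRingCat.{u}} {O_D : Sheaf K CommRingCat.{u}} (f : ModSite.RMor O_C O_D)

/-- Translates in the inverse image of rings. -/
noncomputable def iu {X : C} {E : D} (k : X ⟶ f.fn.obj E) (a : O_D.obj.obj (op E)) : f.invRing.obj.obj (op X) :=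
  f.invRing.obj.map k.op (((f.fn.sheafAdjunctionContinuous CommRingCat.{u} K J).unit.app O_D).hom.app (op E) a)

/-- The comparison with sets. -/
noncomputable def toSet' : f.invRing ⟶ ringSh' (J := J) f.fn O_D :=
  ((f.fn.sheafAdjunctionContinuous CommRingCat.{u} K J).homEquiv _ _).symm (unitHom f.fn O_D)

lemma toSet'_iu {X : C} {E : D} (k : X ⟶ f.fn.obj E) (a : O_D.obj.obj (op E)) :
    (toSet' f).hom.app (op X) (iu f k a) = tO f.fn O_D k a := by
  refine (ConcreteCategory.congr_hom ((toSet' f).hom.naturality k.op) _).trans ?_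
  have e := ((f.fn.sheafAdjunctionContinuous CommRingCat.{u} K J).homEquiv_unit _ _ (toSet' f)).symm.trans
    (Equiv.apply_symm_apply _ _)
  refine (congrArg (rO f.fn O_D k) (ConcreteCategory.congr_hom
    (congrArg (fun q : O_D ⟶ _ => q.hom.app (op E)) e) a)).trans ?_
  show rO f.fn O_D k (tO f.fn O_D (𝟙 _) a) = _
  rw [rO_tO, Category.comp_id]

/-- Translates agree only if they agree locally on the source. -/
theorem iu_local_eq {X : C} {E : D} (k : X ⟶ f.fn.obj E) (a a' : O_D.obj.obj (op E)) (e : iu f k a = iu f k a') :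
    Loc J X fun W g => ∃ (E' : D) (h : E' ⟶ E) (k' : W ⟶ f.fn.obj E'),
      O_D.obj.map h.op a = O_D.obj.map h.op a' ∧ k' ≫ f.fn.map h = g ≫ k :=
  local_eq (setSh O_D) k a a' ((toSet'_iu f k a).symm.trans ((congrArg _ e).trans (toSet'_iu f k a')))

lemma iu_res {W X : C} {E : D} (g : W ⟶ X) (k : X ⟶ f.fn.obj E) (a : O_D.obj.obj (op E)) :
    f.invRing.obj.map g.op (iu f k a) = iu f (g ≫ k) a :=
  (ConcreteCategory.congr_hom (f.invRing.obj.map_comp k.op g.op) _).symm

lemma iu_map {X : C} {E E' : D} (h : E' ⟶ E) (k : X ⟶ f.fn.obj E') (a : O_D.obj.obj (op E)) :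
    iu f k (O_D.obj.map h.op a) = iu f (k ≫ f.fn.map h) a := by
  rw [← iu_res]
  exact congrArg (f.invRing.obj.map k.op)
    (ConcreteCategory.congr_hom (((f.fn.sheafAdjunctionContinuous CommRingCat.{u} K J).unit.app O_D).hom.naturality h.op) a)

/-- The ring map of translates. -/
noncomputable def iuHom {X : C} {E : D} (k : X ⟶ f.fn.obj E) : O_D.obj.obj (op E) →+* f.invRing.obj.obj (op X) :=
  (f.invRing.obj.map k.op).hom.comp (((f.fn.sheafAdjunctionContinuous CommRingCat.{u} K J).unit.app O_D).hom.app (op E)).hom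

/-- The set map back. -/
noncomputable def fromSetFun : uS (J := J) f.fn (setSh O_D) ⟶
    (sheafCompose J (CategoryTheory.forget CommRingCat.{u})).obj f.invRing :=
  ((f.fn.sheafAdjunctionContinuous (Type u) K J).homEquiv _ _).symm
    ⟨Functor.whiskerRight ((f.fn.sheafAdjunctionContinuous CommRingCat.{u} K J).unit.app O_D).hom
      (CategoryTheory.forget CommRingCat.{u})⟩

lemma fromSetFun_tO {X : C} {E : D} (k : X ⟶ f.fn.obj E) (a : O_D.obj.obj (op E)) :
    (fromSetFun f).hom.app (op X) (tO f.fn O_D k a) = iu f k a := by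
  refine (ConcreteCategory.congr_hom ((fromSetFun f).hom.naturality k.op) _).trans ?_
  have e := ((f.fn.sheafAdjunctionContinuous (Type u) K J).homEquiv_unit _ _ (fromSetFun f)).symm.trans
    (Equiv.apply_symm_apply _ _)
  exact congrArg (f.invRing.obj.map k.op) (ConcreteCategory.congr_hom
    (congrArg (fun q : setSh O_D ⟶ _ => q.hom.app (op E)) e) a)

/-- The back map on a member. -/
noncomputable abbrev fs {X : C} (p : PT (J := J) f.fn O_D X) : f.invRing.obj.obj (op X) :=
  (fromSetFun f).hom.app (op X) p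

lemma fs_res {W X : C} (g : W ⟶ X) (p : PT (J := J) f.fn O_D X) :
    fs f (rO f.fn O_D g p) = f.invRing.obj.map g.op (fs f p) :=
  ConcreteCategory.congr_hom ((fromSetFun f).hom.naturality g.op) p

lemma inv_sep {X : C} {x y : f.invRing.obj.obj (op X)}
    (h : Loc J X fun W g => f.invRing.obj.map g.op x = f.invRing.obj.map g.op y) : x = y :=
  sep_loc (P := f.invRing.obj ⋙ CategoryTheory.forget CommRingCat.{u})
    ((isSheaf_iff_isSheaf_of_type _ _).1 ((sheafCompose J (CategoryTheory.forget CommRingCat.{u})).obj f.invRing).property) h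

/-- The back map is a ring map. -/
noncomputable def fromSetRingHom (X : C) : PT (J := J) f.fn O_D X →+* f.invRing.obj.obj (op X) where
  toFun := fs f
  map_one' := inv_sep f ((loc_three f.fn (setSh O_D) 1 1 1).mono fun W g ⟨E, k, a, b, c, ha, hb, hc⟩ => by
    exact (fs_res f g _).symm.trans ((congrArg (fs f) (one_res f.fn O_D g k)).trans
      ((fromSetFun_tO f k _).trans ((map_one (iuHom f k)).trans (map_one _).symm))))
  map_zero' := inv_sep f ((loc_three f.fn (setSh O_D) 0 0 0).mono fun W g ⟨E, k, a, b, c, ha, hb, hc⟩ => by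
    exact (fs_res f g _).symm.trans ((congrArg (fs f) (zero_res f.fn O_D g k)).trans
      ((fromSetFun_tO f k _).trans ((map_zero (iuHom f k)).trans (map_zero _).symm))))
  map_mul' p q := inv_sep f ((loc_three f.fn (setSh O_D) p q q).mono fun W g ⟨E, k, a, b, c, ha, hb, hc⟩ => by
    refine (fs_res f g _).symm.trans ((congrArg (fs f) (mul_res f.fn O_D ha hb)).trans
      ((fromSetFun_tO f k _).trans ((map_mul (iuHom f k) (show O_D.obj.obj (op E) from a) (show O_D.obj.obj (op E) from b)).trans ?_)))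
    refine Eq.trans ?_ (map_mul _ _ _).symm
    exact congrArg₂ (· * ·) ((fromSetFun_tO f k a).symm.trans ((congrArg (fs f) ha).symm.trans (fs_res f g p)))
      ((fromSetFun_tO f k b).symm.trans ((congrArg (fs f) hb).symm.trans (fs_res f g q))))
  map_add' p q := inv_sep f ((loc_three f.fn (setSh O_D) p q q).mono fun W g ⟨E, k, a, b, c, ha, hb, hc⟩ => by
    refine (fs_res f g _).symm.trans ((congrArg (fs f) (add_res f.fn O_D ha hb)).trans
      ((fromSetFun_tO f k _).trans ((map_add (iuHom f k) (show O_D.obj.obj (op E) from a) (show O_D.obj.obj (op E) from b)).trans ?_)))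
    refine Eq.trans ?_ (map_add _ _ _).symm
    exact congrArg₂ (· + ·) ((fromSetFun_tO f k a).symm.trans ((congrArg (fs f) ha).symm.trans (fs_res f g p)))
      ((fromSetFun_tO f k b).symm.trans ((congrArg (fs f) hb).symm.trans (fs_res f g q))))

/-- The comparison back. -/
noncomputable def fromSet : ringSh' (J := J) f.fn O_D ⟶ f.invRing :=
  ⟨{ app := fun X => CommRingCat.ofHom (fromSetRingHom f X.unop)
     naturality := fun X Y g => CommRingCat.hom_ext (RingHom.ext fun p => fs_res f g.unop p) }⟩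

lemma toSet'_fromSet : toSet' f ≫ fromSet f = 𝟙 f.invRing := by
  apply ((f.fn.sheafAdjunctionContinuous CommRingCat.{u} K J).homEquiv _ _).injective
  rw [Adjunction.homEquiv_naturality_right, toSet', Equiv.apply_symm_apply, Adjunction.homEquiv_unit]
  refine ObjectProperty.hom_ext _ ?_
  ext E a
  show fs f (tO f.fn O_D (𝟙 (f.fn.obj E.unop)) a) =
    ((f.fn.sheafAdjunctionContinuous CommRingCat.{u} K J).unit.app O_D).hom.app E a
  rw [fs, fromSetFun_tO, iu, op_id, f.invRing.obj.map_id]
  rfl

/-- Sections are locally translates. -/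
theorem exists_local_iu {X : C} (r : f.invRing.obj.obj (op X)) :
    Loc J X fun W g => ∃ (E : D) (a : O_D.obj.obj (op E)) (k : W ⟶ f.fn.obj E), f.invRing.obj.map g.op r = iu f k a :=
  (exists_local_translate K J f.fn (setSh O_D) ((toSet' f).hom.app (op X) r)).mono fun W g ⟨E, a, k, e⟩ =>
    ⟨E, a, k, by
      have hr : r = fs f ((toSet' f).hom.app (op X) r) := (ConcreteCategory.congr_hom
        (congrArg (fun q : f.invRing ⟶ f.invRing => q.hom.app (op X)) (toSet'_fromSet f)) r).symm
      rw [hr, ← fs_res]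
      exact (congrArg (fs f) (show tO f.fn O_D k a = rO f.fn O_D g _ from e).symm).trans (fromSetFun_tO f k a)⟩

end RMor

end Groth.Agent.HTop16.InvRingSet
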