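import Mathlib.CategoryTheory.Abelian.GrothendieckAxioms.Basic
import Mathlib.CategoryTheory.ConnectedComponents
import Mathlib.CategoryTheory.Limits.Comma
import Mathlib.CategoryTheory.Limits.Preserves.Opposites
import Mathlib.CategoryTheory.Functor.KanExtension.Adjunction
import Mathlib.CategoryTheory.Sites.Pullback
import Mathlib.Algebra.Category.Grp.AB
import Mathlib.Algebra.Category.Grp.FilteredColimits
import Mathlib.Algebra.Homology.ShortComplex.ExactFunctor
import Mathlib.CategoryTheory.Limits.Shapes.Opposites.Pullbacks
import Mathlib.CategoryTheory.Limits.Shapes.Opposites.Equalizers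

/-!
# Colimits over categories with filtered components
-/

set_option autoImplicit false
set_option backward.isDefEq.respectTransparency false
set_option linter.all false

universe u

open CategoryTheory CategoryTheory.Limits

namespace Groth.Agent.HTop16.LanExact

variable {J : Type u} [SmallCategory J]

section

variable [HasPushouts J] [HasCoequalizers J]

lemma exists_cospan_of_zigzag {a b : J} (h : Zigzag a b) : ∃ (k : J) (_ : a ⟶ k) (_ : b ⟶ k), True := by
  induction h with
  | refl => exact ⟨a, 𝟙 a, 𝟙 a, trivial⟩
  | @tail b c _ hbc ih =>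
    obtain ⟨k, f, g, -⟩ := ih
    rcases hbc with ⟨⟨e⟩⟩ | ⟨⟨e⟩⟩
    · exact ⟨pushout g e, f ≫ pushout.inl g e, pushout.inr g e, trivial⟩
    · exact ⟨k, f, e ≫ g, trivial⟩

lemma isFiltered_component (c : CategoryTheory.ConnectedComponents J) : IsFiltered c.Component := by
  have h : IsFilteredOrEmpty c.Component :=
    { cocone_objs := fun X Y => by
        obtain ⟨k, f, g, -⟩ := exists_cospan_of_zigzag (Quotient.exact' (X.property.trans Y.property.symm))
        have hk : Quotient.mk'' k = c := (Quotient.sound' (Zigzag.of_hom f)).symm.trans X.property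
        exact ⟨⟨k, hk⟩, ObjectProperty.homMk f, ObjectProperty.homMk g, trivial⟩
      cocone_maps := fun X Y f g => by
        have hk : Quotient.mk'' (coequalizer f.hom g.hom) = c :=
          (Quotient.sound' (Zigzag.of_hom (coequalizer.π f.hom g.hom))).symm.trans Y.property
        exact ⟨⟨_, hk⟩, ObjectProperty.homMk (coequalizer.π f.hom g.hom),
          ObjectProperty.hom_ext _ (coequalizer.condition f.hom g.hom)⟩ }
  exact { nonempty := inferInstance, __ := h }

end

/-- The sum of the colimits over the components. -/
noncomputable abbrev compSum (F : J ⥤ AddCommGrpCat.{u}) : AddCommGrpCat.{u} :=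
  ∐ fun c : CategoryTheory.ConnectedComponents J => colimit (c.ι ⋙ F)

/-- The coprojection at `j`. -/
noncomputable def compι (F : J ⥤ AddCommGrpCat.{u}) (j : J) : F.obj j ⟶ compSum F :=
  colimit.ι ((CategoryTheory.ConnectedComponents.mk j).ι ⋙ F) ⟨j, rfl⟩ ≫
    Limits.Sigma.ι (fun c : CategoryTheory.ConnectedComponents J => colimit (c.ι ⋙ F)) (CategoryTheory.ConnectedComponents.mk j)

lemma compι_eq (F : J ⥤ AddCommGrpCat.{u}) (j : J) (c : CategoryTheory.ConnectedComponents J) (h : CategoryTheory.ConnectedComponents.mk j = c) :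
    compι F j = colimit.ι (c.ι ⋙ F) ⟨j, h⟩ ≫ Limits.Sigma.ι (fun c : CategoryTheory.ConnectedComponents J => colimit (c.ι ⋙ F)) c := by
  subst h
  rfl

/-- Decomposition of a colimit. -/
noncomputable def toSum (F : J ⥤ AddCommGrpCat.{u}) : colimit F ⟶ compSum F :=
  colimit.desc F (Cocone.mk (compSum F)
    { app := compι F
      naturality := fun i j f => by
        have hc : CategoryTheory.ConnectedComponents.mk i = CategoryTheory.ConnectedComponents.mk j := Quotient.sound' (Zigzag.of_hom f)
        dsimp
        rw [Category.comp_id, compι_eq F i _ hc]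
        unfold compι
        rw [← Category.assoc]
        congr 1
        exact colimit.w ((CategoryTheory.ConnectedComponents.mk j).ι ⋙ F)
          (ObjectProperty.homMk f : (⟨i, hc⟩ : (CategoryTheory.ConnectedComponents.mk j).Component) ⟶ ⟨j, rfl⟩) })

lemma ι_toSum (F : J ⥤ AddCommGrpCat.{u}) (j : J) : colimit.ι F j ≫ toSum F = compι F j :=
  colimit.ι_desc _ _

instance (F : J ⥤ AddCommGrpCat.{u}) : Mono (toSum F) := by
  have e : toSum F ≫ (Limits.Sigma.desc fun c : CategoryTheory.ConnectedComponents J => colimit.pre F c.ι) =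
      𝟙 (colimit F) := ?_
  · exact mono_of_mono_fac e
  refine colimit.hom_ext fun j => ?_
  rw [← Category.assoc, ι_toSum, compι, Category.assoc, Limits.Sigma.ι_desc, colimit.ι_pre, Category.comp_id]
  rfl

theorem mono_colim_map [HasPushouts J] [HasCoequalizers J] {F G : J ⥤ AddCommGrpCat.{u}} (η : F ⟶ G) [Mono η] :
    Mono (colim.map η) := by
  let p : ∀ c : CategoryTheory.ConnectedComponents J, colimit (c.ι ⋙ F) ⟶ colimit (c.ι ⋙ G) :=
    fun c => colim.map (Functor.whiskerLeft c.ι η)
  haveI : ∀ c, Mono (p c) := fun c => by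
    haveI := isFiltered_component c
    haveI : PreservesFiniteLimits (colim (J := c.Component) (C := AddCommGrpCat.{u})) :=
      HasExactColimitsOfShape.preservesFiniteLimits
    haveI : Mono (Functor.whiskerLeft c.ι η) := by
      haveI : ∀ X, Mono ((Functor.whiskerLeft c.ι η).app X) := fun X => inferInstanceAs (Mono (η.app _))
      exact NatTrans.mono_of_mono_app _
    exact inferInstanceAs (Mono (colim.map _))
  haveI : Mono (Limits.Sigma.map p) := by
    haveI : AB4 AddCommGrpCat.{u} := AB4.of_AB5 _
    haveI : PreservesFiniteLimits (colim (J := Discrete (CategoryTheory.ConnectedComponents J)) (C := AddCommGrpCat.{u})) :=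
      HasExactColimitsOfShape.preservesFiniteLimits
    let q : Discrete.functor (fun c : CategoryTheory.ConnectedComponents J => colimit (c.ι ⋙ F)) ⟶
        Discrete.functor (fun c : CategoryTheory.ConnectedComponents J => colimit (c.ι ⋙ G)) :=
      Discrete.natTrans fun X => p X.as
    haveI : ∀ X, Mono (q.app X) := fun X => inferInstanceAs (Mono (p X.as))
    haveI : Mono q := NatTrans.mono_of_mono_app q
    exact inferInstanceAs (Mono (colim.map q))
  have h : colim.map η ≫ toSum G = toSum F ≫ Limits.Sigma.map p := by
    refine colimit.hom_ext fun j => ?_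
    rw [← Category.assoc, colim_map, ι_colimMap, Category.assoc, ι_toSum, ← Category.assoc, ι_toSum,
      compι, compι, Category.assoc, Limits.Sigma.ι_map]
    exact ((ι_colimMap_assoc (Functor.whiskerLeft (CategoryTheory.ConnectedComponents.mk j).ι η) ⟨j, rfl⟩ _)).symm
  haveI : Mono (colim.map η ≫ toSum G) := h ▸ inferInstance
  exact mono_of_mono _ (toSum G)

section

variable {A B : Type u} [SmallCategory A] [SmallCategory B] (L : A ⥤ B)
  [HasPushouts A] [HasCoequalizers A] [PreservesColimitsOfShape WalkingSpan L]
  [PreservesColimitsOfShape WalkingParallelPair L]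

theorem mono_lan_map {F G : A ⥤ AddCommGrpCat.{u}} (η : F ⟶ G) [Mono η] : Mono ((L.lan).map η) := by
  haveI : ∀ b, Mono (((L.lan).map η).app b) := fun b => by
    haveI : Mono (Functor.whiskerLeft (CostructuredArrow.proj L b) η) := by
      haveI : ∀ X, Mono ((Functor.whiskerLeft (CostructuredArrow.proj L b) η).app X) :=
        fun X => inferInstanceAs (Mono (η.app _))
      exact NatTrans.mono_of_mono_app _
    haveI := mono_colim_map (Functor.whiskerLeft (CostructuredArrow.proj L b) η)
    have h : ((L.lan).map η).app b ≫ (L.leftKanExtensionObjIsoColimit G b).hom =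
        (L.leftKanExtensionObjIsoColimit F b).hom ≫
          colim.map (Functor.whiskerLeft (CostructuredArrow.proj L b) η) := by
      rw [← cancel_epi (L.leftKanExtensionObjIsoColimit F b).inv, Iso.inv_hom_id_assoc]
      refine colimit.hom_ext fun g => ?_
      rw [L.ι_leftKanExtensionObjIsoColimit_inv_assoc]
      have e : ((L.leftKanExtensionUnit F).app g.left ≫ ((L.lan).map η).app (L.obj g.left)) =
          η.app g.left ≫ (L.leftKanExtensionUnit G).app g.left :=
        (NatTrans.congr_app (L.lanUnit.naturality η) g.left).symm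
      erw [((L.lan).map η).naturality_assoc g.hom, reassoc_of% e]
      erw [L.leftKanExtensionUnit_leftKanExtension_map_leftKanExtensionObjIsoColimit_hom G b g, ι_colimMap]
      rfl
    haveI : Mono (((L.lan).map η).app b ≫ (L.leftKanExtensionObjIsoColimit G b).hom) := h ▸ inferInstance
    exact mono_of_mono _ (L.leftKanExtensionObjIsoColimit G b).hom
  exact NatTrans.mono_of_mono_app _

theorem preservesFiniteLimits_lan :
    PreservesFiniteLimits (L.lan : (A ⥤ AddCommGrpCat.{u}) ⥤ (B ⥤ AddCommGrpCat.{u})) := by
  let Φ : (A ⥤ AddCommGrpCat.{u}) ⥤ (B ⥤ AddCommGrpCat.{u}) := L.lan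
  haveI : Φ.IsLeftAdjoint := (L.lanAdjunction AddCommGrpCat.{u}).isLeftAdjoint
  haveI : PreservesBinaryBiproducts Φ := preservesBinaryBiproducts_of_preservesBinaryCoproducts Φ
  haveI : Φ.Additive := Functor.additive_of_preservesBinaryBiproducts Φ
  rw [Functor.preservesFiniteLimits_iff_forall_exact_map_and_mono]
  intro S hS
  haveI := hS.mono_f
  haveI := hS.epi_g
  exact ⟨((Functor.preservesFiniteColimits_iff_forall_exact_map_and_epi Φ).1 inferInstance S hS).1, mono_lan_map L S.f⟩

end

theorem sheafPullback_preservesFiniteLimits {C D : Type u} [SmallCategory C] [SmallCategory D]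
    (J : GrothendieckTopology C) (K : GrothendieckTopology D) (v : C ⥤ D) [v.IsContinuous J K] [HasPullbacks C]
    [HasEqualizers C] [PreservesLimitsOfShape WalkingCospan v] [PreservesLimitsOfShape WalkingParallelPair v] :
    PreservesFiniteLimits (v.sheafPullback AddCommGrpCat.{u} J K) := by
  haveI : PreservesLimitsOfShape WalkingSpanᵒᵖ v := preservesLimitsOfShape_of_equiv walkingSpanOpEquiv.symm v
  haveI : PreservesLimitsOfShape WalkingParallelPairᵒᵖ v :=
    preservesLimitsOfShape_of_equiv walkingParallelPairOpEquiv v
  haveI : PreservesColimitsOfShape WalkingSpan v.op := preservesColimitsOfShape_op _ v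
  haveI : PreservesColimitsOfShape WalkingParallelPair v.op := preservesColimitsOfShape_op _ v
  haveI := preservesFiniteLimits_lan v.op
  haveI : PreservesFiniteLimits ((v.op.lan : (Cᵒᵖ ⥤ AddCommGrpCat.{u}) ⥤ _) ⋙ presheafToSheaf K AddCommGrpCat.{u}) :=
    comp_preservesFiniteLimits _ _
  haveI : PreservesFiniteLimits (Functor.sheafPullbackConstruction.sheafPullback v AddCommGrpCat.{u} J K) :=
    comp_preservesFiniteLimits _ _
  exact preservesFiniteLimits_of_natIso (Functor.sheafPullbackConstruction.sheafPullbackIso v AddCommGrpCat.{u} J K).symm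

end Groth.Agent.HTop16.LanExact
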