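import Groth.Agent.HTop16.SiteStalkPull
import Mathlib.Topology.Sheaves.Stalks
import Mathlib.CategoryTheory.Abelian.Exact
import Mathlib.Algebra.Homology.ShortComplex.ExactFunctor

/-!
# Stalks of modules on ringed spaces

Comparison with the stalks of Mathlib and monomorphisms detected on stalks.
-/

set_option autoImplicit false
set_option backward.isDefEq.respectTransparency false
set_option backward.isDefEq.respectTransparency.types false
set_option linter.all false

universe u

open CategoryTheory CategoryTheory.Limits Opposite TopologicalSpace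

namespace Groth.Agent.HTop16.SiteStalk

section Mono

variable {C : Type u} [SmallCategory C] {J : GrothendieckTopology C} {O : Sheaf J CommRingCat.{u}}
  {P : ObjectProperty (GrothendieckTopology.Point.{u} J)}

/-- A map injective on stalks at a conservative family of points is a monomorphism. -/
theorem mono_of_stalks (hP : P.IsConservativeFamilyOfPoints) {F G : ModSite.Mod O} (f : F ⟶ G)
    (h : ∀ q : P.FullSubcategory, Mono ((stalkM q.obj).map f)) : Mono f := by
  refine Preadditive.mono_of_cancel_zero f fun {Z} g hg => ?_
  have hz : ∀ q : P.FullSubcategory, (stalkM q.obj).map g = 0 := fun q => by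
    haveI := h q
    rw [← cancel_mono ((stalkM q.obj).map f), ← Functor.map_comp, hg, Functor.map_zero, zero_comp]
  haveI : IsIso (cokernel.π g) := isIso_of_stalks hP _ fun q => by
    haveI : IsIso (cokernel.π ((stalkM q.obj).map g)) := cokernel.π_of_zero (hz q)
    rw [← π_comp_cokernelComparison]
    infer_instance
  rw [← cancel_mono (cokernel.π g), cokernel.condition, zero_comp]

end Mono

variable {X : TopCat.{u}} (O : TopCat.Sheaf CommRingCat.{u} X) (x : X)

/-- Comparison of the stalk at the point of the site with the stalk at the point of the space. -/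
noncomputable def spaceStalkMap :
    ModSite.stalkRing (Opens.pointGrothendieckTopology x) O ⟶ TopCat.Presheaf.stalk O.obj x :=
  (Opens.pointGrothendieckTopology x).presheafFiberDesc
    (fun U h => TopCat.Presheaf.germ O.obj U x h.down.down)
    (fun U V g h => TopCat.Presheaf.germ_res O.obj g x h.down.down)

lemma spaceStalkMap_germ (U : Opens X) (h : x ∈ U) (r : O.obj.obj (op U)) :
    (spaceStalkMap O x).hom (ModSite.germRing (Opens.pointGrothendieckTopology x) U ⟨⟨h⟩⟩ r) =
      (TopCat.Presheaf.germ O.obj U x h).hom r := by
  show ((Opens.pointGrothendieckTopology x).toPresheafFiber U ⟨⟨h⟩⟩ O.obj ≫ spaceStalkMap O x).hom r = _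
  simp only [spaceStalkMap, GrothendieckTopology.Point.toPresheafFiber_presheafFiberDesc]

theorem bijective_spaceStalkMap : Function.Bijective (spaceStalkMap O x).hom := by
  constructor
  · intro a b hab
    obtain ⟨U, hU, a, rfl⟩ :=
      (Opens.pointGrothendieckTopology x).toPresheafFiber_jointly_surjective (P := O.obj) a
    obtain ⟨V, hV, b, rfl⟩ :=
      (Opens.pointGrothendieckTopology x).toPresheafFiber_jointly_surjective (P := O.obj) b
    obtain ⟨W, hW, iU, iV, he⟩ := TopCat.Presheaf.germ_eq O.obj x hU.down.down hV.down.down a b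
      ((spaceStalkMap_germ O x U hU.down.down a).symm.trans (hab.trans (spaceStalkMap_germ O x V hV.down.down b)))
    have h1 := germRing_res (Opens.pointGrothendieckTopology x) O iU ⟨⟨hW⟩⟩ a
    have h2 := germRing_res (Opens.pointGrothendieckTopology x) O iV ⟨⟨hW⟩⟩ b
    exact h1.symm.trans ((congrArg (ModSite.germRing (Opens.pointGrothendieckTopology x) W ⟨⟨hW⟩⟩) he).trans h2)
  · intro a
    obtain ⟨U, hU, r, rfl⟩ := TopCat.Presheaf.exists_germ_eq O.obj (x := x) a
    exact ⟨_, spaceStalkMap_germ O x U hU r⟩

variable {Y : TopCat.{u}} (f : X ⟶ Y) (O_Y : TopCat.Sheaf CommRingCat.{u} Y)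
  (c : O_Y ⟶ ((TopologicalSpace.Opens.map f).sheafPushforwardContinuous CommRingCat.{u}
    (Opens.grothendieckTopology Y) (Opens.grothendieckTopology X)).obj O)

/-- The map of stalks of the space and that of the site agree. -/
theorem spaceStalkMap_comp :
    stalkRingMap (ModSite.RMor.ofFlat (TopologicalSpace.Opens.map f) c) (Opens.pointGrothendieckTopology x)
        (Opens.pointGrothendieckTopology (f x)) (opensPointIso f x) ≫ spaceStalkMap O x =
      spaceStalkMap O_Y (f x) ≫ (TopCat.Presheaf.stalkFunctor CommRingCat.{u} (f x)).map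
        (show O_Y.presheaf ⟶ (TopCat.Presheaf.pushforward CommRingCat.{u} f).obj O.presheaf from c.hom) ≫
        TopCat.Presheaf.stalkPushforward CommRingCat.{u} f O.presheaf x := by
  refine CommRingCat.hom_ext (RingHom.ext fun a => ?_)
  obtain ⟨V, hV, a, rfl⟩ :=
    (Opens.pointGrothendieckTopology (f x)).toPresheafFiber_jointly_surjective (P := O_Y.obj) a
  refine (congrArg (spaceStalkMap O x).hom (stalkRingMap_germ (ModSite.RMor.ofFlat (TopologicalSpace.Opens.map f) c)
    (Opens.pointGrothendieckTopology x) (Opens.pointGrothendieckTopology (f x)) (opensPointIso f x) V hV a)).trans ?_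
  refine (spaceStalkMap_germ O x ((TopologicalSpace.Opens.map f).obj V) hV.down.down (c.hom.app (op V) a)).trans ?_
  refine Eq.symm ?_
  refine (congrArg (fun t => ((TopCat.Presheaf.stalkFunctor CommRingCat.{u} (f x)).map
        (show O_Y.presheaf ⟶ (TopCat.Presheaf.pushforward CommRingCat.{u} f).obj O.presheaf from c.hom) ≫
        TopCat.Presheaf.stalkPushforward CommRingCat.{u} f O.presheaf x).hom t)
    (spaceStalkMap_germ O_Y (f x) V hV.down.down a)).trans ?_
  refine (congrArg (TopCat.Presheaf.stalkPushforward CommRingCat.{u} f O.presheaf x).hom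
    (TopCat.Presheaf.stalkFunctor_map_germ_apply V (f x) hV.down.down
      (show O_Y.presheaf ⟶ (TopCat.Presheaf.pushforward CommRingCat.{u} f).obj O.presheaf from c.hom) a)).trans ?_
  exact ConcreteCategory.congr_hom (TopCat.Presheaf.stalkPushforward_germ CommRingCat.{u} f O.presheaf V x hV.down.down) _

end Groth.Agent.HTop16.SiteStalk
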