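import Groth.Agent.HTop16.SiteStalk
import Groth.Agent.SiteTen.Tensor
import Mathlib.Algebra.Category.ModuleCat.Monoidal.Basic

/-!
# Stalks of tensor products of modules on a ringed site

At every point the stalk of `F ⊗ G` is the tensor product of the stalks, naturally in both modules.
-/

set_option autoImplicit false
set_option backward.isDefEq.respectTransparency false
set_option backward.isDefEq.respectTransparency.types false
set_option linter.all false

universe u

open CategoryTheory CategoryTheory.Limits Opposite MonoidalCategory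
open scoped TensorProduct

namespace Groth.Agent.HTop16.SiteStalk

variable {C : Type u} [SmallCategory C] {J : GrothendieckTopology C}
  (p : GrothendieckTopology.Point.{u} J) {O : Sheaf J CommRingCat.{u}}

/-- Restriction of sections. -/
noncomputable abbrev sres (F : ModSite.Mod O) {U V : C} (g : V ⟶ U) (s : ModSite.sect F U) : ModSite.sect F V :=
  F.val.map g.op s

lemma germ_sres (F : ModSite.Mod O) {U V : C} (g : V ⟶ U) (y : p.fiber.obj V) (s : ModSite.sect F U) :
    ModSite.germ p F V y (sres F g s) = ModSite.germ p F U (p.fiber.map g y) s :=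
  germ_res p F g y s

/-- Two germs are equal when the sections agree on a smaller neighbourhood. -/
lemma germ_eq (F : ModSite.Mod O) {U : C} (x : p.fiber.obj U) (s t : ModSite.sect F U)
    (h : ModSite.germ p F U x s = ModSite.germ p F U x t) :
    ∃ (W : C) (g : W ⟶ U) (w : p.fiber.obj W), p.fiber.map g w = x ∧ sres F g s = sres F g t :=
  (p.toPresheafFiber_eq_iff' (P := (ModSite.toAb F).obj) U x s t).1 h

/-- Two neighbourhoods have a common refinement. -/
lemma exists_min {U V : C} (x : p.fiber.obj U) (y : p.fiber.obj V) :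
    ∃ (W : C) (w : p.fiber.obj W) (a : W ⟶ U) (b : W ⟶ V), p.fiber.map a w = x ∧ p.fiber.map b w = y :=
  ⟨_, (IsCofiltered.min (Functor.elementsMk p.fiber U x) (Functor.elementsMk p.fiber V y)).2,
    (IsCofiltered.minToLeft (Functor.elementsMk p.fiber U x) (Functor.elementsMk p.fiber V y)).1,
    (IsCofiltered.minToRight (Functor.elementsMk p.fiber U x) (Functor.elementsMk p.fiber V y)).1,
    (IsCofiltered.minToLeft (Functor.elementsMk p.fiber U x) (Functor.elementsMk p.fiber V y)).2,
    (IsCofiltered.minToRight (Functor.elementsMk p.fiber U x) (Functor.elementsMk p.fiber V y)).2⟩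

variable (F G : ModSite.Mod O)

/-- Germs in two modules come from one neighbourhood. -/
lemma exists_common (m : ModSite.stalkAb p F) (n : ModSite.stalkAb p G) :
    ∃ (W : C) (w : p.fiber.obj W) (s : ModSite.sect F W) (t : ModSite.sect G W),
      ModSite.germ p F W w s = m ∧ ModSite.germ p G W w t = n := by
  obtain ⟨U, x, s, rfl⟩ := exists_germ p F m
  obtain ⟨V, y, t, rfl⟩ := exists_germ p G n
  obtain ⟨W, w, a, b, ha, hb⟩ := exists_min p x y
  exact ⟨W, w, sres F a s, sres G b t, by rw [germ_sres, ha], by rw [germ_sres, hb]⟩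

/-- The pure tensor of two sections. -/
noncomputable def secTmul {U : C} (s : ModSite.sect F U) (t : ModSite.sect G U) :
    ModSite.sect (SiteTen.ten O F G) U :=
  (SiteTen.η O ((ModSite.toPre O).obj F ⊗ (ModSite.toPre O).obj G)).app (op U)
    (TensorProduct.tmul (O.obj.obj (op U)) s t)

lemma secTmul_res {U V : C} (g : V ⟶ U) (s : ModSite.sect F U) (t : ModSite.sect G U) :
    (SiteTen.ten O F G).val.map g.op (secTmul F G s t) =
      secTmul F G (sres F g s) (sres G g t) :=
  SiteTen.res_app (SiteTen.η O ((ModSite.toPre O).obj F ⊗ (ModSite.toPre O).obj G)) g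
    (TensorProduct.tmul (O.obj.obj (op U)) s t)

/-- The germ of a pure tensor. -/
noncomputable def gten {U : C} (x : p.fiber.obj U) (s : ModSite.sect F U) (t : ModSite.sect G U) :
    ModSite.stalkAb p (SiteTen.ten O F G) :=
  ModSite.germ p (SiteTen.ten O F G) U x (secTmul F G s t)

lemma gten_res {U V : C} (g : V ⟶ U) (y : p.fiber.obj V) (s : ModSite.sect F U) (t : ModSite.sect G U) :
    gten p F G y (sres F g s) (sres G g t) = gten p F G (p.fiber.map g y) s t := by
  unfold gten
  rw [← secTmul_res]
  exact germ_res p (SiteTen.ten O F G) g y _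

/-- The product of two germs. -/
noncomputable def psi (m : ModSite.stalkAb p F) (n : ModSite.stalkAb p G) :
    ModSite.stalkAb p (SiteTen.ten O F G) :=
  gten p F G (exists_common p F G m n).choose_spec.choose
    (exists_common p F G m n).choose_spec.choose_spec.choose
    (exists_common p F G m n).choose_spec.choose_spec.choose_spec.choose

lemma psi_germ {U : C} (x : p.fiber.obj U) (s : ModSite.sect F U) (t : ModSite.sect G U) :
    psi p F G (ModSite.germ p F U x s) (ModSite.germ p G U x t) = gten p F G x s t := by
  suffices H : ∀ (V : C) (y : p.fiber.obj V) (s' : ModSite.sect F V) (t' : ModSite.sect G V),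
      ModSite.germ p F V y s' = ModSite.germ p F U x s → ModSite.germ p G V y t' = ModSite.germ p G U x t →
      gten p F G y s' t' = gten p F G x s t by
    unfold psi
    generalize_proofs h h' h'' h'''
    first
      | exact H _ _ _ _ h'''.choose_spec.1 h'''.choose_spec.2
      | exact H _ _ _ _ h''.choose_spec.1 h''.choose_spec.2
  intro V y s' t' hs ht
  obtain ⟨W, w, a, b, hay, hbx⟩ := exists_min p y x
  have hs' : ModSite.germ p F W w (sres F a s') = ModSite.germ p F W w (sres F b s) := by
    rw [germ_sres, germ_sres, hay, hbx]; exact hs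
  have ht' : ModSite.germ p G W w (sres G a t') = ModSite.germ p G W w (sres G b t) := by
    rw [germ_sres, germ_sres, hay, hbx]; exact ht
  obtain ⟨W₁, g₁, w₁, hg₁, e₁⟩ := germ_eq p F w _ _ hs'
  have ht₁ : ModSite.germ p G W₁ w₁ (sres G g₁ (sres G a t')) =
      ModSite.germ p G W₁ w₁ (sres G g₁ (sres G b t)) := by
    rw [germ_sres p G g₁, germ_sres p G g₁, hg₁]; exact ht'
  obtain ⟨W₂, g₂, w₂, hg₂, e₂⟩ := germ_eq p G w₁ _ _ ht₁
  rw [← hay, ← hbx, ← hg₁, ← hg₂]
  simp only [← gten_res]
  rw [e₁, e₂]

lemma psi_add_left (m m' : ModSite.stalkAb p F) (n : ModSite.stalkAb p G) :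
    psi p F G (m + m') n = psi p F G m n + psi p F G m' n := by
  obtain ⟨U, x, s, t, rfl, rfl⟩ := exists_common p F G m n
  obtain ⟨V, y, s', rfl⟩ := exists_germ p F m'
  obtain ⟨W, w, a, b, rfl, rfl⟩ := exists_min p x y
  rw [← germ_sres p F a, ← germ_sres p G a, ← germ_sres p F b, ← germ_add, psi_germ, psi_germ, psi_germ]
  unfold gten secTmul
  erw [TensorProduct.add_tmul, map_add]
  exact germ_add p _ _ _ _ _

lemma psi_add_right (m : ModSite.stalkAb p F) (n n' : ModSite.stalkAb p G) :
    psi p F G m (n + n') = psi p F G m n + psi p F G m n' := by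
  obtain ⟨U, x, s, t, rfl, rfl⟩ := exists_common p F G m n
  obtain ⟨V, y, t', rfl⟩ := exists_germ p G n'
  obtain ⟨W, w, a, b, rfl, rfl⟩ := exists_min p x y
  rw [← germ_sres p F a, ← germ_sres p G a, ← germ_sres p G b, ← germ_add, psi_germ, psi_germ, psi_germ]
  unfold gten secTmul
  erw [TensorProduct.tmul_add, map_add]
  exact germ_add p _ _ _ _ _

lemma psi_smul_left (r : ModSite.stalkRing p O) (m : ModSite.stalkAb p F) (n : ModSite.stalkAb p G) :
    psi p F G (r • m) n = r • psi p F G m n := by
  obtain ⟨U, x, s, t, rfl, rfl⟩ := exists_common p F G m n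
  obtain ⟨V, y, a, rfl⟩ := p.toPresheafFiber_jointly_surjective (P := O.obj) r
  obtain ⟨W, w, g, k, rfl, rfl⟩ := exists_min p x y
  show psi p F G (ModSite.germRing p V (p.fiber.map k w) a • _) _ = ModSite.germRing p V (p.fiber.map k w) a • _
  rw [← germRing_res p O k, ← germ_sres p F g, ← germ_sres p G g, ← ModSite.germ_smul, psi_germ, psi_germ]
  unfold gten secTmul
  erw [← TensorProduct.smul_tmul', map_smul]
  exact ModSite.germ_smul p _ _ _ _ _

lemma psi_smul_right (r : ModSite.stalkRing p O) (m : ModSite.stalkAb p F) (n : ModSite.stalkAb p G) :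
    psi p F G m (r • n) = r • psi p F G m n := by
  obtain ⟨U, x, s, t, rfl, rfl⟩ := exists_common p F G m n
  obtain ⟨V, y, a, rfl⟩ := p.toPresheafFiber_jointly_surjective (P := O.obj) r
  obtain ⟨W, w, g, k, rfl, rfl⟩ := exists_min p x y
  show psi p F G _ (ModSite.germRing p V (p.fiber.map k w) a • _) = ModSite.germRing p V (p.fiber.map k w) a • _
  rw [← germRing_res p O k, ← germ_sres p F g, ← germ_sres p G g, ← ModSite.germ_smul, psi_germ, psi_germ]
  unfold gten secTmul
  erw [TensorProduct.tmul_smul, map_smul]
  exact ModSite.germ_smul p _ _ _ _ _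

/-- From the tensor product of stalks to the stalk of the tensor product. -/
noncomputable def stalksToTens :
    (stalkM p).obj F ⊗ (stalkM p).obj G ⟶ (stalkM p).obj (SiteTen.ten O F G) :=
  ModuleCat.MonoidalCategory.tensorLift (psi p F G) (psi_add_left p F G) (psi_smul_left p F G)
    (psi_add_right p F G) (psi_smul_right p F G)

/-- Sections of a tensor product to the skyscraper on the tensor product of stalks. -/
noncomputable def tensToSky : (ModSite.toPre O).obj F ⊗ (ModSite.toPre O).obj G ⟶
    (ModSite.toPre O).obj ((sky p).obj ((stalkM p).obj F ⊗ (stalkM p).obj G)) where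
  app U := ModuleCat.MonoidalCategory.tensorLift
    (M₁ := ((ModSite.toPre O).obj F).obj U) (M₂ := ((ModSite.toPre O).obj G).obj U)
    (fun s t => ((fun x => ModSite.germ p F U.unop x s ⊗ₜ[ModSite.stalkRing p O] ModSite.germ p G U.unop x t) :
      SkySec p ((stalkM p).obj F ⊗ (stalkM p).obj G) U))
    (fun s s' t => funext fun x => by
      show ModSite.germ p F U.unop x (s + s') ⊗ₜ[ModSite.stalkRing p O] ModSite.germ p G U.unop x t = _
      rw [germ_add]
      exact TensorProduct.add_tmul _ _ _)
    (fun r s t => funext fun x => by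
      show ModSite.germ p F U.unop x (r • s) ⊗ₜ[ModSite.stalkRing p O] ModSite.germ p G U.unop x t = _
      rw [ModSite.germ_smul]
      exact (TensorProduct.smul_tmul' _ _ _).symm)
    (fun s t t' => funext fun x => by
      show ModSite.germ p F U.unop x s ⊗ₜ[ModSite.stalkRing p O] ModSite.germ p G U.unop x (t + t') = _
      rw [germ_add]
      exact TensorProduct.tmul_add _ _ _)
    (fun r s t => funext fun x => by
      show ModSite.germ p F U.unop x s ⊗ₜ[ModSite.stalkRing p O] ModSite.germ p G U.unop x (r • t) = _
      rw [ModSite.germ_smul]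
      exact TensorProduct.tmul_smul _ _ _)
  naturality {U V} i := ModuleCat.MonoidalCategory.tensor_ext fun s t => funext fun x => by
    show ModSite.germ p F V.unop x (F.val.map i.unop.op s) ⊗ₜ[ModSite.stalkRing p O]
      ModSite.germ p G V.unop x (G.val.map i.unop.op t) = _
    rw [germ_sres, germ_sres]
    rfl

/-- From the stalk of the tensor product to the tensor product of stalks. -/
noncomputable def tensToStalks :
    (stalkM p).obj (SiteTen.ten O F G) ⟶ (stalkM p).obj F ⊗ (stalkM p).obj G :=
  descSky p (((SiteTen.shAdj O).homEquiv _ _).symm (tensToSky p F G))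

lemma tensToStalks_gten {U : C} (x : p.fiber.obj U) (s : ModSite.sect F U) (t : ModSite.sect G U) :
    tensToStalks p F G (gten p F G x s t) =
      ModSite.germ p F U x s ⊗ₜ[ModSite.stalkRing p O] ModSite.germ p G U x t := by
  refine (descSkyAdd_germ p _ U x _).trans ?_
  have h := ((SiteTen.shAdj O).homEquiv _ _).apply_symm_apply (tensToSky p F G)
  rw [Adjunction.homEquiv_unit] at h
  exact congrFun (ConcreteCategory.congr_hom (congrArg (fun k => PresheafOfModules.Hom.app k (op U)) h)
    (TensorProduct.tmul (O.obj.obj (op U)) s t)) x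

lemma stalksToTens_tensToStalks : stalksToTens p F G ≫ tensToStalks p F G = 𝟙 _ :=
  ModuleCat.MonoidalCategory.tensor_ext fun m n => by
    obtain ⟨U, x, s, t, rfl, rfl⟩ := exists_common p F G m n
    show tensToStalks p F G (psi p F G _ _) = _
    rw [psi_germ, tensToStalks_gten]
    rfl

lemma tensToStalks_stalksToTens : tensToStalks p F G ≫ stalksToTens p F G = 𝟙 _ := by
  refine ((stalkAdj p).homEquiv _ _).injective ?_
  refine ((SiteTen.shAdj O).homEquiv _ _).injective ?_
  refine PresheafOfModules.hom_ext fun U => ModuleCat.MonoidalCategory.tensor_ext fun s t => funext fun x => ?_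
  show stalksToTens p F G (tensToStalks p F G (gten p F G x s t)) = gten p F G x s t
  rw [tensToStalks_gten]
  exact psi_germ p F G x s t

/-- The stalk of a tensor product is the tensor product of the stalks. -/
noncomputable def stalkTensorIso :
    (stalkM p).obj (SiteTen.ten O F G) ≅ (stalkM p).obj F ⊗ (stalkM p).obj G where
  hom := tensToStalks p F G
  inv := stalksToTens p F G
  hom_inv_id := tensToStalks_stalksToTens p F G
  inv_hom_id := stalksToTens_tensToStalks p F G

variable {F G}

lemma stalkTensorIso_natural_left {F' : ModSite.Mod O} (f : F ⟶ F') (G : ModSite.Mod O) :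
    (stalkM p).map (((ModSite.tensorBi O).map f).app G) ≫ (stalkTensorIso p F' G).hom =
      (stalkTensorIso p F G).hom ≫ ((stalkM p).map f ▷ (stalkM p).obj G) := by
  rw [← cancel_epi (stalkTensorIso p F G).inv, Iso.inv_hom_id_assoc]
  refine ModuleCat.MonoidalCategory.tensor_ext fun m n => ?_
  obtain ⟨U, x, s, t, rfl, rfl⟩ := exists_common p F G m n
  show tensToStalks p F' G ((stalkM p).map (((ModSite.tensorBi O).map f).app G) (psi p F G _ _)) = _
  rw [psi_germ]
  unfold gten
  rw [stalkM_map_germ]
  have h : (((ModSite.tensorBi O).map f).app G).val.app (op U) (secTmul F G s t) =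
      secTmul F' G (f.val.app (op U) s) t :=
    (ConcreteCategory.congr_hom (congrArg (fun k => PresheafOfModules.Hom.app k (op U))
      ((SiteTen.shAdj O).unit.naturality ((ModSite.toPre O).map f ▷ (ModSite.toPre O).obj G)))
      (TensorProduct.tmul (O.obj.obj (op U)) s t)).symm
  refine (congrArg (fun z => tensToStalks p F' G (ModSite.germ p (SiteTen.ten O F' G) U x z)) h).trans ?_
  refine (tensToStalks_gten p F' G x (f.val.app (op U) s) t).trans ?_
  exact congrArg (fun z => z ⊗ₜ[ModSite.stalkRing p O] ModSite.germ p G U x t) (stalkM_map_germ p f U x s).symm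

end Groth.Agent.HTop16.SiteStalk
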