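import Groth.Agent.FModLib.LocalHom
import Groth.Agent.HTop16.SiteStalkSpace
import Groth.Agent.HTop16.SiteStalkTensor
import Mathlib.LinearAlgebra.Finsupp.LinearCombination
import Mathlib.LinearAlgebra.Quotient.Basic
import Mathlib.Topology.Sheaves.Points

/-!
# Generating sections of modules on ringed spaces, in terms of germs

A family of sections of a module over an open generates the restriction of the module to that open
iff its germs generate the stalks at the points of the open. This gives elementwise descriptions of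
local generation and of finite type.
-/

set_option autoImplicit false
set_option backward.isDefEq.respectTransparency false
set_option backward.isDefEq.respectTransparency.types false
set_option linter.all false

universe u

open CategoryTheory CategoryTheory.Limits Opposite TopologicalSpace
open Groth.Agent.DerCompLib Groth.Agent.FModLib

namespace Groth.Agent.HTop16.LocGen

variable {T : TopCat.{u}} {O : Sheaf (Opens.grothendieckTopology T) CommRingCat.{u}}

/-- The point of the site of opens at a point of the space. -/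
noncomputable abbrev pt (x : T) : GrothendieckTopology.Point.{u} (Opens.grothendieckTopology T) :=
  Opens.pointGrothendieckTopology x

variable (O) in
/-- The stalk of the structure sheaf. -/
noncomputable abbrev Rx (x : T) : CommRingCat.{u} := ModSite.stalkRing (pt x) O

/-- The stalk of a module. -/
noncomputable abbrev Stk (x : T) (M : ModSite.Mod O) : ModuleCat.{u} (Rx O x) :=
  ModSite.stalkMod (pt x) M

/-- The germ of a section at a point. -/
noncomputable def gm (M : ModSite.Mod O) {U : Opens T} (x : T) (hx : x ∈ U) : Sec M U →+ Stk x M where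
  toFun s := ModSite.germ (pt x) M U ⟨⟨hx⟩⟩ s
  map_zero' := map_zero ((pt x).toPresheafFiber U ⟨⟨hx⟩⟩ (ModSite.toAb M).obj).hom
  map_add' a b := map_add ((pt x).toPresheafFiber U ⟨⟨hx⟩⟩ (ModSite.toAb M).obj).hom a b

/-- The germ of a function at a point. -/
noncomputable def gr {U : Opens T} (x : T) (hx : x ∈ U) : O.obj.obj (op U) →+* Rx O x :=
  ((pt x).toPresheafFiber U ⟨⟨hx⟩⟩ O.obj).hom

lemma gm_smul (M : ModSite.Mod O) {U : Opens T} (x : T) (hx : x ∈ U) (r : O.obj.obj (op U))
    (s : Sec M U) : gm M x hx (r • s) = gr x hx r • gm M x hx s :=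
  ModSite.germ_smul (pt x) M U ⟨⟨hx⟩⟩ r s

lemma gm_res (M : ModSite.Mod O) {U V : Opens T} (i : V ≤ U) (x : T) (hx : x ∈ V) (s : Sec M U) :
    gm M x hx (mRes M i s) = gm M x (i hx) s :=
  SiteStalk.germ_res (pt x) M (homOfLE i) ⟨⟨hx⟩⟩ s

lemma gr_res {U V : Opens T} (i : V ≤ U) (x : T) (hx : x ∈ V) (r : O.obj.obj (op U)) :
    gr x hx (oRes O i r) = gr (O := O) x (i hx) r :=
  SiteStalk.germRing_res (pt x) O (homOfLE i) ⟨⟨hx⟩⟩ r

lemma exists_gm (M : ModSite.Mod O) (x : T) (m : Stk x M) :
    ∃ (U : Opens T) (hx : x ∈ U) (s : Sec M U), gm M x hx s = m := by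
  obtain ⟨U, ⟨⟨hx⟩⟩, s, hs⟩ := SiteStalk.exists_germ (pt x) M m
  exact ⟨U, hx, s, hs⟩

lemma exists_gr (x : T) (r : Rx O x) :
    ∃ (U : Opens T) (hx : x ∈ U) (a : O.obj.obj (op U)), gr x hx a = r := by
  obtain ⟨U, ⟨⟨hx⟩⟩, a, ha⟩ := (pt x).toPresheafFiber_jointly_surjective (P := O.obj) r
  exact ⟨U, hx, a, ha⟩

lemma gm_eq (M : ModSite.Mod O) {U : Opens T} (x : T) (hx : x ∈ U) (s t : Sec M U)
    (h : gm M x hx s = gm M x hx t) :
    ∃ (W : Opens T) (i : W ≤ U), x ∈ W ∧ mRes M i s = mRes M i t := by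
  obtain ⟨W, g, ⟨⟨hw⟩⟩, -, e⟩ := SiteStalk.germ_eq (pt x) M (U := U) ⟨⟨hx⟩⟩ s t h
  exact ⟨W, leOfHom g, hw, e⟩

lemma stalkM_map_gm {M N : ModSite.Mod O} (q : M ⟶ N) {U : Opens T} (x : T) (hx : x ∈ U)
    (s : Sec M U) : (SiteStalk.stalkM (pt x)).map q (gm M x hx s) = gm N x hx (secMap q U s) :=
  SiteStalk.stalkM_map_germ (pt x) q U ⟨⟨hx⟩⟩ s

lemma mRes_self (M : ModSite.Mod O) {U : Opens T} (s : Sec M U) : mRes M (le_refl U) s = s :=
  ConcreteCategory.congr_hom (M.val.presheaf.map_id (op U)) s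

lemma oRes_oRes {U V W : Opens T} (i : V ≤ U) (j : W ≤ V) (r : O.obj.obj (op U)) :
    oRes O j (oRes O i r) = oRes O (j.trans i) r := by
  refine (ConcreteCategory.comp_apply (O.obj.map (homOfLE i).op) (O.obj.map (homOfLE j).op) r).symm.trans ?_
  rw [← O.obj.map_comp]
  rfl

/-- Sections with the same germs agree. -/
lemma sec_ext_gm (M : ModSite.Mod O) {U : Opens T} (s t : Sec M U)
    (h : ∀ (x : T) (hx : x ∈ U), gm M x hx s = gm M x hx t) : s = t := by
  choose W i hW e using fun (p : {x : T // x ∈ U}) => gm_eq M p.1 p.2 s t (h p.1 p.2)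
  refine DerCompLib.sec_ext M (Sieve.ofArrows W fun p => homOfLE (i p)) ?_ s t ?_
  · intro x hx
    exact ⟨W ⟨x, hx⟩, homOfLE (i ⟨x, hx⟩), Sieve.ofArrows_mk _ _ _, hW ⟨x, hx⟩⟩
  · intro V k hk
    obtain ⟨p, a, rfl⟩ := (Sieve.mem_ofArrows_iff _ _ _).1 hk
    have e' := congrArg (secRes M a) (e p)
    rw [secRes_comp, secRes_comp] at e'
    exact e'

/-- A common neighbourhood of finitely many opens around a point. -/
lemma exists_inter {I : Type*} [Finite I] (W : I → Opens T) (U : Opens T) (x : T) (hx : x ∈ U)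
    (hW : ∀ i, x ∈ W i) : ∃ (V : Opens T) (h : V ≤ U), x ∈ V ∧ ∀ i, V ≤ W i :=
  ⟨U ⊓ ⟨⋂ i, (W i : Set T), isOpen_iInter_of_finite fun i => (W i).2⟩, inf_le_left,
    ⟨hx, Set.mem_iInter.2 hW⟩, fun i => inf_le_right.trans fun y hy => Set.mem_iInter.1 hy i⟩

/-- A family of sections whose germs generate the stalks. -/
def Spans (M : ModSite.Mod O) {U : Opens T} {I : Type*} (s : I → Sec M U) : Prop :=
  ∀ (x : T) (hx : x ∈ U), Submodule.span (Rx O x) (Set.range fun i => gm M x hx (s i)) = ⊤

lemma Spans.res {M : ModSite.Mod O} {U : Opens T} {I : Type*} {s : I → Sec M U} (hs : Spans M s)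
    {V : Opens T} (i : V ≤ U) : Spans M fun k => mRes M i (s k) := fun x hx => by
  rw [← hs x (i hx)]
  exact congrArg (fun f => Submodule.span (Rx O x) (Set.range f)) (funext fun k => gm_res M i x hx (s k))

/-- A germ in the span of germs is a combination on a neighbourhood. -/
lemma exists_comb {M : ModSite.Mod O} {U : Opens T} {I : Type*} (s : I → Sec M U) {V : Opens T}
    (i : V ≤ U) (b : Sec M V) (x : T) (hx : x ∈ V)
    (h : gm M x hx b ∈ Submodule.span (Rx O x) (Set.range fun k => gm M x (i hx) (s k))) :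
    ∃ (W : Opens T) (j : W ≤ V), x ∈ W ∧ ∃ (t : Finset I) (c : I → O.obj.obj (op W)),
      ∑ k ∈ t, c k • mRes M (j.trans i) (s k) = mRes M j b := by
  classical
  obtain ⟨f, hf⟩ := Finsupp.mem_span_range_iff_exists_finsupp.1 h
  choose W hW a ha using fun k : I => exists_gr (O := O) x (f k)
  obtain ⟨W', j, hxW', hle⟩ := exists_inter (fun k : ↥f.support => W k) V x hx fun k => hW k
  let c : I → O.obj.obj (op W') := fun k =>
    if hk : k ∈ f.support then oRes O (hle ⟨k, hk⟩) (a k) else 0
  have e : gm M x hxW' (∑ k ∈ f.support, c k • mRes M (j.trans i) (s k)) =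
      gm M x hxW' (mRes M j b) := by
    rw [map_sum, gm_res, ← hf, Finsupp.sum]
    refine Finset.sum_congr rfl fun k hk => ?_
    rw [gm_smul, gm_res]
    simp only [c, dif_pos hk]
    rw [gr_res, ha]
  obtain ⟨W'', j', hxW'', e'⟩ := gm_eq M x hxW' _ _ e
  refine ⟨W'', j'.trans j, hxW'', f.support, fun k => oRes O j' (c k), ?_⟩
  rw [← mRes_mRes j j', ← e', map_sum]
  refine Finset.sum_congr rfl fun k _ => ?_
  rw [mRes_smul, mRes_mRes]

/-- Combinations of finitely many sections on a neighbourhood. -/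
lemma exists_comb_fintype {M : ModSite.Mod O} {U : Opens T} {I : Type*} [Fintype I]
    (s : I → Sec M U) {V : Opens T}
    (i : V ≤ U) (b : Sec M V) (x : T) (hx : x ∈ V)
    (h : gm M x hx b ∈ Submodule.span (Rx O x) (Set.range fun k => gm M x (i hx) (s k))) :
    ∃ (W : Opens T) (j : W ≤ V), x ∈ W ∧ ∃ c : I → O.obj.obj (op W),
      ∑ k, c k • mRes M (j.trans i) (s k) = mRes M j b := by
  classical
  obtain ⟨W, j, hxW, t, c, hc⟩ := exists_comb s i b x hx h
  refine ⟨W, j, hxW, fun k => if k ∈ t then c k else 0, ?_⟩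
  rw [← hc]
  simp [ite_smul, Finset.sum_ite_mem]

/-- Local combinations generate the stalks. -/
lemma spans_of_comb {M : ModSite.Mod O} {U : Opens T} {I : Type*} [Fintype I] (s : I → Sec M U)
    (h : ∀ (V : Opens T) (i : V ≤ U) (b : Sec M V) (x : T), x ∈ V →
      ∃ (W : Opens T) (j : W ≤ V), x ∈ W ∧ ∃ c : I → O.obj.obj (op W),
        ∑ k, c k • mRes M (j.trans i) (s k) = mRes M j b) : Spans M s := by
  intro x hx
  refine top_unique fun m _ => ?_
  obtain ⟨V, hxV, b, rfl⟩ := exists_gm M x m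
  obtain ⟨W, j, hxW, c, hc⟩ := h (V ⊓ U) inf_le_right (mRes M inf_le_left b) x ⟨hxV, hx⟩
  have := congrArg (gm M x hxW) hc
  rw [gm_res, gm_res, map_sum] at this
  rw [← this]
  refine Submodule.sum_mem _ fun k _ => ?_
  rw [gm_smul, gm_res]
  exact Submodule.smul_mem _ _ (Submodule.subset_span ⟨k, rfl⟩)

section Restr

variable {U : Opens T}

/-- A section on the top object of the restriction is a section on the open. -/
noncomputable abbrev atTop {M : ModSite.Mod O} (t : ((ModSite.restr O U).obj M).sections) : Sec M U :=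
  topOf t

/-- Generating sections generate the stalks. -/
theorem spans_of_gen {M : ModSite.Mod O}
    (σ : SheafOfModules.GeneratingSections ((ModSite.restr O U).obj M)) :
    Spans M fun k => atTop (σ.s k) := by
  intro x hx
  let N := Submodule.span (Rx O x) (Set.range fun k => gm M x hx (atTop (σ.s k)))
  let q : Stk x M ⟶ ModuleCat.of (Rx O x) (Stk x M ⧸ N) := ModuleCat.ofHom N.mkQ
  let ψ := SiteStalk.toSky (pt x) (F := M) q
  haveI := σ.epi
  have h0 : (ModSite.restr O U).map ψ = 0 := by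
    rw [← cancel_epi σ.π, comp_zero]
    refine free_hom_ext_top fun k => ?_
    rw [imgVec_zero, imgVec_comp, imgVec_eq]
    funext y
    have hk : (((ModSite.restr O U).obj M).freeHomEquiv σ.π k).val (op (ovTop U)) = atTop (σ.s k) :=
      congrArg (fun s : ((ModSite.restr O U).obj M).sections => s.val (op (ovTop U)))
        (congrFun (((ModSite.restr O U).obj M).freeHomEquiv.apply_symm_apply _) k)
    rw [hk]
    exact (Submodule.Quotient.mk_eq_zero N).2 (Submodule.subset_span ⟨k, rfl⟩)
  refine top_unique fun m _ => ?_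
  obtain ⟨V, hxV, b, rfl⟩ := exists_gm M x m
  rw [← gm_res M (inf_le_left : V ⊓ U ≤ V) x ⟨hxV, hx⟩ b, ← Submodule.Quotient.mk_eq_zero N]
  exact congrFun (congrArg (fun φ => secMap φ (ov (inf_le_right : V ⊓ U ≤ U))
    (mRes M (inf_le_left : V ⊓ U ≤ V) b)) h0) ⟨⟨⟨hxV, hx⟩⟩⟩

/-- Sections whose germs generate the stalks generate the restriction. -/
theorem epi_of_spans {M : ModSite.Mod O} {I : Type u} (s : I → Sec M U) (hs : Spans M s) :
    Epi (((ModSite.restr O U).obj M).freeHomEquiv.symm
      fun k => mkSec ((ModSite.restr O U).obj M) (s k)) := by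
  refine epi_of_locally _ fun V b => ?_
  choose W j hW t c hc using fun (p : {x : T // x ∈ V.left}) =>
    exists_comb s (leOfHom V.hom) (b : Sec M V.left) p.1 p.2
      (by rw [hs p.1 (leOfHom V.hom p.2)]; trivial)
  let W' : {x : T // x ∈ V.left} → Over U := fun p => ov ((j p).trans (leOfHom V.hom))
  let k : ∀ p, W' p ⟶ V := fun p => Over.homMk (homOfLE (j p))
  refine ⟨Sieve.ofArrows W' k, ?_, fun Z z hz => ?_⟩
  · rw [GrothendieckTopology.mem_over_iff]
    intro x hx
    refine ⟨W ⟨x, hx⟩, homOfLE (j ⟨x, hx⟩), ?_, hW ⟨x, hx⟩⟩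
    show (Sieve.overEquiv V) _ (homOfLE (j ⟨x, hx⟩))
    rw [Sieve.overEquiv_iff]
    exact Sieve.ofArrows_mk W' k ⟨x, hx⟩
  · obtain ⟨p, a, rfl⟩ := (Sieve.mem_ofArrows_iff _ _ _).1 hz
    refine ⟨secRes _ a (∑ l ∈ t p, c p l • freeVec (O.over U) l (W' p)), ?_⟩
    rw [secMap_secRes', ← secRes_comp]
    refine congrArg (secRes _ a) ?_
    refine Eq.trans ?_ (hc p)
    rw [map_sum]
    refine Finset.sum_congr rfl fun l _ => ?_
    rw [map_smul]
    exact congrArg (c p l • ·) (imgVec_mkSec ((ModSite.restr O U).obj M) s (W' p) l)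

/-- Generators from sections whose germs generate the stalks. -/
noncomputable def genOfSpans {M : ModSite.Mod O} {I : Type u} (s : I → Sec M U) (hs : Spans M s) :
    SheafOfModules.GeneratingSections ((ModSite.restr O U).obj M) where
  I := I
  s k := mkSec ((ModSite.restr O U).obj M) (s k)
  epi := epi_of_spans s hs

end Restr

/-- Finite type, elementwise. -/
def FT (M : ModSite.Mod O) : Prop :=
  ∀ x : T, ∃ (U : Opens T) (n : ℕ) (s : Fin n → Sec M U), x ∈ U ∧ Spans M s

theorem ft_of_isFiniteType (M : ModSite.Mod O)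
    [h : SheafOfModules.IsFiniteType (R := ModSite.ringSh O) M] : FT M := by
  obtain ⟨σ, hσ⟩ := h.exists_localGeneratorsData
  intro x
  obtain ⟨W, g, ⟨i, ⟨k⟩⟩, hxW⟩ := σ.coversTop ⊤ x trivial
  haveI := hσ.isFiniteType i
  haveI : Finite (σ.generators i).I := SheafOfModules.GeneratingSections.IsFiniteType.finite
  obtain ⟨n, ⟨e⟩⟩ := Finite.exists_equiv_fin (σ.generators i).I
  refine ⟨σ.X i, n, fun l => atTop ((σ.generators i).s (e.symm l)), leOfHom k hxW, fun y hy => ?_⟩
  rw [← spans_of_gen (σ.generators i) y hy]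
  congr 1
  exact (e.symm.surjective.range_comp (fun l => gm M y hy (atTop ((σ.generators i).s l))))

lemma coversTop_of_mem {I : Type*} (X : I → Opens T) (h : ∀ x : T, ∃ i, x ∈ X i) :
    (Opens.grothendieckTopology T).CoversTop X := by
  intro V x hx
  obtain ⟨i, hi⟩ := h x
  exact ⟨V ⊓ X i, homOfLE inf_le_left, ⟨i, ⟨homOfLE inf_le_right⟩⟩, hx, hi⟩

theorem isFiniteType_of_ft {M : ModSite.Mod O} (h : FT M) :
    SheafOfModules.IsFiniteType (R := ModSite.ringSh O) M := by
  choose U n s hxU hs using h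
  let gens : ∀ x : T, SheafOfModules.GeneratingSections ((ModSite.restr O (U x)).obj M) := fun x =>
    genOfSpans (fun k : ULift.{u} (Fin (n x)) => s x k.down) (fun y hy => by
      rw [← hs x y hy]
      congr 1
      exact Equiv.ulift.surjective.range_comp (fun l => gm M y hy (s x l)))
  let σ : SheafOfModules.LocalGeneratorsData.{u} (R := ModSite.ringSh O) M :=
    { I := ↥T
      X := U
      coversTop := coversTop_of_mem U fun x => ⟨x, hxU x⟩
      generators := gens }
  haveI hfin : σ.IsFiniteType :=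
    { isFiniteType := fun (x : ↥T) => { finite := (inferInstance : Finite (ULift.{u} (Fin (n x)))) } }
  exact { exists_localGeneratorsData := ⟨σ, hfin⟩ }

theorem isFiniteType_iff_ft (M : ModSite.Mod O) :
    SheafOfModules.IsFiniteType (R := ModSite.ringSh O) M ↔ FT M :=
  ⟨fun h => ft_of_isFiniteType M (h := h), isFiniteType_of_ft⟩

/-- Local generation, elementwise. -/
def LG (M : ModSite.Mod O) : Prop :=
  ∀ x : T, ∃ (U : Opens T) (I : Type u) (s : I → Sec M U), x ∈ U ∧ Spans M s

theorem lg_iff (M : ModSite.Mod O) :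
    Nonempty (SheafOfModules.LocalGeneratorsData.{u} (R := ModSite.ringSh O) M) ↔ LG M := by
  refine ⟨fun ⟨σ⟩ x => ?_, fun h => ?_⟩
  · obtain ⟨W, g, ⟨i, ⟨k⟩⟩, hxW⟩ := σ.coversTop ⊤ x trivial
    exact ⟨σ.X i, _, _, leOfHom k hxW, spans_of_gen (σ.generators i)⟩
  · choose U I s hxU hs using h
    exact ⟨{ I := ↥T, X := U, coversTop := coversTop_of_mem U fun x => ⟨x, hxU x⟩,
             generators := fun x => genOfSpans (s x) (hs x) }⟩

end Groth.Agent.HTop16.LocGen
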