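import Groth.Agent.HTop16.SiteStalk
import Mathlib.Algebra.Category.ModuleCat.ChangeOfRings
import Mathlib.Topology.Sheaves.Points
import Mathlib.Topology.Category.TopCat.Opens
import Mathlib.RingTheory.RingHom.Flat

/-!
# Stalks of inverse images of modules on ringed sites

If a point `q` of the target is the image of a point `p` of the source, the stalk at `p` of the
inverse image of a module is the extension of scalars of its stalk at `q`.
-/

set_option autoImplicit false
set_option backward.isDefEq.respectTransparency false
set_option backward.isDefEq.respectTransparency.types false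
set_option linter.all false

universe u

open CategoryTheory CategoryTheory.Limits Opposite

namespace Groth.Agent.HTop16.SiteStalk

variable {C D : Type u} [SmallCategory C] [SmallCategory D] {J : GrothendieckTopology C}
  {K : GrothendieckTopology D} {O_C : Sheaf J CommRingCat.{u}} {O_D : Sheaf K CommRingCat.{u}}
  (f : ModSite.RMor O_C O_D) (p : GrothendieckTopology.Point.{u} J) (q : GrothendieckTopology.Point.{u} K)
  (e : q.fiber ≅ f.fn ⋙ p.fiber)

/-- The map of stalks of the structure sheaves. -/
noncomputable def stalkRingMap : ModSite.stalkRing q O_D ⟶ ModSite.stalkRing p O_C :=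
  q.presheafFiberDesc
    (fun V y => f.sharp.hom.app (op V) ≫ p.toPresheafFiber (f.fn.obj V) (e.hom.app V y) O_C.obj)
    (fun V W g y => by
      refine CommRingCat.hom_ext (RingHom.ext fun r => ?_)
      show ModSite.germRing (O := O_C) p (f.fn.obj V) (e.hom.app V y) (f.sharp.hom.app (op V) (O_D.obj.map g.op r)) = _
      have h : f.sharp.hom.app (op V) (O_D.obj.map g.op r) =
          O_C.obj.map (f.fn.map g).op (f.sharp.hom.app (op W) r) :=
        ConcreteCategory.congr_hom (f.sharp.hom.naturality g.op) r
      rw [h]
      refine (germRing_res p O_C (f.fn.map g) (e.hom.app V y) _).trans ?_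
      exact congrArg (fun z => ModSite.germRing (O := O_C) p (f.fn.obj W) z (f.sharp.hom.app (op W) r))
        (NatTrans.naturality_apply e.hom g y).symm)

lemma stalkRingMap_germ (V : D) (y : q.fiber.obj V) (r : O_D.obj.obj (op V)) :
    (stalkRingMap f p q e).hom (ModSite.germRing q V y r) =
      ModSite.germRing p (f.fn.obj V) (e.hom.app V y) ((f.sharp.hom.app (op V)).hom r) := by
  show (q.toPresheafFiber V y O_D.obj ≫ stalkRingMap f p q e).hom r = _
  simp only [stalkRingMap, GrothendieckTopology.Point.toPresheafFiber_presheafFiberDesc]
  rfl

/-- Sections of a pushed forward skyscraper. -/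
noncomputable def skyPushApp (A : ModuleCat.{u} (ModSite.stalkRing p O_C)) (V : Dᵒᵖ) :
    (f.push.obj ((sky p).obj A)).val.obj V ≅
      ((sky q).obj ((ModuleCat.restrictScalars (stalkRingMap f p q e).hom).obj A)).val.obj V :=
  LinearEquiv.toModuleIso
    (X₁ := (f.push.obj ((sky p).obj A)).val.obj V)
    (X₂ := ((sky q).obj ((ModuleCat.restrictScalars (stalkRingMap f p q e).hom).obj A)).val.obj V)
    { toFun := fun (s : SkySec p A (op (f.fn.obj V.unop))) =>
        ((fun y => s (e.hom.app V.unop y)) :
          SkySec q ((ModuleCat.restrictScalars (stalkRingMap f p q e).hom).obj A) V)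
      map_add' := fun _ _ => rfl
      map_smul' := fun r s => funext fun y => by
        show ModSite.germRing p (f.fn.obj V.unop) (e.hom.app V.unop y) ((f.sharp.hom.app V).hom r) •
            (s : SkySec p A (op (f.fn.obj V.unop))) (e.hom.app V.unop y) =
          (stalkRingMap f p q e).hom (ModSite.germRing q V.unop y r) •
            (s : SkySec p A (op (f.fn.obj V.unop))) (e.hom.app V.unop y)
        rw [stalkRingMap_germ]
      invFun := fun (s : SkySec q ((ModuleCat.restrictScalars (stalkRingMap f p q e).hom).obj A) V) =>
        ((fun x => s (e.inv.app V.unop x)) : SkySec p A (op (f.fn.obj V.unop)))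
      left_inv := fun (s : SkySec p A (op (f.fn.obj V.unop))) => funext fun x =>
        congrArg s (ConcreteCategory.congr_hom (e.inv_hom_id_app V.unop) x)
      right_inv := fun (s : SkySec q ((ModuleCat.restrictScalars (stalkRingMap f p q e).hom).obj A) V) =>
        funext fun y => congrArg s (ConcreteCategory.congr_hom (e.hom_inv_id_app V.unop) y) }

/-- The push-forward of a skyscraper is a skyscraper. -/
noncomputable def skyPushIso :
    sky p ⋙ f.push ≅ ModuleCat.restrictScalars (stalkRingMap f p q e).hom ⋙ sky q :=
  NatIso.ofComponents
    (fun A => (SheafOfModules.fullyFaithfulForget _).preimageIso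
      (PresheafOfModules.isoMk (fun V => skyPushApp f p q e A V)
        (fun V W i => ModuleCat.hom_ext (LinearMap.ext fun (s : SkySec p A (op (f.fn.obj V.unop))) => funext fun y =>
          congrArg s (NatTrans.naturality_apply e.hom i.unop y).symm))))
    (fun {A B} g => (SheafOfModules.fullyFaithfulForget _).map_injective (by
      simp only [Functor.map_comp, Functor.FullyFaithful.map_preimage, Functor.FullyFaithful.preimageIso_hom]
      rfl))

/-- The stalk of an inverse image is the extension of scalars of the stalk. -/
noncomputable def pullStalkIso :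
    f.pull ⋙ stalkM p ≅ stalkM q ⋙ ModuleCat.extendScalars (stalkRingMap f p q e).hom :=
  ((f.adj.comp (stalkAdj p)).ofNatIsoRight (skyPushIso f p q e)).leftAdjointUniq
    ((stalkAdj q).comp (ModuleCat.extendRestrictScalarsAdj (stalkRingMap f p q e).hom))

/-- Extension of scalars along a flat ring map preserves monomorphisms. -/
theorem preservesMonomorphisms_extendScalars {R S : Type u} [CommRing R] [CommRing S] (φ : R →+* S)
    (hφ : φ.Flat) : (ModuleCat.extendScalars.{u, u, u} φ).PreservesMonomorphisms where
  preserves {M N} g hg := by
    letI := φ.toAlgebra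
    haveI : Module.Flat R S := hφ
    rw [ModuleCat.mono_iff_injective]
    rw [ModuleCat.mono_iff_injective] at hg
    exact Module.Flat.lTensor_preserves_injective_linearMap (R := R) (M := S) g.hom hg

/-- The point of the space above which a point lies. -/
noncomputable def opensPointIso {X Y : TopCat.{u}} (g : X ⟶ Y) (x : X) :
    (Opens.pointGrothendieckTopology (g x)).fiber ≅
      TopologicalSpace.Opens.map g ⋙ (Opens.pointGrothendieckTopology x).fiber :=
  NatIso.ofComponents (fun V => Iso.refl _) (fun _ => rfl)

end Groth.Agent.HTop16.SiteStalk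

namespace Groth.Agent.HTop16.SiteStalk

open scoped ChangeOfRings TensorProduct

variable {C D : Type u} [SmallCategory C] [SmallCategory D] {J : GrothendieckTopology C}
  {K : GrothendieckTopology D} {O_C : Sheaf J CommRingCat.{u}} {O_D : Sheaf K CommRingCat.{u}}
  (f : ModSite.RMor O_C O_D) (p : GrothendieckTopology.Point.{u} J) (q : GrothendieckTopology.Point.{u} K)
  (e : q.fiber ≅ f.fn ⋙ p.fiber)

/-- The stalk of the inverse image on germs of pulled back sections. -/
lemma pullStalkIso_germ (M : ModSite.Mod O_D) {V : D} (y : q.fiber.obj V) (s : ModSite.sect M V) :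
    ((pullStalkIso f p q e).hom.app M).hom
        (ModSite.germ p (f.pull.obj M) (f.fn.obj V) (e.hom.app V y) (((f.adj.unit.app M).val.app (op V)).hom s)) =
      ((ModuleCat.extendRestrictScalarsAdj (stalkRingMap f p q e).hom).unit.app ((stalkM q).obj M)).hom
        (ModSite.germ q M V y s) := by
  have h := Adjunction.homEquiv_leftAdjointUniq_hom_app ((f.adj.comp (stalkAdj p)).ofNatIsoRight (skyPushIso f p q e))
    ((stalkAdj q).comp (ModuleCat.extendRestrictScalarsAdj (stalkRingMap f p q e).hom)) M
  rw [Adjunction.homEquiv_unit, Adjunction.comp_unit_app] at h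
  have h' := congrArg (fun k : M ⟶ _ => ((k.val.app (op V)).hom s : SkySec q _ (op V)) y) h
  exact h'

end Groth.Agent.HTop16.SiteStalk
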