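import Groth.Agent.HTop16.LocGen
import Groth.Agent.HTop16.SiteStalkPull

/-!
# Local generation under inverse and direct images of ringed spaces
-/

set_option autoImplicit false
set_option backward.isDefEq.respectTransparency false
set_option backward.isDefEq.respectTransparency.types false
set_option linter.all false

universe u

open CategoryTheory CategoryTheory.Limits Opposite TopologicalSpace
open Groth.Agent.DerCompLib Groth.Agent.FModLib
open scoped ChangeOfRings TensorProduct

namespace Groth.Agent.HTop16.LocGen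

variable {X Y : TopCat.{u}} (f : X ⟶ Y)
  {OX : Sheaf (Opens.grothendieckTopology X) CommRingCat.{u}}
  {OY : Sheaf (Opens.grothendieckTopology Y) CommRingCat.{u}}
  (c : OY ⟶ ((Opens.map f).sheafPushforwardContinuous CommRingCat.{u}
    (Opens.grothendieckTopology Y) (Opens.grothendieckTopology X)).obj OX)

/-- The morphism of ringed sites of opens. -/
noncomputable abbrev rmor : ModSite.RMor OX OY := ModSite.RMor.ofFlat (Opens.map f) c

/-- The pull back of a section. -/
noncomputable abbrev pullSec (M : ModSite.Mod OY) {V : Opens Y} (s : Sec M V) :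
    Sec ((rmor f c).pull.obj M) ((Opens.map f).obj V) :=
  (((rmor f c).adj.unit.app M).val.app (op V)).hom s

/-- Pull backs of generators generate. -/
theorem spans_pullSec {M : ModSite.Mod OY} {V : Opens Y} {I : Type*} {s : I → Sec M V}
    (hs : Spans M s) : Spans ((rmor f c).pull.obj M) fun k => pullSec f c M (s k) := by
  intro x hx
  let φ := SiteStalk.stalkRingMap (rmor f c) (pt x) (pt (f x)) (SiteStalk.opensPointIso f x)
  let E := ((SiteStalk.pullStalkIso (rmor f c) (pt x) (pt (f x))
    (SiteStalk.opensPointIso f x)).app M).toLinearEquiv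
  letI := φ.hom.toAlgebra
  have hE : ∀ k, E (gm _ x hx (pullSec f c M (s k))) =
      ((1 : Rx OX x) ⊗ₜ[Rx OY (f x)] gm M (f x) hx (s k) :
        ((ModuleCat.extendScalars φ.hom).obj ((SiteStalk.stalkM (pt (f x))).obj M))) := fun k =>
    SiteStalk.pullStalkIso_germ (rmor f c) (pt x) (pt (f x)) (SiteStalk.opensPointIso f x) M
      (V := V) ⟨⟨hx⟩⟩ (s k)
  set N := Submodule.span (Rx OX x) (Set.range fun k => gm _ x hx (pullSec f c M (s k)))
  have htop : Submodule.map E.toLinearMap N = ⊤ := by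
    rw [Submodule.map_span, ← Set.range_comp]
    refine (congrArg (fun g => Submodule.span (Rx OX x) (Set.range g)) (funext hE)).trans ?_
    have h := Submodule.baseChange_span (R := Rx OY (f x)) (A := Rx OX x)
      (Set.range fun k => gm M (f x) hx (s k))
    rw [hs (f x) hx, Submodule.baseChange_top, ← Set.range_comp] at h
    exact h.symm
  refine top_unique fun m _ => ?_
  obtain ⟨m', hm', e⟩ : E m ∈ Submodule.map E.toLinearMap N := htop ▸ Submodule.mem_top
  exact E.injective e ▸ hm'

theorem lg_pull {M : ModSite.Mod OY} (hM : LG M) : LG ((rmor f c).pull.obj M) := fun x => by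
  obtain ⟨V, I, s, hxV, hs⟩ := hM (f x)
  exact ⟨(Opens.map f).obj V, I, _, hxV, spans_pullSec f c hs⟩

lemma exists_open_eq (hf : Topology.IsInducing f) (W : Opens X) :
    ∃ W' : Opens Y, (Opens.map f).obj W' = W := by
  obtain ⟨S, hS, h⟩ := hf.isOpen_iff.1 W.2
  exact ⟨⟨S, hS⟩, Opens.ext h⟩

lemma sec_eq_zero_of_empty {T : TopCat.{u}} {O : Sheaf (Opens.grothendieckTopology T) CommRingCat.{u}}
    (M : ModSite.Mod O) {W : Opens T} (h : ∀ x, x ∉ W) (s : Sec M W) : s = 0 :=
  sec_ext_gm M s 0 fun x hx => absurd hx (h x)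

theorem ft_of_ft_push (hf : Topology.IsInducing f) {F : ModSite.Mod OX}
    (hF : FT ((rmor f c).push.obj F)) : FT F := fun z => by
  obtain ⟨U, n, s, hzU, hs⟩ := hF (f z)
  refine ⟨(Opens.map f).obj U, n, s, hzU, spans_of_comb _ fun W i b w hw => ?_⟩
  obtain ⟨W', rfl⟩ := exists_open_eq f hf W
  have h1 : (Opens.map f).obj (W' ⊓ U) ≤ (Opens.map f).obj W' := fun y hy => hy.1
  obtain ⟨W'', j, hwW, a, ha⟩ := exists_comb_fintype (M := (rmor f c).push.obj F) s
    (inf_le_right : W' ⊓ U ≤ U) (mRes F h1 b : Sec ((rmor f c).push.obj F) (W' ⊓ U))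
    (f w) ⟨hw, i hw⟩ (by rw [hs]; trivial)
  refine ⟨(Opens.map f).obj W'', fun y hy => (j hy).1, hwW,
    fun k => (c.hom.app (op W'')).hom (a k), ?_⟩
  exact ha.trans (mRes_mRes (M := F) h1 (fun y hy => j hy) b)

theorem ft_push (hf : Topology.IsClosedEmbedding f) (hc : Sheaf.IsLocallySurjective c)
    {F : ModSite.Mod OX} (hF : FT F) : FT ((rmor f c).push.obj F) := fun x => by
  by_cases hx : x ∈ Set.range f
  · obtain ⟨z, rfl⟩ := hx
    obtain ⟨V, n, s, hzV, hs⟩ := hF z
    obtain ⟨U, rfl⟩ := exists_open_eq f hf.isInducing V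
    refine ⟨U, n, s, hzV, spans_of_comb _ fun W i b y hy => ?_⟩
    by_cases hy' : y ∈ Set.range f
    · obtain ⟨w, rfl⟩ := hy'
      have iW : (Opens.map f).obj W ≤ (Opens.map f).obj U := fun q hq => i hq
      obtain ⟨W1, j, hwW1, a, ha⟩ := exists_comb_fintype (M := F) s iW b w hy (by rw [hs]; trivial)
      obtain ⟨W1', rfl⟩ := exists_open_eq f hf.isInducing W1
      let W2 : Opens Y := W1' ⊓ W
      have j2 : (Opens.map f).obj W2 ≤ (Opens.map f).obj W1' := fun q hq => hq.1
      choose W3 k3 hl hw3 using fun k : Fin n =>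
        Presheaf.imageSieve_mem (Opens.grothendieckTopology Y) c.hom (U := op W2)
          (oRes OX j2 (a k)) (f w) ⟨hwW1, hy⟩
      choose l hl using hl
      obtain ⟨W4, i4, hw4, hle⟩ := exists_inter W3 W2 (f w) ⟨hwW1, hy⟩ hw3
      refine ⟨W4, i4.trans inf_le_right, hw4, fun k => oRes OY (hle k) (l k), ?_⟩
      have j4 : (Opens.map f).obj W4 ≤ (Opens.map f).obj W1' := fun q hq => (i4 hq).1
      have e := congrArg (mRes F j4) ha
      rw [map_sum, mRes_mRes] at e
      refine Eq.trans (Finset.sum_congr rfl fun k _ => ?_) e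
      rw [mRes_smul, mRes_mRes]
      refine congrArg (fun r : OX.obj.obj (op ((Opens.map f).obj W4)) =>
        r • mRes F (fun q hq => i (i4 hq).2 : (Opens.map f).obj W4 ≤ (Opens.map f).obj U) (s k)) ?_
      refine ((NatTrans.naturality_apply c.hom (homOfLE (hle k)).op (l k)).trans ?_)
      refine (congrArg (oRes OX fun q hq => hle k hq) (hl k)).trans ?_
      refine (oRes_oRes _ _ _).trans ?_
      exact oRes_oRes _ _ _
    · let W0 : Opens Y := W ⊓ ⟨(Set.range f)ᶜ, hf.isClosed_range.isOpen_compl⟩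
      refine ⟨W0, inf_le_left, ⟨hy, hy'⟩, 0, ?_⟩
      refine Eq.trans (Finset.sum_eq_zero fun k _ => zero_smul _ _) ?_
      exact (sec_eq_zero_of_empty F (W := (Opens.map f).obj W0)
        (fun q hq => hq.2 ⟨q, rfl⟩) _).symm
  · refine ⟨⟨(Set.range f)ᶜ, hf.isClosed_range.isOpen_compl⟩, 0, Fin.elim0, hx,
      spans_of_comb _ fun W i b y hy => ⟨W, le_refl W, hy, 0, ?_⟩⟩
    refine Eq.trans (Finset.sum_eq_zero fun k _ => k.elim0) ?_
    exact (sec_eq_zero_of_empty F (W := (Opens.map f).obj W)
      (fun q hq => i hq ⟨q, rfl⟩) _).symm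

end Groth.Agent.HTop16.LocGen
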