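import Groth.Agent.HTop16.LocGen
import Groth.Agent.HTop16.SiteStalkPull
import Mathlib.CategoryTheory.Limits.Filtered
import Mathlib.Algebra.Category.ModuleCat.FilteredColimits
import Mathlib.CategoryTheory.Limits.ConcreteCategory.Filtered
import Mathlib.RingTheory.OrzechProperty
import Mathlib.LinearAlgebra.Basis.Basic
import Mathlib.LinearAlgebra.Dimension.StrongRankCondition
import Mathlib.SetTheory.Cardinal.ENat

/-!
# Local generation and local freeness on ringed spaces
-/

set_option autoImplicit false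
set_option backward.isDefEq.respectTransparency false
set_option backward.isDefEq.respectTransparency.types false
set_option linter.all false

universe u

open CategoryTheory CategoryTheory.Limits Opposite TopologicalSpace
open Groth.Agent.DerCompLib Groth.Agent.FModLib

namespace Groth.Agent.HTop16.LocGen

variable {T : TopCat.{u}} {O : Sheaf (Opens.grothendieckTopology T) CommRingCat.{u}}

/-- The map of stalks of a morphism. -/
noncomputable abbrev sm {M N : ModSite.Mod O} (q : M ⟶ N) (x : T) :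
    Stk x M →ₗ[Rx O x] Stk x N :=
  ((SiteStalk.stalkM (pt x)).map q).hom

lemma sm_gm {M N : ModSite.Mod O} (q : M ⟶ N) {U : Opens T} (x : T) (hx : x ∈ U) (s : Sec M U) :
    sm q x (gm M x hx s) = gm N x hx (secMap q U s) :=
  stalkM_map_gm q x hx s

lemma gm_zero_of_eq_zero (M : ModSite.Mod O) {U : Opens T} (x : T) (hx : x ∈ U) :
    gm M x hx (0 : Sec M U) = 0 := map_zero _

lemma ft_mk (M : ModSite.Mod O)
    (h : ∀ x : T, ∃ (U : Opens T) (I : Type) (_ : Finite I) (s : I → Sec M U), x ∈ U ∧ Spans M s) :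
    FT M := fun x => by
  obtain ⟨U, I, hI, s, hxU, hs⟩ := h x
  obtain ⟨n, ⟨e⟩⟩ := Finite.exists_equiv_fin I
  refine ⟨U, n, fun k => s (e.symm k), hxU, fun y hy => ?_⟩
  rw [← hs y hy]
  congr 1
  exact e.symm.surjective.range_comp (fun l => gm M y hy (s l))

lemma surjective_sm_of_epi {M N : ModSite.Mod O} (q : M ⟶ N) [Epi q] (x : T) :
    Function.Surjective (sm q x) :=
  (ModuleCat.epi_iff_surjective _).1 (inferInstanceAs (Epi ((SiteStalk.stalkM (pt x)).map q)))

lemma exists_lift_of_surjective {M N : ModSite.Mod O} (q : M ⟶ N) {U : Opens T} (x : T) (hx : x ∈ U)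
    (hq : Function.Surjective (sm q x)) (b : Sec N U) :
    ∃ (W : Opens T) (i : W ≤ U), x ∈ W ∧ ∃ a, secMap q W a = mRes N i b := by
  obtain ⟨m, hm⟩ := hq (gm N x hx b)
  obtain ⟨V, hxV, a, rfl⟩ := exists_gm M x m
  rw [sm_gm] at hm
  obtain ⟨W, i, hxW, e⟩ := gm_eq N (U := V ⊓ U) x ⟨hxV, hx⟩
    (mRes N inf_le_left (secMap q V a)) (mRes N inf_le_right b) (by rw [gm_res, gm_res]; exact hm)
  refine ⟨W, i.trans inf_le_right, hxW, mRes M (i.trans inf_le_left) a, ?_⟩
  rw [secMap_mRes, ← mRes_mRes inf_le_left i, e, mRes_mRes]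

/-- A morphism with surjective stalks on an open is an epimorphism there. -/
theorem epi_restr {M N : ModSite.Mod O} (q : M ⟶ N) (U : Opens T)
    (h : ∀ x ∈ U, Function.Surjective (sm q x)) : Epi ((ModSite.restr O U).map q) := by
  refine epi_of_locally _ fun V b => ?_
  choose W j hW a ha using fun (p : {x : T // x ∈ V.left}) =>
    exists_lift_of_surjective q p.1 p.2 (h p.1 (leOfHom V.hom p.2)) (b : Sec N V.left)
  let W' : {x : T // x ∈ V.left} → Over U := fun p => ov ((j p).trans (leOfHom V.hom))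
  let k : ∀ p, W' p ⟶ V := fun p => Over.homMk (homOfLE (j p))
  refine ⟨Sieve.ofArrows W' k, ?_, fun Z z hz => ?_⟩
  · rw [GrothendieckTopology.mem_over_iff]
    intro x hx
    refine ⟨W ⟨x, hx⟩, homOfLE (j ⟨x, hx⟩), ?_, hW ⟨x, hx⟩⟩
    show (Sieve.overEquiv V) _ (homOfLE (j ⟨x, hx⟩))
    rw [Sieve.overEquiv_iff]
    exact Sieve.ofArrows_mk W' k ⟨x, hx⟩
  · obtain ⟨p, g, rfl⟩ := (Sieve.mem_ofArrows_iff _ _ _).1 hz
    refine ⟨secRes _ g (a p : Sec ((ModSite.restr O U).obj M) (W' p)), ?_⟩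
    rw [secMap_secRes', ← secRes_comp]
    exact congrArg (secRes _ g) (ha p)

/-- A morphism with bijective stalks is an isomorphism. -/
theorem isIso_of_bijective_sm {M N : ModSite.Mod O} (q : M ⟶ N)
    (h : ∀ x, Function.Bijective (sm q x)) : IsIso q := by
  haveI : Mono q := mono_of_injective_sec q fun U s t e => sec_ext_gm M s t fun x hx =>
    (h x).1 (by rw [sm_gm, sm_gm, e])
  haveI : Epi q := by
    refine FModLib.epi_of_locally q fun V b => ?_
    choose W j hW a ha using fun (p : {x : T // x ∈ V}) =>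
      exists_lift_of_surjective q p.1 p.2 (h p.1).2 b
    refine ⟨Sieve.ofArrows W fun p => homOfLE (j p),
      fun x hx => ⟨W ⟨x, hx⟩, _, Sieve.ofArrows_mk _ _ _, hW ⟨x, hx⟩⟩, fun Z z hz => ?_⟩
    obtain ⟨p, g, rfl⟩ := (Sieve.mem_ofArrows_iff _ _ _).1 hz
    refine ⟨secRes _ g (a p), ?_⟩
    rw [secMap_secRes', ← secRes_comp]
    exact congrArg (secRes _ g) (ha p)
  exact isIso_of_mono_of_epi q

/-- A map which is surjective on the stalk at a point is surjective nearby. -/
theorem exists_epi_restr {G F : ModSite.Mod O} (φ : G ⟶ F) (hF : FT F) (x : T)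
    (hx : Function.Surjective (sm φ x)) :
    ∃ U : Opens T, x ∈ U ∧ Epi ((ModSite.restr O U).map φ) := by
  obtain ⟨U, n, s, hxU, hs⟩ := hF x
  choose W j hW a ha using fun k : Fin n => exists_lift_of_surjective φ x hxU hx (s k)
  obtain ⟨V, i, hxV, hle⟩ := exists_inter W U x hxU hW
  refine ⟨V, hxV, epi_restr φ V fun y hy => ?_⟩
  rw [← LinearMap.range_eq_top, eq_top_iff, ← hs y (i hy), Submodule.span_le]
  rintro _ ⟨k, rfl⟩
  refine ⟨gm G y (hle k hy) (a k), ?_⟩
  rw [sm_gm, ha, gm_res]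

/-- Extensions of modules of finite type are of finite type. -/
theorem ft_of_shortExact {S : ShortComplex (ModSite.Mod O)} (hS : S.ShortExact) (h₁ : FT S.X₁)
    (h₃ : FT S.X₃) : FT S.X₂ := by
  refine ft_mk _ fun x => ?_
  haveI := hS.epi_g
  obtain ⟨U₁, n, a, hx₁, ha⟩ := h₁ x
  obtain ⟨U₃, m, b, hx₃, hb⟩ := h₃ x
  choose W j hW c hc using fun k : Fin m =>
    exists_lift_of_surjective S.g x hx₃ (surjective_sm_of_epi S.g x) (b k)
  obtain ⟨V, i, hxV, hle⟩ := exists_inter W (U₁ ⊓ U₃) x ⟨hx₁, hx₃⟩ hW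
  refine ⟨V, Fin n ⊕ Fin m, inferInstance,
    Sum.elim (fun k => secMap S.f V (mRes _ (i.trans inf_le_left) (a k)))
      (fun k => mRes _ (hle k) (c k)), hxV, fun y hy => ?_⟩
  set N := Submodule.span (Rx O y) (Set.range fun l => gm S.X₂ y hy (Sum.elim
    (fun k => secMap S.f V (mRes _ (i.trans inf_le_left) (a k)))
    (fun k => mRes _ (hle k) (c k)) l))
  have hker : LinearMap.range (sm S.f y) ≤ N := by
    rw [LinearMap.range_eq_map, ← (ha.res (i.trans inf_le_left)) y hy, Submodule.map_span,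
      Submodule.span_le]
    rintro _ ⟨_, ⟨k, rfl⟩, rfl⟩
    exact Submodule.subset_span ⟨Sum.inl k, (sm_gm S.f y hy _).symm⟩
  have hex : ∀ m, sm S.g y m = 0 → m ∈ LinearMap.range (sm S.f y) := fun m hm =>
    (ShortComplex.moduleCat_exact_iff _).1 (hS.exact.map (SiteStalk.stalkM (pt y))) m hm
  have hmap : Submodule.map (sm S.g y) N = ⊤ := by
    rw [eq_top_iff, ← hb y (i.trans inf_le_right hy), Submodule.span_le]
    rintro _ ⟨k, rfl⟩
    refine ⟨gm S.X₂ y hy (mRes _ (hle k) (c k)), Submodule.subset_span ⟨Sum.inr k, rfl⟩, ?_⟩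
    rw [sm_gm, secMap_mRes, gm_res, hc, gm_res]
  refine top_unique fun m _ => ?_
  obtain ⟨m', hm', e⟩ : sm S.g y m ∈ Submodule.map (sm S.g y) N := hmap ▸ Submodule.mem_top
  rw [← sub_add_cancel m m']
  exact N.add_mem (hker (hex _ (by rw [map_sub, e, sub_self]))) hm'

/-- Bases of a module on an open. -/
structure IsBasisOn (M : ModSite.Mod O) {U : Opens T} {I : Type*} (s : I → Sec M U) : Prop where
  spans : Spans M s
  indep : ∀ (x : T) (hx : x ∈ U), LinearIndependent (Rx O x) fun k => gm M x hx (s k)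

/-- The basis of the stalk given by a basis of a module on an open. -/
noncomputable def IsBasisOn.basis {M : ModSite.Mod O} {U : Opens T} {I : Type*} {s : I → Sec M U}
    (h : IsBasisOn M s) (x : T) (hx : x ∈ U) : Module.Basis I (Rx O x) (Stk x M) :=
  Module.Basis.mk (h.indep x hx) (h.spans x hx).ge

lemma exists_basisOn_of_iso {M : ModSite.Mod O} {U : Opens T} {I : Type u}
    (e : (ModSite.restr O U).obj M ≅ SheafOfModules.free (R := ModSite.ringSh (O.over U)) I) :
    ∃ s : I → Sec M U, IsBasisOn M s := by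
  classical
  let σ : SheafOfModules.GeneratingSections ((ModSite.restr O U).obj M) :=
    { I := I
      s := ((ModSite.restr O U).obj M).freeHomEquiv e.inv
      epi := by
        rw [Equiv.symm_apply_apply]
        infer_instance }
  refine ⟨fun k => atTop (σ.s k), spans_of_gen σ, fun x hx => ?_⟩
  rw [linearIndependent_iff']
  intro t g hg k hk
  choose W hW a ha using fun l : I => exists_gr (O := O) x (g l)
  obtain ⟨V, i, hxV, hle⟩ := exists_inter (fun l : ↥t => W l) U x hx fun l => hW l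
  let c : I → O.obj.obj (op V) := fun l => if hl : l ∈ t then oRes O (hle ⟨l, hl⟩) (a l) else 0
  have hc : ∀ l ∈ t, gr x hxV (c l) = g l := fun l hl => by
    simp only [c, dif_pos hl]
    rw [gr_res, ha]
  have hz : gm M x hxV (∑ l ∈ t, c l • mRes M i (atTop (σ.s l))) = gm M x hxV 0 := by
    rw [map_sum, map_zero, ← hg]
    refine Finset.sum_congr rfl fun l hl => ?_
    rw [gm_smul, gm_res, hc l hl]
  obtain ⟨V', i', hxV', e'⟩ := gm_eq M x hxV _ _ hz
  let N := (ModSite.restr O U).obj M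
  let W' : Over U := ov (i'.trans i)
  let p : N ⟶ SheafOfModules.unit _ := e.hom ≫ coord (O.over U) k
  have hp : ∀ l, @Eq ((O.over U).obj.obj (op W')) (secMap p W' (imgVec (O.over U) e.inv W' l))
      (if k = l then 1 else 0) := fun l => by
    rw [← coordAt_freeVec (O.over U) W' k l]
    exact congrArg (fun φ => coordAt (O.over U) W' (secMap φ W' (freeVec (O.over U) l W') ) k)
      e.inv_hom_id
  have hs : ∀ l, mRes M i' (mRes M i (atTop (σ.s l))) = imgVec (O.over U) e.inv W' l := fun l => by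
    rw [mRes_mRes, imgVec_eq]
    exact ((((ModSite.restr O U).obj M).freeHomEquiv e.inv l).property (toTop W').op)
  have hsum : ∑ l ∈ t, oRes O i' (c l) • imgVec (O.over U) e.inv W' l = (0 : Sec N W') := by
    rw [map_sum, map_zero] at e'
    refine Eq.trans (Finset.sum_congr rfl fun l _ => ?_) e'
    rw [mRes_smul, hs]
  have h0 := congrArg (secMap p W') hsum
  rw [map_sum, map_zero, Finset.sum_eq_single k] at h0
  · rw [map_smul, hp, if_pos rfl] at h0
    have h1 : oRes O i' (c k) = 0 := (mul_one _).symm.trans h0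
    rw [← hc k hk, ← gr_res i' x hxV' (c k), h1, map_zero]
  · intro l _ hl
    rw [map_smul, hp, if_neg (Ne.symm hl)]
    first | exact smul_zero _ | exact mul_zero _
  · exact fun h => absurd hk h

/-- Between modules with bases of the same finite rank, epimorphisms are isomorphisms. -/
theorem isIso_of_epi_of_basis {F G : ModSite.Mod O} (φ : F ⟶ G) [Epi φ] {r : Type*} [Fintype r]
    (hF : ∀ x : T, ∃ (U : Opens T) (s : r → Sec F U), x ∈ U ∧ IsBasisOn F s)
    (hG : ∀ x : T, ∃ (U : Opens T) (s : r → Sec G U), x ∈ U ∧ IsBasisOn G s) : IsIso φ := by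
  refine isIso_of_bijective_sm φ fun x => ⟨?_, surjective_sm_of_epi φ x⟩
  obtain ⟨U, s, hxU, hs⟩ := hF x
  obtain ⟨V, t, hxV, ht⟩ := hG x
  let e := (ht.basis x hxV).equiv (hs.basis x hxU) (Equiv.refl r)
  haveI : Module.Finite (Rx O x) (Stk x F) := Module.Finite.of_basis (hs.basis x hxU)
  have := OrzechProperty.injective_of_surjective_endomorphism (e.toLinearMap ∘ₗ sm φ x)
    (e.surjective.comp (surjective_sm_of_epi φ x))
  exact (show Function.Injective (⇑e ∘ ⇑(sm φ x)) from this).of_comp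

theorem card_eq_of_basis {M : ModSite.Mod O} (x : T) [Nontrivial (Rx O x)] {U V : Opens T}
    (hxU : x ∈ U) (hxV : x ∈ V) {I J : Type u} {s : I → Sec M U} {t : J → Sec M V}
    (hs : IsBasisOn M s) (ht : IsBasisOn M t) : ENat.card I = ENat.card J := by
  have h := mk_eq_mk_of_basis' (hs.basis x hxU) (ht.basis x hxV)
  exact congrArg Cardinal.toENat h

/-- A directed colimit with finite type value is reached locally; on a compact space, reached. -/
theorem exists_epi_of_colimit [CompactSpace T] {I : Type u} [Preorder I] [Nonempty I]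
    [IsDirected I (· ≤ ·)] (D : I ⥤ ModSite.Mod O) (c : Cocone D) (hc : IsColimit c) (hF : FT c.pt) :
    (∃ i : I, Epi (c.ι.app i)) ∧
      ((∀ (i j : I) (f : i ⟶ j), Mono (D.map f)) → ∃ i : I, IsIso (c.ι.app i)) := by
  have key : ∀ x : T, ∃ (V : Opens T) (i : I), x ∈ V ∧
      ∀ j, i ≤ j → ∀ y ∈ V, Function.Surjective (sm (c.ι.app j) y) := by
    intro x
    obtain ⟨U, n, s, hxU, hs⟩ := hF x
    have hrep : ∀ k : Fin n, ∃ (i : I) (m : Stk x (D.obj i)), sm (c.ι.app i) x m = gm c.pt x hxU (s k) :=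
      fun k => Concrete.isColimit_exists_rep _ (isColimitOfPreserves (SiteStalk.stalkM (pt x)) hc) _
    choose i m hm using hrep
    choose W hxW a ha using fun k => exists_gm (D.obj (i k)) x (m k)
    obtain ⟨i₀, hi₀⟩ : ∃ i₀, ∀ k, i k ≤ i₀ := Finite.exists_le i
    have hgerm : ∀ k, gm c.pt x (hxW k) (secMap (c.ι.app (i k)) (W k) (a k)) = gm c.pt x hxU (s k) :=
      fun k => (sm_gm (c.ι.app (i k)) x (hxW k) (a k)).symm.trans
        ((congrArg (sm (c.ι.app (i k)) x) (ha k)).trans (hm k))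
    choose W' j' hxW' he using fun k => gm_eq c.pt (U := W k ⊓ U) x ⟨hxW k, hxU⟩
      (mRes _ inf_le_left (secMap (c.ι.app (i k)) (W k) (a k))) (mRes _ inf_le_right (s k))
      (by rw [gm_res, gm_res]; exact hgerm k)
    obtain ⟨V, v, hxV, hle⟩ := exists_inter W' U x hxU hxW'
    refine ⟨V, i₀, hxV, fun j hj y hy => ?_⟩
    rw [← LinearMap.range_eq_top, eq_top_iff, ← hs y (v hy), Submodule.span_le]
    rintro _ ⟨k, rfl⟩
    refine ⟨sm (D.map (homOfLE ((hi₀ k).trans hj))) y
      (gm _ y ((j' k).trans inf_le_left (hle k hy)) (a k)), ?_⟩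
    rw [← LinearMap.comp_apply, ← ModuleCat.hom_comp, ← Functor.map_comp, c.w]
    show sm (c.ι.app (i k)) y _ = _
    rw [sm_gm]
    have h1 := congrArg (gm c.pt y (hle k hy)) (he k)
    rw [gm_res, gm_res, gm_res, gm_res] at h1
    exact h1
  choose V i hxV hV using key
  obtain ⟨t, ht⟩ := isCompact_univ.elim_finite_subcover (fun x => (V x : Set T))
    (fun x => (V x).2) fun x _ => Set.mem_iUnion.2 ⟨x, hxV x⟩
  obtain ⟨i₀, hi₀⟩ := Finite.exists_le fun x : ↥t => i x
  have hsurj : ∀ y, Function.Surjective (sm (c.ι.app i₀) y) := fun y => by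
    obtain ⟨x, hxt, hy⟩ := Set.mem_iUnion₂.1 (ht (Set.mem_univ y))
    exact hV x i₀ (hi₀ ⟨x, hxt⟩) y hy
  have hepi : Epi (c.ι.app i₀) := by
    refine FModLib.epi_of_locally _ fun U b => ?_
    choose W j hW a ha using fun (p : {x : T // x ∈ U}) =>
      exists_lift_of_surjective (c.ι.app i₀) p.1 p.2 (hsurj p.1) b
    refine ⟨Sieve.ofArrows W fun p => homOfLE (j p),
      fun x hx => ⟨W ⟨x, hx⟩, _, Sieve.ofArrows_mk _ _ _, hW ⟨x, hx⟩⟩, fun Z z hz => ?_⟩
    obtain ⟨p, g, rfl⟩ := (Sieve.mem_ofArrows_iff _ _ _).1 hz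
    refine ⟨secRes _ g (a p), ?_⟩
    rw [secMap_secRes', ← secRes_comp]
    exact congrArg (secRes _ g) (ha p)
  refine ⟨⟨i₀, hepi⟩, fun hmono => ⟨i₀, ?_⟩⟩
  refine isIso_of_bijective_sm _ fun y => ⟨fun m m' e => ?_, hsurj y⟩
  obtain ⟨k, f, f', h⟩ := Concrete.isColimit_exists_of_rep_eq (D ⋙ SiteStalk.stalkM (pt y))
    (isColimitOfPreserves (SiteStalk.stalkM (pt y)) hc) m m' e
  rw [Subsingleton.elim f' f] at h
  haveI := hmono _ _ f
  exact (ModuleCat.mono_iff_injective _).1
    (inferInstanceAs (Mono ((SiteStalk.stalkM (pt y)).map (D.map f)))) h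

end Groth.Agent.HTop16.LocGen
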