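import Groth.Agent.SiteTen.Tensor
import Groth.Agent.SiteTen.Proj
import Mathlib.CategoryTheory.Equivalence

/-!
# Invertible modules on ringed sites

`L ⊗ -` is an equivalence exactly when `L` has an inverse for the tensor product.
-/

set_option autoImplicit false
set_option backward.isDefEq.respectTransparency false

universe u

open CategoryTheory CategoryTheory.Limits Opposite MonoidalCategory

namespace Groth.Agent.HTop16.ModInvertible

variable {C : Type u} [SmallCategory C] {J : GrothendieckTopology C} {O : Sheaf J CommRingCat.{u}}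

/-- Associativity, natural in the last argument. -/
noncomputable def assocNatIso (F G : ModSite.Mod O) :
    (ModSite.tensorBi O).obj (SiteTen.ten O F G) ≅ (ModSite.tensorBi O).obj G ⋙ (ModSite.tensorBi O).obj F :=
  NatIso.ofComponents (fun H => SiteTen.tenAssocIso F G H) fun {H H'} g => by
    let N := (ModSite.toPre O).obj F ⊗ (ModSite.toPre O).obj G
    haveI := SiteTen.isIso_shPre_whiskerRight ((ModSite.toPre O).obj H) _ (SiteTen.isW_unit N)
    haveI := SiteTen.isIso_shPre_whiskerRight ((ModSite.toPre O).obj H') _ (SiteTen.isW_unit N)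
    have hA : (ModSite.shPre O).map (SiteTen.η O N ▷ (ModSite.toPre O).obj H) ≫
        ((ModSite.tensorBi O).obj (SiteTen.ten O F G)).map g =
        (ModSite.shPre O).map (N ◁ (ModSite.toPre O).map g) ≫
          (ModSite.shPre O).map (SiteTen.η O N ▷ (ModSite.toPre O).obj H') := by
      change _ ≫ (ModSite.shPre O).map (_ ◁ (ModSite.toPre O).map g) = _
      rw [← Functor.map_comp, ← Functor.map_comp]
      exact congrArg _ (whisker_exchange _ _).symm
    have hB : (ModSite.shPre O).map (N ◁ (ModSite.toPre O).map g) ≫ (ModSite.shPre O).map (α_ _ _ _).hom =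
        (ModSite.shPre O).map (α_ _ _ _).hom ≫
          (ModSite.shPre O).map ((ModSite.toPre O).obj F ◁ (ModSite.toPre O).obj G ◁ (ModSite.toPre O).map g) := by
      rw [← Functor.map_comp, ← Functor.map_comp]
      exact congrArg _ (associator_naturality_right _ _ _)
    have hC := (SiteTen.shTenIso F).hom.naturality ((ModSite.toPre O).obj G ◁ (ModSite.toPre O).map g)
    change ((ModSite.tensorBi O).obj (SiteTen.ten O F G)).map g ≫ (SiteTen.tenAssocIso F G H').hom =
      (SiteTen.tenAssocIso F G H).hom ≫ ((ModSite.tensorBi O).obj G ⋙ (ModSite.tensorBi O).obj F).map g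
    rw [← cancel_epi ((ModSite.shPre O).map (SiteTen.η O N ▷ (ModSite.toPre O).obj H))]
    simp only [SiteTen.tenAssocIso, Iso.trans_hom, Iso.symm_hom, asIso_inv, Category.assoc,
      IsIso.hom_inv_id_assoc, Functor.mapIso_hom, Iso.app_hom]
    erw [reassoc_of% hA, IsIso.hom_inv_id_assoc, reassoc_of% hB, IsIso.hom_inv_id_assoc]
    exact congrArg (fun t => (ModSite.shPre O).map (α_ ((ModSite.toPre O).obj F) ((ModSite.toPre O).obj G)
      ((ModSite.toPre O).obj H)).hom ≫ t) hC

/-- An inverse for the tensor product gives an equivalence. -/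
theorem isEquivalence_of_iso {L N : ModSite.Mod O} (e : SiteTen.ten O L N ≅ ModSite.unit O) :
    ((ModSite.tensorBi O).obj L).IsEquivalence := by
  let e' : SiteTen.ten O N L ≅ ModSite.unit O := ((SiteTen.tenFlipIso N).app L).symm ≪≫ e
  let a : (ModSite.tensorBi O).obj N ⋙ (ModSite.tensorBi O).obj L ≅ 𝟭 _ :=
    (assocNatIso L N).symm ≪≫ (ModSite.tensorBi O).mapIso e ≪≫ SiteTen.tenUnitNatIso O
  let b : (ModSite.tensorBi O).obj L ⋙ (ModSite.tensorBi O).obj N ≅ 𝟭 _ :=
    (assocNatIso N L).symm ≪≫ (ModSite.tensorBi O).mapIso e' ≪≫ SiteTen.tenUnitNatIso O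
  exact (CategoryTheory.Equivalence.mk ((ModSite.tensorBi O).obj L) ((ModSite.tensorBi O).obj N) b.symm a).isEquivalence_functor

/-- An invertible module has an inverse. -/
theorem exists_iso_of_isEquivalence {L : ModSite.Mod O} (hL : ((ModSite.tensorBi O).obj L).IsEquivalence) :
    ∃ N, Nonempty (SiteTen.ten O L N ≅ ModSite.unit O) := by
  haveI := hL
  exact ⟨((ModSite.tensorBi O).obj L).objPreimage (ModSite.unit O),
    ⟨((ModSite.tensorBi O).obj L).objObjPreimageIso (ModSite.unit O)⟩⟩

end Groth.Agent.HTop16.ModInvertible
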