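import Groth.Agent.HTop16.LocPres
import Groth.Agent.HTop16.SiteStalkTensor
import Groth.Agent.HTop16.ModInvertible
import Mathlib.RingTheory.PicardGroup
import Mathlib.RingTheory.LocalRing.Module

/-!
# Invertible modules on ringed spaces with local stalks
-/

set_option autoImplicit false
set_option backward.isDefEq.respectTransparency false
set_option backward.isDefEq.respectTransparency.types false
set_option linter.all false

universe u

open CategoryTheory CategoryTheory.Limits Opposite TopologicalSpace MonoidalCategory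
open Groth.Agent.DerCompLib Groth.Agent.FModLib
open scoped TensorProduct

namespace Groth.Agent.HTop16.LocGen

variable {T : TopCat.{u}} {O : Sheaf (Opens.grothendieckTopology T) CommRingCat.{u}}

/-- The unit section. -/
noncomputable abbrev oneSec (U : Opens T) : Sec (ModSite.unit O) U := (1 : O.obj.obj (op U))

/-- The germ of the unit section. -/
noncomputable abbrev g1 (x : T) : Stk x (ModSite.unit O) := gm (ModSite.unit O) x (U := ⊤) trivial (oneSec ⊤)

lemma gm_unit (x : T) {W : Opens T} (hx : x ∈ W) (a : O.obj.obj (op W)) :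
    gm (ModSite.unit O) x hx (a : Sec (ModSite.unit O) W) = gr x hx a • g1 x := by
  have h : mRes (ModSite.unit O) (le_top : W ≤ ⊤) (oneSec ⊤) = oneSec W := map_one (oRes O le_top)
  rw [g1, ← gm_res (ModSite.unit O) (le_top : W ≤ ⊤) x hx (oneSec ⊤), h, ← gm_smul]
  exact congrArg (gm (ModSite.unit O) x hx) (mul_one a).symm

/-- The stalk of the structure sheaf as a module. -/
noncomputable def unitEquiv (x : T) : Rx O x ≃ₗ[Rx O x] Stk x (ModSite.unit O) :=
  LinearEquiv.ofBijective (LinearMap.toSpanSingleton (Rx O x) _ (g1 x)) ⟨by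
    rw [← LinearMap.ker_eq_bot, eq_bot_iff]
    intro r hr
    obtain ⟨W, hW, a, rfl⟩ := exists_gr (O := O) x r
    have h : gm (ModSite.unit O) x hW (a : Sec (ModSite.unit O) W) = gm _ x hW 0 := by
      rw [gm_unit, map_zero]
      exact hr
    obtain ⟨V, i, hV, e⟩ := gm_eq _ x hW _ _ h
    rw [map_zero] at e
    show gr x hW a = 0
    rw [← gr_res i x hV, show oRes O i a = 0 from e, map_zero], fun m => by
    obtain ⟨W, hW, a, rfl⟩ := exists_gm (ModSite.unit O) x m
    exact ⟨gr x hW a, (gm_unit x hW a).symm⟩⟩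

lemma unitEquiv_symm_gm (x : T) {W : Opens T} (hx : x ∈ W) (a : O.obj.obj (op W)) :
    (unitEquiv x).symm (gm (ModSite.unit O) x hx (a : Sec (ModSite.unit O) W)) = gr x hx a :=
  (LinearEquiv.symm_apply_eq _).2 (gm_unit x hx a)

variable {L N : ModSite.Mod O} (e : SiteTen.ten O L N ≅ ModSite.unit O)

/-- The pairing of stalks. -/
noncomputable def pairing (x : T) : Stk x L ⊗[Rx O x] Stk x N ≃ₗ[Rx O x] Rx O x :=
  ((SiteStalk.stalkTensorIso (pt x) L N).symm ≪≫ (SiteStalk.stalkM (pt x)).mapIso e).toLinearEquiv ≪≫ₗ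
    (unitEquiv x).symm

lemma pairing_gm (x : T) {W : Opens T} (hx : x ∈ W) (s : Sec L W) (t : Sec N W) :
    pairing e x (gm L x hx s ⊗ₜ gm N x hx t) = gr x hx (secMap e.hom W (SiteStalk.secTmul L N s t)) := by
  rw [← unitEquiv_symm_gm]
  refine congrArg (unitEquiv x).symm ?_
  show sm e.hom x (SiteStalk.psi (pt x) L N (gm L x hx s) (gm N x hx t)) = _
  rw [← sm_gm]
  exact congrArg (sm e.hom x) (SiteStalk.psi_germ (pt x) L N _ s t)

include e in
theorem invertible_stalk (x : T) : Module.Invertible (Rx O x) (Stk x L) :=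
  Module.Invertible.left (pairing e x)

include e in
theorem generating_locus (hloc : ∀ x : T, IsLocalRing (Rx O x)) {U : Opens T} (s : Sec L U) :
    IsOpen {x : T | ∃ hx : x ∈ U, gm L x hx s ∉
        (@IsLocalRing.maximalIdeal (Rx O x) _ (hloc x)) • (⊤ : Submodule (Rx O x) (Stk x L))} ∧
      ∀ (x : T) (hx : x ∈ U), gm L x hx s ∉
          (@IsLocalRing.maximalIdeal (Rx O x) _ (hloc x)) • (⊤ : Submodule (Rx O x) (Stk x L)) →
        Function.Bijective fun a : Rx O x => a • gm L x hx s := by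
  have hgen : ∀ (x : T) (hx : x ∈ U), gm L x hx s ∉
      (@IsLocalRing.maximalIdeal (Rx O x) _ (hloc x)) • (⊤ : Submodule (Rx O x) (Stk x L)) →
      Function.Bijective fun a : Rx O x => a • gm L x hx s := by
    intro x hx h
    haveI := hloc x
    haveI := invertible_stalk e x
    obtain ⟨φ⟩ := Module.Invertible.free_iff_linearEquiv.1 (inferInstance : Module.Free (Rx O x) (Stk x L))
    have hu : IsUnit (φ (gm L x hx s)) := by
      refine IsLocalRing.notMem_maximalIdeal.1 fun hm => h ?_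
      have := Submodule.smul_mem_smul hm (Submodule.mem_top (x := φ.symm 1))
      rwa [← map_smul, smul_eq_mul, mul_one, LinearEquiv.symm_apply_apply] at this
    have : (fun a : Rx O x => a • gm L x hx s) = φ.symm ∘ fun a => a * φ (gm L x hx s) := by
      funext a
      show _ = φ.symm (a * φ (gm L x hx s))
      rw [← smul_eq_mul, map_smul, LinearEquiv.symm_apply_apply]
    rw [this]
    exact φ.symm.bijective.comp (IsUnit.isUnit_iff_mulRight_bijective.1 hu)
  refine ⟨isOpen_iff_forall_mem_open.2 ?_, hgen⟩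
  rintro x ⟨hx, h⟩
  obtain ⟨ζ, hζ⟩ := (pairing e x).surjective 1
  have hpair : ∃ n : Stk x N, pairing e x (gm L x hx s ⊗ₜ n) = 1 := by
    have : ∀ ζ, ∃ n : Stk x N, pairing e x (gm L x hx s ⊗ₜ n) = pairing e x ζ := fun ζ => by
      induction ζ using TensorProduct.induction_on with
      | zero => exact ⟨0, by rw [TensorProduct.tmul_zero]⟩
      | tmul m n =>
        obtain ⟨a, rfl⟩ := (hgen x hx h).2 m
        exact ⟨a • n, by rw [TensorProduct.smul_tmul]⟩
      | add a b ha hb =>
        obtain ⟨m, hm⟩ := ha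
        obtain ⟨n, hn⟩ := hb
        exact ⟨m + n, by rw [TensorProduct.tmul_add, map_add, hm, hn, map_add]⟩
    obtain ⟨n, hn⟩ := this ζ
    exact ⟨n, hn.trans hζ⟩
  obtain ⟨n, hn⟩ := hpair
  obtain ⟨W, hW, t, rfl⟩ := exists_gm N x n
  have hxV : x ∈ U ⊓ W := ⟨hx, hW⟩
  rw [← gm_res L (inf_le_left : U ⊓ W ≤ U) x hxV, ← gm_res N (inf_le_right : U ⊓ W ≤ W) x hxV,
    pairing_gm, ← map_one (gr (O := O) x hxV)] at hn
  obtain ⟨V, i, hV, e1⟩ := gr_eq x hxV _ _ hn
  refine ⟨V, fun y hy => ?_, V.2, hV⟩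
  have hyV : y ∈ U ⊓ W := i hy
  refine ⟨hyV.1, fun hm => ?_⟩
  haveI := hloc y
  have h1 : pairing e y (gm L y hyV.1 s ⊗ₜ gm N y hyV.2 t) = 1 := by
    rw [← gm_res L (inf_le_left : U ⊓ W ≤ U) y hyV, ← gm_res N (inf_le_right : U ⊓ W ≤ W) y hyV,
      pairing_gm, ← gr_res i y hy, e1, map_one, map_one]
  let f : Stk y L →ₗ[Rx O y] Rx O y :=
    (pairing e y).toLinearMap ∘ₗ (TensorProduct.mk (Rx O y) (Stk y L) (Stk y N)).flip (gm N y hyV.2 t)
  have hf : f (gm L y hyV.1 s) ∈ IsLocalRing.maximalIdeal (Rx O y) := by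
    have := Submodule.mem_map_of_mem (f := f) hm
    rw [Submodule.map_smul''] at this
    exact (Ideal.mul_le_left : (IsLocalRing.maximalIdeal (Rx O y)) • Submodule.map f ⊤ ≤ _) this
  have h2 : f (gm L y hyV.1 s) = 1 := h1
  rw [h2] at hf
  exact IsLocalRing.maximalIdeal.isMaximal _ |>.ne_top (Ideal.eq_top_iff_one _ |>.2 hf)

end Groth.Agent.HTop16.LocGen
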