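import Groth.Agent.SiteCoh.PushExact
import Mathlib.CategoryTheory.Sites.ConstantSheaf

/-!
# No torsion in the first cohomology for a locally nonzero multiplier
-/

set_option autoImplicit false

universe u

open CategoryTheory CategoryTheory.Limits CategoryTheory.Abelian Opposite

namespace Groth.Agent.HTop16.LocNonzero

open Groth.Agent.SiteCoh

variable {C : Type u} [SmallCategory C] (J : GrothendieckTopology C)

/-- The constant sheaf. -/
noncomputable abbrev cst (M : AddCommGrpCat.{u}) : Sheaf J AddCommGrpCat.{u} :=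
  (constantSheaf J AddCommGrpCat.{u}).obj M

/-- Constants as sections. -/
noncomputable def η (M : AddCommGrpCat.{u}) (V : C) : M →+ (cst J M).obj.obj (op V) :=
  ((toSheafify J ((Functor.const Cᵒᵖ).obj M)).app (op V)).hom

lemma map_η {M : AddCommGrpCat.{u}} {V W : C} (k : W ⟶ V) (m : M) :
    (cst J M).obj.map k.op (η J M V m) = η J M W m :=
  (NatTrans.naturality_apply (toSheafify J ((Functor.const Cᵒᵖ).obj M)) k.op m).symm

variable {J}

lemma map_comp_apply (F : Sheaf J AddCommGrpCat.{u}) {U V W : C} (f : V ⟶ U) (g : W ⟶ V)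
    (s : F.obj.obj (op U)) : F.obj.map g.op (F.obj.map f.op s) = F.obj.map (g ≫ f).op s := by
  rw [op_comp, F.obj.map_comp, ConcreteCategory.comp_apply]

lemma ext_cover (F : Sheaf J AddCommGrpCat.{u}) {W : C} {S : Sieve W} (hS : S ∈ J W)
    {s t : F.obj.obj (op W)}
    (h : ∀ ⦃V : C⦄ (f : V ⟶ W), S f → F.obj.map f.op s = F.obj.map f.op t) : s = t :=
  ext_of_cover F (fun i : Σ V : C, { f : V ⟶ W // S f } => i.2.1)
    (J.superset_covering (fun V f hf => by
      exact Sieve.ofArrows_mk (fun i : Σ V : C, { f : V ⟶ W // S f } => i.1)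
        (fun i => i.2.1) ⟨V, f, hf⟩) hS)
    fun i => h i.2.1 i.2.2

lemma eq_of_empty (F : Sheaf J AddCommGrpCat.{u}) {W : C} (h : (⊥ : Sieve W) ∈ J W)
    (s t : F.obj.obj (op W)) : s = t :=
  ext_cover F h fun _ _ hf => False.elim hf

lemma locally_const (M : AddCommGrpCat.{u}) {W : C} (a : (cst J M).obj.obj (op W)) :
    ∃ S ∈ J W, ∀ ⦃V : C⦄ (f : V ⟶ W), S f → ∃ m, η J M V m = (cst J M).obj.map f.op a :=
  ⟨_, Presheaf.imageSieve_mem J (toSheafify J ((Functor.const Cᵒᵖ).obj M)) a,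
    fun _ _ hf => hf⟩

lemma eq_or_empty {M : AddCommGrpCat.{u}} {W : C} {m m' : M}
    (h : η J M W m = η J M W m') : m = m' ∨ (⊥ : Sieve W) ∈ J W := by
  by_cases hm : m = m'
  · exact Or.inl hm
  · have hmem := Presheaf.equalizerSieve_mem J (toSheafify J ((Functor.const Cᵒᵖ).obj M))
      (X := op W) m m' h
    exact Or.inr (J.superset_covering (fun V f hf => hm hf) hmem)

lemma eq_zero_of_zsmul {A : AddCommGrpCat.{u}}
    (hA : ∀ (m : ℤ) (a : A), m ≠ 0 → m • a = 0 → a = 0) {n : ℤ} (hn : n ≠ 0) {W : C}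
    {a : (cst J A).obj.obj (op W)} (h : n • a = 0) : a = 0 := by
  obtain ⟨S, hS, hS'⟩ := locally_const A a
  refine ext_cover _ hS fun V f hf => ?_
  obtain ⟨m, hm⟩ := hS' f hf
  rw [map_zero, ← hm]
  have h0 : η J A V (n • m) = η J A V 0 := by
    rw [map_zsmul, hm, ← map_zsmul, h, map_zero, map_zero]
  rcases eq_or_empty h0 with h1 | h1
  · rw [hA n m hn h1, map_zero]
  · exact eq_of_empty _ h1 _ _

section Rep

variable (A : AddCommGrpCat.{u})

/-- A representative modulo `n`. -/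
noncomputable def rep (n : ℤ) (a : A) : A :=
  (QuotientAddGroup.mk a : A ⧸ (zsmulAddGroupHom n : A →+ A).range).out

variable {A}

lemma exists_rep (n : ℤ) (a : A) : ∃ b : A, rep A n a + n • b = a := by
  have : (QuotientAddGroup.mk (rep A n a) : A ⧸ (zsmulAddGroupHom n : A →+ A).range) =
      QuotientAddGroup.mk a := QuotientAddGroup.out_eq' _
  obtain ⟨b, hb⟩ := QuotientAddGroup.eq.1 this
  exact ⟨b, by rw [show n • b = -rep A n a + a from hb]; abel⟩

lemma rep_eq_of {n : ℤ} {a a' c : A} (h : rep A n a = rep A n a' + n • c) :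
    rep A n a = rep A n a' := by
  have h1 : ∀ b : A, (QuotientAddGroup.mk (rep A n b) : A ⧸ (zsmulAddGroupHom n : A →+ A).range) =
      QuotientAddGroup.mk b := fun b => QuotientAddGroup.out_eq' _
  have h2 : (QuotientAddGroup.mk a' : A ⧸ (zsmulAddGroupHom n : A →+ A).range) =
      QuotientAddGroup.mk a := by
    rw [← h1 a, ← h1 a']
    exact QuotientAddGroup.eq.2 ⟨c, by rw [h]; change n • c = _; abel⟩
  unfold rep
  rw [h2]

end Rep

variable (J)

/-- The integers. -/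
abbrev ZZ : AddCommGrpCat.{u} := AddCommGrpCat.of (ULift.{u} ℤ)

/-- The unit section. -/
noncomputable def one (V : C) : (cst J ZZ).obj.obj (op V) := η J ZZ V ⟨1⟩

/-- The value of a morphism out of the constant sheaf of integers. -/
noncomputable def ev {F : Sheaf J AddCommGrpCat.{u}} (b : cst J ZZ ⟶ F) (V : C) :
    F.obj.obj (op V) :=
  b.hom.app (op V) (one J V)

variable {J}

lemma map_ev {F : Sheaf J AddCommGrpCat.{u}} (b : cst J ZZ ⟶ F) {V W : C} (k : W ⟶ V) :
    F.obj.map k.op (ev J b V) = ev J b W :=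
  (NatTrans.naturality_apply b.hom k.op _).symm.trans
    (congrArg (b.hom.app (op W)) (map_η J k _))

lemma exists_hom_ev {F : Sheaf J AddCommGrpCat.{u}} (y : ∀ V : C, F.obj.obj (op V))
    (hy : ∀ {V W : C} (k : W ⟶ V), F.obj.map k.op (y V) = y W) :
    ∃ c : cst J ZZ ⟶ F, ∀ V, ev J c V = y V := by
  let τ : (Functor.const Cᵒᵖ).obj ZZ ⟶ F.obj :=
    { app := fun V => AddCommGrpCat.ofHom (uliftZMultiplesHom _ (y V.unop))
      naturality := fun V W k => by
        apply AddCommGrpCat.hom_ext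
        refine AddMonoidHom.ext fun z => ?_
        change uliftZMultiplesHom _ (y W.unop) z = F.obj.map k (uliftZMultiplesHom _ (y V.unop) z)
        change z.down • y W.unop = F.obj.map k (z.down • y V.unop)
        rw [map_zsmul, ← hy k.unop]
        rfl }
  refine ⟨((sheafificationAdjunction J AddCommGrpCat.{u}).homEquiv _ F).symm τ, fun V => ?_⟩
  have h := ((sheafificationAdjunction J AddCommGrpCat.{u}).homEquiv _ F).apply_symm_apply τ
  rw [Adjunction.homEquiv_unit] at h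
  refine (ConcreteCategory.congr_hom (NatTrans.congr_app h (op V)) (⟨1⟩ : ULift.{u} ℤ)).trans ?_
  exact one_zsmul (y V)

lemma hom_ext_ev {F : Sheaf J AddCommGrpCat.{u}} {b c : cst J ZZ ⟶ F}
    (h : ∀ V, ev J b V = ev J c V) : b = c := by
  refine ((sheafificationAdjunction J AddCommGrpCat.{u}).homEquiv _ F).injective ?_
  rw [Adjunction.homEquiv_unit, Adjunction.homEquiv_unit]
  refine NatTrans.ext (funext fun V => AddCommGrpCat.hom_ext ?_)
  apply (uliftZMultiplesHom _).symm.injective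
  exact h V.unop

variable {A : AddCommGrpCat.{u}} {ι : Type u}

/-- Lifting a morphism out of the constant sheaf of integers along a torsion-free kernel. -/
lemma exists_lift (hA : ∀ (m : ℤ) (a : A), m ≠ 0 → m • a = 0 → a = 0)
    (φ : cst J ZZ ⟶ cst J ZZ) (U : ι → C) (n : ι → ℤ) (hn : ∀ i, n i ≠ 0)
    (hφ : ∀ (i : ι) (V : C) (_ : V ⟶ U i), φ.hom.app (op V) = n i • 𝟙 _)
    (hcov : ∀ V : C, ∃ R ∈ J V, ∀ ⦃W : C⦄ (g : W ⟶ V), R g → ∃ i, Nonempty (W ⟶ U i))
    {F G : Sheaf J AddCommGrpCat.{u}} (f : cst J A ⟶ F) (g : F ⟶ G) (_ : Mono f) (_ : Epi g)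
    (hex : ∀ (V : C) (y : F.obj.obj (op V)), g.hom.app (op V) y = 0 →
      ∃ a, f.hom.app (op V) a = y)
    (hfg : ∀ (V : C) a, g.hom.app (op V) (f.hom.app (op V) a) = 0)
    (q : cst J ZZ ⟶ G) (b : cst J ZZ ⟶ F) (hbq : b ≫ g = φ ≫ q) :
    ∃ c, c ≫ g = q := by
  have hnm : ∀ (i : ι) (V : C), (V ⟶ U i) →
      g.hom.app (op V) (ev J b V) = n i • ev J q V := fun i V k => by
    refine (ConcreteCategory.congr_hom (NatTrans.congr_app
      (congrArg InducedCategory.Hom.hom hbq) (op V)) (one J V)).trans ?_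
    refine (congrArg (fun m => q.hom.app (op V) (m.hom (one J V))) (hφ i V k)).trans ?_
    exact map_zsmul (q.hom.app (op V)).hom (n i) (one J V)
  -- the good lifts
  let Good : ∀ W : C, F.obj.obj (op W) → Prop := fun W y =>
    g.hom.app (op W) y = ev J q W ∧ ∀ (V : C) (h : V ⟶ W) (i : ι), (V ⟶ U i) →
      ∃ S ∈ J V, ∀ ⦃V' : C⦄ (k : V' ⟶ V), S k → ∃ α : A,
        n i • F.obj.map (k ≫ h).op y - ev J b V' = f.hom.app (op V') (η J A V' (rep A (n i) α))
  have hmap : ∀ {W W' : C} (k : W' ⟶ W) y, Good W y → Good W' (F.obj.map k.op y) := by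
    rintro W W' k y ⟨h1, h2⟩
    refine ⟨?_, fun V h i j => ?_⟩
    · rw [NatTrans.naturality_apply, h1, map_ev]
    · obtain ⟨S, hS, hS'⟩ := h2 V (h ≫ k) i j
      refine ⟨S, hS, fun V' k' hk' => ?_⟩
      obtain ⟨α, hα⟩ := hS' k' hk'
      exact ⟨α, by rw [map_comp_apply, Category.assoc]; exact hα⟩
  have huniq : ∀ (W : C) (y y' : F.obj.obj (op W)), Good W y → Good W y' → y = y' := by
    intro W y y' hy hy'
    obtain ⟨a, ha⟩ := hex W (y - y') (by rw [map_sub, hy.1, hy'.1, sub_self])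
    suffices a = 0 by
      rw [this, map_zero] at ha
      exact sub_eq_zero.1 ha.symm
    obtain ⟨R, hR, hR'⟩ := hcov W
    refine ext_cover _ hR fun V h hh => ?_
    obtain ⟨i, ⟨j⟩⟩ := hR' h hh
    obtain ⟨S, hS₁, hS₂⟩ := hy.2 V h i j
    obtain ⟨S', hS₁', hS₂'⟩ := hy'.2 V h i j
    obtain ⟨S'', hS₁'', hS₂''⟩ := locally_const A ((cst J A).obj.map h.op a)
    rw [map_zero]
    refine ext_cover _ (J.intersection_covering (J.intersection_covering hS₁ hS₁') hS₁'')
      fun V' k hk => ?_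
    obtain ⟨α, hα⟩ := hS₂ k hk.1.1
    obtain ⟨α', hα'⟩ := hS₂' k hk.1.2
    obtain ⟨c, hc⟩ := hS₂'' k hk.2
    rw [map_comp_apply] at hc ⊢
    rw [map_zero]
    have hinj := sections_injective f V'
    have key : η J A V' (rep A (n i) α) = η J A V' (rep A (n i) α' + n i • c) := by
      refine hinj ?_
      rw [map_add, map_zsmul, map_add, map_zsmul, hc, ← hα, ← hα', NatTrans.naturality_apply, ha,
        map_sub, smul_sub]
      abel
    rcases eq_or_empty key with h1 | h1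
    · refine eq_zero_of_zsmul hA (hn i) (hinj ?_)
      rw [map_zsmul, map_zero, NatTrans.naturality_apply, ha, map_sub, smul_sub]
      have := congrArg (fun z => f.hom.app (op V') (η J A V' z)) (rep_eq_of h1)
      simp only [← hα, ← hα'] at this
      rw [sub_left_inj] at this
      rw [this, sub_self]
    · exact eq_of_empty _ h1 _ _
  -- independence of the index
  have hind : ∀ (V : C) (i j : ι), (V ⟶ U i) → (V ⟶ U j) → n i = n j ∨ (⊥ : Sieve V) ∈ J V := by
    intro V i j ki kj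
    have h := congrArg (fun m => m.hom (one J V)) ((hφ i V ki).symm.trans (hφ j V kj))
    have h' : η J ZZ V (n i • (⟨1⟩ : ULift.{u} ℤ)) = η J ZZ V (n j • (⟨1⟩ : ULift.{u} ℤ)) := by
      rw [map_zsmul, map_zsmul]
      exact h
    refine (eq_or_empty h').imp_left fun h1 => ?_
    simpa using congrArg ULift.down h1
  have hlocal : ∀ W : C, ∃ S ∈ J W, ∀ ⦃V : C⦄ (h : V ⟶ W), S h → ∃ y, Good V y := by
    intro W
    obtain ⟨R, hR, hR'⟩ := hcov W
    obtain ⟨S₀, hS₀, hS₀'⟩ := exists_local_lift g (ev J q W)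
    let P : Sieve W :=
      { arrows := fun V h => ∃ y, Good V y
        downward_closed := fun ⟨y, hy⟩ k => ⟨_, hmap k y hy⟩ }
    refine ⟨P, J.transitive (J.intersection_covering hR hS₀) P fun V h hh => ?_, fun V h hh => hh⟩
    obtain ⟨i, ⟨j⟩⟩ := hR' h hh.1
    obtain ⟨y₀, hy₀⟩ := hS₀' h hh.2
    rw [map_ev] at hy₀
    obtain ⟨a, ha⟩ := hex V (n i • y₀ - ev J b V) (by
      rw [map_sub, map_zsmul, hy₀, hnm i V j, sub_self])
    obtain ⟨S₁, hS₁, hS₁'⟩ := locally_const A a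
    refine J.superset_covering ?_ hS₁
    intro V' k hk
    obtain ⟨m, hm⟩ := hS₁' k hk
    obtain ⟨β, hβ⟩ := exists_rep (n i) m
    refine ⟨F.obj.map k.op y₀ - f.hom.app (op V') (η J A V' β), ?_, ?_⟩
    · rw [map_sub, NatTrans.naturality_apply, hy₀, map_ev]
      refine (sub_eq_self).2 ?_
      exact hfg V' _
    · intro V'' h'' i' j'
      refine ⟨⊤, J.top_mem _, fun V₃ k₃ _ => ?_⟩
      rcases hind V₃ i i' (k₃ ≫ h'' ≫ k ≫ j) (k₃ ≫ j') with h1 | h1
      · refine ⟨m, ?_⟩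
        have e1 := congrArg (F.obj.map (k₃ ≫ h'' ≫ k).op) ha
        rw [← NatTrans.naturality_apply, map_sub, map_zsmul, map_ev] at e1
        have e2 : (cst J A).obj.map (k₃ ≫ h'' ≫ k).op a = η J A V₃ m := by
          rw [← Category.assoc, ← map_comp_apply _ k (k₃ ≫ h''), ← hm, map_η]
        rw [e2] at e1
        rw [← h1, map_sub, ← NatTrans.naturality_apply, map_η, map_comp_apply, Category.assoc,
          smul_sub, sub_right_comm, ← e1, ← map_zsmul, ← map_zsmul, ← map_sub, ← map_sub]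
        exact congrArg (fun z => f.hom.app (op V₃) (η J A V₃ z)) (eq_sub_of_add_eq hβ).symm
      · exact ⟨0, eq_of_empty _ h1 _ _⟩
  have hglob : ∀ W : C, ∃ y, Good W y := by
    intro W
    obtain ⟨S, hS', hS''⟩ := hlocal W
    choose y hy using hS''
    obtain ⟨t, ht, -⟩ := existsUnique_amalgamation F
      (fun i : Σ V : C, { h : V ⟶ W // S h } => i.2.1)
      (J.superset_covering (fun V h hh =>
        Sieve.ofArrows_mk (fun i : Σ V : C, { h : V ⟶ W // S h } => i.1) (fun i => i.2.1)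
          ⟨V, h, hh⟩) hS')
      (fun i => y i.2.1 i.2.2)
      (fun i j Z gi gj hij => huniq Z _ _ (hmap gi _ (hy i.2.1 i.2.2)) (hmap gj _ (hy j.2.1 j.2.2)))
    refine ⟨t, ext_cover _ hS' fun V h hh => ?_, fun V h i j => ?_⟩
    · rw [← NatTrans.naturality_apply, ht ⟨V, h, hh⟩, (hy h hh).1, map_ev]
    · refine ⟨Sieve.bind (S.pullback h).arrows fun V' k hk =>
        ((hy (k ≫ h) hk).2 V' (𝟙 V') i (k ≫ j)).choose,
        J.bind_covering (J.pullback_stable h hS') fun V' k hk =>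
          ((hy (k ≫ h) hk).2 V' (𝟙 V') i (k ≫ j)).choose_spec.1, ?_⟩
      rintro V'' _ ⟨V', k', k, hk, hk', rfl⟩
      obtain ⟨α, hα⟩ := ((hy (k ≫ h) hk).2 V' (𝟙 V') i (k ≫ j)).choose_spec.2 k' hk'
      refine ⟨α, ?_⟩
      rw [Category.comp_id] at hα
      rw [← ht ⟨V', k ≫ h, hk⟩, map_comp_apply] at hα
      rw [Category.assoc]
      exact hα
  choose y hy using hglob
  obtain ⟨c, hc⟩ := exists_hom_ev y fun {V W} k => huniq W _ _ (hmap k _ (hy V)) (hy W)
  refine ⟨c, hom_ext_ev fun V => ?_⟩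
  change g.hom.app (op V) (ev J c V) = _
  rw [hc]
  exact (hy V).1


/-- A first cohomology class killed by a locally nonzero multiplier vanishes. -/
theorem eq_zero (hA : ∀ (m : ℤ) (a : A), m ≠ 0 → m • a = 0 → a = 0)
    (φ : cst J ZZ ⟶ cst J ZZ) (U : ι → C) (n : ι → ℤ) (hn : ∀ i, n i ≠ 0)
    (hφ : ∀ (i : ι) (V : C) (_ : V ⟶ U i), φ.hom.app (op V) = n i • 𝟙 _)
    (hcov : ∀ V : C, ∃ R ∈ J V, ∀ ⦃W : C⦄ (g : W ⟶ V), R g → ∃ i, Nonempty (W ⟶ U i))
    (x : Ext (cst J ZZ) (cst J A) 1) (hx : (Ext.mk₀ φ).comp x (zero_add 1) = 0) : x = 0 := by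
  have hS := injEmbed_shortExact (cst J A)
  have : Injective (injEmbed (cst J A)).X₂ := inferInstanceAs (Injective (Injective.under _))
  have hsub : Subsingleton (Ext (cst J ZZ) (injEmbed (cst J A)).X₂ 1) :=
    Ext.subsingleton_of_injective _ _ 0
  obtain ⟨y, rfl⟩ := Ext.covariant_sequence_exact₁ _ hS x (Subsingleton.elim _ _) (zero_add 1)
  obtain ⟨q, rfl⟩ := (Ext.mk₀_bijective (cst J ZZ) (injEmbed (cst J A)).X₃).2 y
  rw [Ext.mk₀_comp_mk₀_assoc] at hx
  obtain ⟨y, hy⟩ := Ext.covariant_sequence_exact₃ _ hS _ (zero_add 1) hx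
  obtain ⟨b, rfl⟩ := (Ext.mk₀_bijective (cst J ZZ) (injEmbed (cst J A)).X₂).2 y
  rw [Ext.mk₀_comp_mk₀] at hy
  have hbq : b ≫ (injEmbed (cst J A)).g = φ ≫ q :=
    (Ext.mk₀_bijective (cst J ZZ) (injEmbed (cst J A)).X₃).1 hy
  obtain ⟨c, hc⟩ := exists_lift hA φ U n hn hφ hcov (injEmbed (cst J A)).f (injEmbed (cst J A)).g
    hS.mono_f hS.epi_g (fun V y hy => sections_exact hS V y hy)
    (fun V a => sections_comp_eq_zero (S := injEmbed (cst J A)) V a) q b hbq
  rw [← hc, ← Ext.mk₀_comp_mk₀, Ext.comp_assoc_of_second_deg_zero, hS.comp_extClass, Ext.comp_zero]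

end Groth.Agent.HTop16.LocNonzero
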