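import Groth.Agent.HTop16.LocGenProps
import Mathlib.LinearAlgebra.Pi

/-!
# Finitely presented modules on ringed spaces, in terms of germs
-/

set_option autoImplicit false
set_option backward.isDefEq.respectTransparency false
set_option backward.isDefEq.respectTransparency.types false
set_option linter.all false

universe u

open CategoryTheory CategoryTheory.Limits Opposite TopologicalSpace
open Groth.Agent.DerCompLib Groth.Agent.FModLib

namespace Groth.Agent.HTop16.LocGen

variable {T : TopCat.{u}} {O : Sheaf (Opens.grothendieckTopology T) CommRingCat.{u}}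

/-- Germs of a vector of functions. -/
noncomputable def gv {U : Opens T} {I : Type*} (x : T) (hx : x ∈ U) (c : I → O.obj.obj (op U)) :
    I → Rx O x := fun k => gr x hx (c k)

lemma gr_eq {U : Opens T} (x : T) (hx : x ∈ U) (a b : O.obj.obj (op U)) (h : gr x hx a = gr x hx b) :
    ∃ (W : Opens T) (i : W ≤ U), x ∈ W ∧ oRes O i a = oRes O i b := by
  obtain ⟨W, g, ⟨⟨hw⟩⟩, -, e⟩ :=
    ((pt x).toPresheafFiber_eq_iff' (P := O.obj) U ⟨⟨hx⟩⟩ a b).1 h
  exact ⟨W, leOfHom g, hw, e⟩

/-- Functions with the same germs agree. -/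
lemma ring_ext_gr {U : Opens T} (a b : O.obj.obj (op U))
    (h : ∀ (x : T) (hx : x ∈ U), gr x hx a = gr x hx b) : a = b := by
  choose W i hW e using fun (p : {x : T // x ∈ U}) => gr_eq p.1 p.2 a b (h p.1 p.2)
  refine DerCompLib.sec_ext (ModSite.unit O) (Sieve.ofArrows W fun p => homOfLE (i p)) ?_ a b ?_
  · intro x hx
    exact ⟨W ⟨x, hx⟩, homOfLE (i ⟨x, hx⟩), Sieve.ofArrows_mk _ _ _, hW ⟨x, hx⟩⟩
  · intro V k hk
    obtain ⟨p, g, rfl⟩ := (Sieve.mem_ofArrows_iff _ _ _).1 hk
    rw [← secRes_comp, ← secRes_comp]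
    exact congrArg (secRes (ModSite.unit O) g) (e p)

lemma exists_lift_vec {I : Type*} [Finite I] (x : T) {U : Opens T} (hx : x ∈ U) (g : I → Rx O x) :
    ∃ (W : Opens T) (i : W ≤ U) (hW : x ∈ W) (c : I → O.obj.obj (op W)), gv x hW c = g := by
  choose W hW a ha using fun k => exists_gr (O := O) x (g k)
  obtain ⟨V, i, hxV, hle⟩ := exists_inter W U x hx hW
  exact ⟨V, i, hxV, fun k => oRes O (hle k) (a k), funext fun k => (gr_res (hle k) x hxV (a k)).trans (ha k)⟩

lemma gm_comb (M : ModSite.Mod O) {U V : Opens T} (i : V ≤ U) {I : Type*} [Fintype I]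
    (c : I → O.obj.obj (op V)) (s : I → Sec M U) (x : T) (hx : x ∈ V) :
    gm M x hx (∑ k, c k • mRes M i (s k)) = ∑ k, gv x hx c k • gm M x (i hx) (s k) := by
  rw [map_sum]
  exact Finset.sum_congr rfl fun k _ => by rw [gm_smul, gm_res]; rfl

lemma gm_comb' (M : ModSite.Mod O) {U : Opens T} {I : Type*} [Fintype I]
    (c : I → O.obj.obj (op U)) (s : I → Sec M U) (x : T) (hx : x ∈ U) :
    gm M x hx (∑ k, c k • s k) = ∑ k, gv x hx c k • gm M x hx (s k) := by
  rw [map_sum]
  exact Finset.sum_congr rfl fun k _ => by rw [gm_smul]; rfl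

lemma gv_res {U V : Opens T} (i : V ≤ U) {I : Type*} (c : I → O.obj.obj (op U)) (x : T) (hx : x ∈ V) :
    gv x hx (fun k => oRes O i (c k)) = gv x (i hx) c := funext fun k => gr_res i x hx (c k)

/-- Every relation between the germs of `s` comes from the relations `r`. -/
def RelSpans (M : ModSite.Mod O) {U : Opens T} {I L : Type*} [Fintype I] (s : I → Sec M U)
    (r : L → I → O.obj.obj (op U)) : Prop :=
  ∀ (x : T) (hx : x ∈ U) (g : I → Rx O x), ∑ k, g k • gm M x hx (s k) = 0 →
    g ∈ Submodule.span (Rx O x) (Set.range fun l => gv x hx (r l))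

/-- Generators and relations on an open. -/
structure Pres (M : ModSite.Mod O) (U : Opens T) where
  I : Type u
  L : Type u
  [fI : Fintype I]
  [fL : Fintype L]
  s : I → Sec M U
  r : L → I → O.obj.obj (op U)
  spans : Spans M s
  rel : ∀ l, ∑ k, r l k • s k = 0
  relSpans : RelSpans M s r

attribute [instance] Pres.fI Pres.fL

/-- Finite presentation, elementwise. -/
def FP (M : ModSite.Mod O) : Prop := ∀ x : T, ∃ U : Opens T, x ∈ U ∧ Nonempty (Pres M U)

/-- Restriction of generators and relations. -/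
noncomputable def Pres.res {M : ModSite.Mod O} {U : Opens T} (P : Pres M U) {V : Opens T}
    (i : V ≤ U) : Pres M V where
  I := P.I
  L := P.L
  s k := mRes M i (P.s k)
  r l k := oRes O i (P.r l k)
  spans := P.spans.res i
  rel l := by
    have h := congrArg (mRes M i) (P.rel l)
    rw [map_sum, map_zero] at h
    exact Eq.trans (Finset.sum_congr rfl fun k _ => (mRes_smul i _ _).symm) h
  relSpans x hx g hg := by
    have h0 : ∑ k, g k • gm M x (i hx) (P.s k) = 0 :=
      Eq.trans (Finset.sum_congr rfl fun k _ => congrArg (g k • ·) (gm_res M i x hx (P.s k)).symm) hg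
    have := P.relSpans x (i hx) g h0
    simp only [gv_res]
    exact this

lemma FP.ft {M : ModSite.Mod O} (h : FP M) : FT M := fun x => by
  obtain ⟨U, hxU, ⟨P⟩⟩ := h x
  obtain ⟨n, ⟨e⟩⟩ := Finite.exists_equiv_fin P.I
  refine ⟨U, n, fun k => P.s (e.symm k), hxU, fun y hy => ?_⟩
  rw [← P.spans y hy]
  congr 1
  exact e.symm.surjective.range_comp (fun k => gm M y hy (P.s k))

section FromPresentation

variable {U : Opens T} {M : ModSite.Mod O}
  (Pr : SheafOfModules.Presentation (M := (ModSite.restr O U).obj M)) [Fintype Pr.generators.I]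

/-- The relations of a presentation generate the relations of the germs. -/
theorem relSpans_relVec :
    RelSpans M (fun l => atTop (Pr.generators.s l)) (fun l j => relVec Pr l j) := by
  classical
  intro y hy g hg
  let N := Submodule.span (Rx O y) (Set.range fun l => gv y hy (relVec Pr l))
  let A : ModuleCat.{u} (Rx O y) := ModuleCat.of _ ((Pr.generators.I → Rx O y) ⧸ N)
  let S := (SiteStalk.sky (pt y) (O := O)).obj A
  let e : Pr.generators.I → A := fun i => N.mkQ (Pi.single i 1)
  have he : ∀ v : Pr.generators.I → Rx O y, ∑ i, v i • e i = N.mkQ v := fun v => by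
    conv_rhs => rw [pi_eq_sum_univ' v]
    rw [map_sum]
    exact Finset.sum_congr rfl fun i _ => (map_smul N.mkQ _ _).symm
  let val : Pr.generators.I → Sec ((ModSite.restr O U).obj S) (ovTop U) := fun i =>
    ((fun _ => e i) : SiteStalk.SkySec (pt y) A (op U))
  obtain ⟨α, hα⟩ := exists_over_hom Pr ((ModSite.restr O U).obj S) val fun l => by
    funext q
    obtain ⟨⟨hq⟩⟩ := q
    refine Eq.trans (Finset.sum_apply _ _ _) ?_
    refine Eq.trans (Finset.sum_congr rfl fun i _ => ?_)
      ((he (gv y hy (relVec Pr l))).trans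
        ((Submodule.Quotient.mk_eq_zero N).2 (Submodule.subset_span ⟨l, rfl⟩)))
    rfl
  obtain ⟨W1, i1, hy1, c, rfl⟩ := exists_lift_vec y hy g
  obtain ⟨W2, i2, hy2, e2⟩ := gm_eq M y hy1 (∑ j, c j • mRes M i1 (atTop (Pr.generators.s j))) 0
    (by rw [gm_comb, map_zero]; exact hg)
  rw [map_sum, map_zero] at e2
  let V : Over U := ov (i2.trans i1)
  have h0 : secMap α V (∑ j, (oRes O i2 (c j) : (O.over U).obj.obj (op V)) •
      secRes _ (toTop V) (gens Pr j)) = 0 := by
    rw [← map_zero (secMap α V)]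
    refine congrArg (secMap α V) (Eq.trans (Finset.sum_congr rfl fun j _ => ?_) e2)
    rw [mRes_smul, mRes_mRes]
    rfl
  rw [map_sum] at h0
  have h1 := congrFun h0 ⟨⟨hy2⟩⟩
  refine (Submodule.Quotient.mk_eq_zero N).1 (((he _).symm.trans ?_).trans h1)
  let ev : Sec ((ModSite.restr O U).obj S) V →+ A :=
    AddMonoidHom.mk' (fun z => (z : SiteStalk.SkySec (pt y) A (op W2)) ⟨⟨hy2⟩⟩) fun _ _ => rfl
  refine Eq.trans (Finset.sum_congr rfl fun j _ => ?_) (map_sum ev _ _).symm
  show _ = ev _
  rw [map_smul, secMap_secRes', hα]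
  exact congrArg (fun r : Rx O y => r • e j) (gr_res i2 y hy2 (c j)).symm

end FromPresentation

theorem fp_of_isFinitePresentation (M : ModSite.Mod O)
    [h : SheafOfModules.IsFinitePresentation (R := ModSite.ringSh O) M] : FP M := fun x => by
  obtain ⟨σ, hσ⟩ := h.exists_quasicoherentData
  obtain ⟨W, g, ⟨i, ⟨k⟩⟩, hxW⟩ := σ.coversTop ⊤ x trivial
  let Pr : SheafOfModules.Presentation (M := (ModSite.restr O (σ.X i)).obj M) := σ.presentation i
  haveI hPr : Pr.IsFinite := hσ.isFinite_presentation i
  haveI : Finite Pr.generators.I := SheafOfModules.GeneratingSections.IsFiniteType.finite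
  haveI : Finite Pr.relations.I := SheafOfModules.GeneratingSections.IsFiniteType.finite
  letI := Fintype.ofFinite Pr.generators.I
  letI := Fintype.ofFinite Pr.relations.I
  exact ⟨σ.X i, leOfHom k hxW, ⟨{
    I := Pr.generators.I
    L := Pr.relations.I
    s := fun l => atTop (Pr.generators.s l)
    r := fun l j => relVec Pr l j
    spans := spans_of_gen Pr.generators
    rel := fun l => sum_relVec_gens Pr l
    relSpans := relSpans_relVec Pr }⟩⟩

section ToPresentation

variable {U : Opens T} {M : ModSite.Mod O} {I L : Type u} [Fintype I] [Fintype L]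
  (s : I → Sec M U) (r : L → I → O.obj.obj (op U))

/-- The map defined by the generators. -/
noncomputable abbrev genπ :
    SheafOfModules.free (R := ModSite.ringSh (O.over U)) I ⟶ (ModSite.restr O U).obj M :=
  ((ModSite.restr O U).obj M).freeHomEquiv.symm fun k => mkSec ((ModSite.restr O U).obj M) (s k)

lemma secMap_genπ (V : Over U) (p : Sec (SheafOfModules.free (R := ModSite.ringSh (O.over U)) I) V) :
    secMap (genπ s) V p =
      ∑ k, coordAt (O.over U) V p k • secRes ((ModSite.restr O U).obj M) (toTop V) (s k) := by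
  refine (secMap_free (O.over U) (genπ s) V p).trans (Finset.sum_congr rfl fun k _ => ?_)
  exact congrArg (coordAt (O.over U) V p k • ·) (imgVec_mkSec ((ModSite.restr O U).obj M) s V k)

/-- A section of the kernel is locally a combination of the relations. -/
lemma exists_comb_rel (hrel : RelSpans M s r) (V : Opens T) (i : V ≤ U) (c : I → O.obj.obj (op V))
    (hc : ∑ k, c k • mRes M i (s k) = 0) (y : T) (hy : y ∈ V) :
    ∃ (W : Opens T) (j : W ≤ V), y ∈ W ∧ ∃ a : L → O.obj.obj (op W),
      ∀ k, ∑ l, a l * oRes O (j.trans i) (r l k) = oRes O j (c k) := by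
  have hmem := hrel y (i hy) (gv y hy c) (by
    have := congrArg (gm M y hy) hc
    rw [gm_comb, map_zero] at this
    exact this)
  obtain ⟨g, hg⟩ := (Submodule.mem_span_range_iff_exists_fun _).1 hmem
  obtain ⟨W, j, hyW, a, rfl⟩ := exists_lift_vec y hy g
  have he : ∀ k, gr y hyW (∑ l, a l * oRes O (j.trans i) (r l k)) = gr y hyW (oRes O j (c k)) := fun k => by
    rw [gr_res, map_sum]
    refine Eq.trans ?_ (congrFun hg k)
    rw [Finset.sum_apply]
    refine Finset.sum_congr rfl fun l _ => ?_
    rw [map_mul, gr_res]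
    rfl
  choose W' j' hW' e' using fun k => gr_eq y hyW _ _ (he k)
  obtain ⟨W'', i'', hyW'', hle⟩ := exists_inter W' W y hyW hW'
  refine ⟨W'', i''.trans j, hyW'', fun l => oRes O i'' (a l), fun k => ?_⟩
  have := congrArg (oRes O (hle k)) (e' k)
  simp only [map_sum, map_mul, oRes_oRes] at this
  refine Eq.trans ?_ this
  refine Finset.sum_congr rfl fun l _ => ?_
  rfl

lemma exists_rel_sec (hr : ∀ l, ∑ k, r l k • s k = 0) (l : L) :
    ∃ κ : Sec (kernel (genπ s)) (ovTop U), ∀ k,
      coordAt (O.over U) (ovTop U) (secMap (kernel.ι (genπ s)) (ovTop U) κ) k = r l k := by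
  let p : Sec (SheafOfModules.free (R := ModSite.ringSh (O.over U)) I) (ovTop U) :=
    ∑ k, (r l k : (O.over U).obj.obj (op (ovTop U))) • freeVec (O.over U) k (ovTop U)
  have hp : ∀ k, coordAt (O.over U) (ovTop U) p k = r l k := fun k =>
    coordAt_sum_smul_freeVec (O.over U) (ovTop U) _ k
  obtain ⟨κ, hκ⟩ := exists_kernel_sec (genπ s) (ovTop U) p (by
    refine (secMap_genπ s (ovTop U) p).trans (Eq.trans (Finset.sum_congr rfl fun k _ => ?_) (hr l))
    rw [hp, secRes_toTop_self])
  exact ⟨κ, fun k => by rw [hκ]; exact hp k⟩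

lemma coordAt_relπ (κ : L → Sec (kernel (genπ s)) (ovTop U))
    (hκ : ∀ l k, coordAt (O.over U) (ovTop U) (secMap (kernel.ι (genπ s)) (ovTop U) (κ l)) k = r l k)
    (V : Over U) (l : L) (k : I) :
    coordAt (O.over U) V (secMap (kernel.ι (genπ s)) V (secRes _ (toTop V) (κ l))) k =
      oRes O (leOfHom V.hom) (r l k) := by
  show secMap (coord (O.over U) k) V _ = _
  rw [secMap_secRes', secMap_secRes']
  exact congrArg (oRes O (leOfHom V.hom)) (hκ l k)

/-- A row of relations, as functions on an open over `U`. -/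
noncomputable def relRow (V : Over U) (l : L) (k : I) : (O.over U).obj.obj (op V) :=
  oRes O (leOfHom V.hom) (r l k)

lemma coordAt_comb_relπ (κ : L → Sec (kernel (genπ s)) (ovTop U))
    (hκ : ∀ l k, coordAt (O.over U) (ovTop U) (secMap (kernel.ι (genπ s)) (ovTop U) (κ l)) k = r l k)
    (π' : SheafOfModules.free (R := ModSite.ringSh (O.over U)) L ⟶ kernel (genπ s))
    (hπ' : ∀ (V : Over U) (l : L),
      imgVec (O.over U) π' V l = secRes (kernel (genπ s)) (toTop V) (κ l))
    (V : Over U) (y : L → (O.over U).obj.obj (op V)) (k : I) :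
    coordAt (O.over U) V (secMap (kernel.ι (genπ s)) V
        (secMap π' V (∑ l, y l • freeVec (O.over U) l V))) k =
      ∑ l, y l * relRow r V l k := by
  have h : secMap π' V (∑ l, y l • freeVec (O.over U) l V) =
      ∑ l, y l • imgVec (O.over U) π' V l := secMap_comb π' V y
  rw [h]
  refine coordAt_map_comb (O.over U) (kernel.ι (genπ s)) y _ (relRow r V) (fun l => ?_) k
  refine free_ext (O.over U) V fun k => ?_
  rw [coordAt_sum_smul_freeVec, hπ']
  exact coordAt_relπ s r κ hκ V l k

theorem epi_relπ (κ : L → Sec (kernel (genπ s)) (ovTop U))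
    (hκ : ∀ l k, coordAt (O.over U) (ovTop U) (secMap (kernel.ι (genπ s)) (ovTop U) (κ l)) k = r l k)
    (hrel : RelSpans M s r) :
    Epi ((kernel (genπ s)).freeHomEquiv.symm fun l => mkSec (kernel (genπ s)) (κ l)) := by
  have hπ' : ∀ (V : Over U) (l : L), imgVec (O.over U)
      ((kernel (genπ s)).freeHomEquiv.symm fun l => mkSec (kernel (genπ s)) (κ l)) V l =
        secRes (kernel (genπ s)) (toTop V) (κ l) := fun V l => imgVec_mkSec (kernel (genπ s)) κ V l
  generalize ((kernel (genπ s)).freeHomEquiv.symm fun l => mkSec (kernel (genπ s)) (κ l)) = π' at hπ' ⊢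
  refine FModLib.epi_of_locally π' fun V b => ?_
  have hb := kernel_sec_condition (genπ s) V b
  rw [secMap_genπ] at hb
  let cV : I → O.obj.obj (op V.left) := fun k =>
    coordAt (O.over U) V (secMap (kernel.ι (genπ s)) V b) k
  have hb' : ∑ k, cV k • mRes M (leOfHom V.hom) (s k) = 0 := hb
  choose W j hW a ha using fun p : {y : T // y ∈ V.left} =>
    exists_comb_rel s r hrel V.left (leOfHom V.hom) cV hb' p.1 p.2
  let W' : {y : T // y ∈ V.left} → Over U := fun p => ov ((j p).trans (leOfHom V.hom))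
  let kk : ∀ p, W' p ⟶ V := fun p => Over.homMk (homOfLE (j p))
  refine ⟨Sieve.ofArrows W' kk, ?_, fun Z z hz => ?_⟩
  · rw [GrothendieckTopology.mem_over_iff]
    intro y hy
    refine ⟨W ⟨y, hy⟩, homOfLE (j ⟨y, hy⟩), ?_, hW ⟨y, hy⟩⟩
    show (Sieve.overEquiv V) _ (homOfLE (j ⟨y, hy⟩))
    rw [Sieve.overEquiv_iff]
    exact Sieve.ofArrows_mk W' kk ⟨y, hy⟩
  · obtain ⟨p, g, rfl⟩ := (Sieve.mem_ofArrows_iff _ _ _).1 hz
    let a' : L → (O.over U).obj.obj (op (W' p)) := a p
    refine ⟨secRes _ g (∑ l, a' l • freeVec (O.over U) l (W' p)), ?_⟩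
    rw [secMap_secRes', ← secRes_comp]
    refine congrArg (secRes _ g) ?_
    apply kernel_sec_injective (genπ s) (W' p)
    refine free_ext (O.over U) (W' p) fun k => ?_
    refine (coordAt_comb_relπ s r κ hκ π' hπ' (W' p) a' k).trans ?_
    refine (ha p k).trans ?_
    show _ = secMap (coord (O.over U) k) (W' p) _
    rw [secMap_secRes', secMap_secRes']
    rfl

theorem exists_presentation (hs : Spans M s) (hr : ∀ l, ∑ k, r l k • s k = 0)
    (hrel : RelSpans M s r) :
    ∃ Pr : SheafOfModules.Presentation (M := (ModSite.restr O U).obj M), Pr.IsFinite := by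
  choose κ hκ using exists_rel_sec s r hr
  let gens := genOfSpans s hs
  let rels : SheafOfModules.GeneratingSections (kernel gens.π) :=
    { I := L
      s := fun l => mkSec _ (κ l)
      epi := epi_relπ s r κ hκ hrel }
  haveI : gens.IsFiniteType := ⟨inferInstanceAs (Finite I)⟩
  haveI : rels.IsFiniteType := ⟨inferInstanceAs (Finite L)⟩
  exact ⟨⟨gens, rels⟩, { }⟩

end ToPresentation

theorem isFinitePresentation_of_fp {M : ModSite.Mod O} (h : FP M) :
    SheafOfModules.IsFinitePresentation (R := ModSite.ringSh O) M := by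
  choose U hxU P using h
  choose Pr hPr using fun x => exists_presentation (P x).some.s (P x).some.r (P x).some.spans
    (P x).some.rel (P x).some.relSpans
  let σ : SheafOfModules.QuasicoherentData.{u} (R := ModSite.ringSh O) M :=
    { I := ↥T
      X := U
      coversTop := coversTop_of_mem U fun x => ⟨x, hxU x⟩
      presentation := Pr }
  haveI hfin : σ.IsFinitePresentation := { isFinite_presentation := fun (x : ↥T) => hPr x }
  exact { exists_quasicoherentData := ⟨σ, hfin⟩ }

end Groth.Agent.HTop16.LocGen
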