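import Groth.Agent.HTop16.LocPres
import Mathlib.RingTheory.LocalRing.Module
import Mathlib.RingTheory.Finiteness.Projective

/-!
# Kernels, cokernels and stalkwise bases of finitely presented modules on ringed spaces
-/

set_option autoImplicit false
set_option backward.isDefEq.respectTransparency false
set_option backward.isDefEq.respectTransparency.types false
set_option linter.all false

universe u

open CategoryTheory CategoryTheory.Limits Opposite TopologicalSpace
open Groth.Agent.DerCompLib Groth.Agent.FModLib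

namespace Groth.Agent.HTop16.LocGen

variable {T : TopCat.{u}} {O : Sheaf (Opens.grothendieckTopology T) CommRingCat.{u}}

lemma injective_sm_of_mono {M N : ModSite.Mod O} (q : M ⟶ N) [Mono q] (x : T) :
    Function.Injective (sm q x) :=
  (ModuleCat.mono_iff_injective _).1 (inferInstanceAs (Mono ((SiteStalk.stalkM (pt x)).map q)))

lemma secMap_comb' {M N : ModSite.Mod O} (q : M ⟶ N) {V : Opens T} {I : Type*} [Fintype I]
    (c : I → O.obj.obj (op V)) (v : I → Sec M V) :
    secMap q V (∑ k, c k • v k) = ∑ k, c k • secMap q V (v k) := by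
  rw [map_sum]
  exact Finset.sum_congr rfl fun k _ => map_smul _ _ _

/-- Near a point, a finite family of sections is a combination of generators. -/
lemma exists_coeffs {M : ModSite.Mod O} {U : Opens T} {J I : Type*} [Fintype I] [Finite J]
    (s : I → Sec M U) (b : J → Sec M U) (x : T) (hx : x ∈ U)
    (h : ∀ j, gm M x hx (b j) ∈ Submodule.span (Rx O x) (Set.range fun k => gm M x hx (s k))) :
    ∃ (V : Opens T) (i : V ≤ U), x ∈ V ∧ ∃ a : J → I → O.obj.obj (op V),
      ∀ j, ∑ k, a j k • mRes M i (s k) = mRes M i (b j) := by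
  choose W w hW a ha using fun j => exists_comb_fintype s (le_refl U) (b j) x hx (h j)
  obtain ⟨V, i, hxV, hle⟩ := exists_inter W U x hx hW
  refine ⟨V, i, hxV, fun j k => oRes O (hle j) (a j k), fun j => ?_⟩
  have := congrArg (mRes M (hle j)) (ha j)
  simp only [map_sum, mRes_smul, mRes_mRes] at this
  exact this

/-- The germ of a combination with coefficients that are themselves combinations. -/
lemma sum_sum_gm {M : ModSite.Mod O} {y : T} {J I : Type*} [Fintype I] [Fintype J]
    (c : J → Rx O y) (a : J → I → Rx O y) (m : I → Stk y M) :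
    ∑ j, c j • ∑ k, a j k • m k = ∑ k, (∑ j, c j * a j k) • m k := by
  simp only [Finset.smul_sum, smul_smul, Finset.sum_smul]
  exact Finset.sum_comm

theorem fp_cokernel {G F : ModSite.Mod O} (φ : G ⟶ F) (hG : FT G) (hF : FP F) :
    FP (cokernel φ) := fun x => by
  obtain ⟨U₁, n, g, hx₁, hg⟩ := hG x
  obtain ⟨U₂, hx₂, ⟨P₀⟩⟩ := hF x
  let P := P₀.res (V := U₁ ⊓ U₂) inf_le_right
  obtain ⟨V, i, hxV, a, ha⟩ := exists_coeffs P.s
    (fun k : ULift.{u} (Fin n) => secMap φ (U₁ ⊓ U₂) (mRes G inf_le_left (g k.down))) x ⟨hx₁, hx₂⟩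
    fun k => (P.spans x ⟨hx₁, hx₂⟩).symm ▸ Submodule.mem_top
  let Q := P.res i
  have hπ : ∀ (y : T) (hy : y ∈ V) (k : Q.I),
      sm (cokernel.π φ) y (gm F y hy (Q.s k)) = gm (cokernel φ) y hy (secMap (cokernel.π φ) V (Q.s k)) :=
    fun y hy k => sm_gm _ y hy _
  refine ⟨V, hxV, ⟨{
    I := Q.I
    L := Q.L ⊕ ULift.{u} (Fin n)
    s := fun k => secMap (cokernel.π φ) V (Q.s k)
    r := Sum.elim Q.r a
    spans := fun y hy => by
      have h := congrArg (Submodule.map (sm (cokernel.π φ) y)) (Q.spans y hy)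
      rw [Submodule.map_span, Submodule.map_top,
        LinearMap.range_eq_top.2 (surjective_sm_of_epi _ y), ← Set.range_comp] at h
      exact Eq.trans (congrArg (fun f => Submodule.span (Rx O y) (Set.range f))
        (funext fun k => (hπ y hy k).symm)) h
    rel := fun l => by
      rw [← secMap_comb']
      rcases l with l | k
      · exact (congrArg (secMap (cokernel.π φ) V) (Q.rel l)).trans (map_zero _)
      · refine (congrArg (secMap (cokernel.π φ) V) (ha k)).trans ?_
        rw [← secMap_mRes φ]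
        exact congrArg (fun ψ => secMap ψ V (mRes G i (mRes G inf_le_left (g k.down))))
          (cokernel.condition φ)
    relSpans := fun y hy c hc => by
      set N := Submodule.span (Rx O y) (Set.range fun l => gv y hy (Sum.elim Q.r a l))
      have hz : sm (cokernel.π φ) y (∑ k, c k • gm F y hy (Q.s k)) = 0 := by
        rw [map_sum]
        refine Eq.trans (Finset.sum_congr rfl fun k _ => ?_) hc
        rw [map_smul, hπ]
      obtain ⟨z, hz⟩ := (ShortComplex.moduleCat_exact_iff _).1
        ((ShortComplex.exact_of_g_is_cokernel (ShortComplex.mk φ (cokernel.π φ) (cokernel.condition φ))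
          (cokernelIsCokernel φ)).map (SiteStalk.stalkM (pt y))) _ hz
      have hsp := ((hg.res (inf_le_left (b := U₂))).res i) y hy
      obtain ⟨e, he⟩ := (Submodule.mem_span_range_iff_exists_fun _).1 (hsp.symm ▸ Submodule.mem_top :
        z ∈ Submodule.span (Rx O y) (Set.range fun k => gm G y hy (mRes G i (mRes G inf_le_left (g k)))))
      let d : Q.I → Rx O y := fun j => ∑ k : ULift.{u} (Fin n), e k.down * gr y hy (a k j)
      have hd : d ∈ N := by
        have : d = ∑ k : ULift.{u} (Fin n), e k.down • gv y hy (a k) := funext fun j => by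
          rw [Finset.sum_apply]
          rfl
        rw [this]
        exact Submodule.sum_mem _ fun k _ => Submodule.smul_mem _ _ (Submodule.subset_span ⟨Sum.inr k, rfl⟩)
      have hz' : sm φ y z = ∑ j, d j • gm F y hy (Q.s j) := by
        rw [← he, map_sum, ← sum_sum_gm, ← Equiv.ulift.{u}.sum_comp]
        refine Finset.sum_congr rfl fun k _ => ?_
        rw [map_smul, sm_gm]
        congr 1
        refine Eq.trans ?_ (gm_comb' F (a k) Q.s y hy)
        refine congrArg (gm F y hy) (Eq.trans ?_ (ha k).symm)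
        rw [secMap_mRes]
        rfl
      have hcd : c - d ∈ N := by
        refine Submodule.span_mono ?_ (Q.relSpans y hy (c - d) ?_)
        · rintro _ ⟨l, rfl⟩
          exact ⟨Sum.inl l, rfl⟩
        · simp only [Pi.sub_apply, sub_smul, Finset.sum_sub_distrib]
          rw [← hz', sub_eq_zero]
          exact hz.symm
      simpa using N.add_mem hcd hd }⟩⟩

theorem ft_kernel {G F : ModSite.Mod O} (θ : G ⟶ F) [Epi θ] (hG : FT G) (hF : FP F) :
    FT (kernel θ) := ft_mk _ fun x => by
  obtain ⟨U₁, n, g, hx₁, hg⟩ := hG x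
  obtain ⟨U₂, hx₂, ⟨P₀⟩⟩ := hF x
  choose W w hW h hh using fun j : P₀.I =>
    exists_lift_of_surjective θ x hx₂ (surjective_sm_of_epi θ x) (P₀.s j)
  obtain ⟨U, u, hxU, hle⟩ := exists_inter W (U₁ ⊓ U₂) x ⟨hx₁, hx₂⟩ hW
  let P := P₀.res (u.trans inf_le_right)
  obtain ⟨V, i, hxV, a, ha⟩ := exists_coeffs P.s
    (fun k : Fin n => secMap θ U (mRes G (u.trans inf_le_left) (g k))) x hxU
    fun k => (P.spans x hxU).symm ▸ Submodule.mem_top
  let Q := P.res i
  let gV : Fin n → Sec G V := fun k => mRes G i (mRes G (u.trans inf_le_left) (g k))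
  let hV : Q.I → Sec G V := fun j => mRes G i (mRes G (hle j) (h j))
  have hhV : ∀ j, secMap θ V (hV j) = Q.s j := fun j => by
    show secMap θ V (mRes G i (mRes G (hle j) (h j))) = _
    rw [secMap_mRes, secMap_mRes, hh]
    show _ = mRes F i (mRes F _ (P₀.s j))
    rw [mRes_mRes, mRes_mRes, mRes_mRes]
  let sV : Fin n ⊕ Q.L → Sec G V :=
    Sum.elim (fun k => gV k - ∑ j, a k j • hV j) (fun l => ∑ j, Q.r l j • hV j)
  have hs0 : ∀ l, secMap θ V (sV l) = 0 := by
    rintro (k | l)
    · show secMap θ V (gV k - ∑ j, a k j • hV j) = 0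
      rw [map_sub, secMap_comb', sub_eq_zero]
      refine Eq.trans (secMap_mRes θ _ _) ((ha k).symm.trans ?_)
      exact Finset.sum_congr rfl fun j _ => by rw [hhV]; rfl
    · show secMap θ V (∑ j, Q.r l j • hV j) = 0
      rw [secMap_comb']
      exact Eq.trans (Finset.sum_congr rfl fun j _ => by rw [hhV]) (Q.rel l)
  choose κ hκ using fun l => exists_kernel_sec θ V (sV l) (hs0 l)
  haveI : Finite Q.L := inferInstance
  obtain ⟨m, ⟨e⟩⟩ := Finite.exists_equiv_fin (Fin n ⊕ Q.L)
  refine ⟨V, Fin m, inferInstance, fun k => κ (e.symm k), hxV, fun y hy => top_unique fun z _ => ?_⟩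
  have hκ' : ∀ l, sm (kernel.ι θ) y (gm _ y hy (κ l)) = gm G y hy (sV l) := fun l => by
    rw [sm_gm, hκ]
  obtain ⟨c, hc⟩ := (Submodule.mem_span_range_iff_exists_fun _).1
    (((hg.res (u.trans inf_le_left)).res i y hy).symm ▸ Submodule.mem_top :
      sm (kernel.ι θ) y z ∈ Submodule.span (Rx O y) (Set.range fun k => gm G y hy (gV k)))
  let d : Q.I → Rx O y := fun j => ∑ k, c k * gr y hy (a k j)
  have hd : ∑ j, d j • gm F y hy (Q.s j) = 0 := by
    have h0 : sm θ y (sm (kernel.ι θ) y z) = 0 :=
      congrArg (fun q => q z) (show (SiteStalk.stalkM (pt y)).map (kernel.ι θ) ≫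
        (SiteStalk.stalkM (pt y)).map θ = 0 by rw [← Functor.map_comp, kernel.condition, Functor.map_zero])
    rw [← hc, map_sum] at h0
    rw [← sum_sum_gm]
    refine Eq.trans (Finset.sum_congr rfl fun k _ => ?_) h0
    rw [map_smul, sm_gm]
    congr 1
    refine (gm_comb' F (a k) Q.s y hy).symm.trans (congrArg (gm F y hy) ?_)
    exact (ha k).trans (secMap_mRes θ _ _).symm
  obtain ⟨f, hf⟩ := (Submodule.mem_span_range_iff_exists_fun _).1 (Q.relSpans y hy d hd)
  have hz : z = ∑ k, c k • gm _ y hy (κ (Sum.inl k)) + ∑ l, f l • gm _ y hy (κ (Sum.inr l)) := by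
    refine injective_sm_of_mono (kernel.ι θ) y ?_
    rw [← hc, map_add, map_sum, map_sum]
    have eA : ∀ k, gm G y hy (sV (Sum.inl k)) =
        gm G y hy (gV k) - ∑ j, gr y hy (a k j) • gm G y hy (hV j) := fun k =>
      (map_sub _ _ _).trans (congrArg (gm G y hy (gV k) - ·) (gm_comb' G (a k) hV y hy))
    have eB : ∀ l, gm G y hy (sV (Sum.inr l)) = ∑ j, gr y hy (Q.r l j) • gm G y hy (hV j) := fun l =>
      gm_comb' G (Q.r l) hV y hy
    simp only [map_smul, hκ', eA, eB, smul_sub, Finset.sum_sub_distrib, sum_sum_gm]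
    rw [eq_comm, sub_add, sub_eq_self, sub_eq_zero]
    refine (sum_sum_gm c (fun k j => gr y hy (a k j)) fun j : Q.I => gm G y hy (hV j)).trans ?_
    refine Finset.sum_congr rfl fun j _ => ?_
    congr 1
    refine (congrFun hf j).symm.trans ?_
    rw [Finset.sum_apply]
    rfl
  rw [hz]
  refine Submodule.add_mem _ (Submodule.sum_mem _ fun k _ => ?_) (Submodule.sum_mem _ fun l _ => ?_) <;>
    exact Submodule.smul_mem _ _ (Submodule.subset_span ⟨e _, congrArg (fun q => gm _ y hy (κ q)) (e.symm_apply_apply _)⟩)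

/-- Lifts of a basis of the stalk of a finitely presented module form a basis nearby. -/
theorem exists_basisOn_near {F : ModSite.Mod O} {U : Opens T} (P₀ : Pres F U) (x : T) (hx : x ∈ U)
    {r : Type u} [Fintype r] (b : Module.Basis r (Rx O x) (Stk x F)) :
    ∃ (V : Opens T) (t : r → Sec F V), x ∈ V ∧ IsBasisOn F t := by
  classical
  choose W hW t₀ ht₀ using fun k : r => exists_gm F x (b k)
  obtain ⟨U', u, hxU', hle⟩ := exists_inter W U x hx hW
  let P := P₀.res u
  let t : r → Sec F U' := fun k => mRes F (hle k) (t₀ k)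
  have ht : ∀ k, gm F x hxU' (t k) = b k := fun k => (gm_res F (hle k) x hxU' _).trans (ht₀ k)
  have hsp : Submodule.span (Rx O x) (Set.range fun k => gm F x hxU' (t k)) = ⊤ := by
    simp only [ht]
    exact b.span_eq
  obtain ⟨V₁, i₁, hx₁, a₀, ha₀⟩ := exists_coeffs P.s t x hxU' fun k =>
    (P.spans x hxU').symm ▸ Submodule.mem_top
  obtain ⟨V₂, i₂, hx₂, c₀, hc₀⟩ := exists_coeffs t P.s x hxU' fun j => hsp.symm ▸ Submodule.mem_top
  let S : Opens T := V₁ ⊓ V₂
  have iS : S ≤ U' := inf_le_left.trans i₁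
  let Q := P.res iS
  let tS : r → Sec F S := fun k => mRes F iS (t k)
  let a : r → Q.I → O.obj.obj (op S) := fun k j => oRes O inf_le_left (a₀ k j)
  let c : Q.I → r → O.obj.obj (op S) := fun j k => oRes O inf_le_right (c₀ j k)
  have ha : ∀ k, ∑ j, a k j • Q.s j = tS k := fun k => by
    have := congrArg (mRes F (inf_le_left : S ≤ V₁)) (ha₀ k)
    simp only [map_sum, mRes_smul, mRes_mRes] at this
    exact this
  have hc : ∀ j, ∑ k, c j k • tS k = Q.s j := fun j => by
    have := congrArg (mRes F (inf_le_right : S ≤ V₂)) (hc₀ j)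
    simp only [map_sum, mRes_smul, mRes_mRes] at this
    exact this
  have hxS : x ∈ S := ⟨hx₁, hx₂⟩
  have hbx : ∀ k, gm F x hxS (tS k) = b k := fun k => (gm_res F iS x hxS _).trans (ht k)
  have huniq : ∀ v w : r → Rx O x, ∑ k, v k • b k = ∑ k, w k • b k → v = w := fun v w h => by
    have := congrArg b.equivFun h
    rwa [← b.equivFun_symm_apply, ← b.equivFun_symm_apply, LinearEquiv.apply_symm_apply,
      LinearEquiv.apply_symm_apply] at this
  have h1 : ∀ k m, gr x hxS (∑ j, a k j * c j m) = gr x hxS (if k = m then 1 else 0) := fun k m => by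
    refine congrFun (huniq (fun m => gr x hxS (∑ j, a k j * c j m))
      (fun m => gr x hxS (if k = m then 1 else 0)) ?_) m
    simp only [map_sum, map_mul, apply_ite (gr x hxS), map_one, map_zero, ite_smul, one_smul, zero_smul,
      Finset.sum_ite_eq, Finset.mem_univ, if_true]
    rw [← sum_sum_gm, ← hbx k, ← ha k, gm_comb']
    refine Finset.sum_congr rfl fun j _ => congrArg (gr x hxS (a k j) • ·) ?_
    rw [← hc j, gm_comb']
    exact Finset.sum_congr rfl fun m _ => by rw [hbx]; rfl
  have h2 : ∀ l m, gr x hxS (∑ j, Q.r l j * c j m) = gr x hxS 0 := fun l m => by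
    refine congrFun (huniq (fun m => gr x hxS (∑ j, Q.r l j * c j m)) (fun m => gr x hxS 0) ?_) m
    simp only [map_sum, map_mul, map_zero, zero_smul, Finset.sum_const_zero]
    rw [← sum_sum_gm]
    refine Eq.trans ?_ ((congrArg (gm F x hxS) (Q.rel l)).trans (map_zero _))
    rw [gm_comb']
    refine Finset.sum_congr rfl fun j _ => congrArg (gr x hxS (Q.r l j) • ·) ?_
    rw [← hc j, gm_comb']
    exact Finset.sum_congr rfl fun m _ => by rw [hbx]; rfl
  choose W1 w1 hW1 e1 using fun p : r × r => gr_eq x hxS _ _ (h1 p.1 p.2)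
  choose W2 w2 hW2 e2 using fun p : Q.L × r => gr_eq x hxS _ _ (h2 p.1 p.2)
  obtain ⟨V, v, hxV, hle'⟩ := exists_inter (Sum.elim W1 W2) S x hxS (Sum.rec hW1 hW2)
  refine ⟨V, fun k => mRes F v (tS k), hxV, ?_, fun y hy => ?_⟩
  · refine Spans.res (fun y hy => top_unique ?_) v
    rw [← Q.spans y hy, Submodule.span_le]
    rintro _ ⟨j, rfl⟩
    show gm F y hy (Q.s j) ∈ _
    rw [← hc j, gm_comb']
    exact Submodule.sum_mem _ fun k _ => Submodule.smul_mem _ _ (Submodule.subset_span ⟨k, rfl⟩)
  · have e1' : ∀ k m, ∑ j, gr y (v hy) (a k j) * gr y (v hy) (c j m) = if k = m then 1 else 0 :=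
      fun k m => by
      have hy' : y ∈ W1 (k, m) := hle' (Sum.inl (k, m)) hy
      have := congrArg (gr y hy') (e1 (k, m))
      rw [gr_res, gr_res] at this
      simpa only [map_sum, map_mul, apply_ite (gr y (v hy)), map_one, map_zero] using this
    have e2' : ∀ l m, ∑ j, gr y (v hy) (Q.r l j) * gr y (v hy) (c j m) = 0 := fun l m => by
      have hy' : y ∈ W2 (l, m) := hle' (Sum.inr (l, m)) hy
      have := congrArg (gr y hy') (e2 (l, m))
      rw [gr_res, gr_res] at this
      simpa only [map_sum, map_mul, map_zero] using this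
    rw [Fintype.linearIndependent_iff]
    intro g hg m
    let d : Q.I → Rx O y := fun j => ∑ k, g k * gr y (v hy) (a k j)
    have hd : ∑ j, d j • gm F y (v hy) (Q.s j) = 0 := by
      rw [← sum_sum_gm]
      refine Eq.trans (Finset.sum_congr rfl fun k _ => ?_) hg
      rw [gm_res, ← ha k, gm_comb']
      rfl
    obtain ⟨f, hf⟩ := (Submodule.mem_span_range_iff_exists_fun _).1 (Q.relSpans y (v hy) d hd)
    calc g m = ∑ k, g k * (∑ j, gr y (v hy) (a k j) * gr y (v hy) (c j m)) := by
          simp [e1']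
      _ = ∑ j, d j * gr y (v hy) (c j m) := by
          simp only [d, Finset.mul_sum, Finset.sum_mul, mul_assoc]
          exact Finset.sum_comm
      _ = ∑ j, (∑ l, f l * gr y (v hy) (Q.r l j)) * gr y (v hy) (c j m) := by
          refine Finset.sum_congr rfl fun j _ => ?_
          rw [← hf, Finset.sum_apply]
          rfl
      _ = ∑ l, f l * (∑ j, gr y (v hy) (Q.r l j) * gr y (v hy) (c j m)) := by
          simp only [Finset.mul_sum, Finset.sum_mul, mul_assoc]
          exact Finset.sum_comm
      _ = 0 := by simp [e2']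

section Iso

variable {U : Opens T} {M : ModSite.Mod O} {I : Type u} [Fintype I] {s : I → Sec M U}

theorem nonempty_iso_free (hs : IsBasisOn M s) :
    Nonempty ((ModSite.restr O U).obj M ≅ SheafOfModules.free (R := ModSite.ringSh (O.over U)) I) := by
  haveI : Epi (genπ s) := (genOfSpans s hs.spans).epi
  haveI : Mono (genπ s) := FModLib.mono_of_injective_sec _ fun V p q e => by
    rw [secMap_genπ, secMap_genπ] at e
    let cp : I → O.obj.obj (op V.left) := fun k => coordAt (O.over U) V p k
    let cq : I → O.obj.obj (op V.left) := fun k => coordAt (O.over U) V q k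
    have e' : ∑ k, cp k • mRes M (leOfHom V.hom) (s k) = ∑ k, cq k • mRes M (leOfHom V.hom) (s k) := e
    refine free_ext (O.over U) V fun k => ?_
    refine ring_ext_gr (cp k) (cq k) fun y hy => ?_
    have h := congrArg (gm M y hy) e'
    rw [gm_comb, gm_comb, ← sub_eq_zero, ← Finset.sum_sub_distrib] at h
    simp only [← sub_smul] at h
    exact sub_eq_zero.1 (Fintype.linearIndependent_iff.1 (hs.indep y (leOfHom V.hom hy)) _ h k)
  haveI : IsIso (genπ s) := isIso_of_mono_of_epi _
  exact ⟨(asIso (genπ s)).symm⟩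

end Iso

theorem exists_iso_free_near {F : ModSite.Mod O} (hF : FP F) (x : T) (n : ℕ)
    (b : Module.Basis (ULift.{u} (Fin n)) (Rx O x) (Stk x F)) :
    ∃ U : Opens T, x ∈ U ∧
      Nonempty ((ModSite.restr O U).obj F ≅ SheafOfModules.free (R := ModSite.ringSh (O.over U)) (ULift.{u} (Fin n))) := by
  obtain ⟨U, hxU, ⟨P⟩⟩ := hF x
  obtain ⟨V, t, hxV, ht⟩ := exists_basisOn_near P x hxU b
  exact ⟨V, hxV, nonempty_iso_free ht⟩

/-- A retract of a free module is finitely presented. -/
theorem exists_pres_retract {F H : ModSite.Mod O} (i : F ⟶ H) (p : H ⟶ F) (hip : i ≫ p = 𝟙 F)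
    {U : Opens T} {I : Type u} [Fintype I] {s : I → Sec H U} (hs : IsBasisOn H s) (x : T) (hx : x ∈ U) :
    ∃ V : Opens T, x ∈ V ∧ Nonempty (Pres F V) := by
  classical
  haveI : Epi p := ((SplitEpi.mk i hip : SplitEpi p)).epi
  obtain ⟨V, j, hxV, E, hE⟩ := exists_coeffs s (fun k => secMap i U (secMap p U (s k))) x hx
    fun k => (hs.spans x hx).symm ▸ Submodule.mem_top
  let sV : I → Sec F V := fun k => mRes F j (secMap p U (s k))
  let r : I → I → O.obj.obj (op V) := fun k m => (if k = m then 1 else 0) - E k m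
  have hpi : ∀ (z : Sec F U), secMap p U (secMap i U z) = z := fun z =>
    congrArg (fun q => secMap q U z) hip
  refine ⟨V, hxV, ⟨{
    I := I
    L := I
    s := sV
    r := r
    spans := fun y hy => by
      have h := congrArg (Submodule.map (sm p y)) ((hs.spans.res j) y hy)
      rw [Submodule.map_span, Submodule.map_top,
        LinearMap.range_eq_top.2 (surjective_sm_of_epi p y), ← Set.range_comp] at h
      exact Eq.trans (congrArg (fun f => Submodule.span (Rx O y) (Set.range f))
        (funext fun k => (by rw [sm_gm, secMap_mRes] :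
          sm p y (gm H y hy (mRes H j (s k))) = gm F y hy (sV k)).symm)) h
    rel := fun k => by
      simp only [r, sub_smul, Finset.sum_sub_distrib, ite_smul, one_smul, zero_smul,
        Finset.sum_ite_eq, Finset.mem_univ, if_true]
      rw [sub_eq_zero]
      have := congrArg (secMap p V) (hE k)
      rw [secMap_comb', secMap_mRes, hpi] at this
      refine this.symm.trans (Finset.sum_congr rfl fun m _ => ?_)
      rw [secMap_mRes]
    relSpans := fun y hy g hg => by
      have hq : ∀ k, sm i y (gm F y hy (sV k)) = ∑ m, gr y hy (E k m) • gm H y (j hy) (s m) := fun k => by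
        rw [sm_gm, secMap_mRes, ← hE k, gm_comb]
        rfl
      have h0 := congrArg (sm i y) hg
      rw [map_sum, map_zero] at h0
      simp only [map_smul, hq, sum_sum_gm] at h0
      have hz := Fintype.linearIndependent_iff.1 (hs.indep y (j hy)) _ h0
      rw [Submodule.mem_span_range_iff_exists_fun]
      refine ⟨g, funext fun m => ?_⟩
      rw [Finset.sum_apply]
      simp only [Pi.smul_apply, gv, r, map_sub, apply_ite (gr y hy), map_one, map_zero, smul_eq_mul,
        mul_sub, mul_ite, mul_one, mul_zero, Finset.sum_sub_distrib, Finset.sum_ite_eq',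
        Finset.mem_univ, if_true, hz m, sub_zero] }⟩⟩

theorem exists_iso_free_retract {F H : ModSite.Mod O} (i : F ⟶ H) (p : H ⟶ F) (hip : i ≫ p = 𝟙 F)
    {U : Opens T} {I : Type u} [Fintype I] {s : I → Sec H U} (hs : IsBasisOn H s) (x : T) (hx : x ∈ U)
    [IsLocalRing (Rx O x)] :
    ∃ (V : Opens T) (n : ℕ), x ∈ V ∧
      Nonempty ((ModSite.restr O V).obj F ≅ SheafOfModules.free (R := ModSite.ringSh (O.over V)) (ULift.{u} (Fin n))) := by
  obtain ⟨V, hxV, ⟨P⟩⟩ := exists_pres_retract i p hip hs x hx
  haveI : Module.Free (Rx O x) (Stk x H) := Module.Free.of_basis (hs.basis x hx)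
  haveI : Module.Finite (Rx O x) (Stk x H) := Module.Finite.of_basis (hs.basis x hx)
  have hsplit : sm p x ∘ₗ sm i x = LinearMap.id := by
    refine LinearMap.ext fun z => ?_
    refine (congrArg (fun q => q z) ((SiteStalk.stalkM (pt x)).map_comp i p).symm).trans ?_
    rw [hip, CategoryTheory.Functor.map_id]
    rfl
  haveI : Module.Projective (Rx O x) (Stk x F) := Module.Projective.of_split _ _ hsplit
  haveI : Module.Finite (Rx O x) (Stk x F) :=
    Module.Finite.of_surjective (sm p x) fun z => ⟨sm i x z, congrArg (fun q => q z) hsplit⟩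
  haveI : Module.Free (Rx O x) (Stk x F) := Module.free_of_flat_of_isLocalRing
  let b := Module.Free.chooseBasis (Rx O x) (Stk x F)
  obtain ⟨n, ⟨e⟩⟩ := Finite.exists_equiv_fin (Module.Free.ChooseBasisIndex (Rx O x) (Stk x F))
  obtain ⟨W, t, hxW, ht⟩ := exists_basisOn_near P x hxV (b.reindex (e.trans Equiv.ulift.{u}.symm))
  exact ⟨W, n, hxW, nonempty_iso_free ht⟩

end Groth.Agent.HTop16.LocGen
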