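import Groth.Agent.HTop16.AWN
import Mathlib.RingTheory.LocalProperties.Reduced
import Mathlib.AlgebraicGeometry.AffineScheme
import Mathlib.AlgebraicGeometry.Properties

/-!
Seminormality and absolute weak normality are local.
-/

set_option autoImplicit false
set_option linter.unusedSectionVars false

namespace Groth.Agent.HTop16

universe u

open UnivHomeo

section loc

variable {A S : Type u} [CommRing A] [CommRing S] [Algebra A S] (M : Submonoid A)
  [IsLocalization M S]

include M in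
lemma seminormal_localization (h : HTop.IsSeminormalRing A) : HTop.IsSeminormalRing S := by
  obtain ⟨hr, h⟩ := seminormal_iff.1 h
  refine seminormal_iff.2 ⟨isReduced_localizationPreserves M S hr, fun x y hxy => ?_⟩
  obtain ⟨⟨a, s, hs⟩, hx⟩ := IsLocalization.surj M x
  obtain ⟨⟨b, t, ht⟩, hy⟩ := IsLocalization.surj M y
  simp only at hx hy
  set l := algebraMap A S
  have hu : x * (l s * l t) ^ 2 = l (a * s * t ^ 2) := by
    simp only [map_mul, map_pow]; rw [← hx]; ring
  have hv : y * (l s * l t) ^ 3 = l (b * s ^ 3 * t ^ 2) := by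
    simp only [map_mul, map_pow]; rw [← hy]; ring
  have he : l ((a * s * t ^ 2) ^ 3) = l ((b * s ^ 3 * t ^ 2) ^ 2) := by
    rw [map_pow, map_pow, ← hu, ← hv, mul_pow x, mul_pow y, hxy, ← pow_mul, ← pow_mul]
  obtain ⟨⟨m, hm⟩, he'⟩ := IsLocalization.exists_of_eq (M := M) he
  simp only at he'
  obtain ⟨c, hc2, hc3⟩ := h (a * s * t ^ 2 * m ^ 2) (b * s ^ 3 * t ^ 2 * m ^ 3)
    (by linear_combination (m ^ 5) * he')
  let w : S := IsLocalization.mk' S c (⟨s * t * m, M.mul_mem (M.mul_mem hs ht) hm⟩ : M)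
  have hw : w * (l s * l t * l m) = l c := by
    rw [← map_mul, ← map_mul]; exact IsLocalization.mk'_spec _ _ _
  have hU : IsUnit (l s * l t * l m) := by
    rw [← map_mul, ← map_mul]
    exact IsLocalization.map_units S (⟨s * t * m, M.mul_mem (M.mul_mem hs ht) hm⟩ : M)
  refine ⟨w, (hU.pow 2).mul_right_cancel ?_, (hU.pow 3).mul_right_cancel ?_⟩
  · rw [← mul_pow w, hw, ← map_pow, ← hc2, map_mul, ← hu, map_pow]; ring
  · rw [← mul_pow w, hw, ← map_pow, ← hc3, map_mul, ← hv, map_pow]; ring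

include M in
lemma awn_localization (h : HTop.IsAWNRing A) : HTop.IsAWNRing S := by
  obtain ⟨-, -, hp⟩ := awn_iff.1 h
  obtain ⟨hr', hs'⟩ := seminormal_iff.1 (seminormal_localization (S := S) M h.1)
  refine awn_iff.2 ⟨hr', hs', fun p hp' x y hxy => ?_⟩
  obtain ⟨⟨a, s, hs⟩, hx⟩ := IsLocalization.surj M x
  obtain ⟨⟨b, t, ht⟩, hy⟩ := IsLocalization.surj M y
  simp only at hx hy
  obtain ⟨q, rfl⟩ : ∃ q, p = q + 1 := ⟨p - 1, by have := hp'.pos; omega⟩
  set l := algebraMap A S
  have hu : x * (l s * l t) ^ (q + 1) = l (a * s ^ q * t ^ (q + 1)) := by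
    simp only [map_mul, map_pow]; rw [← hx]; ring
  have hv : y * (l s * l t) = l (b * s) := by
    simp only [map_mul]; rw [← hy]; ring
  have he : l (((q + 1 : ℕ) : A) ^ (q + 1) * (a * s ^ q * t ^ (q + 1))) = l ((b * s) ^ (q + 1)) := by
    rw [map_mul, map_pow, map_natCast, map_pow, ← hu, ← hv, mul_pow y, ← mul_assoc, hxy]
  obtain ⟨⟨m, hm⟩, he'⟩ := IsLocalization.exists_of_eq (M := M) he
  simp only at he'
  obtain ⟨c, hc2, hc3⟩ := hp _ hp' (a * s ^ q * t ^ (q + 1) * m ^ (q + 1)) (b * s * m)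
    (by rw [mul_pow (b * s)]; linear_combination (m ^ q) * he')
  let w : S := IsLocalization.mk' S c (⟨s * t * m, M.mul_mem (M.mul_mem hs ht) hm⟩ : M)
  have hw : w * (l s * l t * l m) = l c := by
    rw [← map_mul, ← map_mul]; exact IsLocalization.mk'_spec _ _ _
  have hU : IsUnit (l s * l t * l m) := by
    rw [← map_mul, ← map_mul]
    exact IsLocalization.map_units S (⟨s * t * m, M.mul_mem (M.mul_mem hs ht) hm⟩ : M)
  refine ⟨w, (hU.pow (q + 1)).mul_right_cancel ?_, hU.mul_right_cancel ?_⟩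
  · rw [← mul_pow w, hw, ← map_pow, ← hc2, map_mul, ← hu, map_pow]; ring
  · rw [mul_assoc ((q + 1 : ℕ) : S) w, hw, ← map_natCast l, ← map_mul l ((q + 1 : ℕ) : A) c, ← hc3, map_mul, ← hv]; ring

end loc

section glue

variable {A : Type u} [CommRing A] (s : Finset A) (hs : Ideal.span (s : Set A) = ⊤)
  (R : A → Type u) [∀ f, CommRing (R f)] [∀ f, Algebra A (R f)]
  [∀ f, IsLocalization.Away f (R f)]

include hs in
lemma reduced_of_span (h : ∀ f ∈ s, IsReduced (R f)) : IsReduced A := by
  refine ⟨fun x hx => ?_⟩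
  let I : Ideal A := (Submodule.span A {x}).annihilator
  suffices I = ⊤ by
    have h1 : (1 : A) ∈ I := this ▸ Submodule.mem_top
    rw [Submodule.mem_annihilator_span_singleton] at h1
    simpa using h1
  refine Ideal.radical_eq_top.1 (top_le_iff.1 (hs.symm.trans_le (Ideal.span_le.2 fun f hf => ?_)))
  haveI := h f hf
  have h0 : algebraMap A (R f) x = algebraMap A (R f) 0 := by
    rw [map_zero]; exact (hx.map (algebraMap A (R f))).eq_zero
  obtain ⟨⟨_, n, rfl⟩, hn⟩ := IsLocalization.exists_of_eq (M := Submonoid.powers f) h0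
  exact ⟨n, (Submodule.mem_annihilator_span_singleton _ _).2 (by simpa [smul_eq_mul] using hn)⟩

/-- membership in the range can be checked on a cover -/
lemma mem_range_of_span {W : Type u} [CommRing W] (g : A →+* W) (s : Finset A)
    (hs : Ideal.span (s : Set A) = ⊤) (a : W) (h : ∀ f ∈ s, ∃ n : ℕ, g f ^ n * a ∈ g.range) :
    a ∈ g.range := by
  let I : Ideal A :=
    { carrier := {r | g r * a ∈ g.range}
      zero_mem' := ⟨0, by simp⟩
      add_mem' := fun {r r'} hr hr' => by
        show g (r + r') * a ∈ g.range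
        rw [map_add, add_mul]; exact g.range.add_mem hr hr'
      smul_mem' := fun c r hr => by
        show g (c * r) * a ∈ g.range
        rw [map_mul, mul_assoc]; exact g.range.mul_mem ⟨c, rfl⟩ hr }
  have hI : I = ⊤ := by
    refine Ideal.radical_eq_top.1 (top_le_iff.1 (hs.symm.trans_le (Ideal.span_le.2 fun f hf => ?_)))
    obtain ⟨n, hn⟩ := h f hf
    exact ⟨n, by show g (f ^ n) * a ∈ g.range; rwa [map_pow]⟩
  have := (hI ▸ Submodule.mem_top : (1 : A) ∈ I)
  simpa [I] using this

lemma exists_local_root [IsReduced A] {f : A} (S : Type u) [CommRing S] [Algebra A S]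
    [IsLocalization.Away f S] {x : A} {c' : S} {k : ℕ} (hc : algebraMap A S x = c' ^ k)
    (d : A) (n : ℕ) (hd : c' * algebraMap A S f ^ n = algebraMap A S d) :
    ∃ M : ℕ, f ^ M * d ^ k = f ^ M * (f ^ (n * k) * x) := by
  have : algebraMap A S (d ^ k) = algebraMap A S (f ^ (n * k) * x) := by
    rw [map_pow, ← hd, map_mul, map_pow, hc, pow_mul]; ring
  obtain ⟨⟨_, M, rfl⟩, hM⟩ := IsLocalization.exists_of_eq (M := Submonoid.powers f) this
  exact ⟨M, hM⟩

include hs in
lemma seminormal_of_span (h : ∀ f ∈ s, HTop.IsSeminormalRing (R f)) : HTop.IsSeminormalRing A := by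
  haveI := reduced_of_span s hs R fun f hf => isReduced_of_seminormal (h f hf)
  refine seminormal_iff.2 ⟨inferInstance, fun x y hxy => ?_⟩
  obtain ⟨hWr, hW⟩ := seminormal_iff.1 (isAWN_awn A).1
  obtain ⟨a, ha2, ha3⟩ := hW (toAwn A x) (toAwn A y) (by rw [← map_pow, hxy, map_pow])
  have hinj : Function.Injective (toAwn A) := (injective_iff_map_eq_zero _).2 fun z hz =>
    IsReduced.eq_zero z (mem_nilradical.1 ((uh_toAwn A).2.2 hz))
  obtain ⟨b, rfl⟩ : a ∈ (toAwn A).range := by
    refine mem_range_of_span (toAwn A) s hs a fun f hf => ?_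
    obtain ⟨-, hS⟩ := seminormal_iff.1 (h f hf)
    obtain ⟨c', hc2, hc3⟩ := hS (algebraMap A (R f) x) (algebraMap A (R f) y)
      (by rw [← map_pow, hxy, map_pow])
    obtain ⟨⟨d, _, n, rfl⟩, hd⟩ := IsLocalization.surj (Submonoid.powers f) c'
    simp only [map_pow] at hd
    obtain ⟨M, hM⟩ := exists_local_root (R f) hc2 d n hd
    obtain ⟨M', hM'⟩ := exists_local_root (R f) hc3 d n hd
    refine ⟨M + M' + n, f ^ (M + M') * d, ?_⟩
    haveI := hWr
    refine eq_of_sq_cube_reduced ?_ ?_
    · rw [mul_pow _ a, ← ha2, ← map_pow (toAwn A) f, ← map_pow, ← map_pow, ← map_mul]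
      congr 1
      linear_combination (f ^ (M + 2 * M')) * hM
    · rw [mul_pow _ a, ← ha3, ← map_pow (toAwn A) f, ← map_pow, ← map_pow, ← map_mul]
      congr 1
      linear_combination (f ^ (3 * M + 2 * M')) * hM'
  exact ⟨b, hinj (by rw [ha2, map_pow]), hinj (by rw [ha3, map_pow])⟩

include hs in
lemma awn_of_span (h : ∀ f ∈ s, HTop.IsAWNRing (R f)) : HTop.IsAWNRing A := by
  obtain ⟨hr, hsn⟩ := seminormal_iff.1 (seminormal_of_span s hs R fun f hf => (h f hf).1)
  haveI := hr
  refine awn_iff.2 ⟨hr, hsn, fun p hp x y hxy => ?_⟩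
  obtain ⟨hWr, -, hW⟩ := awn_iff.1 (isAWN_awn A)
  obtain ⟨a, ha2, ha3⟩ := hW p hp (toAwn A x) (toAwn A y)
    (by rw [← map_natCast (toAwn A), ← map_pow, ← map_mul, hxy, map_pow])
  have hinj : Function.Injective (toAwn A) := (injective_iff_map_eq_zero _).2 fun z hz =>
    IsReduced.eq_zero z (mem_nilradical.1 ((uh_toAwn A).2.2 hz))
  obtain ⟨b, rfl⟩ : a ∈ (toAwn A).range := by
    refine mem_range_of_span (toAwn A) s hs a fun f hf => ?_
    obtain ⟨-, -, hS⟩ := awn_iff.1 (h f hf)
    obtain ⟨c', hc2, hc3⟩ := hS p hp (algebraMap A (R f) x) (algebraMap A (R f) y)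
      (by rw [← map_natCast (algebraMap A (R f)), ← map_pow, ← map_mul, hxy, map_pow])
    obtain ⟨⟨d, _, n, rfl⟩, hd⟩ := IsLocalization.surj (Submonoid.powers f) c'
    simp only [map_pow] at hd
    obtain ⟨M, hM⟩ := exists_local_root (R f) hc2 d n hd
    have : algebraMap A (R f) ((p : A) * d) = algebraMap A (R f) (f ^ n * y) := by
      rw [map_mul, map_natCast, ← hd, map_mul, map_pow, hc3]; ring
    obtain ⟨⟨_, M', rfl⟩, hM'⟩ := IsLocalization.exists_of_eq (M := Submonoid.powers f) this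
    simp only at hM'
    obtain ⟨q, rfl⟩ : ∃ q, p = q + 1 := ⟨p - 1, by have := hp.pos; omega⟩
    refine ⟨M + M' + n, f ^ (M + M') * d, ?_⟩
    haveI := hWr
    refine eq_of_mul_pow_reduced hp ?_ ?_
    · rw [mul_left_comm _ _ a, ← ha3, ← map_natCast (toAwn A), ← map_pow (toAwn A) f, ← map_mul,
        ← map_mul]
      congr 1
      linear_combination (f ^ M) * hM'
    · rw [mul_pow _ a, ← ha2, ← map_pow (toAwn A) f, ← map_pow, ← map_pow, ← map_mul]
      congr 1
      linear_combination (f ^ (q * M + (q + 1) * M')) * hM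
  exact ⟨b, hinj (by rw [ha2, map_pow]), hinj (by rw [ha3, map_mul, map_natCast])⟩

end glue

section scheme

open CategoryTheory AlgebraicGeometry TopologicalSpace

lemma local_affine (Q : ∀ (A : Type u) [CommRing A], Prop)
    (hloc : ∀ (A S : Type u) [CommRing A] [CommRing S] [Algebra A S] (f : A)
      [IsLocalization.Away f S], Q A → Q S)
    (hspan : ∀ (A : Type u) [CommRing A] (s : Finset A), Ideal.span (s : Set A) = ⊤ →
      (∀ f ∈ s, ∃ (S : Type u) (_ : CommRing S) (_ : Algebra A S) (_ : IsLocalization.Away f S), Q S) → Q A)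
    (X : Scheme.{u}) (h : ∀ x : X, ∃ U : X.affineOpens, x ∈ (U : X.Opens) ∧ Q Γ(X, U))
    (V : X.affineOpens) : Q Γ(X, V) := by
  choose U hxU hU using h
  refine of_affine_open_cover (P := fun W : X.affineOpens => Q Γ(X, W)) U ?_ V ?_ ?_ hU
  · exact top_le_iff.1 fun x _ => Opens.mem_iSup.2 ⟨x, hxU x⟩
  · intro W f hW
    letI := (X.presheaf.map (homOfLE (X.basicOpen_le f)).op).hom.toAlgebra
    haveI : IsLocalization.Away f Γ(X, X.basicOpen f) := W.2.isLocalization_basicOpen f
    exact hloc Γ(X, W) Γ(X, X.basicOpen f) f hW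
  · intro W s hs hf
    refine hspan _ s hs fun f hfs => ?_
    letI := (X.presheaf.map (homOfLE (X.basicOpen_le f)).op).hom.toAlgebra
    exact ⟨_, inferInstance, inferInstance, W.2.isLocalization_basicOpen f, hf ⟨f, hfs⟩⟩

lemma seminormal_span' (A : Type u) [CommRing A] (s : Finset A) (hs : Ideal.span (s : Set A) = ⊤)
    (h : ∀ f ∈ s, ∃ (S : Type u) (_ : CommRing S) (_ : Algebra A S) (_ : IsLocalization.Away f S),
      HTop.IsSeminormalRing S) : HTop.IsSeminormalRing A :=
  seminormal_of_span s hs (fun f => Localization.Away f) fun f hf => by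
    obtain ⟨S, _, _, _, hS⟩ := h f hf
    exact seminormal_of_equiv (IsLocalization.algEquiv (Submonoid.powers f) S (Localization.Away f)).toRingEquiv hS

lemma awn_span' (A : Type u) [CommRing A] (s : Finset A) (hs : Ideal.span (s : Set A) = ⊤)
    (h : ∀ f ∈ s, ∃ (S : Type u) (_ : CommRing S) (_ : Algebra A S) (_ : IsLocalization.Away f S),
      HTop.IsAWNRing S) : HTop.IsAWNRing A :=
  awn_of_span s hs (fun f => Localization.Away f) fun f hf => by
    obtain ⟨S, _, _, _, hS⟩ := h f hf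
    exact awn_of_equiv (IsLocalization.algEquiv (Submonoid.powers f) S (Localization.Away f)).toRingEquiv hS

lemma isSeminormal_affine (X : Scheme.{u}) (h : HTop.IsSeminormal X) (V : X.affineOpens) :
    HTop.IsSeminormalRing Γ(X, V) :=
  local_affine (fun A _ => HTop.IsSeminormalRing A)
    (fun _ _ _ _ _ f _ h => seminormal_localization (Submonoid.powers f) h) seminormal_span' X h V

lemma isAWN_affine (X : Scheme.{u}) (h : HTop.IsAWN X) (V : X.affineOpens) :
    HTop.IsAWNRing Γ(X, V) :=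
  local_affine (fun A _ => HTop.IsAWNRing A)
    (fun _ _ _ _ _ f _ h => awn_localization (Submonoid.powers f) h) awn_span' X h V

lemma exists_affine_mem (X : Scheme.{u}) (x : X) : ∃ U : X.affineOpens, x ∈ (U : X.Opens) := by
  obtain ⟨U, hU, hx, -⟩ := exists_isAffineOpen_mem_and_subset (show x ∈ (⊤ : X.Opens) from trivial)
  exact ⟨⟨U, hU⟩, hx⟩

lemma isReduced_of_affines (X : Scheme.{u}) (h : ∀ V : X.affineOpens, _root_.IsReduced Γ(X, V)) :
    IsReduced X := by
  haveI : ∀ x : X, _root_.IsReduced (X.presheaf.stalk x) := fun x => by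
    obtain ⟨V, hx⟩ := exists_affine_mem X x
    haveI := h V
    letI := X.presheaf.algebra_section_stalk ⟨x, hx⟩
    haveI := V.2.isLocalization_stalk ⟨x, hx⟩
    exact isReduced_localizationPreserves (V.2.primeIdealOf ⟨x, hx⟩).asIdeal.primeCompl
      (X.presheaf.stalk x) inferInstance
  exact isReduced_of_isReduced_stalk X

end scheme

end Groth.Agent.HTop16
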