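import Groth.Prelude.Def_ModSite
import Groth.Prelude.Def_AlgSpPerf
import Mathlib.Algebra.Category.ModuleCat.Sheaf.Free
import Mathlib.Algebra.Category.ModuleCat.Sheaf.Abelian
import Mathlib.CategoryTheory.Idempotents.Basic
import Mathlib.RingTheory.Finiteness.Cardinality

/-!
Global sections on summands of finite free modules, on a site with a final object.
-/

set_option autoImplicit false

namespace Groth.Agent.HTop16.ModSummand

universe u

open CategoryTheory CategoryTheory.Limits Opposite

variable {C : Type u} [SmallCategory C] {J : GrothendieckTopology C} {O : Sheaf J CommRingCat.{u}}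
  {X : C} (hX : IsTerminal X)

local notation "RR" => ModSite.ringSh O

/-- the finite free module -/
noncomputable abbrev Fr (O : Sheaf J CommRingCat.{u}) (n : ℕ) : ModSite.Mod O :=
  SheafOfModules.free (R := ModSite.ringSh O) (ULift.{u} (Fin n))

/-- sections over the final object as compatible families -/
noncomputable def sectionsOfTop (E : ModSite.Mod O) (x : E.val.obj (op X)) : SheafOfModules.sections E :=
  PresheafOfModules.sectionsMk (fun V => (E.val.map (hX.from V.unop).op).hom x) fun {V W} g => by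
    rw [← E.val.map_comp_apply]
    exact E.val.congr_map_apply (Quiver.Hom.unop_inj (hX.hom_ext _ _)) x

/-- a map out of the structure sheaf with given value at the final object -/
noncomputable def homOfTop {E : ModSite.Mod O} (x : E.val.obj (op X)) :
    SheafOfModules.unit RR ⟶ E :=
  E.unitHomEquiv.symm (sectionsOfTop hX E x)

/-- the value at the final object -/
noncomputable def topOfHom {E : ModSite.Mod O} (φ : SheafOfModules.unit RR ⟶ E) : E.val.obj (op X) :=
  (E.unitHomEquiv φ).val (op X)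

lemma top_homOfTop {E : ModSite.Mod O} (x : E.val.obj (op X)) :
    topOfHom (homOfTop hX x) = x := by
  rw [topOfHom, homOfTop, Equiv.apply_symm_apply]
  show (E.val.map (hX.from X).op).hom x = x
  rw [E.val.congr_map_apply (show (hX.from X).op = 𝟙 (op X) from
    Quiver.Hom.unop_inj (hX.hom_ext _ _)) x]
  exact LinearMap.congr_fun (congrArg ModuleCat.Hom.hom (E.val.map_id _)) x

lemma hom_ext_top {E : ModSite.Mod O} {φ ψ : SheafOfModules.unit RR ⟶ E}
    (hX : IsTerminal X) (h : topOfHom (X := X) φ = topOfHom ψ) : φ = ψ := by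
  apply E.unitHomEquiv.injective
  refine Subtype.ext (funext fun V => ?_)
  rw [← (E.unitHomEquiv φ).2 (hX.from V.unop).op, ← (E.unitHomEquiv ψ).2 (hX.from V.unop).op]
  exact congrArg _ h

lemma topOfHom_comp {E E' : ModSite.Mod O} (φ : SheafOfModules.unit RR ⟶ E) (f : E ⟶ E') :
    topOfHom (X := X) (φ ≫ f) = (f.val.app (op X)).hom (topOfHom φ) := rfl

/-- the basis sections -/
noncomputable def e {n : ℕ} (j : ULift.{u} (Fin n)) : (Fr O n).val.obj (op X) :=
  topOfHom (SheafOfModules.ιFree (R := RR) j)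

lemma hom_ext_free {n : ℕ} {E : ModSite.Mod O} {φ ψ : (Fr O n) ⟶ E} (hX : IsTerminal X)
    (h : ∀ j, (φ.val.app (op X)).hom (e j) = (ψ.val.app (op X)).hom (e j)) : φ = ψ :=
  Cofan.IsColimit.hom_ext (SheafOfModules.isColimitFreeCofan _) _ _ fun j => hom_ext_top hX (h j)

lemma exists_hom_free {n : ℕ} {E : ModSite.Mod O} (hX : IsTerminal X)
    (x : ULift.{u} (Fin n) → E.val.obj (op X)) :
    ∃ φ : (Fr O n) ⟶ E, ∀ j, (φ.val.app (op X)).hom (e j) = x j :=
  ⟨Cofan.IsColimit.desc (SheafOfModules.isColimitFreeCofan _) fun j => homOfTop hX (x j), fun j => by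
    rw [e, ← topOfHom_comp]
    exact (congrArg topOfHom (Cofan.IsColimit.fac (SheafOfModules.isColimitFreeCofan _) _ j)).trans
      (top_homOfTop hX _)⟩

/-- the projections -/
noncomputable def π {n : ℕ} (j : ULift.{u} (Fin n)) : (Fr O n) ⟶ SheafOfModules.unit RR := by
  classical
  exact Cofan.IsColimit.desc (SheafOfModules.isColimitFreeCofan _) fun k => if k = j then 𝟙 _ else 0

lemma ι_π {n : ℕ} (k j : ULift.{u} (Fin n)) :
    SheafOfModules.ιFree (R := RR) k ≫ π (O := O) j = if k = j then 𝟙 _ else 0 := by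
  classical
  exact Cofan.IsColimit.fac (SheafOfModules.isColimitFreeCofan _) _ k

lemma sum_π (n : ℕ) :
    ∑ j : ULift.{u} (Fin n), π (O := O) j ≫ SheafOfModules.ιFree j = 𝟙 (Fr O n) := by
  classical
  refine Cofan.IsColimit.hom_ext (SheafOfModules.isColimitFreeCofan _) _ _ fun k => ?_
  rw [SheafOfModules.freeCofan_inj]
  refine (Preadditive.comp_sum _ _ _).trans ?_
  refine Eq.trans ?_ (Category.comp_id _).symm
  have e1 : ∀ j, SheafOfModules.ιFree (R := RR) k ≫ π (O := O) j ≫ SheafOfModules.ιFree j =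
      (if k = j then 𝟙 _ else 0) ≫ SheafOfModules.ιFree j := fun j =>
    (Category.assoc _ _ _).symm.trans (congrArg (· ≫ SheafOfModules.ιFree j) (ι_π k j))
  refine (Finset.sum_congr rfl fun j _ => e1 j).trans ?_
  rw [Finset.sum_eq_single k (fun b _ hb => by rw [if_neg (Ne.symm hb), zero_comp])
    (fun h => absurd (Finset.mem_univ k) h), if_pos rfl, Category.id_comp]

/-- evaluation at the final object -/
abbrev R₀ (O : Sheaf J CommRingCat.{u}) (X : C) : Type u := (ModSite.ringSh O).obj.obj (op X)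

noncomputable def coord {n : ℕ} : (Fr O n).val.obj (op X) →ₗ[R₀ O X] (ULift.{u} (Fin n) → R₀ O X) :=
  LinearMap.pi fun j => ((π (O := O) j).val.app (op X)).hom

lemma coord_e {n : ℕ} (k j : ULift.{u} (Fin n)) :
    coord (O := O) (X := X) (e k) j = if k = j then 1 else 0 := by
  classical
  show ((π j).val.app (op X)).hom (topOfHom (SheafOfModules.ιFree k)) = _
  rw [← topOfHom_comp, ι_π]
  by_cases h : k = j
  · rw [if_pos h, if_pos h]; rfl
  · rw [if_neg h, if_neg h]; rfl

lemma sum_coord {n : ℕ} (hX : IsTerminal X) (x : (Fr O n).val.obj (op X)) :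
    x = ∑ j, coord x j • e j := by
  classical
  have h := congrArg (fun φ : (Fr O n) ⟶ (Fr O n) => (φ.val.app (op X)).hom x) (sum_π (O := O) n)
  let ev : ((Fr O n) ⟶ (Fr O n)) →+ (Fr O n).val.obj (op X) :=
    { toFun := fun φ => (φ.val.app (op X)).hom x, map_zero' := rfl, map_add' := fun _ _ => rfl }
  refine (h.symm.trans (map_sum ev _ _)).trans (Finset.sum_congr rfl fun j _ => ?_)
  show ((SheafOfModules.ιFree (R := RR) j).val.app (op X)).hom
    (coord x j : R₀ O X) = coord x j • e j
  have h' := ((SheafOfModules.ιFree (R := RR) j).val.app (op X)).hom.map_smul (coord x j) (1 : R₀ O X)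
  refine (congrArg _ (mul_one (M := R₀ O X) _).symm).trans (h'.trans (congrArg _ ?_))
  rfl

/-- `free n (X) ≅ O(X)^n` -/
noncomputable def freeEquiv (n : ℕ) (hX : IsTerminal X) :
    (Fr O n).val.obj (op X) ≃ₗ[R₀ O X] (ULift.{u} (Fin n) → R₀ O X) :=
  { coord with
    invFun := fun r => ∑ j, r j • e j
    left_inv := fun x => (sum_coord hX x).symm
    right_inv := fun r => by
      classical
      funext k
      show coord (∑ j, r j • e j) k = r k
      simp [map_sum, coord_e, Finset.sum_apply] }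

theorem ff (hX : IsTerminal X) (E E' : ModSite.Mod O) (hE : DCoh.IsFinFreeSummandMod RR E) :
    Function.Bijective (fun φ : E ⟶ E' => φ.val.app (op X)) := by
  obtain ⟨n, i, p, hip⟩ := hE
  refine ⟨fun φ ψ h => ?_, fun f => ?_⟩
  · have h' : p ≫ φ = p ≫ ψ := hom_ext_free hX fun j =>
      LinearMap.congr_fun (congrArg ModuleCat.Hom.hom h) _
    rw [← Category.id_comp φ, ← hip, Category.assoc, h', ← Category.assoc, hip, Category.id_comp]
  · obtain ⟨φ, hφ⟩ := exists_hom_free hX fun j => f.hom ((p.val.app (op X)).hom (e j))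
    refine ⟨i ≫ φ, ModuleCat.hom_ext (LinearMap.ext fun x => ?_)⟩
    show (φ.val.app (op X)).hom ((i.val.app (op X)).hom x) = f.hom x
    conv_rhs => rw [show x = (p.val.app (op X)).hom ((i.val.app (op X)).hom x) from
      (congrArg (fun χ : E ⟶ E => (χ.val.app (op X)).hom x) hip).symm]
    rw [sum_coord hX ((i.val.app (op X)).hom x)]
    simp only [map_sum, map_smul, hφ]

theorem fp (hX : IsTerminal X) (E : ModSite.Mod O) (hE : DCoh.IsFinFreeSummandMod RR E) :
    Module.Finite (R₀ O X) (E.val.obj (op X)) ∧ Module.Projective (R₀ O X) (E.val.obj (op X)) := by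
  obtain ⟨n, i, p, hip⟩ := hE
  have hl : (p.val.app (op X)).hom.comp (i.val.app (op X)).hom = LinearMap.id :=
    LinearMap.ext fun x => congrArg (fun χ : E ⟶ E => (χ.val.app (op X)).hom x) hip
  haveI : Module.Finite (R₀ O X) ((Fr O n).val.obj (op X)) := Module.Finite.equiv (freeEquiv n hX).symm
  haveI : Module.Projective (R₀ O X) ((Fr O n).val.obj (op X)) :=
    Module.Projective.of_equiv (freeEquiv n hX).symm
  exact ⟨Module.Finite.of_surjective (p.val.app (op X)).hom fun x => ⟨_, LinearMap.congr_fun hl x⟩,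
    Module.Projective.of_split _ _ hl⟩

theorem ess (hX : IsTerminal X) (M : ModuleCat.{u} (R₀ O X)) (hf : Module.Finite (R₀ O X) M)
    (hp : Module.Projective (R₀ O X) M) :
    ∃ E : ModSite.Mod O, DCoh.IsFinFreeSummandMod RR E ∧ Nonempty (E.val.obj (op X) ≅ M) := by
  obtain ⟨n, f₀, hf₀⟩ := Module.Finite.exists_fin' (R₀ O X) M
  let f : (Fr O n).val.obj (op X) →ₗ[R₀ O X] M := f₀ ∘ₗ
    (LinearEquiv.funCongrLeft (R₀ O X) (R₀ O X) Equiv.ulift.symm).toLinearMap ∘ₗ
      (freeEquiv n hX).toLinearMap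
  have hfs : Function.Surjective f :=
    hf₀.comp ((LinearEquiv.surjective (LinearEquiv.funCongrLeft (R₀ O X) (R₀ O X) Equiv.ulift.symm)).comp
      (LinearEquiv.surjective (freeEquiv n hX)))
  obtain ⟨g, hg⟩ := Module.projective_lifting_property f LinearMap.id hfs
  have hfree : DCoh.IsFinFreeSummandMod RR (Fr O n) := ⟨n, 𝟙 _, 𝟙 _, Category.id_comp _⟩
  obtain ⟨q, hq⟩ := (ff hX (Fr O n) (Fr O n) hfree).2 (ModuleCat.ofHom (g ∘ₗ f))
  have hqx : ∀ x, (q.val.app (op X)).hom x = g (f x) := fun x =>
    LinearMap.congr_fun (congrArg ModuleCat.Hom.hom hq) x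
  have hqq : q ≫ q = q := (ff hX (Fr O n) (Fr O n) hfree).1 (ModuleCat.hom_ext (LinearMap.ext fun x => by
    show (q.val.app (op X)).hom ((q.val.app (op X)).hom x) = (q.val.app (op X)).hom x
    rw [hqx x, hqx, show f (g (f x)) = f x from LinearMap.congr_fun hg (f x)]))
  obtain ⟨E, i, p, hip, hpi⟩ := IsIdempotentComplete.idempotents_split (Fr O n) q hqq
  refine ⟨E, ⟨n, i, p, hip⟩, ⟨LinearEquiv.toModuleIso
    (LinearEquiv.ofLinearMap (f ∘ₗ (i.val.app (op X)).hom) ((p.val.app (op X)).hom ∘ₗ g) ?_ ?_)⟩⟩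
  · refine LinearMap.ext fun m => ?_
    show f ((i.val.app (op X)).hom ((p.val.app (op X)).hom (g m))) = m
    have := congrArg (fun χ : (Fr O n) ⟶ (Fr O n) => (χ.val.app (op X)).hom (g m)) hpi
    rw [show (i.val.app (op X)).hom ((p.val.app (op X)).hom (g m)) = _ from this, hqx,
      show f (g m) = m from LinearMap.congr_fun hg m, show f (g m) = m from LinearMap.congr_fun hg m]
  · refine LinearMap.ext fun x => ?_
    show (p.val.app (op X)).hom (g (f ((i.val.app (op X)).hom x))) = x
    rw [← hqx]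
    refine (congrArg (fun χ : E ⟶ E => (χ.val.app (op X)).hom x) (show i ≫ q ≫ p = 𝟙 E by
      rw [← hpi, Category.assoc, hip, Category.comp_id, hip]))

end Groth.Agent.HTop16.ModSummand
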