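import Groth.Agent.HTop16.SN
import Groth.Agent.S15941
import Groth.Prelude.Def_Pi1
import Mathlib.AlgebraicGeometry.Morphisms.SchemeTheoreticallyDominant

/-!
Normal schemes are seminormal; normalisations factor through seminormalisations.
-/

set_option autoImplicit false

namespace Groth.Agent.HTop16

universe u

open CategoryTheory CategoryTheory.Limits AlgebraicGeometry UnivHomeo

/-- seminormality can be checked at the primes -/
lemma seminormal_of_primes {A : Type u} [CommRing A] [_root_.IsReduced A]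
    (h : ∀ (p : Ideal A) [p.IsPrime], ∃ (S : Type u) (_ : CommRing S) (_ : Algebra A S)
      (_ : IsLocalization.AtPrime S p), HTop.IsSeminormalRing S) : HTop.IsSeminormalRing A := by
  refine seminormal_iff.2 ⟨inferInstance, fun x y hxy => ?_⟩
  obtain ⟨hWr, hW⟩ := seminormal_iff.1 (isAWN_awn A).1
  haveI := hWr
  obtain ⟨a, ha2, ha3⟩ := hW (toAwn A x) (toAwn A y) (by rw [← map_pow, hxy, map_pow])
  have hinj : Function.Injective (toAwn A) := (injective_iff_map_eq_zero _).2 fun z hz =>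
    IsReduced.eq_zero z (mem_nilradical.1 ((uh_toAwn A).2.2 hz))
  let I : Ideal A :=
    { carrier := {r | toAwn A r * a ∈ (toAwn A).range}
      zero_mem' := ⟨0, by simp⟩
      add_mem' := fun {r r'} hr hr' => by
        show toAwn A (r + r') * a ∈ (toAwn A).range
        rw [map_add, add_mul]; exact (toAwn A).range.add_mem hr hr'
      smul_mem' := fun c r hr => by
        show toAwn A (c * r) * a ∈ (toAwn A).range
        rw [map_mul, mul_assoc]; exact (toAwn A).range.mul_mem ⟨c, rfl⟩ hr }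
  have hI : I = ⊤ := by
    by_contra hne
    obtain ⟨m, hm, hIm⟩ := I.exists_le_maximal hne
    haveI := hm.isPrime
    obtain ⟨S, _, _, _, hS⟩ := h m
    obtain ⟨-, hS'⟩ := seminormal_iff.1 hS
    obtain ⟨c', hc2, hc3⟩ := hS' (algebraMap A S x) (algebraMap A S y)
      (by rw [← map_pow, hxy, map_pow])
    obtain ⟨⟨d, s, hs⟩, hd⟩ := IsLocalization.surj m.primeCompl c'
    simp only at hd
    have h2 : algebraMap A S (d ^ 2) = algebraMap A S (s ^ 2 * x) := by
      rw [map_pow, ← hd, map_mul, map_pow, hc2]; ring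
    have h3 : algebraMap A S (d ^ 3) = algebraMap A S (s ^ 3 * y) := by
      rw [map_pow, ← hd, map_mul, map_pow, hc3]; ring
    obtain ⟨⟨t, ht⟩, ht'⟩ := IsLocalization.exists_of_eq (M := m.primeCompl) h2
    obtain ⟨⟨t₁, ht₁⟩, ht₁'⟩ := IsLocalization.exists_of_eq (M := m.primeCompl) h3
    simp only at ht' ht₁'
    have hr : t * t₁ * s ∈ I := by
      refine ⟨t * t₁ * d, ?_⟩
      refine eq_of_sq_cube_reduced ?_ ?_
      · rw [mul_pow _ a, ← ha2, ← map_pow, ← map_pow, ← map_mul]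
        congr 1
        linear_combination (t * t₁ ^ 2) * ht'
      · rw [mul_pow _ a, ← ha3, ← map_pow, ← map_pow, ← map_mul]
        congr 1
        linear_combination (t ^ 3 * t₁ ^ 2) * ht₁'
    exact (m.primeCompl.mul_mem (m.primeCompl.mul_mem ht ht₁) hs) (hIm hr)
  obtain ⟨b, hb⟩ : toAwn A 1 * a ∈ (toAwn A).range := (show (1 : A) ∈ I from hI ▸ Submodule.mem_top)
  rw [map_one, one_mul] at hb
  exact ⟨b, hinj (by rw [map_pow, hb, ha2]), hinj (by rw [map_pow, hb, ha3])⟩

lemma isReduced_of_normal (X : Scheme.{u}) (hn : Pi1.IsNormalScheme X) : IsReduced X := by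
  haveI : ∀ x : X, _root_.IsReduced (X.presheaf.stalk x) := fun x => by
    haveI := (hn x).1
    infer_instance
  exact isReduced_of_isReduced_stalk X

/-- normal schemes are seminormal -/
lemma isSeminormal_of_normal (X : Scheme.{u}) (hn : Pi1.IsNormalScheme X) : HTop.IsSeminormal X := by
  haveI := isReduced_of_normal X hn
  intro x
  obtain ⟨U, hxU⟩ := exists_affine_mem X x
  refine ⟨U, hxU, seminormal_of_primes fun p hp => ?_⟩
  let y : PrimeSpectrum Γ(X, U) := ⟨p, hp⟩
  have hy : U.2.fromSpec y ∈ (U : X.Opens) := by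
    rw [← SetLike.mem_coe, ← U.2.range_fromSpec]
    exact Set.mem_range_self _
  letI := TopCat.Presheaf.algebra_section_stalk X.presheaf (⟨U.2.fromSpec y, hy⟩ : (U : X.Opens))
  haveI := (hn (U.2.fromSpec y)).1
  haveI := (hn (U.2.fromSpec y)).2
  exact ⟨X.presheaf.stalk (U.2.fromSpec y), inferInstance, inferInstance,
    U.2.isLocalization_stalk' y hy, S15941.result _⟩

lemma exists_lift_of_normal {S Sn X' : Scheme.{u}} (π : Sn ⟶ S) (hn : Pi1.IsNormalScheme Sn)
    (ν : X' ⟶ S) (hν : FlatMor.IsUnivHomeo ν) (hres : HTop.ResidueFieldsIso ν) :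
    ∃ g : Sn ⟶ X', g ≫ ν = π := by
  obtain ⟨a, b, c⟩ := (S0415.result ν).1 hν
  haveI := a; haveI := b; haveI := c
  have sq := IsPullback.of_hasPullback ν π
  haveI : UniversallyInjective (pullback.snd ν π) :=
    MorphismProperty.pullback_snd (P := @UniversallyInjective) ν π b
  have h1 : FlatMor.IsUnivHomeo (pullback.snd ν π) :=
    isUnivHomeo_of_integral_univInjective_surjective _
  obtain ⟨s, hs⟩ := exists_section (isSeminormal_of_normal Sn hn) _ h1 (res_pullback sq hres)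
  exact ⟨s ≫ pullback.fst ν π, by
    rw [Category.assoc, pullback.condition, ← Category.assoc, hs, Category.id_comp]⟩

lemma isDominant_of_isIso_restrict {S Sn : Scheme.{u}} (π : Sn ⟶ S) (U : S.Opens)
    (hU : Dense (U : Set S)) (hiso : IsIso (π ∣_ U)) : IsDominant π := by
  refine ⟨hU.mono ?_⟩
  intro x hx
  obtain ⟨y, hy⟩ := (π ∣_ U).surjective (⟨x, hx⟩ : U)
  exact ⟨(π ⁻¹ᵁ U).ι y, by
    rw [← Scheme.Hom.comp_apply, ← morphismRestrict_ι, Scheme.Hom.comp_apply, hy]; rfl⟩

lemma isDominant_cancel {X Y Z : Scheme.{u}} (g : X ⟶ Y) (ν : Y ⟶ Z) (hν : FlatMor.IsUnivHomeo ν)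
    (h : IsDominant (g ≫ ν)) : IsDominant g := by
  obtain ⟨a, b, c⟩ := (S0415.result ν).1 hν
  haveI := a; haveI := b; haveI := c
  refine ⟨dense_iff_closure_eq.2 (Set.eq_univ_of_forall fun y => ?_)⟩
  have hcl : IsClosed (ν '' closure (Set.range g)) := ν.isClosedMap _ isClosed_closure
  have hy : ν y ∈ ν '' closure (Set.range g) := by
    refine hcl.closure_subset_iff.2 ?_ ((g ≫ ν).denseRange (ν y))
    rintro _ ⟨x, rfl⟩
    exact ⟨g x, subset_closure ⟨x, rfl⟩, rfl⟩
  obtain ⟨y', hy', he⟩ := hy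
  exact (ν.injective he) ▸ hy'

lemma isFinite_of_integral_comp {X Y Z : Scheme.{u}} (g : X ⟶ Y) (ν : Y ⟶ Z) [IsIntegralHom ν]
    [IsLocallyNoetherian Z] [IsSchemeTheoreticallyDominant g] [IsFinite (g ≫ ν)] [QuasiCompact g] :
    IsFinite ν := by
  refine (isFinite_iff ν).2 ⟨inferInstance, fun U hU => ?_⟩
  have h := IsFinite.finite_app (g ≫ ν) U hU
  have hfin : ((g.app (ν ⁻¹ᵁ U)).hom.comp (ν.app U).hom).Finite := h
  haveI := IsLocallyNoetherian.component_noetherian (X := Z) ⟨U, hU⟩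
  algebraize [(ν.app U).hom, (g.app (ν ⁻¹ᵁ U)).hom, ((g.app (ν ⁻¹ᵁ U)).hom.comp (ν.app U).hom)]
  exact Module.Finite.of_injective (IsScalarTower.toAlgHom Γ(Z, U) Γ(Y, ν ⁻¹ᵁ U) Γ(X, g ⁻¹ᵁ (ν ⁻¹ᵁ U))).toLinearMap
    (g.app_injective _)

end Groth.Agent.HTop16
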