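import Groth.Agent.H8Lim.ChowPn
import Groth.Agent.RelVALib.PnImm
import Groth.Agent.Props12.KerReduced

/-!
# Extending a proper surjective morphism over an open subscheme

For a qcqs scheme `U`, a quasi-compact open `O` and `v : V ⟶ O` proper surjective there is a proper surjective
`W ⟶ U` whose restriction to `O` factors through `v`.
-/

set_option autoImplicit false
set_option backward.isDefEq.respectTransparency false
set_option linter.all false

universe u

open CategoryTheory CategoryTheory.Limits AlgebraicGeometry TopologicalSpace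

namespace Groth.Agent.HTop16.PhComp

theorem exists_extend {U V : Scheme.{u}} [CompactSpace U] [QuasiSeparatedSpace U] (O : U.Opens)
    (hO : IsCompact (O : Set U)) (v : V ⟶ (O : Scheme.{u})) [IsProper v] [Surjective v] :
    ∃ (W : Scheme.{u}) (w : W ⟶ U) (a : ((w ⁻¹ᵁ O) : Scheme.{u}) ⟶ V),
      IsProper w ∧ Surjective w ∧ a ≫ v = w ∣_ O := by
  haveI : QuasiCompact O.ι := ⟨fun S hS hSc => by
    rw [Topology.IsEmbedding.isCompact_iff O.ι.isOpenEmbedding.isEmbedding, Set.image_preimage_eq_inter_range,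
      Scheme.Opens.range_ι]
    exact QuasiSeparatedSpace.inter_isCompact _ _ hS hSc O.isOpen hO⟩
  obtain ⟨n, X', π, j, hj, hjf, hπ, hπs⟩ := H8Lim.ChowPn.exists_chow_pn_surjective (f := v ≫ O.ι)
  let tb := CohB1.ProjSpaceOver.toBase n U
  haveI : IsProper tb := RelVALib.isProper_toBase n U
  change j ≫ tb = _ at hjf
  have hjr : Set.range j ⊆ Set.range (tb ⁻¹ᵁ O).ι := by
    rw [Scheme.Opens.range_ι]
    rintro _ ⟨x, rfl⟩
    change (j ≫ tb) x ∈ O
    rw [hjf, ← Category.assoc]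
    exact ((π ≫ v) x).2
  let j₀ : X' ⟶ ((tb ⁻¹ᵁ O) : Scheme.{u}) := IsOpenImmersion.lift _ j hjr
  have hj₀ : j₀ ≫ (tb ⁻¹ᵁ O).ι = j := IsOpenImmersion.lift_fac _ _ _
  have hj₀t : j₀ ≫ (tb ∣_ O) = π ≫ v := by
    rw [← cancel_mono O.ι, Category.assoc, morphismRestrict_ι, reassoc_of% hj₀, hjf, Category.assoc]
  haveI : IsImmersion (j₀ ≫ (tb ⁻¹ᵁ O).ι) := by rw [hj₀]; exact hj
  haveI : IsImmersion j₀ := IsImmersion.of_comp j₀ (tb ⁻¹ᵁ O).ι
  haveI : UniversallyClosed (j₀ ≫ (tb ∣_ O)) := by rw [hj₀t]; infer_instance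
  haveI : UniversallyClosed j₀ := UniversallyClosed.of_comp_of_isSeparated j₀ (tb ∣_ O)
  haveI : IsClosedImmersion j₀ := IsClosedImmersion.of_isPreimmersion j₀ j₀.isClosedMap.isClosed_range
  -- the closed set
  let C : Set (CohB1.ProjSpaceOver n U) := tb ⁻¹' (O : Set U)ᶜ ∪ closure (Set.range j)
  have hC : IsClosed C := (O.isOpen.isClosed_compl.preimage tb.continuous).union isClosed_closure
  have hCO : ∀ x ∈ C, tb x ∈ O → x ∈ Set.range j := by
    rintro x (hx | hx) hxO
    · exact absurd hxO hx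
    · have : (⟨x, hxO⟩ : (tb ⁻¹ᵁ O : Scheme.{u})) ∈ closure (Set.range j₀) := by
        rw [(tb ⁻¹ᵁ O).ι.isOpenEmbedding.isEmbedding.closure_eq_preimage_closure_image, ← Set.range_comp]
        change x ∈ closure _
        convert hx using 3
        funext y
        exact congr($hj₀ y)
      rw [j₀.isClosedMap.isClosed_range.closure_eq] at this
      obtain ⟨y, hy⟩ := this
      exact ⟨y, by rw [← hj₀, Scheme.Hom.comp_apply, hy]; rfl⟩
  let I := Scheme.IdealSheafData.vanishingIdeal (⟨C, hC⟩ : Closeds (CohB1.ProjSpaceOver n U))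
  haveI : IsReduced I.subscheme := Props12.isReduced_subscheme_vanishingIdeal _
  have hI : Set.range I.subschemeι = C := by
    rw [Scheme.IdealSheafData.range_subschemeι, Scheme.IdealSheafData.coe_support_vanishingIdeal]
    rfl
  let w := I.subschemeι ≫ tb
  have hws : Surjective w := ⟨fun y => by
    by_cases hy : y ∈ O
    · obtain ⟨x, hx⟩ := (π ≫ v).surjective ⟨y, hy⟩
      have : j x ∈ C := Or.inr (subset_closure ⟨x, rfl⟩)
      rw [← hI] at this
      obtain ⟨z, hz⟩ := this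
      refine ⟨z, ?_⟩
      rw [Scheme.Hom.comp_apply, hz, ← Scheme.Hom.comp_apply, hjf, ← Category.assoc, Scheme.Hom.comp_apply, hx]
      rfl
    · obtain ⟨c, hc⟩ := H8Lim.ChowPn.exists_section n U
      have e : tb (c y) = y := by
        rw [← Scheme.Hom.comp_apply, hc]
        rfl
      have : c y ∈ C := Or.inl (by change tb (c y) ∉ O; rwa [e])
      rw [← hI] at this
      obtain ⟨z, hz⟩ := this
      exact ⟨z, by rw [Scheme.Hom.comp_apply, hz, e]⟩⟩
  let m : ((w ⁻¹ᵁ O) : Scheme.{u}) ⟶ ((tb ⁻¹ᵁ O) : Scheme.{u}) := I.subschemeι ∣_ (tb ⁻¹ᵁ O)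
  haveI : IsReduced ((w ⁻¹ᵁ O) : Scheme.{u}) := isReduced_of_isOpenImmersion (w ⁻¹ᵁ O).ι
  haveI : Surjective (pullback.fst m j₀) := ⟨fun z => by
    have hzC : I.subschemeι ((w ⁻¹ᵁ O).ι z) ∈ C := hI.le ⟨_, rfl⟩
    obtain ⟨x, hx⟩ := hCO _ hzC z.2
    obtain ⟨q, hq, -⟩ := Scheme.Pullback.exists_preimage_pullback (f := m) (g := j₀) z x (by
      apply (tb ⁻¹ᵁ O).ι.isOpenEmbedding.injective
      rw [← Scheme.Hom.comp_apply, ← Scheme.Hom.comp_apply, hj₀, hx, morphismRestrict_ι]
      rfl)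
    exact ⟨q, hq⟩⟩
  haveI := isIso_of_isClosedImmersion_of_surjective (pullback.fst m j₀)
  refine ⟨I.subscheme, w, inv (pullback.fst m j₀) ≫ pullback.snd m j₀ ≫ π, inferInstance, hws, ?_⟩
  rw [Category.assoc, Category.assoc, IsIso.inv_comp_eq, ← hj₀t, ← pullback.condition_assoc]
  congr 1
  exact (morphismRestrict_comp _ _ _).symm

end Groth.Agent.HTop16.PhComp
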