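import Groth.Prelude.Def_HTop
import Mathlib.AlgebraicGeometry.Morphisms.Finite
import Mathlib.AlgebraicGeometry.Morphisms.Proper

/-!
# Ph coverings by proper morphisms, and sheaves on the big ph site
-/

set_option autoImplicit false
set_option backward.isDefEq.respectTransparency false
set_option linter.all false

universe w w' u

open CategoryTheory CategoryTheory.Limits AlgebraicGeometry TopologicalSpace Opposite

namespace Groth.Agent.HTop16.PhSheaf

variable {T : Scheme.{u}}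

/-- A proper surjective morphism cut into open pieces is a ph covering. -/
theorem isPhCover_of_proper (E : PreZeroHypercover.{w} T) {W : Scheme.{u}} (f : W ⟶ T) [IsProper f] [Surjective f]
    (ι : ∀ j, E.X j ⟶ W) [∀ j, IsOpenImmersion (ι j)] (hι : ∀ j, ι j ≫ f = E.f j)
    (hW : ∀ x : W, ∃ j, x ∈ Set.range (ι j).base) : HTop.IsPhCover E := by
  refine ⟨fun j => ?_, fun U => ?_⟩
  · rw [← hι]; infer_instance
  haveI : IsAffine (U.1 : Scheme.{u}) := U.2
  haveI : Surjective (f ∣_ U.1) := IsZariskiLocalAtTarget.restrict (P := @Surjective) ‹_› _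
  have hc : IsCompact (↑(f ⁻¹ᵁ U.1) : Set W) := f.isCompact_preimage U.2.isCompact
  have key : ∀ x : (f ⁻¹ᵁ U.1 : W.Opens), ∃ (j : E.I₀) (O : W.Opens), x.1 ∈ O ∧ IsAffineOpen O ∧ O ≤ f ⁻¹ᵁ U.1 ∧
      O ≤ (ι j).opensRange := fun x => by
    obtain ⟨j, hj⟩ := hW x.1
    obtain ⟨_, ⟨O, hO, rfl⟩, hxO, hle⟩ := W.isBasis_affineOpens.exists_subset_of_mem_open
      (show x.1 ∈ (↑(f ⁻¹ᵁ U.1) : Set W) ∩ Set.range (ι j).base from ⟨x.2, hj⟩)
      ((f ⁻¹ᵁ U.1).isOpen.inter (ι j).opensRange.isOpen)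
    exact ⟨j, O, hxO, hO, fun y hy => (hle hy).1, fun y hy => (hle hy).2⟩
  choose j O hxO hO hOU hOj using key
  obtain ⟨s, hs⟩ := hc.elim_finite_subcover (fun x => (O x : Set W)) (fun x => (O x).isOpen)
    fun x hx => Set.mem_iUnion.2 ⟨⟨x, hx⟩, hxO ⟨x, hx⟩⟩
  let p : Fin s.card → (f ⁻¹ᵁ U.1 : W.Opens) := fun m => (s.equivFin.symm m).1
  let G : PreZeroHypercover.{0} (U.1 : Scheme.{u}) :=
    { I₀ := Fin s.card
      X := fun m => (O (p m) : Scheme.{u})
      f := fun m => W.homOfLE (hOU (p m)) ≫ (f ∣_ U.1) }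
  refine ⟨G, ⟨U.2, inferInstanceAs (Finite (Fin s.card)), fun m => hO _, _, f ∣_ U.1, fun m => W.homOfLE (hOU (p m)),
    inferInstance, inferInstance, fun m => inferInstanceAs (IsOpenImmersion (W.homOfLE (hOU (p m)))), fun m => rfl,
    fun y => ?_⟩, fun m => ?_⟩
  · obtain ⟨z, hz⟩ := Set.mem_iUnion.1 (hs y.2)
    obtain ⟨hzs, hzy⟩ := Set.mem_iUnion.1 hz
    refine ⟨s.equivFin ⟨z, hzs⟩, ⟨y.1, by simpa [p] using hzy⟩, ?_⟩
    apply (f ⁻¹ᵁ U.1).ι.isOpenEmbedding.injective
    rw [← Scheme.Hom.comp_apply, Scheme.homOfLE_ι]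
    rfl
  · refine ⟨j (p m), W.homOfLE (hOj (p m)) ≫ (ι (j (p m))).isoOpensRange.inv, ?_⟩
    change _ = (W.homOfLE (hOU (p m)) ≫ (f ∣_ U.1)) ≫ U.1.ι
    rw [← hι, Category.assoc, Category.assoc, Scheme.Hom.isoOpensRange_inv_comp_assoc, morphismRestrict_ι,
      Scheme.homOfLE_ι_assoc, Scheme.homOfLE_ι_assoc]

theorem isPhCover_singleton {W : Scheme.{u}} (f : W ⟶ T) [IsProper f] [Surjective f] :
    HTop.IsPhCover (PreZeroHypercover.singleton.{w} f) :=
  haveI : ∀ _ : (PreZeroHypercover.singleton.{w} f).I₀, IsOpenImmersion (𝟙 W) := fun _ => inferInstance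
  isPhCover_of_proper _ f (fun _ => 𝟙 W) (fun _ => Category.id_comp _) fun x => ⟨PUnit.unit, x, rfl⟩

/-- The family of two morphisms. -/
@[simps]
def pair {A B : Scheme.{u}} (a : A ⟶ T) (b : B ⟶ T) : PreZeroHypercover.{0} T where
  I₀ := Bool
  X t := Bool.rec B A t
  f t := Bool.rec b a t

theorem isPhCover_pair {A B : Scheme.{u}} (a : A ⟶ T) (b : B ⟶ T) [IsProper a] [IsProper b]
    (h : ∀ t : T, t ∈ Set.range a ∨ t ∈ Set.range b) : HTop.IsPhCover (pair a b) := by
  haveI h₁ : IsProper (coprod.map a b) := IsZariskiLocalAtTarget.coprodMap (P := @IsProper) a b ‹_› ‹_›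
  haveI : IsProper (coprod.desc a b) := by
    rw [← Category.comp_id a, ← Category.comp_id b, ← coprod.map_desc]
    infer_instance
  haveI : Surjective (coprod.desc a b) := ⟨fun t => by
    rcases h t with ⟨x, rfl⟩ | ⟨x, rfl⟩
    · exact ⟨(coprod.inl : A ⟶ A ⨿ B) x, congr($(coprod.inl_desc a b) x)⟩
    · exact ⟨(coprod.inr : B ⟶ A ⨿ B) x, congr($(coprod.inr_desc a b) x)⟩⟩
  let ι : ∀ t, (pair a b).X t ⟶ A ⨿ B := fun t => Bool.rec (coprod.inr : B ⟶ A ⨿ B) coprod.inl t
  haveI : ∀ t, IsOpenImmersion (ι t) := fun t => by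
    cases t <;> (dsimp [ι]; infer_instance)
  refine @isPhCover_of_proper _ (pair a b) _ (coprod.desc a b) inferInstance inferInstance ι ‹_›
    (fun t => by cases t; exacts [coprod.inr_desc a b, coprod.inl_desc a b]) ?_
  intro x
  obtain ⟨y, rfl⟩ := (coprodMk A B).surjective x
  rcases y with y | y
  · exact ⟨true, y, (coprodMk_inl A B y).symm⟩
  · exact ⟨false, y, (coprodMk_inr A B y).symm⟩

/-- A sheaf on the big ph site has the sheaf property for ph covering families of `S`-schemes. -/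
theorem isSheafFor_of_isPhCover {S : Scheme.{u}} (F : HTop.ShPh S) {X : Over S} {J : Type w} (Ys : J → Over S)
    (fs : ∀ j, Ys j ⟶ X) (h : HTop.IsPhCover (T := X.left) { I₀ := J, X := fun j => (Ys j).left, f := fun j => (fs j).left }) :
    Presieve.IsSheafFor F.obj (Presieve.ofArrows Ys fs) := by
  refine (Presieve.isSheafFor_iff_generate _).2 ((isSheaf_iff_isSheaf_of_type _ _).1 F.property _ ?_)
  rw [HTop.Jph, GrothendieckTopology.mem_over_iff]
  refine HTop.phTopology.superset_covering ?_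
    (Precoverage.generate_mem_toGrothendieck ((HTop.presieve₀_mem_phPrecoverage_iff _).2 h))
  rw [Sieve.generate_le_iff]
  rintro Z g ⟨j⟩
  rw [Sieve.overEquiv_iff]
  refine ⟨Ys j, Over.homMk (𝟙 _) (by simp), fs j, Presieve.ofArrows.mk j, ?_⟩
  ext
  simp

/-- The two-member family over `S`. -/
abbrev famObj {S : Scheme.{u}} (A B : Over S) (t : Bool) : Over S := Bool.rec B A t

/-- The arrows of the two-member family over `S`. -/
abbrev famHom {S : Scheme.{u}} {A B X : Over S} (a : A ⟶ X) (b : B ⟶ X) (t : Bool) : famObj A B t ⟶ X :=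
  Bool.rec b a t

theorem isSheafFor_pair {S : Scheme.{u}} (F : HTop.ShPh S) {A B X : Over S} (a : A ⟶ X) (b : B ⟶ X)
    [IsProper a.left] [IsProper b.left] (h : ∀ x : X.left, x ∈ Set.range a.left ∨ x ∈ Set.range b.left) :
    Presieve.IsSheafFor F.obj (Presieve.ofArrows (famObj A B) (famHom a b)) := by
  refine isSheafFor_of_isPhCover F _ _ ?_
  obtain ⟨hl, hr⟩ := isPhCover_pair a.left b.left h
  refine ⟨fun t => ?_, fun U => ?_⟩
  · cases t
    · exact hl false
    · exact hl true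
  · obtain ⟨G, hG, hGr⟩ := hr U
    refine ⟨G, hG, fun j => ?_⟩
    obtain ⟨i, c, hc⟩ := hGr j
    cases i
    · exact ⟨false, c, hc⟩
    · exact ⟨true, c, hc⟩

end Groth.Agent.HTop16.PhSheaf
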