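import Groth.Prelude.Def_W4c1hilbchowincPtFun
import Mathlib.AlgebraicGeometry.ResidueField
import Mathlib.AlgebraicGeometry.Properties
import Mathlib.AlgebraicGeometry.Morphisms.QuasiCompact

/-!
# Pointwise functions on affine schemes
-/

set_option autoImplicit false
set_option backward.isDefEq.respectTransparency false
set_option linter.all false

universe u

open CategoryTheory AlgebraicGeometry W4c1hilbchowinc Opposite

namespace Groth.Agent.HTop16.PtFunBasic

/-- A section is determined by its values on a reduced scheme. -/
theorem section_ext {X : Scheme.{u}} [IsReduced X] {a b : Γ(X, ⊤)}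
    (h : ∀ x, X.Γevaluation x a = X.Γevaluation x b) : a = b := by
  rw [← sub_eq_zero, ← basicOpen_eq_bot_iff, Scheme.basicOpen_eq_bot_iff_forall_evaluation_eq_zero]
  intro x
  exact (map_sub _ a b).trans (sub_eq_zero.2 (h x.1))

theorem ofSection_injective {X : Scheme.{u}} [IsReduced X] : Function.Injective (PtFun.ofSection X) :=
  fun _ _ h => section_ext fun x => congrFun h x

theorem pullback_ofSection {X Y : Scheme.{u}} (g : Y ⟶ X) (a : Γ(X, ⊤)) :
    (PtFun.ofSection X a).pullback g = PtFun.ofSection Y (g.appTop a) :=
  funext fun y => Scheme.Γevaluation_naturality_apply g y a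

end Groth.Agent.HTop16.PtFunBasic
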