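import Groth.Agent.HTop16.PtFunBasic
import Groth.Agent.ValExtLib.Closure
import Groth.Agent.Stk19b.DvrImmersion
import Mathlib.RingTheory.Polynomial.ScaleRoots

/-!
# Pointwise functions varying along discrete valuation rings on normal affine schemes
-/

set_option autoImplicit false
set_option backward.isDefEq.respectTransparency false
set_option linter.all false

universe u

open CategoryTheory AlgebraicGeometry W4c1hilbchowinc Opposite

namespace Groth.Agent.HTop16.PtFunNormal

variable {A : CommRingCat.{u}}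

/-- The value of a ring element at a point of the spectrum. -/
noncomputable def evA (x : Spec A) : A →+* (Spec A).residueField x :=
  ((Spec A).Γevaluation x).hom.comp (Scheme.ΓSpecIso A).inv.hom

theorem ker_evA (x : Spec A) : RingHom.ker (evA x) = x.asIdeal := by
  ext a
  rw [RingHom.mem_ker]
  change ((Spec A).evaluation ⊤ x trivial).hom ((Scheme.ΓSpecIso A).inv a) = 0 ↔ _
  refine (Scheme.evaluation_eq_zero_iff_notMem_basicOpen (X := Spec A) (U := ⊤) x trivial _).trans ?_
  rw [basicOpen_eq_of_affine]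
  exact not_not

theorem evA_surj (x : Spec A) (z : (Spec A).residueField x) :
    ∃ b t : A, evA x t ≠ 0 ∧ z * evA x t = evA x b := by
  obtain ⟨w, rfl⟩ := (Spec A).residue_surjective x z
  let y : (⊤ : (Spec A).Opens) := ⟨x, trivial⟩
  letI := (Spec A).presheaf.algebra_section_stalk y
  haveI := (isAffineOpen_top (Spec A)).isLocalization_stalk y
  obtain ⟨⟨n, d⟩, hnd⟩ := IsLocalization.surj
    ((isAffineOpen_top (Spec A)).primeIdealOf y).asIdeal.primeCompl (S := (Spec A).presheaf.stalk x) w
  let b : A := (Scheme.ΓSpecIso A).hom n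
  let t : A := (Scheme.ΓSpecIso A).hom d.1
  have hb : evA x b = (Spec A).residue x (algebraMap _ ((Spec A).presheaf.stalk x) n) := by
    show ((Spec A).Γevaluation x) ((Scheme.ΓSpecIso A).inv ((Scheme.ΓSpecIso A).hom n)) = _
    rw [Iso.hom_inv_id_apply]
    rfl
  have ht : evA x t = (Spec A).residue x (algebraMap _ ((Spec A).presheaf.stalk x) d.1) := by
    show ((Spec A).Γevaluation x) ((Scheme.ΓSpecIso A).inv ((Scheme.ΓSpecIso A).hom d.1)) = _
    rw [Iso.hom_inv_id_apply]
    rfl
  refine ⟨b, t, ?_, ?_⟩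
  · rw [ht]
    exact ((IsLocalization.map_units ((Spec A).presheaf.stalk x) d).map ((Spec A).residue x).hom).ne_zero
  · rw [hb, ht, ← map_mul]
    exact congrArg _ hnd

/-- Values of pullbacks. -/
theorem residueFieldMap_evA {Y : Scheme.{u}} (g : Y ⟶ Spec A) (y : Y) (a : A) :
    g.residueFieldMap y (evA (g y) a) = Y.Γevaluation y (g.appTop ((Scheme.ΓSpecIso A).inv a)) :=
  Scheme.Γevaluation_naturality_apply g y _

section DVR

variable (R : Type u) [CommRing R] [IsDomain R] [IsDiscreteValuationRing R]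

/-- The generic point of the spectrum of a domain. -/
abbrev gen : Spec (CommRingCat.of R) := (⟨⊥, Ideal.isPrime_bot⟩ : PrimeSpectrum R)

theorem evA_gen_injective : Function.Injective (evA (A := CommRingCat.of R) (gen R)) :=
  (RingHom.injective_iff_ker_eq_bot _).2 (ker_evA _)

theorem Γevaluation_gen_injective :
    Function.Injective ((Spec (CommRingCat.of R)).Γevaluation (gen R)) := fun a b h => by
  have : evA (A := CommRingCat.of R) (gen R) ((Scheme.ΓSpecIso _).hom a) =
      evA (A := CommRingCat.of R) (gen R) ((Scheme.ΓSpecIso _).hom b) := by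
    show (Spec _).Γevaluation (gen R) ((Scheme.ΓSpecIso _).inv ((Scheme.ΓSpecIso _).hom a)) =
      (Spec _).Γevaluation (gen R) ((Scheme.ΓSpecIso _).inv ((Scheme.ΓSpecIso _).hom b))
    rw [Iso.hom_inv_id_apply, Iso.hom_inv_id_apply]
    exact h
  have h2 := congrArg (Scheme.ΓSpecIso (CommRingCat.of R)).inv (evA_gen_injective R this)
  rwa [Iso.hom_inv_id_apply, Iso.hom_inv_id_apply] at h2

/-- Agreement with a section propagates along specializations realized by valuation rings. -/
theorem eq_at_specialization {f : PtFun (Spec A)} (hf : f.VariesAlongDVR) (g : Spec (CommRingCat.of R) ⟶ Spec A)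
    (a : A) (h : f (g (gen R)) = evA (g (gen R)) a) (y : Spec (CommRingCat.of R)) : f (g y) = evA (g y) a := by
  obtain ⟨r, hr⟩ := hf R g
  have e : r = g.appTop ((Scheme.ΓSpecIso A).inv a) := Γevaluation_gen_injective R (by
    refine (congrFun hr (gen R)).trans ?_
    show g.residueFieldMap (gen R) (f (g (gen R))) = _
    rw [h, residueFieldMap_evA])
  refine (g.residueFieldMap y).hom.injective ?_
  show g.residueFieldMap y (f (g y)) = g.residueFieldMap y (evA (g y) a)
  rw [residueFieldMap_evA, ← e]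
  exact (congrFun hr y).symm

/-- A fraction with the value of a pointwise function at the generic point lies in the valuation ring. -/
theorem exists_mul_eq {f : PtFun (Spec A)} (hf : f.VariesAlongDVR) (φ : A ⟶ CommRingCat.of R) (x : Spec A)
    (hx : Spec.map φ (gen R) = x) (b t : A) (h : f x * evA x t = evA x b) : ∃ r : R, r * φ t = φ b := by
  obtain ⟨r, hr⟩ := hf R (Spec.map φ)
  refine ⟨(Scheme.ΓSpecIso _).hom r, ?_⟩
  subst hx
  have key : ∀ c : A, (Spec.map φ).residueFieldMap (gen R) (evA (Spec.map φ (gen R)) c) =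
      evA (A := CommRingCat.of R) (gen R) (φ c) := fun c => by
    rw [residueFieldMap_evA]
    show (Spec _).Γevaluation _ _ = (Spec _).Γevaluation _ _
    exact congrArg _ (ConcreteCategory.congr_hom (Scheme.ΓSpecIso_inv_naturality φ) c).symm
  refine evA_gen_injective R ?_
  rw [map_mul, ← key, ← key]
  show (Spec _).Γevaluation (gen R) ((Scheme.ΓSpecIso _).inv ((Scheme.ΓSpecIso _).hom r)) * _ = _
  rw [Iso.hom_inv_id_apply, ← h]
  exact (congrArg (· * _) (congrFun hr (gen R))).trans (map_mul ((Spec.map φ).residueFieldMap (gen R)).hom _ _).symm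

end DVR

/-- At a point the value is integral over the ring. -/
theorem isIntegralElem {f : PtFun (Spec A)} (hf : f.VariesAlongDVR) [IsNoetherianRing A] (x : Spec A) :
    (evA x).IsIntegralElem (f x) := by
  by_contra hx
  let A' := A ⧸ x.asIdeal
  let L := (Spec A).residueField x
  let χ : A' →+* L := Ideal.Quotient.lift x.asIdeal (evA x) fun a ha => (ker_evA x).ge ha
  have hχ : Function.Injective χ := by
    exact RingHom.lift_injective_of_ker_le_ideal x.asIdeal (fun a ha => (ker_evA x).ge ha) (ker_evA x).le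
  letI : Algebra A' L := χ.toAlgebra
  haveI : FaithfulSMul A' L := (faithfulSMul_iff_algebraMap_injective A' L).2 hχ
  haveI : IsFractionRing A' L := IsFractionRing.of_field A' L fun z => by
    obtain ⟨b, t, ht, hz⟩ := evA_surj x z
    exact ⟨Ideal.Quotient.mk _ b, Ideal.Quotient.mk _ t, (div_eq_iff ht).2 hz.symm |>.symm⟩
  have hx' : ¬ IsIntegral A' (f x) := fun ⟨q, hq, hq0⟩ => hx (by
    obtain ⟨q', hq', -, hm⟩ := Polynomial.lifts_and_natDegree_eq_and_monic
      ((Polynomial.mem_lifts _).2 (Polynomial.map_surjective _ Ideal.Quotient.mk_surjective q)) hq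
    refine ⟨q', hm, ?_⟩
    have e : evA x = (algebraMap A' L).comp (Ideal.Quotient.mk x.asIdeal) := RingHom.ext fun a => rfl
    rw [e, ← Polynomial.eval₂_map, hq', hq0])
  obtain ⟨R, hR, hAR, hfR⟩ := ValExtLib.exists_dvr_notMem (A := A') (L := L) L
    ⟨∅, eq_top_iff.2 fun z _ => IntermediateField.algebraMap_mem _ z⟩ hx'
  let φ' : A →+* R := (evA x).codRestrict R.toSubring fun a => hAR (Ideal.Quotient.mk _ a)
  have hgen : Spec.map (CommRingCat.ofHom φ') (gen R) = x := PrimeSpectrum.ext (by
    show Ideal.comap φ' ⊥ = x.asIdeal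
    rw [← RingHom.ker_eq_comap_bot, ← ker_evA x]
    ext a
    exact Subtype.ext_iff)
  obtain ⟨b, t, ht, hz⟩ := evA_surj x (f x)
  obtain ⟨r, hr⟩ := exists_mul_eq R hf (CommRingCat.ofHom φ') x hgen b t hz
  refine hfR ?_
  have : (r : L) = f x := mul_right_cancel₀ ht ((congrArg Subtype.val hr).trans hz.symm)
  rw [← this]
  exact r.2

/-- Existence of the section. -/
theorem exists_eq [IsReduced A] [IsNoetherianRing A] [IsIntegrallyClosed A]
    {f : PtFun (Spec A)} (hf : f.VariesAlongDVR) : ∃ a : A, ∀ x, f x = evA x a := by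
  classical
  let M := (minimalPrimes.finite_of_isNoetherianRing A).toFinset
  haveI hprime : ∀ p : M, p.1.IsPrime := fun p =>
    Ideal.minimalPrimes_isPrime ((Set.Finite.mem_toFinset _).1 p.2)
  let pt : M → Spec A := fun p => (⟨p.1, hprime p⟩ : PrimeSpectrum A)
  have hsep : ∀ p : M, ∃ e : A, e ∉ p.1 ∧ ∀ q : M, q ≠ p → e ∈ q.1 := fun p => by
    have : ∀ q : M, q ≠ p → ∃ e, e ∈ q.1 ∧ e ∉ p.1 := fun q hq => by
      by_contra h
      push_neg at h
      exact hq (Subtype.ext (le_antisymm h
        (((Set.Finite.mem_toFinset _).1 p.2).2 ⟨hprime q, bot_le⟩ h)))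
    choose e he he' using this
    refine ⟨∏ q ∈ (Finset.univ.erase p).attach, e q.1 (Finset.ne_of_mem_erase q.2), fun h => ?_, fun q hq => ?_⟩
    · obtain ⟨q, -, hq⟩ := (hprime p).prod_mem_iff.1 h
      exact he' _ _ hq
    · exact Ideal.prod_mem (I := q.1) (Finset.mem_attach _ ⟨q, Finset.mem_erase.2 ⟨hq, Finset.mem_univ _⟩⟩) (he q _)
  choose e he he' using hsep
  choose b t ht hz using fun p : M => evA_surj (pt p) (f (pt p))
  have hmem : ∀ (p : M) (a : A), a ∈ p.1 ↔ evA (pt p) a = 0 := fun p a => by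
    rw [← RingHom.mem_ker, ker_evA]
  have hevsum : ∀ (c : M → A) (p : M), evA (pt p) (∑ q, e q * c q) = evA (pt p) (e p * c p) := fun c p => by
    rw [map_sum, Finset.sum_eq_single p (fun q _ hq => ?_) (fun h => absurd (Finset.mem_univ _) h)]
    rw [map_mul, (hmem p _).1 (he' q p (Ne.symm hq)), zero_mul]
  let D := ∑ q, e q * t q
  let N := ∑ q, e q * b q
  have hD : ∀ p, evA (pt p) D ≠ 0 := fun p => by
    rw [hevsum, map_mul]
    exact mul_ne_zero (fun h => he p ((hmem p _).2 h)) (ht p)
  have hN : ∀ p, evA (pt p) N = f (pt p) * evA (pt p) D := fun p => by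
    rw [hevsum, hevsum, map_mul, map_mul, ← hz p, mul_left_comm]
  have hzero : ∀ a : A, (∀ p, evA (pt p) a = 0) → a = 0 := fun a ha => by
    have : a ∈ nilradical A := by
      rw [nilradical, ← Ideal.sInf_minimalPrimes, Ideal.mem_sInf]
      exact fun {p} hp => (hmem ⟨p, (Set.Finite.mem_toFinset _).2 hp⟩ a).2 (ha _)
    exact (nilradical_eq_zero A).le this
  have hD0 : D ∈ nonZeroDivisors A := mem_nonZeroDivisors_iff_right.2 fun z hzD => hzero z fun p =>
    (mul_eq_zero.1 (((map_mul (evA (pt p)) z D).symm).trans ((congrArg _ hzD).trans (map_zero _)))).resolve_right (hD p)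
  let Q := FractionRing A
  let r : Q := IsLocalization.mk' Q N ⟨D, hD0⟩
  have hrD : r * algebraMap A Q D = algebraMap A Q N := IsLocalization.mk'_spec Q N ⟨D, hD0⟩
  have hint : IsIntegral A r := by
    choose P hP hP0 using fun p : M => isIntegralElem hf (pt p)
    let P' := ∏ p, P p
    refine ⟨P', Polynomial.monic_prod_of_monic _ _ fun p _ => hP p, ?_⟩
    have hc : (P'.scaleRoots D).eval N = 0 := hzero _ fun p => by
      rw [← Polynomial.eval₂_at_apply, hN, mul_comm, Polynomial.scaleRoots_eval₂_mul, Polynomial.eval₂_finsetProd,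
        Finset.prod_eq_zero (Finset.mem_univ p) (hP0 p), mul_zero]
    have h2 := congrArg (algebraMap A Q) hc
    rw [← Polynomial.eval₂_at_apply, ← hrD, mul_comm r, Polynomial.scaleRoots_eval₂_mul, map_zero] at h2
    exact ((IsLocalization.map_units Q ⟨D, hD0⟩).pow _).mul_right_eq_zero.1 h2
  obtain ⟨a, ha⟩ := IsIntegrallyClosed.isIntegral_iff.1 hint
  have haD : a * D = N := IsFractionRing.injective A Q (by rw [map_mul, ha, hrD])
  have hmin : ∀ p : M, f (pt p) = evA (pt p) a := fun p =>
    mul_right_cancel₀ (hD p) ((hN p).symm.trans ((congrArg _ haD.symm).trans (map_mul _ _ _)))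
  refine ⟨a, fun x => ?_⟩
  obtain ⟨p, hp, hpx⟩ := Ideal.exists_minimalPrimes_le (J := x.asIdeal) bot_le
  let P₀ : M := ⟨p, (Set.Finite.mem_toFinset _).2 hp⟩
  by_cases hxp : pt P₀ = x
  · exact hxp ▸ hmin P₀
  obtain ⟨R, _, _, _, ψ, hc, hg⟩ := Stk19b.exists_dvr_of_specializes
    (show pt P₀ ⤳ x from (PrimeSpectrum.le_iff_specializes _ _).1 hpx) hxp
  have hgen : ψ (gen R) = pt P₀ := by
    refine Eq.trans ?_ (hg (IsLocalRing.closedPoint (FractionRing R)))
    rw [Scheme.Hom.comp_apply]
    congr 1
    refine PrimeSpectrum.ext ?_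
    show ⊥ = Ideal.comap (algebraMap R (FractionRing R)) (IsLocalRing.maximalIdeal _)
    rw [IsLocalRing.maximalIdeal_eq_bot]
    exact ((RingHom.injective_iff_ker_eq_bot _).1 (IsFractionRing.injective R (FractionRing R))).symm
  have := eq_at_specialization R hf ψ a (hgen ▸ hmin P₀) (IsLocalRing.closedPoint R)
  rwa [hc] at this

end Groth.Agent.HTop16.PtFunNormal
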