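import Groth.Agent.HTop16.SchemeApps
import Groth.Agent.Props12.KerReduced
import Mathlib.AlgebraicGeometry.ResidueField

/-!
Seminormal schemes have no nontrivial reduced universal homeomorphisms with trivial residue
extensions; such morphisms are stable under base change.
-/

set_option autoImplicit false
set_option linter.unusedSectionVars false

namespace Groth.Agent.HTop16

universe u

open CategoryTheory CategoryTheory.Limits AlgebraicGeometry UnivHomeo

lemma bijective_of_seminormal {A B : Type u} [CommRing A] [CommRing B] [_root_.IsReduced B] {φ : A →+* B}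
    (hA : HTop.IsSeminormalRing A) (hφ : UH φ) (htriv : Triv φ) : Function.Bijective φ := by
  obtain ⟨hr, h23⟩ := seminormal_iff.1 hA
  have hinj : Function.Injective φ := (injective_iff_map_eq_zero φ).2 fun a ha =>
    hr.eq_zero _ (mem_nilradical.1 (hφ.2.2 (RingHom.mem_ker.2 ha)))
  refine ⟨hinj, RingHom.range_eq_top.1 (eq_top_of_closed φ _ hφ.1 hφ.2.1 le_rfl ?_ (Or.inl htriv))⟩
  rintro b ⟨x, hx⟩ ⟨y, hy⟩
  obtain ⟨a, rfl, rfl⟩ := h23 x y (hinj (by rw [map_pow, map_pow, hx, hy, ← pow_mul, ← pow_mul]))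
  exact ⟨a, eq_of_sq_cube_reduced (by rw [← map_pow, hx]) (by rw [← map_pow, hy])⟩

lemma res_comp {X Y Z : Scheme.{u}} {f : X ⟶ Y} {g : Y ⟶ Z} (hf : HTop.ResidueFieldsIso f)
    (hg : HTop.ResidueFieldsIso g) : HTop.ResidueFieldsIso (f ≫ g) := fun x => by
  rw [Scheme.residueFieldMap_comp]
  exact IsIso.comp_isIso' (hg (f x)) (hf x)

lemma res_of_isOpenImmersion {X Y : Scheme.{u}} (f : X ⟶ Y) [IsOpenImmersion f] :
    HTop.ResidueFieldsIso f := fun _ => inferInstance

lemma res_cancel {X Y Z : Scheme.{u}} {f : X ⟶ Y} {g : Y ⟶ Z} (h : HTop.ResidueFieldsIso (f ≫ g))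
    (hg : HTop.ResidueFieldsIso g) : HTop.ResidueFieldsIso f := fun x => by
  have h' := h x
  rw [Scheme.residueFieldMap_comp] at h'
  exact @IsIso.of_isIso_comp_left _ _ _ _ _ (g.residueFieldMap (f x)) _ (hg (f x)) h'

lemma res_of_surjectiveOnStalks {X Y : Scheme.{u}} (f : X ⟶ Y) [SurjectiveOnStalks f] :
    HTop.ResidueFieldsIso f := fun x => by
  rw [ConcreteCategory.isIso_iff_bijective]
  refine ⟨RingHom.injective _, fun z => ?_⟩
  obtain ⟨a, rfl⟩ := IsLocalRing.residue_surjective z
  obtain ⟨b, rfl⟩ := f.stalkMap_surjective x a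
  exact ⟨IsLocalRing.residue _ b, rfl⟩

lemma res_pullback {P T Y U : Scheme.{u}} {f' : P ⟶ T} {i : P ⟶ Y} {f : Y ⟶ U} {g : T ⟶ U}
    (sq : IsPullback i f' f g) [UniversallyInjective f'] (hf : HTop.ResidueFieldsIso f) :
    HTop.ResidueFieldsIso f' := by
  intro p
  haveI := hf (i p)
  let K := T.residueField (f' p)
  have hp : g (f' p) = f (i p) := by
    rw [← Scheme.Hom.comp_apply, ← Scheme.Hom.comp_apply, sq.w]
  let l : Spec K ⟶ Y :=
    Spec.map (inv (f.residueFieldMap (i p)) ≫ (U.residueFieldCongr hp).inv ≫ g.residueFieldMap (f' p)) ≫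
      Y.fromSpecResidueField (i p)
  have hl : l ≫ f = T.fromSpecResidueField (f' p) ≫ g := by
    simp only [l, Category.assoc]
    rw [← Scheme.Hom.SpecMap_residueFieldMap_fromSpecResidueField, ← Spec.map_comp_assoc,
      IsIso.hom_inv_id_assoc, Scheme.residueFieldCongr_inv, Spec.map_comp, Category.assoc,
      Scheme.residueFieldCongr_fromSpecResidueField,
      Scheme.Hom.SpecMap_residueFieldMap_fromSpecResidueField]
  let k : Type u := T.residueField (f' p)
  letI : Field k := inferInstanceAs (Field (T.residueField (f' p)))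
  let s : Spec (CommRingCat.of k) ⟶ P := sq.lift l (T.fromSpecResidueField (f' p)) hl
  have hs : s ≫ f' = T.fromSpecResidueField (f' p) := sq.lift_snd _ _ _
  let q := s (IsLocalRing.closedPoint k)
  have hq : p = q := f'.injective (by
    show f' p = f' q
    rw [show f' q = (s ≫ f') (IsLocalRing.closedPoint k) from rfl, hs,
      Scheme.fromSpecResidueField_apply])
  let φ : P.residueField p ⟶ K :=
    (P.residueFieldCongr hq).hom ≫ @Scheme.descResidueField k _ P _ (Scheme.stalkClosedPointTo s)
      (Scheme.isLocalHom_stalkClosedPointTo' (R := k) s)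
  have hφ : Spec.map φ ≫ P.fromSpecResidueField p = s := by
    simp only [φ, Spec.map_comp, Category.assoc]
    rw [Scheme.residueFieldCongr_fromSpecResidueField,
      Scheme.descResidueField_stalkClosedPointTo_fromSpecResidueField]
  have h1 : f'.residueFieldMap p ≫ φ = 𝟙 K := by
    apply Spec.map_injective
    rw [← cancel_mono (T.fromSpecResidueField (f' p)), Spec.map_comp, Category.assoc,
      Scheme.Hom.SpecMap_residueFieldMap_fromSpecResidueField, ← Category.assoc, hφ, hs,
      Spec.map_id, Category.id_comp]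
  rw [ConcreteCategory.isIso_iff_bijective]
  refine ⟨RingHom.injective _, fun z => ⟨φ z, ?_⟩⟩
  exact RingHom.injective φ.hom (congrArg (fun m => m.hom (φ z)) h1)

lemma isIso_of_seminormal {X Y : Scheme.{u}} (hX : HTop.IsSeminormal X) (π : Y ⟶ X)
    (hπ : FlatMor.IsUnivHomeo π) (hres : HTop.ResidueFieldsIso π) [IsReduced Y] : IsIso π := by
  obtain ⟨h1, h2, h3⟩ := (S0415.result π).1 hπ
  haveI := h1
  haveI := respectsIso_uh.{u}
  show MorphismProperty.isomorphisms Scheme π
  refine IsZariskiLocalAtTarget.of_openCover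
    (Scheme.AffineZariskiSite.directedCover X) fun U => ?_
  show MorphismProperty.isomorphisms Scheme (pullback.snd π U.1.ι)
  rw [← MorphismProperty.cancel_left_of_respectsIso (MorphismProperty.isomorphisms Scheme)
    (pullbackRestrictIsoRestrict π U.1).inv]
  show IsIso ((pullbackRestrictIsoRestrict π U.1).inv ≫ pullback.snd π U.1.ι)
  rw [show (pullbackRestrictIsoRestrict π U.1).inv ≫ pullback.snd π U.1.ι = π ∣_ U.1 from rfl]
  let Z : Scheme.{u} := (π ⁻¹ᵁ U.1 : Scheme.{u})
  haveI : IsAffine (U.1 : Scheme.{u}) := U.2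
  haveI : IsAffine Z := U.2.preimage π
  haveI : IsReduced Z := isReduced_of_isOpenImmersion (π ⁻¹ᵁ U.1).ι
  have hres' : FlatMor.IsUnivHomeo (π ∣_ U.1) :=
    (S0415.result _).2 ⟨IsZariskiLocalAtTarget.restrict (P := @IsIntegralHom) h1 _,
      IsZariskiLocalAtTarget.restrict (P := @UniversallyInjective) h2 _,
      IsZariskiLocalAtTarget.restrict (P := @Surjective) h3 _⟩
  have hr : HTop.ResidueFieldsIso (π ∣_ U.1) := res_cancel (g := U.1.ι) (by
    rw [morphismRestrict_ι]; exact res_comp (res_of_isOpenImmersion _) hres)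
    (res_of_isOpenImmersion _)
  obtain ⟨φ, hφ⟩ := Spec.map_surjective (Z.isoSpec.inv ≫ (π ∣_ U.1) ≫ U.2.isoSpec.hom)
  have hUH : UH φ.hom := by
    refine (isUnivHomeo_iff φ.hom).1 ?_
    rw [show Spec.map (CommRingCat.ofHom φ.hom) = _ from hφ]
    exact MorphismProperty.RespectsIso.precomp (P := FlatMor.IsUnivHomeo) _ _
      (MorphismProperty.RespectsIso.postcomp (P := FlatMor.IsUnivHomeo) _ _ hres')
  have htriv : Triv φ.hom := by
    refine (residueFieldMap_surjective_iff φ.hom).1 fun x => ?_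
    have hφres : HTop.ResidueFieldsIso (Spec.map (CommRingCat.ofHom φ.hom)) := by
      rw [show Spec.map (CommRingCat.ofHom φ.hom) = _ from hφ]
      exact res_comp (res_of_isOpenImmersion _) (res_comp hr (res_of_isOpenImmersion _))
    exact ((ConcreteCategory.isIso_iff_bijective _).1 (hφres x)).2
  haveI : IsIso φ := (ConcreteCategory.isIso_iff_bijective _).2
    (bijective_of_seminormal (isSeminormal_affine X hX ⟨U.1, U.2⟩) hUH htriv)
  have : π ∣_ U.1 = Z.isoSpec.hom ≫ Spec.map φ ≫ U.2.isoSpec.inv := by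
    rw [hφ, Category.assoc, Category.assoc, Iso.hom_inv_id, Category.comp_id, Iso.hom_inv_id_assoc]
  rw [this]
  infer_instance

lemma isUnivHomeo_of_closed_surj {Z Y : Scheme.{u}} (i : Z ⟶ Y) [IsClosedImmersion i] [Surjective i] :
    FlatMor.IsUnivHomeo i :=
  isUnivHomeo_of_integral_univInjective_surjective i

/-- sections of a universal homeomorphism with trivial residue extensions over a seminormal scheme -/
lemma exists_section {X Y : Scheme.{u}} (hX : HTop.IsSeminormal X) (π : Y ⟶ X)
    (hπ : FlatMor.IsUnivHomeo π) (hres : HTop.ResidueFieldsIso π) : ∃ s : X ⟶ Y, s ≫ π = 𝟙 X := by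
  let i := Y.nilradical.subschemeι
  haveI : IsReduced Y.nilradical.subscheme := by
    rw [← Scheme.IdealSheafData.vanishingIdeal_top]
    exact Props12.isReduced_subscheme_vanishingIdeal _
  haveI : Surjective i := ⟨Set.range_eq_univ.1 (by
    rw [Scheme.IdealSheafData.range_subschemeι, Scheme.support_nilradical]; rfl)⟩
  haveI : IsIso (i ≫ π) := isIso_of_seminormal hX (i ≫ π) (by
    obtain ⟨a, b, c⟩ := (S0415.result _).1 (isUnivHomeo_of_closed_surj i)
    obtain ⟨a', b', c'⟩ := (S0415.result _).1 hπ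
    exact (S0415.result _).2 ⟨MorphismProperty.comp_mem _ _ _ a a',
      MorphismProperty.comp_mem _ _ _ b b', MorphismProperty.comp_mem _ _ _ c c'⟩)
    (res_comp (res_of_surjectiveOnStalks i) hres)
  exact ⟨inv (i ≫ π) ≫ i, by rw [Category.assoc, IsIso.inv_hom_id]⟩

end Groth.Agent.HTop16
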