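import Groth.Agent.HTop16.PtFunNormal
import Groth.Agent.HTop16.HBasic
import Groth.Agent.S13109
import Mathlib.AlgebraicGeometry.Pullbacks
import Mathlib.RingTheory.TensorProduct.Maps
import Mathlib.LinearAlgebra.Basis.VectorSpace

/-!
# Descent of values along proper surjective morphisms
-/

set_option autoImplicit false
set_option backward.isDefEq.respectTransparency false
set_option linter.all false

universe u

open CategoryTheory CategoryTheory.Limits AlgebraicGeometry W4c1hilbchowinc Opposite TensorProduct

namespace Groth.Agent.HTop16.PtFunDescent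

/-- An element of a field extension equalised by the two inclusions in the tensor square is in the base. -/
theorem mem_range_of_tmul_eq {K L : Type*} [Field K] [Field L] [Algebra K L] (a : L)
    (h : a ⊗ₜ[K] (1 : L) = (1 : L) ⊗ₜ[K] a) : ∃ c : K, algebraMap K L c = a := by
  obtain ⟨g, hg⟩ := (Algebra.linearMap K L).exists_leftInverse_of_injective
    (LinearMap.ker_eq_bot.2 (algebraMap K L).injective)
  refine ⟨g a, ?_⟩
  have h1 : g 1 = 1 := by simpa using LinearMap.congr_fun hg 1
  have := congrArg (fun z => TensorProduct.rid K L (TensorProduct.map (LinearMap.id : L →ₗ[K] L) g z)) h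
  simp only [TensorProduct.map_tmul, LinearMap.id_apply, TensorProduct.rid_tmul, h1, one_smul] at this
  rw [Algebra.algebraMap_eq_smul_one]
  exact this.symm

/-- The section seen at the spectrum of the residue field is the value. -/
theorem fromSpecResidueField_appTop {Y : Scheme.{u}} (y : Y) (s : Γ(Y, ⊤)) :
    (Scheme.ΓSpecIso (Y.residueField y)).hom ((Y.fromSpecResidueField y).appTop s) = Y.Γevaluation y s := by
  have e : (Y.fromSpecResidueField y).appTop ≫ (Scheme.ΓSpecIso (Y.residueField y)).hom = Y.Γevaluation y := by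
    rw [Scheme.fromSpecResidueField, Scheme.Hom.comp_appTop, Scheme.fromSpecStalk_appTop]
    simp only [Category.assoc]
    rw [Scheme.ΓSpecIso_naturality]
    simp
    rfl
  exact ConcreteCategory.congr_hom e s

variable {X Y : Scheme.{u}} (π : Y ⟶ X) (s : Γ(Y, ⊤))

/-- An equalised section has values in the residue fields of the base. -/
theorem exists_value (hs : (pullback.fst π π).appTop s = (pullback.snd π π).appTop s) (y : Y) :
    ∃ c, π.residueFieldMap y c = Y.Γevaluation y s := by
  let K : Type u := X.residueField (π y)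
  let L : Type u := Y.residueField y
  letI : Field K := inferInstanceAs (Field (X.residueField (π y)))
  letI : Field L := inferInstanceAs (Field (Y.residueField y))
  letI : Algebra K L := (π.residueFieldMap y).hom.toAlgebra
  let iL : Y.residueField y ⟶ CommRingCat.of (L ⊗[K] L) :=
    CommRingCat.ofHom (Algebra.TensorProduct.includeLeftRingHom (R := K) (A := L) (B := L))
  let iR : Y.residueField y ⟶ CommRingCat.of (L ⊗[K] L) :=
    CommRingCat.ofHom (Algebra.TensorProduct.includeRight (R := K) (A := L) (B := L)).toRingHom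
  have hcomp : π.residueFieldMap y ≫ iL = π.residueFieldMap y ≫ iR := CommRingCat.hom_ext (RingHom.ext fun c => by
    show algebraMap K L c ⊗ₜ[K] (1 : L) = (1 : L) ⊗ₜ[K] algebraMap K L c
    rw [Algebra.algebraMap_eq_smul_one, TensorProduct.smul_tmul])
  let ev := Y.fromSpecResidueField y
  have hw : (Spec.map iL ≫ ev) ≫ π = (Spec.map iR ≫ ev) ≫ π := by
    simp only [Category.assoc, ev, ← Scheme.Hom.SpecMap_residueFieldMap_fromSpecResidueField, ← Spec.map_comp_assoc,
      hcomp]
  have h2 := congrArg (pullback.lift _ _ hw).appTop hs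
  rw [← ConcreteCategory.comp_apply, ← ConcreteCategory.comp_apply, ← Scheme.Hom.comp_appTop,
    ← Scheme.Hom.comp_appTop, pullback.lift_fst, pullback.lift_snd] at h2
  have h3 := congrArg (Scheme.ΓSpecIso (CommRingCat.of (L ⊗[K] L))).hom h2
  rw [Scheme.Hom.comp_appTop, Scheme.Hom.comp_appTop, ConcreteCategory.comp_apply, ConcreteCategory.comp_apply,
    ← ConcreteCategory.comp_apply (Spec.map iL).appTop, ← ConcreteCategory.comp_apply (Spec.map iR).appTop,
    Scheme.ΓSpecIso_naturality, Scheme.ΓSpecIso_naturality, ConcreteCategory.comp_apply,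
    ConcreteCategory.comp_apply, fromSpecResidueField_appTop] at h3
  exact mem_range_of_tmul_eq (K := K) (L := L) _ h3

/-- The condition on a pointwise function at one point of a fibre spreads to the fibre. -/
theorem good_of_good (hs : (pullback.fst π π).appTop s = (pullback.snd π π).appTop s) (P : PtFun X) {y y' : Y}
    (h : π y = π y') (hy : P.pullback π y = Y.Γevaluation y s) : P.pullback π y' = Y.Γevaluation y' s := by
  obtain ⟨w, hw, hw'⟩ := Scheme.Pullback.exists_preimage_pullback y y' h
  subst hw hw'
  have e : ((P.pullback π).pullback (pullback.fst π π)) w = ((P.pullback π).pullback (pullback.snd π π)) w := by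
    rw [S13109.residueFieldMap_comp_pullback, S13109.residueFieldMap_comp_pullback, pullback.condition]
  refine ((pullback.snd π π).residueFieldMap w).hom.injective ?_
  refine (e.symm.trans (congrArg ((pullback.fst π π).residueFieldMap w) hy)).trans ?_
  show (pullback.fst π π).residueFieldMap w _ = (pullback.snd π π).residueFieldMap w _
  rw [Scheme.Γevaluation_naturality_apply, Scheme.Γevaluation_naturality_apply, hs]

/-- An equalised section is the pullback of a pointwise function. -/
theorem exists_ptFun [Surjective π] (hs : (pullback.fst π π).appTop s = (pullback.snd π π).appTop s) :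
    ∃ f : PtFun X, f.pullback π = PtFun.ofSection Y s := by
  classical
  choose c hc using exists_value π s hs
  choose r hr using π.surjective
  let P : X → PtFun X := fun x => Function.update (fun _ => 0) (π (r x)) (c (r x))
  refine ⟨fun x => P x x, funext fun y => ?_⟩
  refine good_of_good π s hs (P (π y)) (hr (π y)) ?_
  show π.residueFieldMap (r (π y)) (P (π y) (π (r (π y)))) = _
  simp only [P, Function.update_self]
  exact hc _

/-- A pointwise function on the spectrum of a DVR which is algebraic after a dominant extension is algebraic. -/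
theorem isAlgebraic_of_extension {R C : Type u} [CommRing R] [IsDomain R] [IsDiscreteValuationRing R] [CommRing C]
    [IsDomain C] [IsLocalRing C] (φ : R →+* C) [IsLocalHom φ] (hφ : Function.Injective φ)
    (F : PtFun (Spec (CommRingCat.of R))) (hF : (F.pullback (Spec.map (CommRingCat.ofHom φ))).IsAlgebraic) :
    F.IsAlgebraic := by
  obtain ⟨rC, hrC⟩ := hF
  let h : Spec (CommRingCat.of C) ⟶ Spec (CommRingCat.of R) := Spec.map (CommRingCat.ofHom φ)
  let γC : Spec (CommRingCat.of C) := (⟨⊥, Ideal.isPrime_bot⟩ : PrimeSpectrum C)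
  have hinjC : Function.Injective (PtFunNormal.evA (A := CommRingCat.of C) γC) :=
    (RingHom.injective_iff_ker_eq_bot _).2 (PtFunNormal.ker_evA _)
  let c : C := (Scheme.ΓSpecIso (CommRingCat.of C)).hom rC
  have key : ∀ (y : Spec (CommRingCat.of C)) (a : R),
      h.residueFieldMap y (PtFunNormal.evA (A := CommRingCat.of R) (h y) a) =
        PtFunNormal.evA (A := CommRingCat.of C) y (φ a) := fun y a => by
    rw [PtFunNormal.residueFieldMap_evA]
    exact congrArg _ (ConcreteCategory.congr_hom (Scheme.ΓSpecIso_inv_naturality (CommRingCat.ofHom φ)) a).symm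
  have hc : ∀ y, PtFunNormal.evA (A := CommRingCat.of C) y c = h.residueFieldMap y (F (h y)) := fun y => by
    show (Spec _).Γevaluation y ((Scheme.ΓSpecIso _).inv ((Scheme.ΓSpecIso _).hom rC)) = _
    rw [Iso.hom_inv_id_apply]
    exact congrFun hrC y
  obtain ⟨b, t, ht, hbt⟩ := PtFunNormal.evA_surj (A := CommRingCat.of R) (h γC) (F (h γC))
  have hcb : c * φ t = φ b := hinjC (by
    rw [map_mul, ← key, ← key, hc, ← hbt]
    exact (map_mul (h.residueFieldMap γC).hom _ _).symm)
  obtain ⟨r, rfl⟩ : t ∣ b := by
    rcases ValuationRing.dvd_total t b with hd | ⟨u, hu⟩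
    · exact hd
    rcases eq_or_ne b 0 with rfl | hb
    · exact dvd_zero _
    have h1 : φ b * (c * φ u) = φ b * 1 := by rw [mul_one, mul_left_comm, ← map_mul, ← hu, hcb]
    have hu' : IsUnit u := IsUnit.of_map φ u
      (IsUnit.of_mul_eq_one_right c (mul_left_cancel₀ (fun e => hb (hφ (e.trans (map_zero φ).symm))) h1))
    exact ⟨↑hu'.unit⁻¹, by rw [hu, mul_assoc, hu'.mul_val_inv, mul_one]⟩
  have ht0 : φ t ≠ 0 := fun e => ht (by rw [show t = 0 from hφ (e.trans (map_zero φ).symm), map_zero])
  have hcr : c = φ r := mul_right_cancel₀ ht0 (hcb.trans (by rw [map_mul, mul_comm]))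
  refine ⟨(Scheme.ΓSpecIso (CommRingCat.of R)).inv r, funext fun x => ?_⟩
  have hx : ∃ y, h y = x := by
    rcases eq_or_ne (x : PrimeSpectrum R).asIdeal ⊥ with e | e
    · exact ⟨γC, PrimeSpectrum.ext (((RingHom.injective_iff_ker_eq_bot φ).1 hφ).trans e.symm)⟩
    · refine ⟨IsLocalRing.closedPoint C, PrimeSpectrum.ext ?_⟩
      refine Eq.trans (((IsLocalRing.local_hom_TFAE φ).out 0 4 : IsLocalHom φ ↔ _).1 inferInstance) ?_
      exact (IsLocalRing.eq_maximalIdeal ((x : PrimeSpectrum R).2.isMaximal e)).symm
  obtain ⟨y, rfl⟩ := hx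
  exact ((h.residueFieldMap y).hom.injective (by rw [← hc, hcr]; exact (key y r).symm) :
    F (h y) = PtFunNormal.evA (A := CommRingCat.of R) (h y) r).symm

/-- A pointwise function whose pullback along a proper surjection is algebraic varies along DVRs. -/
theorem variesAlongDVR [IsProper π] [Surjective π] {f : PtFun X} (hf : f.pullback π = PtFun.ofSection Y s) :
    f.VariesAlongDVR := by
  intro R _ _ _ g
  obtain ⟨W, _, _, φ, ⟨hφ, hφl⟩, ⟨⟩, g', hg'⟩ := VCover.hasValLift_proper.{0} π (CommRingCat.of R) g
  haveI := hφl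
  refine isAlgebraic_of_extension φ.hom hφ (f.pullback g) ⟨g'.appTop s, ?_⟩
  have e : (show Spec W ⟶ Y from g') ≫ π = Spec.map φ ≫ g := hg'
  refine (PtFunBasic.pullback_ofSection (show Spec W ⟶ Y from g') s).symm.trans ?_
  rw [← hf, S13109.residueFieldMap_comp_pullback, e, ← S13109.residueFieldMap_comp_pullback]
  rfl

/-- Values of a restriction. -/
theorem evaluation_map {U V : X.Opens} (i : op U ⟶ op V) (x : X) (hx : x ∈ V) (t : Γ(X, U)) :
    X.evaluation V x hx (X.presheaf.map i t) = X.evaluation U x (i.unop.le hx) t :=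
  congrArg (X.residue x) (X.presheaf.germ_res_apply i.unop x hx t)

/-- Sections on an affine open from pointwise functions on its spectrum. -/
theorem exists_section {f : PtFun X} {U : X.Opens} (hU : IsAffineOpen U)
    (h : ∃ a : Γ(Spec Γ(X, U), ⊤), PtFun.ofSection (Spec Γ(X, U)) a = f.pullback hU.fromSpec) :
    ∃ t : Γ(X, U), ∀ x (hx : x ∈ U), X.evaluation U x hx t = f x := by
  obtain ⟨a, ha⟩ := h
  refine ⟨(Scheme.ΓSpecIso _).hom a, fun x hx => ?_⟩
  have hx' : x ∈ Set.range hU.fromSpec := by rw [hU.range_fromSpec]; exact hx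
  obtain ⟨p, rfl⟩ := hx'
  refine (hU.fromSpec.residueFieldMap p).hom.injective ?_
  refine (Scheme.evaluation_naturality_apply hU.fromSpec p hx _).trans ?_
  rw [hU.fromSpec_app_self]
  refine (evaluation_map _ p _ _).trans ?_
  refine (congrArg _ (Iso.hom_inv_id_apply (Scheme.ΓSpecIso _) a)).trans ?_
  exact congrFun ha p

/-- Gluing of sections by their values. -/
theorem exists_glue [IsReduced X] {f : PtFun X}
    (h : ∀ x : X, ∃ (U : X.Opens) (t : Γ(X, U)), x ∈ U ∧ ∀ y (hy : y ∈ U), X.evaluation U y hy t = f y) :
    ∃ t : Γ(X, ⊤), PtFun.ofSection X t = f := by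
  choose U t hxU ht using h
  have hcover : (⊤ : X.Opens) ≤ iSup U := fun x _ => TopologicalSpace.Opens.mem_iSup.2 ⟨x, hxU x⟩
  have hcompat : TopCat.Presheaf.IsCompatible X.sheaf.1 U t := fun i j => by
    show X.presheaf.map (homOfLE inf_le_left).op (t i) = X.presheaf.map (homOfLE inf_le_right).op (t j)
    rw [← sub_eq_zero, ← basicOpen_eq_bot_iff, Scheme.basicOpen_eq_bot_iff_forall_evaluation_eq_zero]
    intro x
    refine (map_sub _ _ _).trans (sub_eq_zero.2 ?_)
    exact ((evaluation_map _ x.1 x.2 _).trans (ht i _ _)).trans ((evaluation_map _ x.1 x.2 _).trans (ht j _ _)).symm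
  obtain ⟨T, hT, -⟩ := X.sheaf.existsUnique_gluing' U ⊤ (fun i => homOfLE le_top) hcover t hcompat
  refine ⟨T, funext fun x => ?_⟩
  have := ht x x (hxU x)
  rw [← hT x] at this
  exact ((evaluation_map (homOfLE le_top).op x (hxU x) T).symm).trans this

end Groth.Agent.HTop16.PtFunDescent
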