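import Groth.Agent.DCat.Acyclic
import Groth.Agent.SiteTen.KFlatMore
import Groth.Agent.DCat.PureAcyclic
import Groth.Agent.SiteHom16.PullFlat

/-!
# Inverse images of K-flat complexes with flat terms
-/

set_option autoImplicit false
set_option backward.isDefEq.respectTransparency false

universe u

open CategoryTheory CategoryTheory.Limits Opposite HomologicalComplex
open Groth.Agent.DCat Groth.Agent.SiteTen

namespace Groth.Agent.HTop16.PullKFlat

variable {C D : Type u} [SmallCategory C] [SmallCategory D] {J : GrothendieckTopology C}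
  {K : GrothendieckTopology D} {OC : Sheaf J CommRingCat.{u}} {OD : Sheaf K CommRingCat.{u}}
  (f : ModSite.RMor OC OD)

/-- Cones of quasi-isomorphisms are acyclic. -/
theorem acyclic_cone {A : Type (u + 1)} [Category.{u} A] [Abelian A] {X Y : CochainComplex A ℤ} (f : X ⟶ Y)
    [QuasiIso f] : (CochainComplex.mappingCone f).Acyclic := by
  letI := HasDerivedCategory.standard A
  exact DCat.Acyclic.acyclic_cone_of_isIso f

/-- Termwise inverse image. -/
noncomputable abbrev pullCx : CochainComplex (ModSite.Mod OD) ℤ ⥤ CochainComplex (ModSite.Mod OC) ℤ :=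
  f.pull.mapHomologicalComplex (ComplexShape.up ℤ)

instance : f.pull.IsLeftAdjoint := f.adj.isLeftAdjoint

/-- Termwise inverse image of a sequential colimit. -/
noncomputable def isColimitPullCx {F : ℕ ⥤ CochainComplex (ModSite.Mod OD) ℤ} {c : Cocone F}
    (hc : ∀ q, IsColimit ((HomologicalComplex.eval _ (ComplexShape.up ℤ) q).mapCocone c)) :
    IsColimit ((pullCx f).mapCocone c) :=
  HomologicalComplex.isColimitOfEval _ _ fun q => isColimitOfPreserves f.pull (hc q)

/-- An acyclic K-flat complex with flat terms has K-flat inverse image. -/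
theorem isKFlatFor_pull_of_acyclic {L : CochainComplex (ModSite.Mod OD) ℤ} (hL : IsKFlatFor (tT OD) L)
    (hac : L.Acyclic) (hfl : ∀ n, ModSite.IsFlat (L.X n)) : IsKFlatFor (tT OC) ((pullCx f).obj L) := by
  refine isKFlatFor_colimit (c := (pullCx f).mapCocone (truncLECocone L))
    (isColimitPullCx f (isColimitTruncLEEval L)) fun k => ?_
  refine isKFlatFor_boundedAbove _ (k : ℤ) (fun n hn => f.pull.map_isZero
    (CochainComplex.isZero_of_isStrictlyLE (L.truncLE (k : ℤ)) (k : ℤ) n hn)) fun n => ?_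
  refine SiteHom16.isFlat_pull f _ ?_
  rcases lt_trichotomy n (k : ℤ) with h | h | h
  · exact isFlat_of_iso (L.truncLEXIso (k : ℤ) n h).symm (hfl n)
  · subst h
    exact isFlat_of_iso (L.truncLEXIsoCycles (k : ℤ)).symm (isFlat_cycles hL hac hfl _)
  · exact isFlat_of_isZero (CochainComplex.isZero_of_isStrictlyLE (L.truncLE (k : ℤ)) (k : ℤ) n h)

/-- Inverse image of a complex with zero differentials. -/
noncomputable def pullZeroD (U : ℤ → ModSite.Mod OD) :
    (pullCx f).obj (zeroD U) ≅ zeroD fun n => f.pull.obj (U n) :=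
  HomologicalComplex.Hom.isoOfComponents (fun _ => Iso.refl _) fun i j _ => by simp [zeroD]

/-- K-flat complexes with K-flat inverse image. -/
def Good (L : CochainComplex (ModSite.Mod OD) ℤ) : Prop :=
  IsKFlatFor (tT OD) L ∧ IsKFlatFor (tT OC) ((pullCx f).obj L)

theorem good_zeroD (U : ℤ → ModSite.Mod OD) (h : ∀ n, ModSite.IsFlat (U n)) : Good f (zeroD U) :=
  ⟨isKFlatFor_zeroD U h,
    (isKFlatFor_zeroD _ fun n => SiteHom16.isFlat_pull f _ (h n)).of_iso (pullZeroD f U).symm⟩

theorem good_shift {L : CochainComplex (ModSite.Mod OD) ℤ} (n : ℤ) (h : Good f L) : Good f (L⟦n⟧) :=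
  ⟨h.1.shift n, (h.2.shift n).of_iso (((pullCx f).commShiftIso n).app L).symm⟩

theorem good_ext {S : ShortComplex (CochainComplex (ModSite.Mod OD) ℤ)}
    (hS : ∀ n, Nonempty (S.map (HomologicalComplex.eval _ (ComplexShape.up ℤ) n)).Splitting)
    (h₁ : Good f S.X₁) (h₃ : Good f S.X₃) : Good f S.X₂ :=
  ⟨h₁.1.ext₂ (fun a q => shortExact_map_of_splitting hS a q) h₃.1,
    IsKFlatFor.ext₂ (S := S.map (pullCx f))
      (fun a q => shortExact_map_of_splitting (fun n => ⟨((hS n).some).map f.pull⟩) a q) h₁.2 h₃.2⟩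

theorem good_colimit {F : ℕ ⥤ CochainComplex (ModSite.Mod OD) ℤ} {c : Cocone F} (hc : IsColimit c)
    (h : ∀ j, Good f (F.obj j)) : Good f c.pt :=
  ⟨isKFlatFor_colimit hc fun j => (h j).1,
    isKFlatFor_colimit (c := (pullCx f).mapCocone c)
      (isColimitPullCx f fun q => isColimitOfPreserves _ hc) fun j => (h j).2⟩

/-- Every complex receives a quasi-isomorphism from a good complex with flat terms. -/
theorem exists_good (L : CochainComplex (ModSite.Mod OD) ℤ) :
    ∃ (N : CochainComplex (ModSite.Mod OD) ℤ) (c : N ⟶ L), Good f N ∧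
      (∀ n, ModSite.IsFlat (N.X n)) ∧ QuasiIso c := by
  let Z : ModSite.Mod OD := kernel (𝟙 (ModSite.unit OD))
  have hZ : IsZero Z := isZero_kernel_of_mono _
  have hzero : IsZero (zeroD fun _ : ℤ => Z) := by
    rw [IsZero.iff_id_eq_zero]
    ext n : 1
    exact hZ.eq_of_src _ _
  obtain ⟨N, b, c, hN, hc, -, -, hQ⟩ := exists_cell_res (Good f) (fun M : ModSite.Mod OD => ModSite.IsFlat M)
    exists_flat_cover (good_zeroD f) (fun _ n h => good_shift f n h)
    (fun _ hS h₁ h₃ => good_ext f hS h₁ h₃)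
    isFlat_of_splitting (fun _ _ hc h => good_colimit f hc h) (fun _ _ hc h => isFlat_sequential hc h)
    (0 : zeroD (fun _ => Z) ⟶ L) (good_zeroD f _ fun _ => isFlat_of_isZero hZ)
  exact ⟨N, c, hN, hQ fun n => isFlat_of_isZero hZ, hc⟩

theorem pull_ext₁ {S : ShortComplex (CochainComplex (ModSite.Mod OD) ℤ)}
    (hS : ∀ n, Nonempty (S.map (HomologicalComplex.eval _ (ComplexShape.up ℤ) n)).Splitting)
    (h₂ : IsKFlatFor (tT OC) ((pullCx f).obj S.X₂)) (h₃ : IsKFlatFor (tT OC) ((pullCx f).obj S.X₃)) :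
    IsKFlatFor (tT OC) ((pullCx f).obj S.X₁) :=
  IsKFlatFor.ext₁ (S := S.map (pullCx f))
    (fun a q => shortExact_map_of_splitting (fun n => ⟨((hS n).some).map f.pull⟩) a q) h₂ h₃

/-- The cone of a good resolution. -/
theorem cone_data {N L : CochainComplex (ModSite.Mod OD) ℤ} (c : N ⟶ L) (hL : IsKFlatFor (tT OD) L)
    (hfl : ∀ n, ModSite.IsFlat (L.X n)) (hN : Good f N) (hNfl : ∀ n, ModSite.IsFlat (N.X n)) :
    IsKFlatFor (tT OD) (CochainComplex.mappingCone c) ∧
      ∀ n, ModSite.IsFlat ((CochainComplex.mappingCone c).X n) := by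
  have hS : ∀ n, Nonempty ((CochainComplex.mappingCone.triangleRotateShortComplex c).map
      (HomologicalComplex.eval _ (ComplexShape.up ℤ) n)).Splitting := fun n =>
    ⟨CochainComplex.mappingCone.triangleRotateShortComplexSplitting c n⟩
  refine ⟨IsKFlatFor.ext₂ (S := CochainComplex.mappingCone.triangleRotateShortComplex c)
    (fun a q => shortExact_map_of_splitting hS a q) hL (hN.1.shift 1), fun n => ?_⟩
  exact isFlat_of_splitting _ (hS n).some (hfl n) (hNfl (n + 1))

/-- Inverse images of K-flat complexes with flat terms are K-flat. -/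
theorem isKFlatFor_pull {L : CochainComplex (ModSite.Mod OD) ℤ} (hL : IsKFlatFor (tT OD) L)
    (hfl : ∀ n, ModSite.IsFlat (L.X n)) : IsKFlatFor (tT OC) ((pullCx f).obj L) := by
  obtain ⟨N, c, hN, hNfl, hc⟩ := exists_good f L
  have hcone := cone_data f c hL hfl hN hNfl
  exact pull_ext₁ f (S := CochainComplex.mappingCone.triangleRotateShortComplex c)
    (fun n => ⟨CochainComplex.mappingCone.triangleRotateShortComplexSplitting c n⟩)
    (isKFlatFor_pull_of_acyclic f hcone.1 (@acyclic_cone _ _ _ _ _ c hc) hcone.2) (good_shift f 1 hN).2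

end Groth.Agent.HTop16.PullKFlat
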