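import Groth.Agent.HTop16.PullOverGlue
import Groth.Agent.Stk19b.QPull
import Groth.Agent.DerCompLib.SecData

/-!
# Inverse images of modules and slices

For a morphism of ringed sites, maps out of the restriction to `fn d` of an inverse image are maps out of the
restriction to `d`; hence local generators, local presentations and local bases pass to inverse images.
-/

set_option autoImplicit false
set_option backward.isDefEq.respectTransparency false
set_option linter.all false

universe u

open CategoryTheory CategoryTheory.Limits Opposite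

namespace Groth.Agent.HTop16.PullOver

open Groth.Agent.DerCompLib Groth.Agent.Stk19b

variable {C : Type u} [SmallCategory C] {J : GrothendieckTopology C} {R : Sheaf J RingCat.{u}} {c₀ : C}

section Push

variable (N : SheafOfModules.{u} (R.over c₀))

/-- The sections of the direct image from a slice. -/
def jSub (c : C) : AddSubgroup (∀ o : Over c₀, (o.left ⟶ c) → N.val.obj (op o)) where
  carrier := {x | ∀ (o o' : Over c₀) (h : o' ⟶ o) (a : o.left ⟶ c), N.val.map h.op (x o a) = x o' (h.left ≫ a)}
  add_mem' {x y} hx hy o o' h a := by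
    show N.val.map h.op (x o a + y o a) = x o' (h.left ≫ a) + y o' (h.left ≫ a)
    rw [map_add, hx o o' h a, hy o o' h a]
  zero_mem' o o' h a := map_zero _
  neg_mem' {x} hx o o' h a := by
    show N.val.map h.op (-x o a) = -x o' (h.left ≫ a)
    rw [map_neg, hx o o' h a]

variable {N} {c : C}

lemma jSub_prop (x : jSub N c) {o o' : Over c₀} (h : o' ⟶ o) (a : o.left ⟶ c) :
    N.val.map h.op (x.1 o a) = x.1 o' (h.left ≫ a) := x.2 o o' h a

noncomputable instance jModule (c : C) : Module (R.obj.obj (op c)) (jSub N c) where
  smul r x := ⟨fun o a => (show (R.over c₀).obj.obj (op o) from R.obj.map a.op r) • x.1 o a, fun o o' h a => by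
    refine (N.val.map_smul _ _ _).trans ?_
    rw [jSub_prop x h a]
    congr 1
    exact (ConcreteCategory.congr_hom (R.obj.map_comp a.op h.left.op) r).symm⟩
  one_smul x := Subtype.ext (funext fun o => funext fun a => by
    show (show (R.over c₀).obj.obj (op o) from R.obj.map a.op 1) • x.1 o a = _
    erw [map_one, one_smul])
  mul_smul r r' x := Subtype.ext (funext fun o => funext fun a => by
    show (show (R.over c₀).obj.obj (op o) from R.obj.map a.op (r * r')) • x.1 o a = _
    erw [map_mul, mul_smul]
    rfl)
  smul_zero r := Subtype.ext (funext fun o => funext fun a => smul_zero _)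
  smul_add r x y := Subtype.ext (funext fun o => funext fun a => smul_add _ _ _)
  add_smul r r' x := Subtype.ext (funext fun o => funext fun a => by
    show (show (R.over c₀).obj.obj (op o) from R.obj.map a.op (r + r')) • x.1 o a = _
    erw [map_add, add_smul]
    rfl)
  zero_smul x := Subtype.ext (funext fun o => funext fun a => by
    show (show (R.over c₀).obj.obj (op o) from R.obj.map a.op 0) • x.1 o a = _
    erw [map_zero, zero_smul]
    rfl)

lemma jSmul_val (r : R.obj.obj (op c)) (x : jSub N c) (o : Over c₀) (a : o.left ⟶ c) :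
    (r • x).1 o a = (show (R.over c₀).obj.obj (op o) from R.obj.map a.op r) • x.1 o a := rfl

variable (N)

/-- Restriction maps. -/
def jRes {c c' : C} (g : c' ⟶ c) : jSub N c →+ jSub N c' where
  toFun x := ⟨fun o a => x.1 o (a ≫ g), fun o o' h a => by
    refine (jSub_prop x h (a ≫ g)).trans ?_
    exact congrArg (x.1 o') (Category.assoc _ _ _).symm⟩
  map_zero' := rfl
  map_add' x y := rfl

/-- The presheaf of modules. -/
noncomputable def jPre : PresheafOfModules.{u} R.obj where
  obj X := ModuleCat.of (R.obj.obj (op X.unop)) (jSub N X.unop)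
  map {X Y} g := ModuleCat.ofHom (Y := (ModuleCat.restrictScalars (R.obj.map g).hom).obj (ModuleCat.of (R.obj.obj (op Y.unop)) (jSub N Y.unop)))
    { toFun := jRes N g.unop
      map_add' := map_add _
      map_smul' := fun r x => Subtype.ext (funext fun o => funext fun a => by
        show (show (R.over c₀).obj.obj (op o) from R.obj.map (a ≫ g.unop).op r) • x.1 o (a ≫ g.unop) =
          (show (R.over c₀).obj.obj (op o) from R.obj.map a.op (R.obj.map g r)) • x.1 o (a ≫ g.unop)
        congr 1
        exact ConcreteCategory.congr_hom (R.obj.map_comp g a.op) r) }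
  map_id X := by
    ext x
    exact Subtype.ext (funext fun o => funext fun a => congrArg (x.1 o) (Category.comp_id a))
  map_comp g h := by
    ext x
    exact Subtype.ext (funext fun o => funext fun a => congrArg (x.1 o) (Category.assoc a h.unop g.unop).symm)

/-- The direct image from a slice. -/
noncomputable def jObj : SheafOfModules.{u} R where
  val := jPre N
  isSheaf := by
    rw [Presheaf.isSheaf_iff_isSheaf_comp J (jPre N).presheaf (CategoryTheory.forget AddCommGrpCat.{u}),
      isSheaf_iff_isSheaf_of_type]
    intro c S hS t ht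
    rw [Presieve.compatible_iff_sieveCompatible] at ht
    have hP : Presieve.IsSheaf (J.over c₀) (N.val.presheaf ⋙ CategoryTheory.forget AddCommGrpCat.{u}) :=
      (isSheaf_iff_isSheaf_of_type _ _).1 ((Presheaf.isSheaf_iff_isSheaf_comp _ _ _).1 N.isSheaf)
    have htv : ∀ {W W' : C} (g : W ⟶ c) (h : W' ⟶ W) (hg : S g) (hg' : S (h ≫ g)) (o : Over c₀) (a : o.left ⟶ W'),
        (t (h ≫ g) hg').1 o a = (t g hg).1 o (a ≫ h) := fun g h hg hg' o a =>
      congrArg (fun z : jSub N _ => z.1 o a) (ht g h hg)
    have hloc : ∀ (o : Over c₀) (a : o.left ⟶ c), Loc (J.over c₀) o fun Z g => S (g.left ≫ a) := fun o a =>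
      loc_over ⟨S.pullback a, J.pullback_stable a hS, fun Z g hg => hg⟩
    choose x hx using fun (o : Over c₀) (a : o.left ⟶ c) =>
      exists_glue hP (o := o) (fun Z g v => ∃ h : S (g.left ≫ a), v = (t (g.left ≫ a) h).1 Z (𝟙 _))
        (fun Z Z' g i v ⟨h, hv⟩ => by
          have h' : S ((i ≫ g).left ≫ a) := by
            rw [Over.comp_left, Category.assoc]
            exact S.downward_closed h _
          refine ⟨h', ?_⟩
          show N.val.map i.op v = _
          subst hv
          rw [jSub_prop]
          have e : (i ≫ g).left ≫ a = i.left ≫ g.left ≫ a := by rw [Over.comp_left, Category.assoc]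
          have key : ∀ (f₁ f₂ : Z'.left ⟶ c) (hf : f₁ = f₂) (h₁ : S f₁) (h₂ : S f₂),
              (t f₁ h₁).1 Z' (𝟙 _) = (t f₂ h₂).1 Z' (𝟙 _) := by rintro f₁ _ rfl h₁ h₂; rfl
          rw [key _ _ e h' (S.downward_closed h _), htv _ _ h]
          simp)
        (fun Z g v v' ⟨h, hv⟩ ⟨h', hv'⟩ => hv.trans hv'.symm)
        ((hloc o a).mono fun Z g hg => ⟨_, hg, rfl⟩)
    have hnat : ∀ (o o' : Over c₀) (h : o' ⟶ o) (a : o.left ⟶ c), N.val.map h.op (x o a) = x o' (h.left ≫ a) := by
      intro o o' h a
      refine sep_loc hP ((hloc o' (h.left ≫ a)).mono fun Z g hg => ?_)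
      show N.val.map g.op (N.val.map h.op (x o a)) = N.val.map g.op (x o' (h.left ≫ a))
      rw [← N.val.map_comp_apply, ← op_comp]
      have hg' : S ((g ≫ h).left ≫ a) := by rwa [Over.comp_left, Category.assoc]
      refine (hx o a (g ≫ h) _ ⟨hg', rfl⟩).trans ((hx o' (h.left ≫ a) g _ ⟨hg, ?_⟩).symm)
      have key : ∀ (f₁ f₂ : Z.left ⟶ c) (hf : f₁ = f₂) (h₁ : S f₁) (h₂ : S f₂),
          (t f₁ h₁).1 Z (𝟙 _) = (t f₂ h₂).1 Z (𝟙 _) := by rintro f₁ _ rfl h₁ h₂; rfl
      exact key _ _ (by rw [Over.comp_left, Category.assoc]) _ _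
    refine ⟨⟨x, hnat⟩, fun W g hg => Subtype.ext (funext fun o => funext fun a => ?_), fun x' hx' =>
      Subtype.ext (funext fun o => funext fun a => sep_loc hP ((hloc o a).mono fun Z g hg => ?_))⟩
    · have hg' : S (((𝟙 o : o ⟶ o)).left ≫ a ≫ g) := by
        rw [Over.id_left, Category.id_comp]
        exact S.downward_closed hg a
      have e1 := hx o (a ≫ g) (𝟙 o) _ ⟨hg', rfl⟩
      rw [op_id, CategoryTheory.Functor.map_id] at e1
      refine (show x o (a ≫ g) = _ from e1).trans ?_
      have key : ∀ (f₁ f₂ : o.left ⟶ c) (hf : f₁ = f₂) (h₁ : S f₁) (h₂ : S f₂),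
          (t f₁ h₁).1 o (𝟙 _) = (t f₂ h₂).1 o (𝟙 _) := by rintro f₁ _ rfl h₁ h₂; rfl
      rw [key _ (a ≫ g) (by simp) hg' (S.downward_closed hg a), htv g a hg]
      simp
    · refine Eq.trans ?_ (hx o a g _ ⟨hg, rfl⟩).symm
      have e := congrArg (fun z : jSub N Z.left => z.1 Z (𝟙 _)) (hx' (g.left ≫ a) hg)
      refine Eq.trans ?_ e
      show N.val.map g.op ((show jSub N c from x').1 o a) = (show jSub N c from x').1 Z (𝟙 _ ≫ g.left ≫ a)
      rw [jSub_prop, Category.id_comp]

variable (M : SheafOfModules.{u} R)

/-- The transpose of a map out of a restriction. -/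
noncomputable def toJ (φ : M.over c₀ ⟶ N) : M ⟶ jObj N :=
  ⟨PresheafOfModules.homMk
    { app := fun X => AddCommGrpCat.ofHom
        { toFun := fun m => (⟨fun o a => φ.val.app (op o) (M.val.map a.op m), fun o o' h a => by
            refine (PresheafOfModules.naturality_apply φ.val h.op _).symm.trans ?_
            exact congrArg (φ.val.app (op o')) (M.val.map_comp_apply a.op h.left.op m).symm⟩ : jSub N X.unop)
          map_zero' := Subtype.ext (funext fun o => funext fun a => by
            show φ.val.app (op o) (M.val.map a.op 0) = 0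
            rw [map_zero]
            exact map_zero _)
          map_add' := fun m m' => Subtype.ext (funext fun o => funext fun a => by
            show φ.val.app (op o) (M.val.map a.op (m + m')) = _
            rw [map_add]
            exact map_add _ _ _) }
      naturality := fun X Y g => by
        ext m
        exact Subtype.ext (funext fun o => funext fun a =>
          congrArg (φ.val.app (op o)) (M.val.map_comp_apply g a.op m).symm) }
    (fun X r m => Subtype.ext (funext fun o => funext fun a => by
      show φ.val.app (op o) (M.val.map a.op (r • m)) = _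
      rw [M.val.map_smul]
      exact map_smul (φ.val.app (op o)).hom _ _))⟩

/-- The value of a map into the direct image. -/
noncomputable abbrev apJ (Φ : M ⟶ jObj N) (c : C) (m : M.val.obj (op c)) : jSub N c := Φ.val.app (op c) m

lemma apJ_map (Φ : M ⟶ jObj N) {c c' : C} (g : c' ⟶ c) (m : M.val.obj (op c)) :
    apJ N M Φ c' (M.val.map g.op m) = jRes N g (apJ N M Φ c m) := PresheafOfModules.naturality_apply Φ.val g.op m

lemma apJ_smul (Φ : M ⟶ jObj N) (c : C) (r : R.obj.obj (op c)) (m : M.val.obj (op c)) :
    apJ N M Φ c (r • m) = r • apJ N M Φ c m := map_smul (Φ.val.app (op c)).hom r m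

/-- The other transpose. -/
noncomputable def ofJ (Φ : M ⟶ jObj N) : M.over c₀ ⟶ N :=
  ⟨PresheafOfModules.homMk
    { app := fun X => AddCommGrpCat.ofHom
        { toFun := fun m => (apJ N M Φ X.unop.left m).1 X.unop (𝟙 _)
          map_zero' := congrArg (fun z : jSub N X.unop.left => z.1 X.unop (𝟙 _))
            (show apJ N M Φ X.unop.left 0 = 0 from map_zero _)
          map_add' := fun m m' => congrArg (fun z : jSub N X.unop.left => z.1 X.unop (𝟙 _))
            (show apJ N M Φ X.unop.left (m + m') = apJ N M Φ X.unop.left m + apJ N M Φ X.unop.left m' from map_add _ _ _) }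
      naturality := fun X Y g => by
        ext m
        refine (congrArg (fun z : jSub N Y.unop.left => z.1 Y.unop (𝟙 _)) (apJ_map N M Φ g.unop.left m)).trans ?_
        refine (congrArg ((apJ N M Φ X.unop.left m).1 Y.unop) ((Category.id_comp _).trans (Category.comp_id _).symm)).trans ?_
        exact (jSub_prop (apJ N M Φ X.unop.left m) g.unop (𝟙 _)).symm }
    (fun X r m => by
      refine (congrArg (fun z : jSub N X.unop.left => z.1 X.unop (𝟙 _)) (apJ_smul N M Φ X.unop.left r m)).trans ?_
      refine congrArg (fun t : (R.over c₀).obj.obj (op X.unop) => t • (apJ N M Φ X.unop.left m).1 X.unop (𝟙 _)) ?_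
      exact ConcreteCategory.congr_hom (R.obj.map_id _) r)⟩

/-- Restriction is left adjoint to the direct image from the slice. -/
noncomputable def jEquiv : (M.over c₀ ⟶ N) ≃ (M ⟶ jObj N) where
  toFun := toJ N M
  invFun := ofJ N M
  left_inv φ := SheafOfModules.hom_ext (PresheafOfModules.hom_ext fun X => ModuleCat.hom_ext (LinearMap.ext fun m => by
    show φ.val.app X (M.val.map (𝟙 X.unop.left).op m) = _
    exact congrArg (φ.val.app X) (ConcreteCategory.congr_hom (M.val.presheaf.map_id _) m)))
  right_inv Φ := SheafOfModules.hom_ext (PresheafOfModules.hom_ext fun X => ModuleCat.hom_ext (LinearMap.ext fun m =>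
    Subtype.ext (funext fun o => funext fun a => by
      show (show jSub N o.left from Φ.val.app (op o.left) (M.val.map a.op m)).1 o (𝟙 _) =
        (show jSub N X.unop from Φ.val.app X m).1 o a
      refine (congrArg (fun z : jSub N o.left => z.1 o (𝟙 _))
        (show (show jSub N o.left from Φ.val.app (op o.left) (M.val.map a.op m)) = jRes N a (Φ.val.app X m) from
          PresheafOfModules.naturality_apply Φ.val a.op m)).trans ?_
      exact congrArg _ (Category.id_comp a))))

variable {N} {M}

/-- Functoriality of the direct image. -/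
noncomputable def jMap {N' : SheafOfModules.{u} (R.over c₀)} (p : N ⟶ N') : jObj N ⟶ jObj N' :=
  toJ N' (jObj N) ((jEquiv N (jObj N)).symm (𝟙 _) ≫ p)

lemma jEquiv_comp {N' : SheafOfModules.{u} (R.over c₀)} (φ : M.over c₀ ⟶ N) (p : N ⟶ N') :
    jEquiv N' M (φ ≫ p) = jEquiv N M φ ≫ jMap p :=
  SheafOfModules.hom_ext (PresheafOfModules.hom_ext fun X => ModuleCat.hom_ext (LinearMap.ext fun m =>
    Subtype.ext (funext fun o => funext fun a => by
      show p.val.app (op o) (φ.val.app (op o) (M.val.map a.op m)) =
        p.val.app (op o) (φ.val.app (op o) (M.val.map (𝟙 o.left ≫ a).op m))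
      rw [Category.id_comp])))

end Push

section Corep

variable {D : Type u} [SmallCategory D] {K : GrothendieckTopology D} {fn : D ⥤ C} [fn.IsContinuous K J]
  {S : Sheaf K RingCat.{u}} (φ : S ⟶ (fn.sheafPushforwardContinuous RingCat.{u} K J).obj R) {d : D}
  [(Over.post (X := d) fn).IsContinuous (K.over d) (J.over (fn.obj d))]
  (hflat : LocFlat K J fn) (N : SheafOfModules.{u} (R.over (fn.obj d))) (F : SheafOfModules.{u} S)

variable (d) in
/-- The structure map between the slices. -/
abbrev phiO : S.over d ⟶ ((Over.post (X := d) fn).sheafPushforwardContinuous RingCat.{u} (K.over d) (J.over (fn.obj d))).obj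
    (R.over (fn.obj d)) :=
  ((Over.forget d).sheafPushforwardContinuous RingCat.{u} (K.over d) K).map φ

/-- The map between the slices. -/
noncomputable abbrev gPush : SheafOfModules.{u} (R.over (fn.obj d)) ⥤ SheafOfModules.{u} (S.over d) :=
  SheafOfModules.pushforward.{u} (F := Over.post (X := d) fn) (phiO φ d)

variable {φ N F}

/-- The spans of a map out of a restriction. -/
noncomputable def spanOf (ψ : F.over d ⟶ (gPush φ).obj N) (v : D) (s : F.val.obj (op v)) :
    SpanFam (fn := fn) (d := d) (N.val.presheaf ⋙ CategoryTheory.forget AddCommGrpCat.{u}) v where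
  Dom _ _ _ := True
  dom_comp _ _ _ _ := trivial
  val w p q _ := ψ.val.app (op (Over.mk q)) (F.val.map p.op s)
  nat {w w'} r p q _ := by
    have e := PresheafOfModules.naturality_apply ψ.val (Over.homMk r : Over.mk (r ≫ q) ⟶ Over.mk q).op (F.val.map p.op s)
    refine Eq.trans ?_ (congrArg (ψ.val.app (op (Over.mk (r ≫ q)))) (F.val.map_comp_apply p.op r.op s).symm)
    exact e.symm

include hflat in
lemma exists_ext (ψ : F.over d ⟶ (gPush φ).obj N) (v : D) (s : F.val.obj (op v)) (o : Over (fn.obj d))
    (a : o.left ⟶ fn.obj v) : ∃ x, IsGlued (spanOf ψ v s) o a x :=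
  exists_isGlued hflat ((isSheaf_iff_isSheaf_of_type _ _).1 ((Presheaf.isSheaf_iff_isSheaf_comp _ _ _).1 N.isSheaf))
    _ o a (dom_full hflat o a)

include hflat in
lemma ext_unique {ψ : F.over d ⟶ (gPush φ).obj N} {v : D} {s : F.val.obj (op v)} {o : Over (fn.obj d)}
    {a : o.left ⟶ fn.obj v} {x x' : N.val.obj (op o)} (h : IsGlued (spanOf ψ v s) o a x)
    (h' : IsGlued (spanOf ψ v s) o a x') : x = x' :=
  isGlued_unique ((isSheaf_iff_isSheaf_of_type _ _).1 ((Presheaf.isSheaf_iff_isSheaf_comp _ _ _).1 N.isSheaf))
    (dom_full hflat o a) h h'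

/-- The extension. -/
noncomputable def extVal (ψ : F.over d ⟶ (gPush φ).obj N) (v : D) (s : F.val.obj (op v)) :
    jSub N (fn.obj v) :=
  ⟨fun o a => (exists_ext hflat ψ v s o a).choose, fun o o' h a =>
    ext_unique hflat
      (fun Z g w p q hd k e => ((N.val.map_comp_apply h.op g.op _).symm.trans
        ((exists_ext hflat ψ v s o a).choose_spec Z (g ≫ h) w p q hd k (by
          rw [e, Over.comp_left, Category.assoc]))))
      (exists_ext hflat ψ v s o' (h.left ≫ a)).choose_spec⟩

lemma extVal_eq {ψ : F.over d ⟶ (gPush φ).obj N} {v : D} {s : F.val.obj (op v)} {o : Over (fn.obj d)}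
    {a : o.left ⟶ fn.obj v} {x : N.val.obj (op o)} (h : IsGlued (spanOf ψ v s) o a x) :
    (extVal hflat ψ v s).1 o a = x :=
  ext_unique hflat (exists_ext hflat ψ v s o a).choose_spec h

lemma extVal_glued (ψ : F.over d ⟶ (gPush φ).obj N) (v : D) (s : F.val.obj (op v)) (o : Over (fn.obj d))
    (a : o.left ⟶ fn.obj v) : IsGlued (spanOf ψ v s) o a ((extVal hflat ψ v s).1 o a) :=
  (exists_ext hflat ψ v s o a).choose_spec

/-- The extension as a map. -/
noncomputable def extHom (ψ : F.over d ⟶ (gPush φ).obj N) : F ⟶ (SheafOfModules.pushforward.{u} φ).obj (jObj N) :=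
  ⟨PresheafOfModules.homMk
    { app := fun X => AddCommGrpCat.ofHom
        { toFun := fun s => extVal hflat ψ X.unop s
          map_zero' := Subtype.ext (funext fun o => funext fun a => extVal_eq hflat fun Z g w p q h k e => by
            show N.val.map g.op 0 = N.val.map k.op (ψ.val.app (op (Over.mk q)) (F.val.map p.op 0))
            rw [map_zero, map_zero]
            exact ((congrArg (N.val.map k.op) (map_zero _)).trans (map_zero _)).symm)
          map_add' := fun s s' => Subtype.ext (funext fun o => funext fun a => extVal_eq hflat fun Z g w p q h k e => by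
            show N.val.map g.op ((extVal hflat ψ _ s).1 o a + (extVal hflat ψ _ s').1 o a) =
              N.val.map k.op (ψ.val.app (op (Over.mk q)) (F.val.map p.op (s + s')))
            rw [map_add, map_add]
            refine Eq.trans ?_ ((congrArg (N.val.map k.op) (map_add _ _ _)).trans (map_add _ _ _)).symm
            exact congrArg₂ (· + ·) (extVal_glued hflat ψ _ s o a Z g w p q h k e)
              (extVal_glued hflat ψ _ s' o a Z g w p q h k e)) }
      naturality := fun X Y i => by
        ext s
        exact Subtype.ext (funext fun o => funext fun a => extVal_eq hflat fun Z g w p q h k e => by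
          refine (extVal_glued hflat ψ X.unop s o (a ≫ fn.map i.unop) Z g w (p ≫ i.unop) q h k (by
            rw [fn.map_comp, reassoc_of% e])).trans ?_
          exact congrArg (N.val.map k.op) (congrArg (ψ.val.app (op (Over.mk q))) (F.val.map_comp_apply i p.op s))) }
    (fun X r s => Subtype.ext (funext fun o => funext fun a => extVal_eq hflat fun Z g w p q h k e => by
      show N.val.map g.op ((show (R.over (fn.obj d)).obj.obj (op o) from R.obj.map a.op (φ.hom.app X r)) •
          (extVal hflat ψ X.unop s).1 o a) = N.val.map k.op (ψ.val.app (op (Over.mk q)) (F.val.map p.op (r • s)))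
      rw [F.val.map_smul]
      refine Eq.trans ?_ ((congrArg (N.val.map k.op) (map_smul (ψ.val.app (op (Over.mk q))).hom _ _)).trans
        (N.val.map_smul k.op _ _)).symm
      refine (N.val.map_smul g.op _ _).trans ?_
      refine congrArg₂ (fun (α : (R.over (fn.obj d)).obj.obj (op Z)) (β : N.val.obj (op Z)) => α • β) ?_
        (extVal_glued hflat ψ _ s o a Z g w p q h k e)
      show R.obj.map g.left.op (R.obj.map a.op (φ.hom.app X r)) = R.obj.map k.left.op (φ.hom.app (op w) (S.obj.map p.op r))
      rw [show φ.hom.app (op w) (S.obj.map p.op r) = R.obj.map (fn.map p).op (φ.hom.app X r) from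
        ConcreteCategory.congr_hom (φ.hom.naturality p.op) r]
      exact ((ConcreteCategory.congr_hom (R.obj.map_comp a.op g.left.op) _).symm.trans
        (ConcreteCategory.congr_hom (congrArg R.obj.map (congrArg Quiver.Hom.op e.symm)) _)).trans
          (ConcreteCategory.congr_hom (R.obj.map_comp (fn.map p).op k.left.op) _)))⟩

/-- The value of a map into the iterated direct image. -/
noncomputable abbrev ofPush (Ψ : F ⟶ (SheafOfModules.pushforward.{u} φ).obj (jObj N)) (v : D) (s : F.val.obj (op v)) :
    jSub N (fn.obj v) := Ψ.val.app (op v) s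

lemma ofPush_map (Ψ : F ⟶ (SheafOfModules.pushforward.{u} φ).obj (jObj N)) {v v' : D} (g : v' ⟶ v)
    (s : F.val.obj (op v)) : ofPush Ψ v' (F.val.map g.op s) = jRes N (fn.map g) (ofPush Ψ v s) :=
  PresheafOfModules.naturality_apply Ψ.val g.op s

lemma ofPush_smul (Ψ : F ⟶ (SheafOfModules.pushforward.{u} φ).obj (jObj N)) (v : D) (r : S.obj.obj (op v))
    (s : F.val.obj (op v)) : ofPush Ψ v (r • s) = (show R.obj.obj (op (fn.obj v)) from φ.hom.app (op v) r) • ofPush Ψ v s :=
  map_smul (Ψ.val.app (op v)).hom r s

/-- Maps into the iterated direct image are maps out of the restriction. -/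
noncomputable def extEquiv : (F.over d ⟶ (gPush φ).obj N) ≃ (F ⟶ (SheafOfModules.pushforward.{u} φ).obj (jObj N)) where
  toFun := extHom hflat
  invFun Ψ :=
    ⟨PresheafOfModules.homMk
      { app := fun X => AddCommGrpCat.ofHom
          { toFun := fun s => (ofPush Ψ X.unop.left s).1 ((Over.post fn).obj X.unop) (𝟙 _)
            map_zero' := congrArg (fun z : jSub N (fn.obj X.unop.left) => z.1 ((Over.post fn).obj X.unop) (𝟙 _))
              (show ofPush Ψ X.unop.left 0 = 0 from map_zero _)
            map_add' := fun s s' => congrArg (fun z : jSub N (fn.obj X.unop.left) => z.1 ((Over.post fn).obj X.unop) (𝟙 _))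
              (show ofPush Ψ X.unop.left (s + s') = ofPush Ψ X.unop.left s + ofPush Ψ X.unop.left s' from map_add _ _ _) }
        naturality := fun X Y g => by
          ext s
          refine (congrArg (fun z : jSub N (fn.obj Y.unop.left) => z.1 ((Over.post fn).obj Y.unop) (𝟙 _))
            (ofPush_map Ψ g.unop.left s)).trans ?_
          refine (congrArg ((ofPush Ψ X.unop.left s).1 ((Over.post fn).obj Y.unop))
            ((Category.id_comp _).trans (Category.comp_id _).symm)).trans ?_
          exact (jSub_prop (ofPush Ψ X.unop.left s) ((Over.post fn).map g.unop) (𝟙 _)).symm }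
      (fun X r s => by
        refine (congrArg (fun z : jSub N (fn.obj X.unop.left) => z.1 ((Over.post fn).obj X.unop) (𝟙 _))
          (ofPush_smul Ψ X.unop.left r s)).trans ?_
        refine congrArg (fun t : (R.over (fn.obj d)).obj.obj (op ((Over.post fn).obj X.unop)) =>
          t • (ofPush Ψ X.unop.left s).1 ((Over.post fn).obj X.unop) (𝟙 _)) ?_
        exact ConcreteCategory.congr_hom (R.obj.map_id _) _)⟩
  left_inv ψ := SheafOfModules.hom_ext (PresheafOfModules.hom_ext fun X => ModuleCat.hom_ext (LinearMap.ext fun s => by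
    have e := extVal_glued hflat ψ X.unop.left s ((Over.post fn).obj X.unop) (𝟙 _) _ (𝟙 _) X.unop.left (𝟙 _)
      X.unop.hom trivial (𝟙 _) (by simp)
    refine (((ConcreteCategory.congr_hom (N.val.presheaf.map_id _) _).symm.trans e).trans
      (ConcreteCategory.congr_hom (N.val.presheaf.map_id _) _)).trans ?_
    exact congrArg (ψ.val.app X) (ConcreteCategory.congr_hom (F.val.presheaf.map_id _) s)))
  right_inv Ψ := SheafOfModules.hom_ext (PresheafOfModules.hom_ext fun X => ModuleCat.hom_ext (LinearMap.ext fun s =>
    Subtype.ext (funext fun o => funext fun a => extVal_eq hflat fun Z g w p q h k e => by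
      show N.val.map g.op ((show jSub N (fn.obj X.unop) from Ψ.val.app X s).1 o a) = N.val.map k.op
        ((show jSub N (fn.obj w) from Ψ.val.app (op w) (F.val.map p.op s)).1 (im q) (𝟙 _))
      rw [show (show jSub N (fn.obj w) from Ψ.val.app (op w) (F.val.map p.op s)) =
        jRes N (fn.map p) (Ψ.val.app X s) from PresheafOfModules.naturality_apply Ψ.val p.op s]
      show _ = N.val.map k.op ((show jSub N (fn.obj X.unop) from Ψ.val.app X s).1 (im q) (𝟙 _ ≫ fn.map p))
      rw [jSub_prop, jSub_prop, Category.id_comp, e])))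

lemma extEquiv_comp {N' : SheafOfModules.{u} (R.over (fn.obj d))} (ψ : F.over d ⟶ (gPush φ).obj N) (p : N ⟶ N') :
    extEquiv hflat (ψ ≫ (gPush φ).map p) = extEquiv hflat ψ ≫ (SheafOfModules.pushforward.{u} φ).map (jMap p) :=
  SheafOfModules.hom_ext (PresheafOfModules.hom_ext fun X => ModuleCat.hom_ext (LinearMap.ext fun s =>
    Subtype.ext (funext fun o => funext fun a => extVal_eq hflat fun Z g w r q h k e => by
      show N'.val.map g.op (p.val.app (op o) ((extVal hflat ψ X.unop s).1 o (𝟙 _ ≫ a))) =
        N'.val.map k.op (p.val.app (op (im q)) (ψ.val.app (op (Over.mk q)) (F.val.map r.op s)))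
      rw [Category.id_comp, ← PresheafOfModules.naturality_apply, ← PresheafOfModules.naturality_apply]
      exact congrArg (p.val.app (op Z)) (extVal_glued hflat ψ X.unop s o a Z g w r q h k e))))

variable [(SheafOfModules.pushforward.{u} φ).IsRightAdjoint] (φ N F)

/-- Maps out of the restriction of an inverse image. -/
noncomputable def corep : (((SheafOfModules.pullback.{u} φ).obj F).over (fn.obj d) ⟶ N) ≃
    (F.over d ⟶ (gPush φ).obj N) :=
  (jEquiv N _).trans (((SheafOfModules.pullbackPushforwardAdjunction φ).homEquiv _ _).trans (extEquiv hflat).symm)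

lemma corep_comp {N N' : SheafOfModules.{u} (R.over (fn.obj d))}
    (a : ((SheafOfModules.pullback.{u} φ).obj F).over (fn.obj d) ⟶ N) (p : N ⟶ N') :
    corep φ hflat N' F (a ≫ p) = corep φ hflat N F a ≫ (gPush φ).map p := by
  apply (extEquiv hflat).injective
  simp only [corep, Equiv.trans_apply, extEquiv_comp, Equiv.apply_symm_apply, jEquiv_comp]
  exact Adjunction.homEquiv_naturality_right _ _ _

end Corep

end Groth.Agent.HTop16.PullOver
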