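import Groth.Agent.HTop16.PullOver
import Mathlib.Algebra.Category.ModuleCat.Sheaf.LocallyFree

/-!
# Inverse images preserve local generation, local presentations and local freeness
-/

set_option autoImplicit false
set_option backward.isDefEq.respectTransparency false
set_option linter.all false

universe u

open CategoryTheory CategoryTheory.Limits Opposite

namespace Groth.Agent.HTop16.PullOver

open Groth.Agent.DerCompLib Groth.Agent.Stk19b

variable {C D : Type u} [SmallCategory C] [SmallCategory D] {J : GrothendieckTopology C}
  {K : GrothendieckTopology D}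

instance final_post' (fn : D ⥤ C) (d : D) : (Over.post (X := d) fn).Final := by
  have : HasTerminal (Over d) := Over.mkIdTerminal.hasTerminal
  have : PreservesLimit (Functor.empty.{0} (Over d)) (Over.post (X := d) fn) :=
    preservesLimit_of_preserves_limit_cone Over.mkIdTerminal
      ((isLimitMapConeEmptyConeEquiv _ _).symm
        (Over.mkIdTerminal.ofIso (Over.isoMk (Iso.refl _) (by simp [Over.post]))))
  infer_instance

/-- Images of families covering the final object cover the final object. -/
lemma coversTop_image {fn : D ⥤ C} (hflat : LocFlat K J fn) {I : Type u} (X : I → D) (h : K.CoversTop X) :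
    J.CoversTop fun i => fn.obj (X i) := fun c => by
  obtain ⟨S, hS, hS'⟩ : Loc J c fun W _ => ∃ i, Nonempty (W ⟶ fn.obj (X i)) :=
    (hflat.nonempty c).bind fun W g ⟨E, ⟨k⟩⟩ => (hflat.cov _ (h E) k).mono fun W' g' ⟨E', a, k', ⟨i, ⟨b⟩⟩, e⟩ =>
      ⟨i, ⟨k' ≫ fn.map b⟩⟩
  exact J.superset_covering (fun W g hg => hS' g hg) hS

variable {OC : Sheaf J CommRingCat.{u}} {OD : Sheaf K CommRingCat.{u}} (f : ModSite.RMor OC OD)

instance isContinuous_post_rmor (d : D) :
    (Over.post (X := d) f.fn).IsContinuous (K.over d) (J.over (f.fn.obj d)) :=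
  isContinuous_post (fn := f.fn) (locFlat_of_exact K J f.fn)

/-- Maps out of the restriction of the inverse image. -/
noncomputable def pullCorep (F : ModSite.Mod OD) (d : D) (N : SheafOfModules.{u} ((ModSite.ringSh OC).over (f.fn.obj d))) :
    ((f.pull.obj F).over (f.fn.obj d) ⟶ N) ≃ (F.over d ⟶ (gPush f.sharpR).obj N) :=
  haveI : (SheafOfModules.pushforward.{u} f.sharpR).IsRightAdjoint := f.adj.isRightAdjoint
  corep f.sharpR (locFlat_of_exact K J f.fn) N F

lemma pullCorep_comp (F : ModSite.Mod OD) (d : D) {N N' : SheafOfModules.{u} ((ModSite.ringSh OC).over (f.fn.obj d))}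
    (a : (f.pull.obj F).over (f.fn.obj d) ⟶ N) (p : N ⟶ N') :
    pullCorep f F d N' (a ≫ p) = pullCorep f F d N a ≫ (gPush f.sharpR).map p :=
  haveI : (SheafOfModules.pushforward.{u} f.sharpR).IsRightAdjoint := f.adj.isRightAdjoint
  corep_comp f.sharpR (locFlat_of_exact K J f.fn) F a p

section Gen

variable {F : ModSite.Mod OD} {d : D} (G : (F.over d).GeneratingSections)

/-- The transported generators. -/
noncomputable def genMap : SheafOfModules.free (R := (ModSite.ringSh OC).over (f.fn.obj d)) G.I ⟶
    (f.pull.obj F).over (f.fn.obj d) :=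
  (QPull.freeEquiv (Over.post f.fn) (phiO f.sharpR d) _ _).symm (G.π ≫ pullCorep f F d _ (𝟙 _))

lemma genMap_comp {N : SheafOfModules.{u} ((ModSite.ringSh OC).over (f.fn.obj d))}
    (b : (f.pull.obj F).over (f.fn.obj d) ⟶ N) :
    QPull.freeEquiv (Over.post f.fn) (phiO f.sharpR d) _ _ (genMap f G ≫ b) = G.π ≫ pullCorep f F d N b := by
  rw [genMap, QPull.freeEquiv_comp, Equiv.apply_symm_apply, Category.assoc, ← pullCorep_comp, Category.id_comp]

instance epi_genMap : Epi (genMap f G) where
  left_cancellation a b h := by
    apply (pullCorep f F d _).injective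
    rw [← cancel_epi G.π, ← genMap_comp, ← genMap_comp, h]

/-- Generating sections of the restriction of the inverse image. -/
noncomputable def genSections : ((f.pull.obj F).over (f.fn.obj d)).GeneratingSections where
  I := G.I
  s := SheafOfModules.freeHomEquiv _ (genMap f G)
  epi := by
    rw [Equiv.symm_apply_apply]
    infer_instance

lemma isIso_genMap [IsIso G.π] : IsIso (genMap f G) := by
  let b : (f.pull.obj F).over (f.fn.obj d) ⟶ SheafOfModules.free G.I :=
    (pullCorep f F d _).symm (inv G.π ≫ QPull.freeEquiv (Over.post f.fn) (phiO f.sharpR d) _ _ (𝟙 _))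
  have h : genMap f G ≫ b = 𝟙 _ := by
    apply (QPull.freeEquiv (Over.post f.fn) (phiO f.sharpR d) _ _).injective
    rw [genMap_comp, Equiv.apply_symm_apply, IsIso.hom_inv_id_assoc]
  exact ⟨b, h, by rw [← cancel_epi (genMap f G), ← Category.assoc, h, Category.id_comp, Category.comp_id]⟩

end Gen

theorem isQuasicoherent_pull (F : ModSite.Mod OD) [SheafOfModules.IsQuasicoherent (R := ModSite.ringSh OD) F] :
    SheafOfModules.IsQuasicoherent (R := ModSite.ringSh OC) (f.pull.obj F) := by
  obtain ⟨q⟩ : Nonempty (SheafOfModules.QuasicoherentData.{u} (R := ModSite.ringSh OD) F) :=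
    SheafOfModules.IsQuasicoherent.nonempty_quasicoherentData
  let q' : SheafOfModules.QuasicoherentData.{u, u, u, u} (R := ModSite.ringSh OC) (f.pull.obj F) :=
    { I := q.I
      X := fun i => f.fn.obj (q.X i)
      coversTop := coversTop_image (locFlat_of_exact K J f.fn) q.X q.coversTop
      presentation := fun i => QPull.presentationOfCorep (Over.post f.fn) (phiO f.sharpR (q.X i)) (q.presentation i) _
        (pullCorep f F (q.X i)) (pullCorep_comp f F (q.X i)) }
  exact q'.isQuasicoherent

theorem isFinitePresentation_pull (F : ModSite.Mod OD) [SheafOfModules.IsFinitePresentation (R := ModSite.ringSh OD) F] :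
    SheafOfModules.IsFinitePresentation (R := ModSite.ringSh OC) (f.pull.obj F) := by
  obtain ⟨q, hq⟩ := SheafOfModules.IsFinitePresentation.exists_quasicoherentData (M := F)
  let q' : SheafOfModules.QuasicoherentData.{u} (R := ModSite.ringSh OC) (f.pull.obj F) :=
    { I := q.I
      X := fun i => f.fn.obj (q.X i)
      coversTop := coversTop_image (locFlat_of_exact K J f.fn) q.X q.coversTop
      presentation := fun i => QPull.presentationOfCorep (Over.post f.fn) (phiO f.sharpR (q.X i)) (q.presentation i) _
        (pullCorep f F (q.X i)) (pullCorep_comp f F (q.X i)) }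
  have hq' : q'.IsFinitePresentation := by
    constructor
    intro i
    have := hq.isFinite_presentation i
    exact
          { isFiniteType_generators := ⟨inferInstanceAs (Finite (q.presentation i).generators.I)⟩
            isFiniteType_relations := ⟨inferInstanceAs (Finite (q.presentation i).relations.I)⟩ }
  constructor
  exact ⟨q', hq'⟩

theorem isFiniteType_pull (F : ModSite.Mod OD) [SheafOfModules.IsFiniteType (R := ModSite.ringSh OD) F] :
    SheafOfModules.IsFiniteType (R := ModSite.ringSh OC) (f.pull.obj F) := by
  obtain ⟨σ, hσ⟩ := SheafOfModules.IsFiniteType.exists_localGeneratorsData (M := F)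
  let σ' : SheafOfModules.LocalGeneratorsData.{u, u, u, u} (R := ModSite.ringSh OC) (f.pull.obj F) :=
    { I := σ.I
      X := fun i => f.fn.obj (σ.X i)
      coversTop := coversTop_image (locFlat_of_exact K J f.fn) σ.X σ.coversTop
      generators := fun i => genSections f (σ.generators i) }
  have hσ' : σ'.IsFiniteType := by
    constructor
    intro i
    have := hσ.isFiniteType i
    exact ⟨inferInstanceAs (Finite (σ.generators i).I)⟩
  constructor
  exact ⟨σ', hσ'⟩

theorem isLocallyFree_pull (F : ModSite.Mod OD) [SheafOfModules.IsLocallyFree (R := ModSite.ringSh OD) F] :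
    SheafOfModules.IsLocallyFree (R := ModSite.ringSh OC) (f.pull.obj F) := by
  obtain ⟨q, hq⟩ := SheafOfModules.IsLocallyFree.exists_isLocallyFreeData (M := F)
  let q' : SheafOfModules.LocalGeneratorsData.{u} (R := ModSite.ringSh OC) (f.pull.obj F) :=
    { I := q.I
      X := fun i => f.fn.obj (q.X i)
      coversTop := coversTop_image (locFlat_of_exact K J f.fn) q.X q.coversTop
      generators := fun i => genSections f (q.generators i) }
  have hq' : q'.IsLocallyFreeData := by
    constructor
    intro i
    haveI := hq.isIso i
    show IsIso ((SheafOfModules.freeHomEquiv _).symm (SheafOfModules.freeHomEquiv _ (genMap f (q.generators i))))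
    rw [Equiv.symm_apply_apply]
    exact isIso_genMap f (q.generators i)
  constructor
  exact ⟨q', hq'⟩

end Groth.Agent.HTop16.PullOver
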