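import Groth.Agent.HTop16.FreeSheaf
import Mathlib.CategoryTheory.Sites.Pullback
import Mathlib.CategoryTheory.Limits.Shapes.BinaryProducts

/-!
# Inverse images commute with tensor products

For a morphism of ringed sites the canonical map `f^*(M ⊗ N) ⟶ f^*M ⊗ f^*N` is an isomorphism.
-/

set_option autoImplicit false
set_option backward.isDefEq.respectTransparency false
set_option backward.isDefEq.respectTransparency.types false
set_option linter.all false

universe u

open CategoryTheory CategoryTheory.Limits Opposite MonoidalCategory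
open scoped TensorProduct

namespace Groth.Agent.HTop16.PullTensor

variable {C D : Type u} [SmallCategory C] [SmallCategory D] {J : GrothendieckTopology C}
  {K : GrothendieckTopology D} {O_C : Sheaf J CommRingCat.{u}} {O_D : Sheaf K CommRingCat.{u}}
  (f : ModSite.RMor O_C O_D)

/-- The unit on sections. -/
noncomputable def usec (M : ModSite.Mod O_D) {U : D} (m : ModSite.sect M U) :
    ModSite.sect (f.pull.obj M) (f.fn.obj U) :=
  ((f.adj.unit.app M).val.app (op U)).hom m

lemma usec_add (M : ModSite.Mod O_D) {U : D} (m m' : ModSite.sect M U) :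
    usec f M (m + m') = usec f M m + usec f M m' :=
  map_add ((f.adj.unit.app M).val.app (op U)).hom m m'

lemma usec_smul (M : ModSite.Mod O_D) {U : D} (r : O_D.obj.obj (op U)) (m : ModSite.sect M U) :
    usec f M (r • m) = ((f.sharp.hom.app (op U)).hom r) • usec f M m :=
  map_smul ((f.adj.unit.app M).val.app (op U)).hom r m

lemma usec_res (M : ModSite.Mod O_D) {U V : D} (g : V ⟶ U) (m : ModSite.sect M U) :
    usec f M (SiteStalk.sres M g m) = SiteStalk.sres (f.pull.obj M) (f.fn.map g) (usec f M m) :=
  PresheafOfModules.naturality_apply ((f.adj.unit.app M).val) g.op m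

lemma usec_map {M M' : ModSite.Mod O_D} (g : M ⟶ M') {U : D} (m : ModSite.sect M U) :
    (f.pull.map g).val.app (op (f.fn.obj U)) (usec f M m) = usec f M' (g.val.app (op U) m) :=
  (ConcreteCategory.congr_hom (congrArg (fun k : M ⟶ _ => k.val.app (op U)) (f.adj.unit.naturality g)) m).symm

lemma secTmul_add_left {O : Sheaf J CommRingCat.{u}} {F G : ModSite.Mod O} {U : C} (s s' : ModSite.sect F U)
    (t : ModSite.sect G U) :
    SiteStalk.secTmul F G (s + s') t = SiteStalk.secTmul F G s t + SiteStalk.secTmul F G s' t := by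
  unfold SiteStalk.secTmul
  erw [TensorProduct.add_tmul, map_add]

lemma secTmul_add_right {O : Sheaf J CommRingCat.{u}} {F G : ModSite.Mod O} {U : C} (s : ModSite.sect F U)
    (t t' : ModSite.sect G U) :
    SiteStalk.secTmul F G s (t + t') = SiteStalk.secTmul F G s t + SiteStalk.secTmul F G s t' := by
  unfold SiteStalk.secTmul
  erw [TensorProduct.tmul_add, map_add]

lemma secTmul_smul_left {O : Sheaf J CommRingCat.{u}} {F G : ModSite.Mod O} {U : C} (r : O.obj.obj (op U))
    (s : ModSite.sect F U) (t : ModSite.sect G U) :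
    SiteStalk.secTmul F G (r • s) t = r • SiteStalk.secTmul F G s t := by
  unfold SiteStalk.secTmul
  erw [← TensorProduct.smul_tmul', map_smul]

lemma secTmul_smul_right {O : Sheaf J CommRingCat.{u}} {F G : ModSite.Mod O} {U : C} (r : O.obj.obj (op U))
    (s : ModSite.sect F U) (t : ModSite.sect G U) :
    SiteStalk.secTmul F G s (r • t) = r • SiteStalk.secTmul F G s t := by
  unfold SiteStalk.secTmul
  erw [TensorProduct.tmul_smul, map_smul]

variable (M N : ModSite.Mod O_D)

/-- The pairing defining the comparison map. -/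
noncomputable def pairing : (ModSite.toPre O_D).obj M ⊗ (ModSite.toPre O_D).obj N ⟶
    (ModSite.toPre O_D).obj (f.push.obj (SiteTen.ten O_C (f.pull.obj M) (f.pull.obj N))) where
  app U := ModuleCat.MonoidalCategory.tensorLift
    (M₁ := ((ModSite.toPre O_D).obj M).obj U) (M₂ := ((ModSite.toPre O_D).obj N).obj U)
    (fun m n => SiteStalk.secTmul (f.pull.obj M) (f.pull.obj N) (usec f M m) (usec f N n))
    (fun m m' n => by
      show SiteStalk.secTmul _ _ (usec f M (m + m')) _ = _
      rw [usec_add]
      exact secTmul_add_left _ _ _)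
    (fun r m n => by
      show SiteStalk.secTmul _ _ (usec f M (r • m)) _ = _
      rw [usec_smul]
      exact secTmul_smul_left _ _ _)
    (fun m n n' => by
      show SiteStalk.secTmul _ _ _ (usec f N (n + n')) = _
      rw [usec_add]
      exact secTmul_add_right _ _ _)
    (fun r m n => by
      show SiteStalk.secTmul _ _ _ (usec f N (r • n)) = _
      rw [usec_smul]
      exact secTmul_smul_right _ _ _)
  naturality {U V} i := ModuleCat.MonoidalCategory.tensor_ext fun m n => by
    show SiteStalk.secTmul _ _ (usec f M (SiteStalk.sres M i.unop m)) (usec f N (SiteStalk.sres N i.unop n)) = _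
    rw [usec_res, usec_res]
    exact (SiteStalk.secTmul_res _ _ (f.fn.map i.unop) _ _).symm

/-- The adjunct of the comparison map. -/
noncomputable def phi₀ : SiteTen.ten O_D M N ⟶ f.push.obj (SiteTen.ten O_C (f.pull.obj M) (f.pull.obj N)) :=
  ((SiteTen.shAdj O_D).homEquiv _ _).symm (pairing f M N)

lemma phi₀_secTmul {U : D} (m : ModSite.sect M U) (n : ModSite.sect N U) :
    (phi₀ f M N).val.app (op U) (SiteStalk.secTmul M N m n) =
      SiteStalk.secTmul (f.pull.obj M) (f.pull.obj N) (usec f M m) (usec f N n) := by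
  have h := ((SiteTen.shAdj O_D).homEquiv _ _).apply_symm_apply (pairing f M N)
  rw [Adjunction.homEquiv_unit] at h
  exact ConcreteCategory.congr_hom (congrArg (fun k => PresheafOfModules.Hom.app k (op U)) h)
    (TensorProduct.tmul (O_D.obj.obj (op U)) m n)

/-- The comparison map. -/
noncomputable def phi : f.pull.obj (SiteTen.ten O_D M N) ⟶ SiteTen.ten O_C (f.pull.obj M) (f.pull.obj N) :=
  (f.adj.homEquiv _ _).symm (phi₀ f M N)

lemma phi_usec {U : D} (m : ModSite.sect M U) (n : ModSite.sect N U) :
    (phi f M N).val.app (op (f.fn.obj U)) (usec f (SiteTen.ten O_D M N) (SiteStalk.secTmul M N m n)) =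
      SiteStalk.secTmul (f.pull.obj M) (f.pull.obj N) (usec f M m) (usec f N n) := by
  have h := (f.adj.homEquiv _ _).apply_symm_apply (phi₀ f M N)
  rw [Adjunction.homEquiv_unit] at h
  exact (ConcreteCategory.congr_hom (congrArg (fun k : SiteTen.ten O_D M N ⟶ _ => k.val.app (op U)) h)
    (SiteStalk.secTmul M N m n)).trans (phi₀_secTmul f M N m n)

variable {M N}

/-- Maps out of the inverse image of a tensor product agree when they agree on pure tensors. -/
lemma pull_ten_hom_ext {X : ModSite.Mod O_C} {α β : f.pull.obj (SiteTen.ten O_D M N) ⟶ X}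
    (h : ∀ (U : D) (m : ModSite.sect M U) (n : ModSite.sect N U),
      α.val.app (op (f.fn.obj U)) (usec f (SiteTen.ten O_D M N) (SiteStalk.secTmul M N m n)) =
        β.val.app (op (f.fn.obj U)) (usec f (SiteTen.ten O_D M N) (SiteStalk.secTmul M N m n))) : α = β := by
  refine (f.adj.homEquiv _ _).injective ?_
  rw [Adjunction.homEquiv_unit, Adjunction.homEquiv_unit]
  refine ((SiteTen.shAdj O_D).homEquiv _ _).injective ?_
  rw [Adjunction.homEquiv_unit, Adjunction.homEquiv_unit]
  exact PresheafOfModules.hom_ext fun U => ModuleCat.MonoidalCategory.tensor_ext fun m n => h U.unop m n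

lemma map_left_secTmul {O : Sheaf J CommRingCat.{u}} {F F' : ModSite.Mod O} (g : F ⟶ F') (G : ModSite.Mod O)
    {U : C} (s : ModSite.sect F U) (t : ModSite.sect G U) :
    (((ModSite.tensorBi O).map g).app G).val.app (op U) (SiteStalk.secTmul F G s t) =
      SiteStalk.secTmul F' G (g.val.app (op U) s) t :=
  (ConcreteCategory.congr_hom (congrArg (fun k => PresheafOfModules.Hom.app k (op U))
    ((SiteTen.shAdj O).unit.naturality ((ModSite.toPre O).map g ▷ (ModSite.toPre O).obj G)))
    (TensorProduct.tmul (O.obj.obj (op U)) s t)).symm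

lemma map_right_secTmul {O : Sheaf J CommRingCat.{u}} (F : ModSite.Mod O) {G G' : ModSite.Mod O} (g : G ⟶ G')
    {U : C} (s : ModSite.sect F U) (t : ModSite.sect G U) :
    (((ModSite.tensorBi O).obj F).map g).val.app (op U) (SiteStalk.secTmul F G s t) =
      SiteStalk.secTmul F G' s (g.val.app (op U) t) :=
  (ConcreteCategory.congr_hom (congrArg (fun k => PresheafOfModules.Hom.app k (op U))
    ((SiteTen.shAdj O).unit.naturality ((ModSite.toPre O).obj F ◁ (ModSite.toPre O).map g)))
    (TensorProduct.tmul (O.obj.obj (op U)) s t)).symm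

lemma phi_natural_left {M' : ModSite.Mod O_D} (g : M ⟶ M') (N : ModSite.Mod O_D) :
    f.pull.map (((ModSite.tensorBi O_D).map g).app N) ≫ phi f M' N =
      phi f M N ≫ ((ModSite.tensorBi O_C).map (f.pull.map g)).app (f.pull.obj N) := by
  refine pull_ten_hom_ext f fun U m n => ?_
  refine (congrArg (fun z => (phi f M' N).val.app (op (f.fn.obj U)) z) (usec_map f (((ModSite.tensorBi O_D).map g).app N) _)).trans ?_
  rw [map_left_secTmul]
  refine (phi_usec f M' N _ n).trans ?_
  refine Eq.trans ?_ (congrArg (fun z => (((ModSite.tensorBi O_C).map (f.pull.map g)).app (f.pull.obj N)).val.app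
    (op (f.fn.obj U)) z) (phi_usec f M N m n)).symm
  rw [map_left_secTmul, usec_map]

lemma phi_natural_right (M : ModSite.Mod O_D) {N N' : ModSite.Mod O_D} (g : N ⟶ N') :
    f.pull.map (((ModSite.tensorBi O_D).obj M).map g) ≫ phi f M N' =
      phi f M N ≫ ((ModSite.tensorBi O_C).obj (f.pull.obj M)).map (f.pull.map g) := by
  refine pull_ten_hom_ext f fun U m n => ?_
  refine (congrArg (fun z => (phi f M N').val.app (op (f.fn.obj U)) z) (usec_map f (((ModSite.tensorBi O_D).obj M).map g) _)).trans ?_
  rw [map_right_secTmul]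
  refine (phi_usec f M N' m _).trans ?_
  refine Eq.trans ?_ (congrArg (fun z => (((ModSite.tensorBi O_C).obj (f.pull.obj M)).map (f.pull.map g)).val.app
    (op (f.fn.obj U)) z) (phi_usec f M N m n)).symm
  rw [map_right_secTmul, usec_map]

/-! ### Free modules -/

section Free

open FreeSheaf

/-- The inverse image of a free module is free. -/
noncomputable def pullFreeIso :
    haveI := f.isContinuous
    shFree O_D ⋙ f.pull ≅ f.fn.sheafPullback (Type u) K J ⋙ shFree O_C :=
  haveI := f.isContinuous
  ((shFreeAdj O_D).comp f.adj).leftAdjointUniq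
    (((f.fn.sheafAdjunctionContinuous (Type u) K J).comp (shFreeAdj O_C)) : _ ⊣ f.push ⋙ toSet O_D)

/-- The product of two sheaves of sets. -/
noncomputable def prodSh {E : Type u} [SmallCategory E] {L : GrothendieckTopology E} (P Q : Sheaf L (Type u)) :
    Sheaf L (Type u) where
  obj := FunctorToTypes.prod P.obj Q.obj
  property := (Presheaf.isSheaf_of_iso_iff (FunctorToTypes.binaryProductIso P.obj Q.obj)).1
    ((Presheaf.isSheaf_of_iso_iff (PreservesLimitPair.iso (sheafToPresheaf L (Type u)) P Q)).1
      (P ⨯ Q).property)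

/-- The first projection. -/
noncomputable def fstSh {E : Type u} [SmallCategory E] {L : GrothendieckTopology E} (P Q : Sheaf L (Type u)) :
    prodSh P Q ⟶ P := ⟨FunctorToTypes.prod.fst⟩

/-- The second projection. -/
noncomputable def sndSh {E : Type u} [SmallCategory E] {L : GrothendieckTopology E} (P Q : Sheaf L (Type u)) :
    prodSh P Q ⟶ Q := ⟨FunctorToTypes.prod.snd⟩

/-- The product is a limit. -/
noncomputable def isLimitProdSh {E : Type u} [SmallCategory E] {L : GrothendieckTopology E}
    (P Q : Sheaf L (Type u)) : IsLimit (BinaryFan.mk (fstSh P Q) (sndSh P Q)) :=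
  BinaryFan.IsLimit.mk _ (fun a b => ⟨FunctorToTypes.prod.lift a.hom b.hom⟩)
    (fun a b => Sheaf.hom_ext (FunctorToTypes.prod.lift_fst _ _))
    (fun a b => Sheaf.hom_ext (FunctorToTypes.prod.lift_snd _ _))
    (fun a b m h₁ h₂ => by
      subst h₁
      subst h₂
      rfl)

/-- The comparison of inverse images of products of sheaves of sets. -/
noncomputable def pullProd (P Q : Sheaf K (Type u)) :
    haveI := f.isContinuous
    (f.fn.sheafPullback (Type u) K J).obj (prodSh P Q) ⟶
      prodSh ((f.fn.sheafPullback (Type u) K J).obj P) ((f.fn.sheafPullback (Type u) K J).obj Q) :=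
  haveI := f.isContinuous
  ⟨FunctorToTypes.prod.lift ((f.fn.sheafPullback (Type u) K J).map (fstSh P Q)).hom
    ((f.fn.sheafPullback (Type u) K J).map (sndSh P Q)).hom⟩

lemma isIso_pullProd (P Q : Sheaf K (Type u)) : IsIso (pullProd f P Q) := by
  haveI := f.isContinuous
  haveI := f.exact
  have h := mapIsLimitOfPreservesOfIsLimit (f.fn.sheafPullback (Type u) K J) _ _ (isLimitProdSh P Q)
  have e : pullProd f P Q = (IsLimit.conePointUniqueUpToIso h (isLimitProdSh _ _)).hom := by
    refine BinaryFan.IsLimit.hom_ext (isLimitProdSh _ _) ?_ ?_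
    · exact (Sheaf.hom_ext (FunctorToTypes.prod.lift_fst _ _)).trans
        (IsLimit.conePointUniqueUpToIso_hom_comp h (isLimitProdSh _ _) ⟨WalkingPair.left⟩).symm
    · exact (Sheaf.hom_ext (FunctorToTypes.prod.lift_snd _ _)).trans
        (IsLimit.conePointUniqueUpToIso_hom_comp h (isLimitProdSh _ _) ⟨WalkingPair.right⟩).symm
  rw [e]
  infer_instance

/-- The unit of inverse images of sheaves of sets. -/
noncomputable def unitSet (P : Sheaf K (Type u)) :
    haveI := f.isContinuous
    P.obj ⟶ f.fn.op ⋙ ((f.fn.sheafPullback (Type u) K J).obj P).obj :=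
  haveI := f.isContinuous
  ((f.fn.sheafAdjunctionContinuous (Type u) K J).unit.app P).hom

lemma pullFreeIso_usec (P : Sheaf K (Type u)) {U : D} (x : P.obj.obj (op U)) :
    haveI := f.isContinuous
    ((pullFreeIso f).hom.app P).val.app (op (f.fn.obj U)) (usec f ((shFree O_D).obj P) (gen P.obj x)) =
      gen ((f.fn.sheafPullback (Type u) K J).obj P).obj ((unitSet f P).app (op U) x) := by
  haveI := f.isContinuous
  have h := Adjunction.homEquiv_leftAdjointUniq_hom_app ((shFreeAdj O_D).comp f.adj)
    (((f.fn.sheafAdjunctionContinuous (Type u) K J).comp (shFreeAdj O_C)) : _ ⊣ f.push ⋙ toSet O_D) P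
  rw [Adjunction.homEquiv_unit, Adjunction.comp_unit_app, Adjunction.comp_unit_app] at h
  have h' := ConcreteCategory.congr_hom (NatTrans.congr_app (congrArg InducedCategory.Hom.hom h) (op U)) x
  have e₁ := shFreeAdj_unit (O := O_D) P x
  have e₂ := shFreeAdj_unit (O := O_C) ((f.fn.sheafPullback (Type u) K J).obj P) ((unitSet f P).app (op U) x)
  refine Eq.trans ?_ (h'.trans ?_)
  · exact congrArg (fun z => ((pullFreeIso f).hom.app P).val.app (op (f.fn.obj U)) (usec f ((shFree O_D).obj P) z)) e₁.symm
  · exact e₂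

lemma unitSet_natural {P P' : Sheaf K (Type u)} (a : P ⟶ P') {U : D} (z : P.obj.obj (op U)) :
    haveI := f.isContinuous
    ((f.fn.sheafPullback (Type u) K J).map a).hom.app (op (f.fn.obj U)) ((unitSet f P).app (op U) z) =
      (unitSet f P').app (op U) (a.hom.app (op U) z) := by
  haveI := f.isContinuous
  exact (ConcreteCategory.congr_hom (NatTrans.congr_app (congrArg InducedCategory.Hom.hom
    ((f.fn.sheafAdjunctionContinuous (Type u) K J).unit.naturality a)) (op U)) z).symm

lemma unit_pullProd (P Q : Sheaf K (Type u)) {U : D} (x : P.obj.obj (op U)) (y : Q.obj.obj (op U)) :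
    (pullProd f P Q).hom.app (op (f.fn.obj U)) ((unitSet f (prodSh P Q)).app (op U) ((x, y) : P.obj.obj (op U) × Q.obj.obj (op U))) =
      ((unitSet f P).app (op U) x, (unitSet f Q).app (op U) y) := by
  haveI := f.isContinuous
  exact Prod.ext (unitSet_natural f (fstSh P Q) _) (unitSet_natural f (sndSh P Q) _)

lemma comp_app {O : Sheaf J CommRingCat.{u}} {A B E : ModSite.Mod O} (a : A ⟶ B) (b : B ⟶ E) {V : C}
    (w : ModSite.sect A V) : (a ≫ b).val.app (op V) w = b.val.app (op V) (a.val.app (op V) w) := rfl

theorem isIso_phi_free (P Q : Sheaf K (Type u)) : IsIso (phi f ((shFree O_D).obj P) ((shFree O_D).obj Q)) := by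
  haveI := f.isContinuous
  haveI := isIso_pullProd f P Q
  let e₁ := f.pull.map (genTenIso (O := O_D) P.obj Q.obj).hom
  let e₂ := (pullFreeIso f).hom.app (prodSh P Q)
  let e₃ := (shFree O_C).map (pullProd f P Q)
  let e₄ := (genTenIso (O := O_C) ((f.fn.sheafPullback (Type u) K J).obj P).obj
    ((f.fn.sheafPullback (Type u) K J).obj Q).obj).hom
  let e₅ := ((ModSite.tensorBi O_C).map ((pullFreeIso f).inv.app P)).app _ ≫
    ((ModSite.tensorBi O_C).obj (f.pull.obj ((shFree O_D).obj P))).map ((pullFreeIso f).inv.app Q)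
  have key : e₁ ≫ phi f ((shFree O_D).obj P) ((shFree O_D).obj Q) = e₂ ≫ e₃ ≫ e₄ ≫ e₅ := by
    refine (f.adj.homEquiv _ _).injective ?_
    rw [Adjunction.homEquiv_unit, Adjunction.homEquiv_unit]
    refine FreeSheaf.hom_ext fun U z => ?_
    obtain ⟨x, y⟩ := z
    let z : (prodSh P Q).obj.obj (op U) := ((x, y) : P.obj.obj (op U) × Q.obj.obj (op U))
    show (e₁ ≫ phi f _ _).val.app (op (f.fn.obj U)) (usec f ((shFree O_D).obj (prodSh P Q)) (gen (prodSh P Q).obj z)) =
      (e₂ ≫ e₃ ≫ e₄ ≫ e₅).val.app (op (f.fn.obj U)) (usec f ((shFree O_D).obj (prodSh P Q)) (gen (prodSh P Q).obj z))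
    have l₁ : e₁.val.app (op (f.fn.obj U)) (usec f ((shFree O_D).obj (prodSh P Q)) (gen (prodSh P Q).obj z)) =
        usec f (SiteTen.ten O_D ((shFree O_D).obj P) ((shFree O_D).obj Q))
          (SiteStalk.secTmul ((shFree O_D).obj P) ((shFree O_D).obj Q) (gen P.obj x) (gen Q.obj y)) :=
      (usec_map f (genTenIso (O := O_D) P.obj Q.obj).hom _).trans
        (congrArg (usec f _) (genTenIso_gen P.obj Q.obj x y))
    have r₂ : e₂.val.app (op (f.fn.obj U)) (usec f ((shFree O_D).obj (prodSh P Q)) (gen (prodSh P Q).obj z)) = _ :=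
      pullFreeIso_usec f (prodSh P Q) z
    have r₃ : e₃.val.app (op (f.fn.obj U))
        (gen ((f.fn.sheafPullback (Type u) K J).obj (prodSh P Q)).obj ((unitSet f (prodSh P Q)).app (op U) z)) =
        gen (prodSh ((f.fn.sheafPullback (Type u) K J).obj P) ((f.fn.sheafPullback (Type u) K J).obj Q)).obj
          (((unitSet f P).app (op U) x, (unitSet f Q).app (op U) y) :
            ((f.fn.sheafPullback (Type u) K J).obj P).obj.obj (op (f.fn.obj U)) ×
              ((f.fn.sheafPullback (Type u) K J).obj Q).obj.obj (op (f.fn.obj U))) :=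
      (gen_map (pullProd f P Q).hom _).trans (congrArg (gen _) (unit_pullProd f P Q x y))
    have i₁ : ((pullFreeIso f).inv.app P).val.app (op (f.fn.obj U))
        (gen ((f.fn.sheafPullback (Type u) K J).obj P).obj ((unitSet f P).app (op U) x)) =
          usec f ((shFree O_D).obj P) (gen P.obj x) := by
      rw [← pullFreeIso_usec f P x]
      exact ConcreteCategory.congr_hom (congrArg (fun k : _ ⟶ f.pull.obj ((shFree O_D).obj P) => k.val.app (op (f.fn.obj U)))
        ((pullFreeIso f).hom_inv_id_app P)) _
    have i₂ : ((pullFreeIso f).inv.app Q).val.app (op (f.fn.obj U))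
        (gen ((f.fn.sheafPullback (Type u) K J).obj Q).obj ((unitSet f Q).app (op U) y)) =
          usec f ((shFree O_D).obj Q) (gen Q.obj y) := by
      rw [← pullFreeIso_usec f Q y]
      exact ConcreteCategory.congr_hom (congrArg (fun k : _ ⟶ f.pull.obj ((shFree O_D).obj Q) => k.val.app (op (f.fn.obj U)))
        ((pullFreeIso f).hom_inv_id_app Q)) _
    have r₄ : e₄.val.app (op (f.fn.obj U))
        (gen (prodSh ((f.fn.sheafPullback (Type u) K J).obj P) ((f.fn.sheafPullback (Type u) K J).obj Q)).obj
          (((unitSet f P).app (op U) x, (unitSet f Q).app (op U) y) :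
            ((f.fn.sheafPullback (Type u) K J).obj P).obj.obj (op (f.fn.obj U)) ×
              ((f.fn.sheafPullback (Type u) K J).obj Q).obj.obj (op (f.fn.obj U)))) = _ :=
      genTenIso_gen (O := O_C) ((f.fn.sheafPullback (Type u) K J).obj P).obj
      ((f.fn.sheafPullback (Type u) K J).obj Q).obj ((unitSet f P).app (op U) x) ((unitSet f Q).app (op U) y)
    have r₅ : e₅.val.app (op (f.fn.obj U))
        (SiteStalk.secTmul ((shFree O_C).obj ((f.fn.sheafPullback (Type u) K J).obj P))
          ((shFree O_C).obj ((f.fn.sheafPullback (Type u) K J).obj Q))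
          (gen ((f.fn.sheafPullback (Type u) K J).obj P).obj ((unitSet f P).app (op U) x))
          (gen ((f.fn.sheafPullback (Type u) K J).obj Q).obj ((unitSet f Q).app (op U) y))) =
        SiteStalk.secTmul (f.pull.obj ((shFree O_D).obj P)) (f.pull.obj ((shFree O_D).obj Q))
          (usec f ((shFree O_D).obj P) (gen P.obj x)) (usec f ((shFree O_D).obj Q) (gen Q.obj y)) := by
      refine (comp_app _ _ _).trans ?_
      refine (congrArg (fun w => (((ModSite.tensorBi O_C).obj (f.pull.obj ((shFree O_D).obj P))).map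
        ((pullFreeIso f).inv.app Q)).val.app (op (f.fn.obj U)) w) (map_left_secTmul _ _ _ _)).trans ?_
      refine (map_right_secTmul _ _ _ _).trans ?_
      exact congrArg₂ (fun a b => SiteStalk.secTmul (f.pull.obj ((shFree O_D).obj P)) (f.pull.obj ((shFree O_D).obj Q)) a b) i₁ i₂
    have lp := phi_usec f ((shFree O_D).obj P) ((shFree O_D).obj Q) (gen P.obj x) (gen Q.obj y)
    clear_value e₁ e₂ e₃ e₄ e₅
    rw [comp_app, comp_app, comp_app, comp_app, l₁]
    refine lp.trans ?_
    exact (((congrArg _ r₂).trans r₃ |> congrArg (fun w => e₅.val.app (op (f.fn.obj U)) (e₄.val.app (op (f.fn.obj U)) w))).trans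
      ((congrArg (fun w => e₅.val.app (op (f.fn.obj U)) w) r₄).trans r₅)).symm
  haveI : IsIso (e₁ ≫ phi f ((shFree O_D).obj P) ((shFree O_D).obj Q)) := by rw [key]; infer_instance
  exact IsIso.of_isIso_comp_left e₁ _

/-- The comparison map is an isomorphism. -/
theorem isIso_phi (M N : ModSite.Mod O_D) : IsIso (phi f M N) := by
  haveI : f.pull.IsLeftAdjoint := f.adj.isLeftAdjoint
  haveI : f.pull.Additive := f.adj.left_adjoint_additive
  haveI : PreservesFiniteColimits f.pull := inferInstance
  haveI aD : ∀ M : ModSite.Mod O_D, ((ModSite.tensorBi O_D).obj M).Additive :=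
    fun M => Functor.additive_of_preserves_binary_products _
  haveI aC : ∀ M : ModSite.Mod O_C, ((ModSite.tensorBi O_C).obj M).Additive :=
    fun M => Functor.additive_of_preserves_binary_products _
  have h₁ : ∀ (M : ModSite.Mod O_D) (Q : Sheaf K (Type u)), IsIso (phi f M ((shFree O_D).obj Q)) := fun M Q =>
    isIso_of_free (Φ := (ModSite.tensorBi O_D).flip.obj ((shFree O_D).obj Q) ⋙ f.pull)
      (Ψ := f.pull ⋙ (ModSite.tensorBi O_C).flip.obj (f.pull.obj ((shFree O_D).obj Q)))
      { app := fun M => phi f M ((shFree O_D).obj Q)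
        naturality := fun M M' g => phi_natural_left f g _ }
      (fun P => isIso_phi_free f P Q) M
  exact isIso_of_free (Φ := (ModSite.tensorBi O_D).obj M ⋙ f.pull)
    (Ψ := f.pull ⋙ (ModSite.tensorBi O_C).obj (f.pull.obj M))
    { app := fun N => phi f M N
      naturality := fun N N' g => phi_natural_right f M g }
    (fun Q => h₁ M Q) N

/-- The inverse image of a tensor product. -/
noncomputable def pullTensorIso (M N : ModSite.Mod O_D) :
    f.pull.obj (SiteTen.ten O_D M N) ≅ SiteTen.ten O_C (f.pull.obj M) (f.pull.obj N) :=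
  haveI := isIso_phi f M N
  asIso (phi f M N)

end Free

end Groth.Agent.HTop16.PullTensor
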