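import Groth.Agent.HTop16.PullTensor
import Mathlib.Algebra.Category.ModuleCat.Sheaf.Free
import Groth.Prelude.Def_AlgSpPerf

/-!
# The inverse image of the structure sheaf
-/

set_option autoImplicit false
set_option backward.isDefEq.respectTransparency false
set_option backward.isDefEq.respectTransparency.types false
set_option linter.all false

universe u

open CategoryTheory CategoryTheory.Limits Opposite

namespace Groth.Agent.HTop16.PullTensor

open FreeSheaf

section Unit

variable {C : Type u} [SmallCategory C] (J : GrothendieckTopology C)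

/-- The terminal sheaf of sets. -/
noncomputable def oneSh : Sheaf J (Type u) where
  obj := (Functor.const Cᵒᵖ).obj PUnit.{u + 1}
  property := by
    rw [isSheaf_iff_isSheaf_of_type]
    intro X R hR x hx
    exact ⟨PUnit.unit, fun Y g hg => rfl, fun y hy => rfl⟩

/-- It is terminal. -/
noncomputable def isTerminalOneSh : IsTerminal (oneSh J) :=
  IsTerminal.ofUniqueHom (fun P => ⟨{ app := fun U => ↾fun _ => PUnit.unit }⟩) fun P m =>
    Sheaf.hom_ext (NatTrans.ext (funext fun U => ConcreteCategory.hom_ext _ _ fun x => rfl))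

variable {J} (O : Sheaf J CommRingCat.{u})

/-- Maps out of the terminal sheaf are sections. -/
noncomputable def oneShEquiv (M : ModSite.Mod O) : (oneSh J ⟶ (toSet O).obj M) ≃ M.sections where
  toFun a := PresheafOfModules.sectionsMk (fun U => a.hom.app U PUnit.unit) fun U V g =>
    (ConcreteCategory.congr_hom (a.hom.naturality g) PUnit.unit).symm
  invFun s := ⟨{ app := fun U => ↾fun _ => s.val U
                 naturality := fun U V g => ConcreteCategory.hom_ext _ _ fun _ => (s.property g).symm }⟩
  left_inv a := Sheaf.hom_ext (NatTrans.ext (funext fun U => ConcreteCategory.hom_ext _ _ fun _ => rfl))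
  right_inv s := rfl

/-- The free module on the terminal sheaf is the structure sheaf. -/
theorem nonempty_oneShIso : Nonempty ((shFree O).obj (oneSh J) ≅ ModSite.unit O) := by
  let α : ∀ M, ((shFree O).obj (oneSh J) ⟶ M) ≃ (ModSite.unit O ⟶ M) := fun M =>
    ((shFreeAdj O).homEquiv _ M).trans ((oneShEquiv O M).trans M.unitHomEquiv.symm)
  have h : ∀ {M M'} (φ : (shFree O).obj (oneSh J) ⟶ M) (g : M ⟶ M'), α M' (φ ≫ g) = α M φ ≫ g := by
    intro M M' φ g
    apply M'.unitHomEquiv.injective
    rw [SheafOfModules.unitHomEquiv_comp_apply]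
    simp only [α, Equiv.trans_apply, Equiv.apply_symm_apply]
    rw [Adjunction.homEquiv_naturality_right]
    rfl
  exact ⟨{ hom := (α _).symm (𝟙 _)
           inv := α _ (𝟙 _)
           hom_inv_id := (α _).injective (by rw [h, Equiv.apply_symm_apply, Category.id_comp])
           inv_hom_id := by rw [← h, Category.id_comp, Equiv.apply_symm_apply] }⟩

end Unit

variable {C D : Type u} [SmallCategory C] [SmallCategory D] {J : GrothendieckTopology C}
  {K : GrothendieckTopology D} {O_C : Sheaf J CommRingCat.{u}} {O_D : Sheaf K CommRingCat.{u}}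
  (f : ModSite.RMor O_C O_D)

/-- The inverse image of the structure sheaf is the structure sheaf. -/
theorem nonempty_pullUnitIso : Nonempty (f.pull.obj (ModSite.unit O_D) ≅ ModSite.unit O_C) := by
  haveI := f.isContinuous
  haveI := f.exact
  obtain ⟨eD⟩ := nonempty_oneShIso O_D
  obtain ⟨eC⟩ := nonempty_oneShIso O_C
  let e1 : (f.fn.sheafPullback (Type u) K J).obj (oneSh K) ≅ oneSh J :=
    ((isTerminalOneSh K).isTerminalObj (f.fn.sheafPullback (Type u) K J) _).uniqueUpToIso (isTerminalOneSh J)
  exact ⟨f.pull.mapIso eD.symm ≪≫ (pullFreeIso f).app (oneSh K) ≪≫ (shFree O_C).mapIso e1 ≪≫ eC⟩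

/-- The inverse image of a free module is free. -/
theorem nonempty_pullFreeModIso (I : Type u) :
    Nonempty (f.pull.obj (SheafOfModules.free (R := ModSite.ringSh O_D) I) ≅
      SheafOfModules.free (R := ModSite.ringSh O_C) I) := by
  haveI : f.pull.IsLeftAdjoint := f.adj.isLeftAdjoint
  obtain ⟨e⟩ := nonempty_pullUnitIso f
  exact ⟨(asIso (sigmaComparison f.pull fun _ : I => ModSite.unit O_D)).symm ≪≫ Sigma.mapIso fun _ => e⟩

/-- The inverse image of a direct summand of a finite free module is one. -/
theorem isFinFreeSummandMod_pull {M : ModSite.Mod O_D} (h : DCoh.IsFinFreeSummandMod (ModSite.ringSh O_D) M) :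
    DCoh.IsFinFreeSummandMod (ModSite.ringSh O_C) (f.pull.obj M) := by
  obtain ⟨n, i, p, hip⟩ := h
  obtain ⟨e⟩ := nonempty_pullFreeModIso f (ULift.{u} (Fin n))
  refine ⟨n, f.pull.map i ≫ e.hom, e.inv ≫ f.pull.map p, ?_⟩
  rw [Category.assoc, e.hom_inv_id_assoc, ← Functor.map_comp, hip, CategoryTheory.Functor.map_id]

end Groth.Agent.HTop16.PullTensor
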