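import Mathlib.AlgebraicGeometry.Cover.QuasiCompact

/-!
# Quasi-compact covers are stable under composition, for index types in any universes
-/

set_option autoImplicit false
set_option linter.all false

universe w w' u

open CategoryTheory CategoryTheory.Limits AlgebraicGeometry

namespace Groth.Agent.HTop16.QcBind

theorem quasiCompactCover_bind {S : Scheme.{u}} (E : PreZeroHypercover.{w} S) [QuasiCompactCover E]
    (F : ∀ i, PreZeroHypercover.{w'} (E.X i)) (hF : ∀ i, QuasiCompactCover (F i)) :
    QuasiCompactCover (E.bind F) where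
  isCompactOpenCovered_of_isAffineOpen {U} hU := by
    obtain ⟨s, hs, V, hcV, hU⟩ := hU.isCompactOpenCovered E
    have (i) (hi) : IsCompactOpenCovered ((F i).f ·) (V i hi : Set (E.X i)) :=
      haveI := hF i
      QuasiCompactCover.isCompactOpenCovered_of_isCompact (F i) (hcV i hi)
    choose t ht W hcW hV using this
    have : Finite s := hs
    have (i) (hi) : Finite (t i hi) := ht i hi
    refine .of_finite (κ := Σ (i : s), t i.1 i.2) (fun p ↦ ⟨p.1, p.2⟩) (fun p ↦ W _ p.1.2 _ p.2.2)
      (fun p ↦ hcW ..) ?_
    simpa [← hV, Set.iUnion_sigma, Set.iUnion_subtype, Set.image_iUnion, Set.image_image] using! hU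

end Groth.Agent.HTop16.QcBind
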