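import Groth.Prelude.Def_ModSite
import Mathlib.Algebra.Category.ModuleCat.Descent
import Mathlib.Algebra.Category.ModuleCat.Sheaf.Quasicoherent
import Mathlib.Algebra.Category.ModuleCat.Presheaf.Colimits
import Mathlib.Algebra.Homology.ShortComplex.ExactFunctor

/-!
# Quasi-coherent modules for the chaotic topology
-/

set_option autoImplicit false
set_option backward.isDefEq.respectTransparency false
set_option backward.isDefEq.respectTransparency.types false
set_option linter.all false

universe u

open CategoryTheory CategoryTheory.Limits Opposite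

namespace Groth.Agent.HTop16.QcChaotic

variable {C : Type u} [SmallCategory C] {J : GrothendieckTopology C} {O : Sheaf J CommRingCat.{u}}

/-- The value at an object, over the commutative ring of sections. -/
noncomputable def ev (O : Sheaf J CommRingCat.{u}) (V : C) :
    ModSite.Mod O ⥤ ModuleCat.{u} (O.obj.obj (op V)) :=
  SheafOfModules.evaluation (R := ModSite.ringSh O) (op V)

/-- Base change along a morphism. -/
noncomputable def ext (O : Sheaf J CommRingCat.{u}) {U V : C} (g : U ⟶ V) :
    ModuleCat.{u} (O.obj.obj (op V)) ⥤ ModuleCat.{u} (O.obj.obj (op U)) :=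
  ModuleCat.extendScalars (O.obj.map g.op).hom

/-- The restriction map as a linear map. -/
noncomputable def res (F : ModSite.Mod O) {U V : C} (g : U ⟶ V) :
    (ev O V).obj F ⟶ (ModuleCat.restrictScalars (O.obj.map g.op).hom).obj ((ev O U).obj F) :=
  F.val.map g.op

lemma res_natural {F G : ModSite.Mod O} (f : F ⟶ G) {U V : C} (g : U ⟶ V) :
    res F g ≫ (ModuleCat.restrictScalars (O.obj.map g.op).hom).map ((ev O U).map f) = (ev O V).map f ≫ res G g :=
  ModuleCat.hom_ext (LinearMap.ext fun x => PresheafOfModules.naturality_apply f.val g.op x)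

/-- The base change map. -/
noncomputable def bc (O : Sheaf J CommRingCat.{u}) {U V : C} (g : U ⟶ V) : ev O V ⋙ ext O g ⟶ ev O U where
  app F := ((ModuleCat.extendRestrictScalarsAdj.{u, u, u} (O.obj.map g.op).hom).homEquiv ((ev O V).obj F)
    ((ev O U).obj F)).symm (res F g)
  naturality F G f := by
    have h₁ := (ModuleCat.extendRestrictScalarsAdj.{u, u, u} (O.obj.map g.op).hom).homEquiv_naturality_left_symm
      ((ev O V).map f) (res G g)
    have h₂ := (ModuleCat.extendRestrictScalarsAdj.{u, u, u} (O.obj.map g.op).hom).homEquiv_naturality_right_symm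
      (res F g) ((ev O U).map f)
    rw [res_natural f g] at h₂
    exact h₁.symm.trans h₂

/-- The base change maps are isomorphisms. -/
def IsBC (F : ModSite.Mod O) : Prop := ∀ ⦃U V : C⦄ (g : U ⟶ V), IsIso ((bc O g).app F)

lemma isBC_of_iso {F G : ModSite.Mod O} (e : F ≅ G) (h : IsBC F) : IsBC G := fun U V g => by
  haveI := h g
  rw [← NatTrans.isIso_app_iff_of_iso (bc O g) e]
  infer_instance

lemma isBC_unit : IsBC (ModSite.unit O) := fun U V g => by
  let φ := (O.obj.map g.op).hom
  let adj := ModuleCat.extendRestrictScalarsAdj.{_, _, u} φ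
  let one : (ev O U).obj (ModSite.unit O) := (1 : O.obj.obj (op U))
  let oneV : (ev O V).obj (ModSite.unit O) := (1 : O.obj.obj (op V))
  let e : (ext O g).obj ((ev O V).obj (ModSite.unit O)) := (adj.unit.app _).hom oneV
  let inv : (ev O U).obj (ModSite.unit O) ⟶ (ext O g).obj ((ev O V).obj (ModSite.unit O)) :=
    ModuleCat.ofHom (LinearMap.toSpanSingleton (O.obj.obj (op U)) _ e)
  have he : ((bc O g).app (ModSite.unit O)).hom e = one := by
    have h := congrArg (fun f => (ModuleCat.Hom.hom f) oneV)
      ((adj.homEquiv _ _).apply_symm_apply (res (ModSite.unit O) g))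
    rw [Adjunction.homEquiv_unit] at h
    exact h.trans (map_one φ)
  refine ⟨inv, ?_, ?_⟩
  · refine (adj.homEquiv _ _).injective ?_
    rw [Adjunction.homEquiv_unit, Adjunction.homEquiv_unit]
    refine ModuleCat.hom_ext (LinearMap.ext_ring ?_)
    change inv.hom (((bc O g).app (ModSite.unit O)).hom e) = e
    rw [he]
    exact one_smul _ e
  · refine ModuleCat.hom_ext (LinearMap.ext_ring ?_)
    change ((bc O g).app (ModSite.unit O)).hom ((1 : O.obj.obj (op U)) • e) = one
    rw [one_smul]
    exact he

variable (hJ : ∀ ⦃X : C⦄ ⦃S : Sieve X⦄, S ∈ J X → S = ⊤)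

include hJ

lemma isEquivalence_forget : (SheafOfModules.forget (ModSite.ringSh O)).IsEquivalence := by
  haveI : (SheafOfModules.forget (ModSite.ringSh O)).EssSurj := ⟨fun P =>
    ⟨⟨P, fun E X S hS => by
      rw [hJ hS]
      exact Presieve.isSheafFor_top _⟩, ⟨Iso.refl _⟩⟩⟩
  exact { }

lemma preservesColimits_ev (V : C) : PreservesColimitsOfSize.{u, u} (ev O V) := by
  haveI := isEquivalence_forget (O := O) hJ
  haveI : PreservesColimitsOfSize.{u, u} (PresheafOfModules.evaluation.{u} (ModSite.ringSh O).obj (op V)) :=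
    ⟨fun {K} _ => ⟨fun {F} => inferInstance⟩⟩
  exact inferInstanceAs (PreservesColimitsOfSize.{u, u}
    (SheafOfModules.forget (ModSite.ringSh O) ⋙ PresheafOfModules.evaluation.{u} (ModSite.ringSh O).obj (op V)))

omit hJ in
lemma preservesFiniteLimits_ev (V : C) : PreservesFiniteLimits (ev O V) := by
  haveI : PreservesFiniteLimits (PresheafOfModules.evaluation.{u} (ModSite.ringSh O).obj (op V)) := inferInstance
  exact inferInstanceAs (PreservesFiniteLimits
    (SheafOfModules.forget (ModSite.ringSh O) ⋙ PresheafOfModules.evaluation.{u} (ModSite.ringSh O).obj (op V)))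

lemma preservesColimits_ev_ext {U V : C} (g : U ⟶ V) : PreservesColimitsOfSize.{u, u} (ev O V ⋙ ext O g) := by
  haveI := preservesColimits_ev (O := O) hJ V
  haveI : (ext O g).IsLeftAdjoint := (ModuleCat.extendRestrictScalarsAdj (O.obj.map g.op).hom).isLeftAdjoint
  infer_instance

lemma isBC_colimit {K : Type u} [SmallCategory K] {D : K ⥤ ModSite.Mod O} {c : Cocone D} (hc : IsColimit c)
    (h : ∀ k, IsBC (D.obj k)) : IsBC c.pt := fun U V g => by
  haveI := preservesColimits_ev_ext (O := O) hJ g
  haveI := preservesColimits_ev (O := O) hJ U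
  haveI : ∀ k, IsIso ((bc O g).app (D.obj k)) := fun k => h k g
  let α : D ⋙ (ev O V ⋙ ext O g) ≅ D ⋙ ev O U := NatIso.ofComponents (fun k => asIso ((bc O g).app (D.obj k)))
    (fun f => (bc O g).naturality _)
  let e := IsColimit.coconePointsIsoOfNatIso (isColimitOfPreserves (ev O V ⋙ ext O g) hc)
    (isColimitOfPreserves (ev O U) hc) α
  have he : (bc O g).app c.pt = e.hom := (isColimitOfPreserves (ev O V ⋙ ext O g) hc).hom_ext fun k => by
    rw [IsColimit.comp_coconePointsIsoOfNatIso_hom]
    exact (bc O g).naturality _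
  rw [he]
  infer_instance

lemma isBC_free (I : Type u) : IsBC (SheafOfModules.free (R := ModSite.ringSh O) I : ModSite.Mod O) :=
  isBC_colimit hJ (colimit.isColimit (Discrete.functor fun _ : I => ModSite.unit O)) fun _ => isBC_unit

lemma isBC_cokernel {F G Q : ModSite.Mod O} (α : F ⟶ G) (π : G ⟶ Q) (w : α ≫ π = 0)
    (hc : IsColimit (CokernelCofork.ofπ π w)) (hF : IsBC F) (hG : IsBC G) : IsBC Q := fun U V g => by
  haveI := preservesColimits_ev_ext (O := O) hJ g
  haveI := preservesColimits_ev (O := O) hJ U
  haveI : PreservesColimitsOfShape WalkingParallelPair (ev O V ⋙ ext O g) := by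
    haveI : PreservesFiniteColimits (ev O V ⋙ ext O g) := PreservesColimitsOfSize.preservesFiniteColimits _
    infer_instance
  haveI : PreservesColimitsOfShape WalkingParallelPair (ev O U) := by
    haveI : PreservesFiniteColimits (ev O U) := PreservesColimitsOfSize.preservesFiniteColimits _
    infer_instance
  haveI : ∀ k, IsIso ((bc O g).app ((parallelPair α 0).obj k)) := fun k => by
    cases k
    exacts [hF g, hG g]
  let β : parallelPair α 0 ⋙ (ev O V ⋙ ext O g) ≅ parallelPair α 0 ⋙ ev O U :=
    NatIso.ofComponents (fun k => asIso ((bc O g).app ((parallelPair α 0).obj k))) (fun f => (bc O g).naturality _)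
  let e := IsColimit.coconePointsIsoOfNatIso (isColimitOfPreserves (ev O V ⋙ ext O g) hc)
    (isColimitOfPreserves (ev O U) hc) β
  have he : (bc O g).app Q = e.hom := (isColimitOfPreserves (ev O V ⋙ ext O g) hc).hom_ext fun k => by
    rw [IsColimit.comp_coconePointsIsoOfNatIso_hom]
    exact (bc O g).naturality _
  rw [he]
  infer_instance

/-- A presentation implies base change. -/
lemma isBC_of_presentation {F : ModSite.Mod O} (P : SheafOfModules.Presentation (R := ModSite.ringSh O) F) :
    IsBC F :=
  isBC_cokernel hJ _ _ _ P.isColimit (isBC_free hJ _) (isBC_free hJ _)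

/-- Base change gives a presentation when there is a final object. -/
lemma nonempty_presentation {X : C} (hX : IsTerminal X) {F : ModSite.Mod O} (hF : IsBC F) :
    Nonempty (SheafOfModules.Presentation (R := ModSite.ringSh O) F) := by
  let secOf : ∀ {M : ModSite.Mod O}, (ev O X).obj M → M.sections := fun {M} s =>
    ⟨fun Y => M.val.map (hX.from Y.unop).op s, fun {Y Z} f => by
      change M.val.map f (M.val.map (hX.from Y.unop).op s) = M.val.map (hX.from Z.unop).op s
      rw [← M.val.map_comp_apply]
      exact M.val.congr_map_apply (Quiver.Hom.unop_inj (hX.hom_ext _ _)) s⟩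
  have secOf_app : ∀ {M : ModSite.Mod O} (s : (ev O X).obj M), (secOf s).val (op X) = s := fun {M} s => by
    refine (M.val.congr_map_apply (show (hX.from X).op = 𝟙 (op X) from Quiver.Hom.unop_inj (hX.hom_ext _ _)) s).trans ?_
    exact LinearMap.congr_fun (congrArg ModuleCat.Hom.hom (M.val.map_id _)) s
  let π : SheafOfModules.free (R := ModSite.ringSh O) ((ev O X).obj F) ⟶ F :=
    (SheafOfModules.freeHomEquiv F).symm fun s => secOf s
  let K := kernel ((ev O X).map π)
  let r : SheafOfModules.free (R := ModSite.ringSh O) K ⟶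
      SheafOfModules.free (R := ModSite.ringSh O) ((ev O X).obj F) :=
    (SheafOfModules.freeHomEquiv _).symm fun k => secOf ((kernel.ι ((ev O X).map π)).hom k)
  have hrπ : r ≫ π = 0 := by
    refine (SheafOfModules.freeHomEquiv F).injective (funext fun k => Subtype.ext (funext fun Y => ?_))
    rw [SheafOfModules.freeHomEquiv_comp_apply, Equiv.apply_symm_apply]
    change (π.val.app Y).hom (_) = _
    refine (PresheafOfModules.naturality_apply π.val (hX.from Y.unop).op _).trans ?_
    have h0 : (π.val.app (op X)).hom ((kernel.ι ((ev O X).map π)).hom k) = 0 :=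
      LinearMap.congr_fun (congrArg ModuleCat.Hom.hom (kernel.condition ((ev O X).map π))) k
    refine (congrArg _ h0).trans ((map_zero _).trans ?_)
    rfl
  let M : ModSite.Mod O := cokernel r
  let h : M ⟶ F := cokernel.desc r π hrπ
  have hM : IsBC M := isBC_cokernel hJ r (cokernel.π r) (cokernel.condition r) (cokernelIsCokernel r) (isBC_free hJ _) (isBC_free hJ _)
  haveI := preservesColimits_ev (O := O) hJ X
  haveI : PreservesFiniteColimits (ev O X) := PreservesColimitsOfSize.preservesFiniteColimits _
  haveI : Epi ((ev O X).map (cokernel.π r)) := inferInstance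
  haveI hX' : IsIso ((ev O X).map h) := by
    rw [ConcreteCategory.isIso_iff_bijective]
    constructor
    · refine (injective_iff_map_eq_zero _).2 fun m hm => ?_
      obtain ⟨y, rfl⟩ := (ModuleCat.epi_iff_surjective _).1 ‹Epi ((ev O X).map (cokernel.π r))› m
      have hy : ((ev O X).map π).hom y = 0 := by
        rw [← show cokernel.π r ≫ h = π from cokernel.π_desc _ _ _, Functor.map_comp]
        exact hm
      obtain ⟨k, hk⟩ := (ShortComplex.moduleCat_exact_iff _).1
        (ShortComplex.exact_kernel ((ev O X).map π)) y hy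
      subst hk
      have e : (r.val.app (op X)).hom ((SheafOfModules.freeSection (R := ModSite.ringSh O) k).val (op X)) =
          (kernel.ι ((ev O X).map π)).hom k :=
        (congrArg (fun s => s.val (op X)) (SheafOfModules.sectionsMap_freeHomEquiv_symm_freeSection
          (fun k => secOf ((kernel.ι ((ev O X).map π)).hom k)) k)).trans (secOf_app _)
      rw [show (ShortComplex.mk _ _ (kernel.condition ((ev O X).map π))).f.hom k = _ from e.symm]
      exact LinearMap.congr_fun (congrArg ModuleCat.Hom.hom (congrArg (ev O X).map (cokernel.condition r))) _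
    · intro s
      refine ⟨((ev O X).map (cokernel.π r)).hom ((SheafOfModules.freeSection (R := ModSite.ringSh O) s).val (op X)), ?_⟩
      refine Eq.trans ?_ (secOf_app s)
      refine Eq.trans ?_ (congrArg (fun s => s.val (op X)) (SheafOfModules.sectionsMap_freeHomEquiv_symm_freeSection
        (fun s => secOf s) s))
      exact LinearMap.congr_fun (congrArg ModuleCat.Hom.hom
        (((ev O X).map_comp _ _).symm.trans (congrArg (ev O X).map (cokernel.π_desc r π hrπ)))) _
  haveI : IsIso h := by
    haveI : ∀ Y : Cᵒᵖ, IsIso (h.val.app Y) := fun Y => by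
      have hn := (bc O (hX.from Y.unop)).naturality h
      haveI := hF (hX.from Y.unop)
      haveI := hM (hX.from Y.unop)
      haveI : IsIso ((ev O X ⋙ ext O (hX.from Y.unop)).map h) := inferInstanceAs (IsIso ((ext O _).map ((ev O X).map h)))
      exact IsIso.of_isIso_fac_left (h := (ev O X ⋙ ext O (hX.from Y.unop)).map h ≫ (bc O (hX.from Y.unop)).app F) hn.symm
    haveI : IsIso ((PresheafOfModules.toPresheaf _).map h.val) := by
      haveI : ∀ Y, IsIso (((PresheafOfModules.toPresheaf _).map h.val).app Y) := fun Y =>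
        inferInstanceAs (IsIso ((forget₂ (ModuleCat _) AddCommGrpCat).map (h.val.app Y)))
      exact NatIso.isIso_of_isIso_app _
    haveI : IsIso ((PresheafOfModules.toPresheaf _).map ((SheafOfModules.forget (ModSite.ringSh O)).map h)) :=
      ‹IsIso ((PresheafOfModules.toPresheaf _).map h.val)›
    haveI : IsIso ((SheafOfModules.forget (ModSite.ringSh O)).map h) :=
      isIso_of_reflects_iso _ (PresheafOfModules.toPresheaf _)
    exact isIso_of_reflects_iso h (SheafOfModules.forget (ModSite.ringSh O))
  exact ⟨(SheafOfModules.presentationOfIsCokernelFree r (cokernel.π r) (cokernel.condition r)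
    (cokernelIsCokernel r)).ofIsIso h⟩

omit hJ in
lemma over_bot {X : C} (hJ : ∀ ⦃X : C⦄ ⦃S : Sieve X⦄, S ∈ J X → S = ⊤) ⦃Y : Over X⦄ ⦃S : Sieve Y⦄
    (hS : S ∈ J.over X Y) : S = ⊤ := by
  exact (Sieve.overEquiv Y).injective ((hJ hS).trans (map_top (Sieve.overEquiv Y)).symm)

/-- The main equivalence. -/
theorem isQuasicoherent_iff (F : ModSite.Mod O) :
    SheafOfModules.IsQuasicoherent (R := ModSite.ringSh O) F ↔ IsBC F := by
  constructor
  · rintro ⟨⟨q⟩⟩ U V g
    have h := hJ (q.coversTop V)
    have h' : (Sieve.ofObjects q.X V).arrows (𝟙 V) := by rw [h]; trivial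
    obtain ⟨i, ⟨a⟩⟩ := (Sieve.mem_ofObjects_iff ..).1 h'
    let g' : Over.mk (g ≫ a) ⟶ Over.mk a := Over.homMk g
    exact isBC_of_presentation (O := O.over (q.X i)) (fun Y S hS => over_bot hJ hS) (F := F.over (q.X i))
      (q.presentation i) g'
  · intro hF
    suffices q : SheafOfModules.QuasicoherentData.{u} (R := ModSite.ringSh O) F from q.isQuasicoherent
    refine ({ I := C, X := id, coversTop := fun W => ?_, presentation := fun X => ?_ } :
      SheafOfModules.QuasicoherentData.{u} (R := ModSite.ringSh O) F)
    · refine J.superset_covering ?_ (J.top_mem W)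
      intro Z f _
      exact (Sieve.mem_ofObjects_iff ..).2 ⟨Z, ⟨𝟙 Z⟩⟩
    · exact (nonempty_presentation (O := O.over X) (fun Y S hS => over_bot hJ hS) Over.mkIdTerminal
        (F := F.over X) (fun U V g => hF g.left)).some

/-- Kernels, cokernels and extensions. -/
theorem isBC_kernel (hO : ∀ (U V : C) (g : U ⟶ V), (O.obj.map g.op).hom.Flat) {F G : ModSite.Mod O} (α : F ⟶ G)
    (hF : IsBC F) (hG : IsBC G) : IsBC (kernel α) := fun U V g => by
  haveI := preservesFiniteLimits_ev (O := O) V
  haveI := preservesFiniteLimits_ev (O := O) U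
  haveI : PreservesFiniteLimits (ext O g) := ModuleCat.preservesFiniteLimits_extendScalars_of_flat (hO U V g)
  haveI : PreservesFiniteLimits (ev O V ⋙ ext O g) := comp_preservesFiniteLimits _ _
  haveI : ∀ k, IsIso ((bc O g).app ((parallelPair α 0).obj k)) := fun k => by
    cases k
    exacts [hF g, hG g]
  let β : parallelPair α 0 ⋙ (ev O V ⋙ ext O g) ≅ parallelPair α 0 ⋙ ev O U :=
    NatIso.ofComponents (fun k => asIso ((bc O g).app ((parallelPair α 0).obj k))) (fun f => (bc O g).naturality _)
  let e := IsLimit.conePointsIsoOfNatIso (isLimitOfPreserves (ev O V ⋙ ext O g) (kernelIsKernel α))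
    (isLimitOfPreserves (ev O U) (kernelIsKernel α)) β
  have he : (bc O g).app (kernel α) = e.hom := (isLimitOfPreserves (ev O U) (kernelIsKernel α)).hom_ext fun k => by
    rw [IsLimit.conePointsIsoOfNatIso_hom_comp]
    exact ((bc O g).naturality _).symm
  rw [he]
  infer_instance

theorem isBC_ext (hO : ∀ (U V : C) (g : U ⟶ V), (O.obj.map g.op).hom.Flat) (S : ShortComplex (ModSite.Mod O))
    (hS : S.ShortExact) (h₁ : IsBC S.X₁) (h₃ : IsBC S.X₃) : IsBC S.X₂ := fun U V g => by
  haveI := preservesFiniteLimits_ev (O := O) V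
  haveI := preservesFiniteLimits_ev (O := O) U
  haveI : PreservesFiniteLimits (ext O g) := ModuleCat.preservesFiniteLimits_extendScalars_of_flat (hO U V g)
  haveI : PreservesFiniteLimits (ev O V ⋙ ext O g) := comp_preservesFiniteLimits _ _
  haveI := preservesColimits_ev_ext (O := O) hJ g
  haveI := preservesColimits_ev (O := O) hJ U
  haveI : PreservesFiniteColimits (ev O V ⋙ ext O g) := PreservesColimitsOfSize.preservesFiniteColimits _
  haveI : PreservesFiniteColimits (ev O U) := PreservesColimitsOfSize.preservesFiniteColimits _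
  haveI : PreservesBinaryBiproducts (ev O V ⋙ ext O g) := preservesBinaryBiproducts_of_preservesBinaryCoproducts _
  haveI : (ev O V ⋙ ext O g).Additive := Functor.additive_of_preservesBinaryBiproducts _
  haveI : PreservesBinaryBiproducts (ev O U) := preservesBinaryBiproducts_of_preservesBinaryCoproducts _
  haveI : (ev O U).Additive := Functor.additive_of_preservesBinaryBiproducts _
  let φ : S.map (ev O V ⋙ ext O g) ⟶ S.map (ev O U) := S.mapNatTrans (bc O g)
  haveI : IsIso φ.τ₁ := h₁ g
  haveI : IsIso φ.τ₃ := h₃ g
  exact ShortComplex.isIso₂_of_shortExact_of_isIso₁₃ φ (hS.map_of_exact _) (hS.map_of_exact _)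

end Groth.Agent.HTop16.QcChaotic
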