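import Groth.Agent.HTop16.DerivedSES
import Groth.Agent.SiteCoh.Space
import Groth.Agent.SiteCoh.Criterion
import Groth.Prelude.Def_CohCx

/-!
# Relative Mayer-Vietoris
-/

set_option autoImplicit false
set_option backward.isDefEq.respectTransparency false

universe v v' u u'

open CategoryTheory CategoryTheory.Limits Opposite TopologicalSpace

namespace Groth.Agent.HTop16.RelMV

section Functors

variable {A : Type u} [Category.{v} A] [Abelian A] {B : Type u'} [Category.{v'} B] [Abelian B]

/-- The pointwise sum of two functors. -/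
noncomputable def sumF (G G' : A ⥤ B) : A ⥤ B where
  obj X := G.obj X ⊞ G'.obj X
  map f := biprod.map (G.map f) (G'.map f)
  map_id X := by ext <;> simp
  map_comp f g := by ext <;> simp

variable {G G' H : A ⥤ B}

instance [G.Additive] [G'.Additive] : (sumF G G').Additive where
  map_add {X Y f g} := by
    dsimp [sumF]
    ext <;> simp

/-- The first projection. -/
noncomputable def fstF : sumF G G' ⟶ G where
  app X := biprod.fst (X := G.obj X) (Y := G'.obj X)
  naturality X Y f := by dsimp [sumF]; simp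
/-- The second projection. -/
noncomputable def sndF : sumF G G' ⟶ G' where
  app X := biprod.snd (X := G.obj X) (Y := G'.obj X)
  naturality X Y f := by dsimp [sumF]; simp
/-- The first inclusion. -/
noncomputable def inlF : G ⟶ sumF G G' where
  app X := biprod.inl (X := G.obj X) (Y := G'.obj X)
  naturality X Y f := by dsimp [sumF]; simp
/-- The second inclusion. -/
noncomputable def inrF : G' ⟶ sumF G G' where
  app X := biprod.inr (X := G.obj X) (Y := G'.obj X)
  naturality X Y f := by dsimp [sumF]; simp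
/-- A map into the sum. -/
noncomputable def liftF (a : H ⟶ G) (b : H ⟶ G') : H ⟶ sumF G G' where
  app X := biprod.lift (a.app X) (b.app X)
  naturality X Y f := by dsimp [sumF]; ext <;> simp
/-- A map out of the sum. -/
noncomputable def descF (a : G ⟶ H) (b : G' ⟶ H) : sumF G G' ⟶ H where
  app X := biprod.desc (a.app X) (b.app X)
  naturality X Y f := by dsimp [sumF]; ext <;> simp

variable [HasInjectiveResolutions A] [G.Additive] [G'.Additive] [H.Additive]

lemma rightDerived_add (a b : G ⟶ H) (n : ℕ) (X : A) :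
    (NatTrans.rightDerived (a + b) n).app X =
      (NatTrans.rightDerived a n).app X + (NatTrans.rightDerived b n).app X := by
  rw [InjectiveResolution.rightDerived_app_eq _ (injectiveResolution X),
    InjectiveResolution.rightDerived_app_eq _ (injectiveResolution X),
    InjectiveResolution.rightDerived_app_eq _ (injectiveResolution X)]
  rw [← Preadditive.comp_add, ← Preadditive.add_comp, ← Functor.map_add]
  rfl

lemma rightDerived_neg (a : G ⟶ H) (n : ℕ) (X : A) :
    (NatTrans.rightDerived (-a) n).app X = -(NatTrans.rightDerived a n).app X := by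
  rw [InjectiveResolution.rightDerived_app_eq _ (injectiveResolution X),
    InjectiveResolution.rightDerived_app_eq _ (injectiveResolution X)]
  rw [← Preadditive.comp_neg, ← Preadditive.neg_comp, ← Functor.map_neg]
  rfl

lemma rightDerived_zero' (n : ℕ) (X : A) : (NatTrans.rightDerived (0 : G ⟶ H) n).app X = 0 := by
  have := rightDerived_add (0 : G ⟶ H) 0 n X
  rwa [add_zero, left_eq_add] at this

/-- Derived functors of a sum. -/
noncomputable def sumDerivedIso (n : ℕ) (X : A) :
    ((sumF G G').rightDerived n).obj X ≅ (G.rightDerived n).obj X ⊞ (G'.rightDerived n).obj X where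
  hom := biprod.lift ((NatTrans.rightDerived fstF n).app X) ((NatTrans.rightDerived sndF n).app X)
  inv := biprod.desc ((NatTrans.rightDerived inlF n).app X) ((NatTrans.rightDerived inrF n).app X)
  hom_inv_id := by
    rw [biprod.lift_desc, ← NatTrans.comp_app, ← NatTrans.comp_app, ← NatTrans.rightDerived_comp,
      ← NatTrans.rightDerived_comp, ← rightDerived_add,
      show (fstF ≫ inlF + sndF ≫ inrF : sumF G G' ⟶ sumF G G') = 𝟙 _ from
        NatTrans.ext (funext fun Y => biprod.total),
      NatTrans.rightDerived_id]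
    rfl
  inv_hom_id := by
    refine biprod.hom_ext' _ _ (biprod.hom_ext _ _ ?_ ?_) (biprod.hom_ext _ _ ?_ ?_)
    all_goals simp only [biprod.inl_desc_assoc, biprod.inr_desc_assoc, Category.assoc,
      biprod.lift_fst, biprod.lift_snd, Category.comp_id, biprod.inl_fst, biprod.inl_snd,
      biprod.inr_fst, biprod.inr_snd, ← NatTrans.comp_app, ← NatTrans.rightDerived_comp]
    · rw [show (inlF ≫ fstF : G ⟶ G) = 𝟙 G from NatTrans.ext (funext fun Y => biprod.inl_fst),
        NatTrans.rightDerived_id]; rfl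
    · rw [show (inlF ≫ sndF : G ⟶ G') = 0 from NatTrans.ext (funext fun Y => biprod.inl_snd),
        rightDerived_zero']
    · rw [show (inrF ≫ fstF : G' ⟶ G) = 0 from NatTrans.ext (funext fun Y => biprod.inr_fst),
        rightDerived_zero']
    · rw [show (inrF ≫ sndF : G' ⟶ G') = 𝟙 G' from NatTrans.ext (funext fun Y => biprod.inr_snd),
        NatTrans.rightDerived_id]; rfl

lemma liftF_derived (a : H ⟶ G) (b : H ⟶ G') (n : ℕ) (X : A) :
    (NatTrans.rightDerived (liftF a b) n).app X ≫ (sumDerivedIso n X).hom =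
      biprod.lift ((NatTrans.rightDerived a n).app X) ((NatTrans.rightDerived b n).app X) := by
  refine biprod.hom_ext _ _ ?_ ?_
  · rw [Category.assoc, sumDerivedIso, biprod.lift_fst, biprod.lift_fst, ← NatTrans.comp_app,
      ← NatTrans.rightDerived_comp]
    congr
    exact NatTrans.ext (funext fun Y => biprod.lift_fst _ _)
  · rw [Category.assoc, sumDerivedIso, biprod.lift_snd, biprod.lift_snd, ← NatTrans.comp_app,
      ← NatTrans.rightDerived_comp]
    congr
    exact NatTrans.ext (funext fun Y => biprod.lift_snd _ _)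

lemma descF_derived (a : G ⟶ H) (b : G' ⟶ H) (n : ℕ) (X : A) :
    (sumDerivedIso n X).inv ≫ (NatTrans.rightDerived (descF a b) n).app X =
      biprod.desc ((NatTrans.rightDerived a n).app X) ((NatTrans.rightDerived b n).app X) := by
  refine biprod.hom_ext' _ _ ?_ ?_
  · rw [sumDerivedIso, biprod.inl_desc_assoc, biprod.inl_desc, ← NatTrans.comp_app,
      ← NatTrans.rightDerived_comp]
    congr
    exact NatTrans.ext (funext fun Y => biprod.inl_desc _ _)
  · rw [sumDerivedIso, biprod.inr_desc_assoc, biprod.inr_desc, ← NatTrans.comp_app,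
      ← NatTrans.rightDerived_comp]
    congr
    exact NatTrans.ext (funext fun Y => biprod.inr_desc _ _)

end Functors

section Space

variable {X : TopCat.{u}} (F : CohTop.Ab X)

lemma res_comp {A B B' : Opens X} (h : B ≤ A) (h' : B' ≤ B) (x : F.obj.obj (op A)) :
    F.obj.map (homOfLE h').op (F.obj.map (homOfLE h).op x) =
      F.obj.map (homOfLE (h'.trans h)).op x := by
  rw [← ConcreteCategory.comp_apply, ← F.obj.map_comp]
  rfl

lemma glue_two {A B₁ B₂ B₁₂ : Opens X} (h₁ : B₁ ≤ A) (h₂ : B₂ ≤ A) (k₁ : B₁₂ ≤ B₁) (k₂ : B₁₂ ≤ B₂)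
    (hcov : A ≤ B₁ ⊔ B₂) (hinter : B₁ ⊓ B₂ ≤ B₁₂) :
    (∀ x y : F.obj.obj (op A), F.obj.map (homOfLE h₁).op x = F.obj.map (homOfLE h₁).op y →
      F.obj.map (homOfLE h₂).op x = F.obj.map (homOfLE h₂).op y → x = y) ∧
    ∀ (a : F.obj.obj (op B₁)) (b : F.obj.obj (op B₂)),
      F.obj.map (homOfLE k₁).op a = F.obj.map (homOfLE k₂).op b →
      ∃ x, F.obj.map (homOfLE h₁).op x = a ∧ F.obj.map (homOfLE h₂).op x = b := by
  let W : ULift.{u} Bool → Opens X := fun i => if i.down then B₁ else B₂
  have hle : ∀ i, W i ≤ A := by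
    rintro ⟨_ | _⟩
    · exact h₂
    · exact h₁
  have hc : A ≤ iSup W := hcov.trans (sup_le (le_iSup W ⟨true⟩) (le_iSup W ⟨false⟩))
  have hmem := SiteCoh.ofArrows_mem_of_le W hle hc
  refine ⟨fun x y e₁ e₂ => SiteCoh.ext_of_cover F (fun i => homOfLE (hle i)) hmem ?_, fun a b hab => ?_⟩
  · rintro ⟨_ | _⟩
    · exact e₂
    · exact e₁
  · let s : ∀ i, F.obj.obj (op (W i))
      | ⟨true⟩ => a
      | ⟨false⟩ => b
    obtain ⟨t, ht, -⟩ := SiteCoh.existsUnique_amalgamation F (fun i => homOfLE (hle i)) hmem s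
      fun i j Z gi gj _ => by
        rcases i with ⟨_ | _⟩ <;> rcases j with ⟨_ | _⟩
        · rw [Subsingleton.elim gi gj]
        · have hZ : Z ≤ B₁₂ := (le_inf (leOfHom gj) (leOfHom gi)).trans hinter
          exact ((res_comp F k₂ hZ b).symm.trans ((congrArg _ hab).symm.trans (res_comp F k₁ hZ a)))
        · have hZ : Z ≤ B₁₂ := (le_inf (leOfHom gi) (leOfHom gj)).trans hinter
          exact ((res_comp F k₁ hZ a).symm.trans ((congrArg _ hab).trans (res_comp F k₂ hZ b)))
        · rw [Subsingleton.elim gi gj]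
    exact ⟨t, ht ⟨true⟩, ht ⟨false⟩⟩

variable {Y : TopCat.{u}} (f : X ⟶ Y) (U V : Opens X)

/-- The first map. -/
noncomputable abbrev α : CohTop.push f ⟶
    sumF (CohTop.restrFunctor U ⋙ CohTop.push (CohCx.incl U ≫ f))
      (CohTop.restrFunctor V ⋙ CohTop.push (CohCx.incl V ≫ f)) :=
  liftF (CohCx.pushToRestrPush f U) (CohCx.pushToRestrPush f V)

/-- The second map. -/
noncomputable abbrev β :
    sumF (CohTop.restrFunctor U ⋙ CohTop.push (CohCx.incl U ≫ f))
      (CohTop.restrFunctor V ⋙ CohTop.push (CohCx.incl V ≫ f)) ⟶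
      CohTop.restrFunctor (U ⊓ V) ⋙ CohTop.push (CohCx.incl (U ⊓ V) ≫ f) :=
  descF (CohCx.restrPushToRestrPush f (inf_le_left : U ⊓ V ≤ U))
    (-(CohCx.restrPushToRestrPush f (inf_le_right : U ⊓ V ≤ V)))

lemma comp_eq_zero (F : CohTop.Ab X) : (α f U V).app F ≫ (β f U V).app F = 0 := by
  refine biprod.lift_desc.trans ?_
  rw [NatTrans.app_neg, Preadditive.comp_neg, ← sub_eq_add_neg, sub_eq_zero]
  ext : 2
  funext W
  change F.obj.map _ ≫ F.obj.map _ = F.obj.map _ ≫ F.obj.map _
  rw [← F.obj.map_comp, ← F.obj.map_comp]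
  rfl

variable (hUV : U ⊔ V = ⊤)
include hUV

lemma shortExact (I : CohTop.Ab X) [Injective I] :
    (ShortComplex.mk ((α f U V).app I) ((β f U V).app I) (comp_eq_zero f U V I)).ShortExact := by
  let S := ShortComplex.mk ((α f U V).app I) ((β f U V).app I) (comp_eq_zero f U V I)
  let P := sheafToPresheaf (Opens.grothendieckTopology Y) AddCommGrpCat.{u}
  suffices hP : (S.map P).ShortExact by
    exact ShortComplex.shortExact_of_iso
      (S.mapNatIso (sheafificationNatIso (Opens.grothendieckTopology Y) AddCommGrpCat.{u})).symm (hP.map_of_exact (presheafToSheaf _ _))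
  refine ShortComplex.ShortExact.mk' ?_ ?_ ?_
  all_goals
    have e₁ : ∀ (W : (Opens Y)ᵒᵖ) x,
        (biprod.fst : _ ⊞ ((CohTop.restrFunctor V ⋙ CohTop.push (CohCx.incl V ≫ f)).obj I) ⟶ _).hom.app W
          (((α f U V).app I).hom.app W x) =
        ((CohCx.pushToRestrPush f U).app I).hom.app W x := fun W x =>
      ConcreteCategory.congr_hom (NatTrans.congr_app
        (congrArg InducedCategory.Hom.hom (biprod.lift_fst ((CohCx.pushToRestrPush f U).app I)
          ((CohCx.pushToRestrPush f V).app I))) W) x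
    have e₂ : ∀ (W : (Opens Y)ᵒᵖ) x,
        (biprod.snd : ((CohTop.restrFunctor U ⋙ CohTop.push (CohCx.incl U ≫ f)).obj I) ⊞ _ ⟶ _).hom.app W
          (((α f U V).app I).hom.app W x) =
        ((CohCx.pushToRestrPush f V).app I).hom.app W x := fun W x =>
      ConcreteCategory.congr_hom (NatTrans.congr_app
        (congrArg InducedCategory.Hom.hom (biprod.lift_snd ((CohCx.pushToRestrPush f U).app I)
          ((CohCx.pushToRestrPush f V).app I))) W) x
  · refine CAlgH3.FunctorExact.exact_of_app _ fun W => (ShortComplex.ab_exact_iff _).2 fun z hz => ?_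
    let a := (biprod.fst : _ ⊞ ((CohTop.restrFunctor V ⋙ CohTop.push (CohCx.incl V ≫ f)).obj I) ⟶ _).hom.app W z
    let b := (biprod.snd : ((CohTop.restrFunctor U ⋙ CohTop.push (CohCx.incl U ≫ f)).obj I) ⊞ _ ⟶ _).hom.app W z
    have hz' : ((CohCx.restrPushToRestrPush f (inf_le_left : U ⊓ V ≤ U)).app I).hom.app W a -
        ((CohCx.restrPushToRestrPush f (inf_le_right : U ⊓ V ≤ V)).app I).hom.app W b = 0 := by
      have h := ConcreteCategory.congr_hom (NatTrans.congr_app (congrArg InducedCategory.Hom.hom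
        (biprod.desc_eq (f := (CohCx.restrPushToRestrPush f (inf_le_left : U ⊓ V ≤ U)).app I)
          (g := (-(CohCx.restrPushToRestrPush f (inf_le_right : U ⊓ V ≤ V))).app I))) W) z
      rw [sub_eq_add_neg]
      exact h.symm.trans hz
    obtain ⟨x, hx₁, hx₂⟩ := (glue_two I (A := (Opens.map f).obj W.unop)
      (B₁ := U.isOpenEmbedding.isOpenMap.functor.obj ((Opens.map (CohCx.incl U ≫ f)).obj W.unop))
      (B₂ := V.isOpenEmbedding.isOpenMap.functor.obj ((Opens.map (CohCx.incl V ≫ f)).obj W.unop))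
      (B₁₂ := (U ⊓ V).isOpenEmbedding.isOpenMap.functor.obj
        ((Opens.map (CohCx.incl (U ⊓ V) ≫ f)).obj W.unop))
      (by rintro _ ⟨x, hx, rfl⟩; exact hx) (by rintro _ ⟨x, hx, rfl⟩; exact hx)
      (by rintro _ ⟨x, hx, rfl⟩; exact ⟨⟨x.1, x.2.1⟩, hx, rfl⟩)
      (by rintro _ ⟨x, hx, rfl⟩; exact ⟨⟨x.1, x.2.2⟩, hx, rfl⟩)
      (fun x hx => by
        rcases (show x ∈ U ⊔ V by rw [hUV]; trivial) with h | h
        · exact Or.inl ⟨⟨x, h⟩, hx, rfl⟩
        · exact Or.inr ⟨⟨x, h⟩, hx, rfl⟩)
      (by rintro _ ⟨⟨x, hx, rfl⟩, ⟨y, hy, hxy⟩⟩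
          exact ⟨⟨x.1, x.2, by have := y.2; rwa [show y.1 = x.1 from hxy] at this⟩, hx, rfl⟩)).2
      a b (sub_eq_zero.1 hz')
    refine ⟨x, ?_⟩
    have ht := ConcreteCategory.congr_hom (NatTrans.congr_app (congrArg InducedCategory.Hom.hom
      (biprod.total (X := (CohTop.restrFunctor U ⋙ CohTop.push (CohCx.incl U ≫ f)).obj I)
        (Y := (CohTop.restrFunctor V ⋙ CohTop.push (CohCx.incl V ≫ f)).obj I))) W)
    refine ((ht _).symm.trans ?_).trans (ht z)
    refine congrArg₂ (· + ·) (congrArg ((biprod.inl : _ ⟶ _ ⊞ ((CohTop.restrFunctor V ⋙ CohTop.push (CohCx.incl V ≫ f)).obj I)).hom.app W) ((e₁ W x).trans hx₁))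
      (congrArg ((biprod.inr : _ ⟶ ((CohTop.restrFunctor U ⋙ CohTop.push (CohCx.incl U ≫ f)).obj I) ⊞ _).hom.app W) ((e₂ W x).trans hx₂))
  · refine @NatTrans.mono_of_mono_app _ _ _ _ _ _ _ fun W => (AddCommGrpCat.mono_iff_injective _).2 fun x y h => ?_
    refine (glue_two I (A := (Opens.map f).obj W.unop)
      (B₁ := U.isOpenEmbedding.isOpenMap.functor.obj ((Opens.map (CohCx.incl U ≫ f)).obj W.unop))
      (B₂ := V.isOpenEmbedding.isOpenMap.functor.obj ((Opens.map (CohCx.incl V ≫ f)).obj W.unop))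
      (by rintro _ ⟨x, hx, rfl⟩; exact hx) (by rintro _ ⟨x, hx, rfl⟩; exact hx)
      inf_le_left inf_le_right
      (fun x hx => by
        rcases (show x ∈ U ⊔ V by rw [hUV]; trivial) with h | h
        · exact Or.inl ⟨⟨x, h⟩, hx, rfl⟩
        · exact Or.inr ⟨⟨x, h⟩, hx, rfl⟩)
      (B₁₂ := U.isOpenEmbedding.isOpenMap.functor.obj ((Opens.map (CohCx.incl U ≫ f)).obj W.unop) ⊓
        V.isOpenEmbedding.isOpenMap.functor.obj ((Opens.map (CohCx.incl V ≫ f)).obj W.unop))
      le_rfl).1 x y
      ((e₁ W x).symm.trans ((congrArg _ h).trans (e₁ W y)))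
      ((e₂ W x).symm.trans ((congrArg _ h).trans (e₂ W y)))
  · refine @NatTrans.epi_of_epi_app _ _ _ _ _ _ _ fun W => (AddCommGrpCat.epi_iff_surjective _).2 fun z => ?_
    obtain ⟨a, ha⟩ := SiteCoh.surjective_map_of_injective I
      (homOfLE (show (U ⊓ V).isOpenEmbedding.isOpenMap.functor.obj
          ((Opens.map (CohCx.incl (U ⊓ V) ≫ f)).obj W.unop) ≤
        U.isOpenEmbedding.isOpenMap.functor.obj ((Opens.map (CohCx.incl U ≫ f)).obj W.unop) by
        rintro _ ⟨x, hx, rfl⟩; exact ⟨⟨x.1, x.2.1⟩, hx, rfl⟩)) z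
    refine ⟨(biprod.inl : _ ⟶ _ ⊞ ((CohTop.restrFunctor V ⋙ CohTop.push (CohCx.incl V ≫ f)).obj I)).hom.app W a, ?_⟩
    exact (ConcreteCategory.congr_hom (NatTrans.congr_app (congrArg InducedCategory.Hom.hom
      (biprod.inl_desc ((CohCx.restrPushToRestrPush f (inf_le_left : U ⊓ V ≤ U)).app I)
        ((-(CohCx.restrPushToRestrPush f (inf_le_right : U ⊓ V ≤ V))).app I))) W) a).trans ha

/-- The long exact relative Mayer-Vietoris sequence. -/
theorem exists_seq (F : CohTop.Ab X) :
    ∃ δ : ∀ n : ℕ, (CohCx.RpushOn f (U ⊓ V) n).obj F ⟶ (CohTop.Rpush f (n + 1)).obj F,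
      Mono (biprod.lift ((NatTrans.rightDerived (CohCx.pushToRestrPush f U) 0).app F)
        ((NatTrans.rightDerived (CohCx.pushToRestrPush f V) 0).app F)) ∧
      ∀ n : ℕ,
        (ComposableArrows.mk₂
          (biprod.lift ((NatTrans.rightDerived (CohCx.pushToRestrPush f U) n).app F)
            ((NatTrans.rightDerived (CohCx.pushToRestrPush f V) n).app F))
          (biprod.desc
            ((NatTrans.rightDerived (CohCx.restrPushToRestrPush f (inf_le_left : U ⊓ V ≤ U)) n).app F)
            (-((NatTrans.rightDerived (CohCx.restrPushToRestrPush f (inf_le_right : U ⊓ V ≤ V)) n).app F)))).Exact ∧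
        (ComposableArrows.mk₂
          (biprod.desc
            ((NatTrans.rightDerived (CohCx.restrPushToRestrPush f (inf_le_left : U ⊓ V ≤ U)) n).app F)
            (-((NatTrans.rightDerived (CohCx.restrPushToRestrPush f (inf_le_right : U ⊓ V ≤ V)) n).app F)))
          (δ n)).Exact ∧
        (ComposableArrows.mk₂ (δ n)
          (biprod.lift ((NatTrans.rightDerived (CohCx.pushToRestrPush f U) (n + 1)).app F)
            ((NatTrans.rightDerived (CohCx.pushToRestrPush f V) (n + 1)).app F))).Exact := by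
  have w := comp_eq_zero f U V
  have hs := fun (I : CohTop.Ab X) (_ : Injective I) => shortExact f U V hUV I
  refine ⟨fun n => (DerivedSES.δ (α f U V) (β f U V) w hs n).app F, ?_, fun n => ?_⟩
  · rw [← liftF_derived]
    haveI := DerivedSES.mono_zero (α f U V) (β f U V) w hs F
    exact mono_comp _ _
  · rw [← rightDerived_neg, ← descF_derived, ← liftF_derived, ← liftF_derived]
    obtain ⟨z₂, e₂⟩ := DerivedSES.exact₂ (α f U V) (β f U V) w hs F n
    obtain ⟨z₃, e₃⟩ := DerivedSES.exact₃ (α f U V) (β f U V) w hs F n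
    obtain ⟨z₁, e₁⟩ := DerivedSES.exact₁ (α f U V) (β f U V) w hs F n
    refine ⟨?_, ?_, ?_⟩
    · exact (ShortComplex.exact_of_iso (S₁ := ShortComplex.mk _ _ z₂)
        (S₂ := ShortComplex.mk (_ ≫ (sumDerivedIso n F).hom) ((sumDerivedIso n F).inv ≫ _)
          (by rw [Category.assoc, Iso.hom_inv_id_assoc, z₂]))
        (ShortComplex.isoMk (Iso.refl _) (sumDerivedIso n F) (Iso.refl _)
          (Category.id_comp _) (by simp)) e₂).exact_toComposableArrows
    · exact (ShortComplex.exact_of_iso (S₁ := ShortComplex.mk _ _ z₃)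
        (S₂ := ShortComplex.mk ((sumDerivedIso n F).inv ≫ _) _
          (by rw [Category.assoc, z₃, comp_zero]))
        (ShortComplex.isoMk (sumDerivedIso n F) (Iso.refl _) (Iso.refl _)
          (by simp) (by simp)) e₃).exact_toComposableArrows
    · exact (ShortComplex.exact_of_iso (S₁ := ShortComplex.mk _ _ z₁)
        (S₂ := ShortComplex.mk _ (_ ≫ (sumDerivedIso (n + 1) F).hom)
          (by rw [← Category.assoc, z₁, zero_comp]))
        (ShortComplex.isoMk (Iso.refl _) (Iso.refl _) (sumDerivedIso (n + 1) F)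
          (by simp) (by simp)) e₁).exact_toComposableArrows

end Space

end Groth.Agent.HTop16.RelMV
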