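import Groth.Agent.HTop16.TopT
import Mathlib.AlgebraicGeometry.Pullbacks
import Mathlib.RingTheory.Polynomial.Eisenstein.Basic

/-!
# Affine families of schemes and exactness up to nilpotents
-/

set_option autoImplicit false
set_option backward.isDefEq.respectTransparency false
set_option linter.all false

universe w u

open CategoryTheory CategoryTheory.Limits AlgebraicGeometry TopologicalSpace Opposite

namespace Groth.Agent.HTop16.RingFamily

/-- Exactness of `A → ∏ B i ⇉ ∏ B i ⊗ B j` up to nilpotents of bounded order on the left. -/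
structure RExact {A : CommRingCat.{u}} {ι : Type} (B : ι → CommRingCat.{u}) (φ : ∀ i, A ⟶ B i) : Prop where
  ker : ∃ N : ℕ, ∀ a : A, (∀ i, (φ i).hom a = 0) → a ^ N = 0
  exist : ∀ b : ∀ i, B i, (∀ i j (L : CommRingCat.{u}) (u : B i ⟶ L) (v : B j ⟶ L), φ i ≫ u = φ j ≫ v →
    u.hom (b i) = v.hom (b j)) → ∃ a : A, ∀ i, (φ i).hom a = b i

variable {S : Scheme.{u}}

/-- The member of an affine family over an affine scheme. -/
noncomputable def obj {X : Over S} [IsAffine X.left] {B : CommRingCat.{u}} (φ : Γ(X.left, ⊤) ⟶ B) : Over S :=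
  Over.mk ((Spec.map φ ≫ X.left.isoSpec.inv) ≫ X.hom)

/-- The structure morphism of a member. -/
noncomputable def hom {X : Over S} [IsAffine X.left] {B : CommRingCat.{u}} (φ : Γ(X.left, ⊤) ⟶ B) : obj φ ⟶ X :=
  Over.homMk (Spec.map φ ≫ X.left.isoSpec.inv) rfl

theorem hom_appTop {X : Over S} [IsAffine X.left] {B : CommRingCat.{u}} (φ : Γ(X.left, ⊤) ⟶ B) :
    (hom φ).left.appTop ≫ (Scheme.ΓSpecIso B).hom = φ := by
  have h : X.left.isoSpec.inv.appTop = (Scheme.ΓSpecIso Γ(X.left, ⊤)).inv := by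
    rw [← cancel_mono X.left.isoSpec.hom.appTop, ← Scheme.Hom.comp_appTop, Iso.hom_inv_id,
      show X.left.isoSpec.hom.appTop = (Scheme.ΓSpecIso Γ(X.left, ⊤)).hom from Scheme.toSpecΓ_appTop X.left,
      Iso.inv_hom_id]
    exact Scheme.Hom.id_app _
  show (Spec.map φ ≫ X.left.isoSpec.inv).appTop ≫ _ = φ
  rw [Scheme.Hom.comp_appTop, Category.assoc, Scheme.ΓSpecIso_naturality, h, Iso.inv_hom_id_assoc]

/-- A morphism between members. -/
noncomputable def map {X : Over S} [IsAffine X.left] {B L : CommRingCat.{u}} (φ : Γ(X.left, ⊤) ⟶ B) (u : B ⟶ L) :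
    obj (φ ≫ u) ⟶ obj φ :=
  Over.homMk (Spec.map u) (by
    change Spec.map u ≫ (Spec.map φ ≫ X.left.isoSpec.inv) ≫ X.hom = (Spec.map (φ ≫ u) ≫ X.left.isoSpec.inv) ≫ X.hom
    simp)

/-- If pushouts of a family of ring maps give sheaf conditions, the family covers in the topology of the presheaf. -/
theorem mem_J {F : (Over S)ᵒᵖ ⥤ Type w} (hz : Presieve.IsSheaf (Scheme.zariskiTopology.over S) F)
    {A : CommRingCat.{u}} {ι : Type} (B : ι → CommRingCat.{u}) (φ : ∀ i, A ⟶ B i)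
    (B' : ∀ (A' : CommRingCat.{u}), (A ⟶ A') → ι → CommRingCat.{u})
    (φ' : ∀ (A' : CommRingCat.{u}) (g : A ⟶ A') i, A' ⟶ B' A' g i)
    (g' : ∀ (A' : CommRingCat.{u}) (g : A ⟶ A') i, B i ⟶ B' A' g i)
    (hpo : ∀ A' g i, IsPushout g (φ i) (φ' A' g i) (g' A' g i))
    (hF : ∀ (X : Over S) [IsAffine X.left] (g : A ⟶ Γ(X.left, ⊤)),
      Presieve.IsSheafFor F (Presieve.ofArrows (fun i => obj (φ' _ g i)) (fun i => hom (φ' _ g i))))
    (R : Sieve (Spec A)) (hR : ∀ i, R.arrows (Spec.map (φ i))) : R ∈ TopT.J F _ := by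
  refine (TopT.J F).superset_covering (Sieve.generate_le_iff _ _ |>.2 ?_)
    (TopT.mem_J_of_affine hz (Sieve.generate (Presieve.ofArrows _ fun i => Spec.map (φ i))) fun X g hX => ?_)
  · rintro W k ⟨i⟩
    exact hR i
  haveI := hX
  let γ : A ⟶ Γ(X.left, ⊤) := Spec.preimage (X.left.isoSpec.inv ≫ g)
  have hγ : Spec.map γ = X.left.isoSpec.inv ≫ g := Spec.map_preimage _
  have sq : ∀ i, IsPullback (Spec.map (φ' _ γ i) ≫ X.left.isoSpec.inv) (Spec.map (g' _ γ i)) g (Spec.map (φ i)) :=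
    fun i => (isPullback_SpecMap_of_isPushout _ _ _ _ (hpo _ γ i)).of_iso (Iso.refl _) X.left.isoSpec.symm (Iso.refl _)
      (Iso.refl _) (by simp) (by simp) (by simp [hγ]) (by simp)
  have eq : (Sieve.overEquiv X).symm ((Sieve.generate (Presieve.ofArrows _ fun i => Spec.map (φ i))).pullback g) =
      Sieve.generate (Presieve.ofArrows (fun i => obj (φ' _ γ i)) (fun i => hom (φ' _ γ i))) := by
    ext W k
    rw [Sieve.overEquiv_symm_iff]
    constructor
    · rintro ⟨_, l, _, ⟨i⟩, hl⟩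
      refine ⟨obj (φ' _ γ i), Over.homMk ((sq i).lift k.left l hl.symm) ?_, hom (φ' _ γ i), Presieve.ofArrows.mk i, ?_⟩
      · change (sq i).lift k.left l _ ≫ (Spec.map (φ' _ γ i) ≫ X.left.isoSpec.inv) ≫ X.hom = W.hom
        rw [IsPullback.lift_fst_assoc, Over.w k]
      · ext
        exact (sq i).lift_fst _ _ _
    · rintro ⟨_, l, _, ⟨i⟩, rfl⟩
      refine ⟨_, l.left ≫ Spec.map (g' _ γ i), _, Presieve.ofArrows.mk i, ?_⟩
      change (l.left ≫ Spec.map (g' _ γ i)) ≫ Spec.map (φ i) =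
        (l.left ≫ Spec.map (φ' _ γ i) ≫ X.left.isoSpec.inv) ≫ g
      simp only [Category.assoc]
      exact congrArg (l.left ≫ ·) ((sq i).w.symm.trans (Category.assoc _ _ _))
  rw [eq, ← Presieve.isSheafFor_iff_generate]
  exact hF X γ

end Groth.Agent.HTop16.RingFamily
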