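import Groth.Agent.HTop16.Functor
import Groth.Agent.S0415
import Groth.Agent.S0416
import Mathlib.AlgebraicGeometry.Sites.SmallAffineZariski
import Mathlib.AlgebraicGeometry.RelativeGluing
import Mathlib.AlgebraicGeometry.Morphisms.ClosedImmersion
import Mathlib.AlgebraicGeometry.Morphisms.Integral

/-!
The absolute weak normalization of a scheme, by relative gluing over the affine opens.
-/

set_option autoImplicit false
set_option linter.unusedSectionVars false

namespace Groth.Agent.HTop16

universe u

open CategoryTheory CategoryTheory.Limits AlgebraicGeometry Opposite UnivHomeo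

/-- two maps from a reduced scheme agreeing after a universal homeomorphism are equal -/
lemma hom_ext_of_uh {T Y X : Scheme.{u}} [IsReduced T] {π : Y ⟶ X} (hπ : FlatMor.IsUnivHomeo π)
    (h₁ h₂ : T ⟶ Y) (h : h₁ ≫ π = h₂ ≫ π) : h₁ = h₂ := by
  obtain ⟨hi, hu, -⟩ := (S0415.result π).1 hπ
  haveI : Surjective (pullback.diagonal π) := (UniversallyInjective.iff_diagonal π).1 hu
  let e := pullback.fst (pullback.lift h₁ h₂ h) (pullback.diagonal π)
  haveI : Surjective e :=
    MorphismProperty.pullback_fst _ _ (inferInstance : Surjective (pullback.diagonal π))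
  haveI : IsClosedImmersion e :=
    MorphismProperty.pullback_fst _ _ (inferInstance : IsClosedImmersion (pullback.diagonal π))
  haveI : IsIso e := isIso_of_isClosedImmersion_of_surjective e
  have w : e ≫ pullback.lift h₁ h₂ h = pullback.snd _ _ ≫ pullback.diagonal π := pullback.condition
  rw [← cancel_epi e]
  calc e ≫ h₁ = (e ≫ pullback.lift h₁ h₂ h) ≫ pullback.fst π π := by
        rw [Category.assoc, pullback.lift_fst]
    _ = pullback.snd _ _ := by rw [w, Category.assoc, pullback.diagonal_fst, Category.comp_id]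
    _ = (e ≫ pullback.lift h₁ h₂ h) ≫ pullback.snd π π := by
        rw [w, Category.assoc, pullback.diagonal_snd, Category.comp_id]
    _ = e ≫ h₂ := by rw [Category.assoc, pullback.lift_snd]

/-- the absolute weak normalization as a ring functor -/
noncomputable def awnFunctor : CommRingCat.{u} ⥤ CommRingCat.{u} where
  obj A := CommRingCat.of (awn A)
  map f := CommRingCat.ofHom (awnMap f.hom)
  map_id A := CommRingCat.hom_ext awnMap_id
  map_comp f g := CommRingCat.hom_ext (awnMap_comp f.hom g.hom)

variable (X : Scheme.{u})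

open Scheme.AffineZariskiSite in
/-- the algebra of the absolute weak normalization -/
noncomputable def awnAlg : X.AffineZariskiSiteᵒᵖ ⥤ CommRingCat.{u} :=
  (toOpensFunctor X).op ⋙ X.presheaf ⋙ awnFunctor

open Scheme.AffineZariskiSite in
/-- its unit -/
noncomputable def awnUnit : (toOpensFunctor X).op ⋙ X.presheaf ⟶ awnAlg X where
  app U := CommRingCat.ofHom (toAwn _)
  naturality U V f := CommRingCat.hom_ext
    (awnMap_comp_toAwn (((toOpensFunctor X).op ⋙ X.presheaf).map f).hom).symm

lemma awnUnit_coequifibered : (awnUnit X).Coequifibered := by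
  rw [Scheme.AffineZariskiSite.coequifibered_iff_forall_isLocalizationAway]
  intro U f
  letI := (X.presheaf.map (homOfLE (X.basicOpen_le f)).op).hom.toAlgebra
  haveI : IsLocalization.Away f Γ(X, X.basicOpen f) := U.2.isLocalization_basicOpen f
  exact isLocalization_awn (A := Γ(X, U.1)) (A' := Γ(X, X.basicOpen f)) f

/-- gluing data -/
noncomputable abbrev awnData : (Scheme.AffineZariskiSite.directedCover X).RelativeGluingData :=
  Scheme.AffineZariskiSite.relativeGluingData (awnUnit_coequifibered X)

instance : ((awnData X).functor ⋙ Scheme.forget).IsLocallyDirected :=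
  Scheme.Cover.RelativeGluingData.instIsLocallyDirectedI₀CompFunctorForgetOfIsThin ..

instance : HasColimit (awnData X).functor := inferInstance

/-- the absolute weak normalization -/
noncomputable def awnScheme : Scheme.{u} := (awnData X).glued

/-- its structure map -/
noncomputable def awnι : awnScheme X ⟶ X := (awnData X).toBase

/-- the chart over an affine open -/
noncomputable def chart (U : X.AffineZariskiSite) :
    Spec (CommRingCat.of (awn Γ(X, U.1))) ⟶ awnScheme X :=
  colimit.ι (awnData X).functor U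

/-- the chart's map to the affine open -/
noncomputable def chartBase (U : X.AffineZariskiSite) :
    Spec (CommRingCat.of (awn Γ(X, U.1))) ⟶ (U.1 : Scheme.{u}) :=
  Spec.map (CommRingCat.ofHom (toAwn Γ(X, U.1))) ≫ U.2.isoSpec.inv

lemma chart_isPullback (U : X.AffineZariskiSite) :
    IsPullback (chartBase X U) (chart X U) U.1.ι (awnι X) :=
  (awnData X).isPullback_natTrans_ι_toBase U

instance (U : X.AffineZariskiSite) : IsOpenImmersion (chart X U) :=
  MorphismProperty.of_isPullback (chart_isPullback X U) (inferInstance : IsOpenImmersion U.1.ι)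

lemma chart_ι (U : X.AffineZariskiSite) :
    chart X U ≫ awnι X = Spec.map (CommRingCat.ofHom (toAwn Γ(X, U.1))) ≫ U.2.fromSpec := by
  rw [← (chart_isPullback X U).w, chartBase, Category.assoc, IsAffineOpen.isoSpec_inv_ι]

lemma exists_chart_mem (y : awnScheme X) :
    ∃ U : X.AffineZariskiSite, y ∈ (chart X U).opensRange := by
  obtain ⟨V, hV⟩ := exists_affine_mem X (awnι X y)
  let U : X.AffineZariskiSite := ⟨V.1, V.2⟩
  refine ⟨U, ?_⟩
  obtain ⟨z, -, hz⟩ := Scheme.Pullback.exists_preimage_pullback (f := U.1.ι) (g := awnι X)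
    ⟨awnι X y, hV⟩ y rfl
  refine ⟨(chart_isPullback X U).isoPullback.inv z, ?_⟩
  show ((chart_isPullback X U).isoPullback.inv ≫ chart X U) z = y
  rw [IsPullback.isoPullback_inv_snd, hz]

lemma isAWN_awnScheme : HTop.IsAWN (awnScheme X) := by
  intro y
  obtain ⟨U, hU⟩ := exists_chart_mem X y
  refine ⟨⟨(chart X U).opensRange, isAffineOpen_opensRange _⟩, hU, ?_⟩
  have hrange : chart X U ''ᵁ ⊤ = (chart X U).opensRange := Scheme.Hom.image_top_eq_opensRange _
  exact awn_of_equiv
    ((eqToIso (by rw [hrange]) : Γ(awnScheme X, (chart X U).opensRange) ≅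
        Γ(awnScheme X, chart X U ''ᵁ ⊤)) ≪≫ (chart X U).appIso ⊤ ≪≫
      Scheme.ΓSpecIso _).commRingCatIsoToRingEquiv.symm (isAWN_awn _)

instance : IsReduced (awnScheme X) :=
  isReduced_of_affines _ fun V =>
    isReduced_of_seminormal (isAWN_affine _ (isAWN_awnScheme X) V).1

lemma isUnivHomeo_awnι : FlatMor.IsUnivHomeo (awnι X) := by
  have hpiece : ∀ U : X.AffineZariskiSite,
      IsIntegralHom (chartBase X U) ∧ UniversallyInjective (chartBase X U) ∧
        Surjective (chartBase X U) := by
    intro U
    obtain ⟨h1, h2, h3⟩ :=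
      (S0415.result _).1 ((isUnivHomeo_iff (toAwn Γ(X, U.1))).2 (uh_toAwn Γ(X, U.1)))
    exact ⟨MorphismProperty.RespectsIso.postcomp (P := @IsIntegralHom) _ _ h1,
      MorphismProperty.RespectsIso.postcomp (P := @UniversallyInjective) _ _ h2,
      MorphismProperty.RespectsIso.postcomp (P := @Surjective) _ _ h3⟩
  have key : ∀ (P : MorphismProperty Scheme.{u}) [IsZariskiLocalAtTarget P],
      (∀ U, P (chartBase X U)) → P (awnι X) := by
    intro P _ h
    refine IsZariskiLocalAtTarget.of_openCover (Scheme.AffineZariskiSite.directedCover X) fun U => ?_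
    show P (pullback.snd (awnι X) U.1.ι)
    rw [← MorphismProperty.cancel_left_of_respectsIso P
      (chart_isPullback X U).flip.isoPullback.hom, IsPullback.isoPullback_hom_snd]
    exact h U
  exact (S0415.result _).2 ⟨key @IsIntegralHom fun U => (hpiece U).1,
    key @UniversallyInjective fun U => (hpiece U).2.1, key @Surjective fun U => (hpiece U).2.2⟩

lemma exists_lift {Y : Scheme.{u}} (π : Y ⟶ X) (hπ : FlatMor.IsUnivHomeo π) :
    ∃ h : awnScheme X ⟶ Y, h ≫ π = awnι X := by
  haveI : IsIntegralHom π := ((S0415.result π).1 hπ).1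
  have hloc : ∀ U : X.AffineZariskiSite, ∃ g : Spec (CommRingCat.of (awn Γ(X, U.1))) ⟶ Y,
      g ≫ π = chart X U ≫ awnι X := by
    intro U
    haveI : IsAffine (π ⁻¹ᵁ U.1 : Y.Opens) := U.2.preimage π
    haveI : IsAffine (U.1 : Scheme.{u}) := U.2
    let r : (π ⁻¹ᵁ U.1 : Scheme.{u}) ⟶ Spec Γ(X, U.1) := (π ∣_ U.1) ≫ U.2.isoSpec.hom
    have hr : FlatMor.IsUnivHomeo r := by
      haveI : MorphismProperty.RespectsIso (FlatMor.IsUnivHomeo.{u}) := by
        unfold FlatMor.IsUnivHomeo; infer_instance
      refine MorphismProperty.RespectsIso.postcomp (P := FlatMor.IsUnivHomeo) _ _ ?_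
      obtain ⟨h1, h2, h3⟩ := (S0415.result π).1 hπ
      exact (S0415.result _).2 ⟨IsZariskiLocalAtTarget.restrict (P := @IsIntegralHom) h1 _,
        IsZariskiLocalAtTarget.restrict (P := @UniversallyInjective) h2 _,
        IsZariskiLocalAtTarget.restrict (P := @Surjective) h3 _⟩
    let Z : Scheme.{u} := (π ⁻¹ᵁ U.1 : Scheme.{u})
    haveI : IsAffine Z := U.2.preimage π
    obtain ⟨φ, hφ⟩ := Spec.map_surjective (Z.isoSpec.inv ≫ r)
    have hUH : UH φ.hom := by
      refine (isUnivHomeo_iff φ.hom).1 ?_
      rw [show Spec.map (CommRingCat.ofHom φ.hom) = Z.isoSpec.inv ≫ r from hφ]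
      haveI : MorphismProperty.RespectsIso (FlatMor.IsUnivHomeo.{u}) := by
        unfold FlatMor.IsUnivHomeo; infer_instance
      exact MorphismProperty.RespectsIso.precomp (P := FlatMor.IsUnivHomeo) _ _ hr
    obtain ⟨χ, hχ, -⟩ := existsUnique_lift _ hUH
    refine ⟨Spec.map (CommRingCat.ofHom χ) ≫ Z.isoSpec.inv ≫ (π ⁻¹ᵁ U.1).ι, ?_⟩
    have e : (π ⁻¹ᵁ U.1).ι ≫ π = r ≫ U.2.fromSpec := by
      rw [Category.assoc, ← IsAffineOpen.isoSpec_inv_ι, Iso.hom_inv_id_assoc, morphismRestrict_ι]
    rw [Category.assoc, Category.assoc, e, ← Category.assoc Z.isoSpec.inv, ← hφ, ← Category.assoc,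
      ← Spec.map_comp, chart_ι]
    congr 2
    exact CommRingCat.hom_ext hχ
  choose g hg using hloc
  let c : Cocone (awnData X).functor :=
    { pt := Y
      ι :=
        { app := g
          naturality := fun U V f => by
            haveI : IsReduced (Spec (CommRingCat.of (awn Γ(X, U.1)))) :=
              (affine_isReduced_iff _).2 (inferInstance : _root_.IsReduced (awn Γ(X, U.1)))
            let m : Spec (CommRingCat.of (awn Γ(X, U.1))) ⟶ Spec (CommRingCat.of (awn Γ(X, V.1))) :=
              (awnData X).functor.map f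
            have hm : m ≫ chart X V = chart X U := colimit.w (awnData X).functor f
            have key : m ≫ g V = g U := hom_ext_of_uh hπ _ _ (by
              rw [Category.assoc, hg V, hg U, ← Category.assoc, hm])
            exact key.trans (Category.comp_id _).symm } }
  let h : awnScheme X ⟶ Y := colimit.desc _ c
  have hdesc : ∀ U, chart X U ≫ h = g U := fun U => colimit.ι_desc c U
  refine ⟨h, colimit.hom_ext fun U => ?_⟩
  show chart X U ≫ h ≫ π = chart X U ≫ awnι X
  rw [← Category.assoc, hdesc]
  exact hg U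

lemma isAWNormalization_awnι : HTop.IsAWNormalization (awnι X) := by
  refine ⟨isUnivHomeo_awnι X, fun Y π hπ => ?_⟩
  obtain ⟨h, hh⟩ := exists_lift X π hπ
  exact ⟨h, hh, fun h' hh' => hom_ext_of_uh hπ h' h (hh'.trans hh.symm)⟩

end Groth.Agent.HTop16
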