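import Groth.Agent.HTop16.Scheme

/-!
Consequences: absolutely weakly normal schemes have no nontrivial reduced universal homeomorphisms.
-/

set_option autoImplicit false
set_option linter.unusedSectionVars false

namespace Groth.Agent.HTop16

universe u

open CategoryTheory CategoryTheory.Limits AlgebraicGeometry UnivHomeo

lemma respectsIso_uh : MorphismProperty.RespectsIso (FlatMor.IsUnivHomeo.{u}) := by
  unfold FlatMor.IsUnivHomeo; infer_instance

lemma isAWN_of_isOpenImmersion {T X : Scheme.{u}} (j : T ⟶ X) [IsOpenImmersion j]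
    (h : HTop.IsAWN X) : HTop.IsAWN T := by
  intro t
  obtain ⟨V, hV⟩ := exists_affine_mem T t
  exact ⟨V, hV, awn_of_equiv (j.appIso V.1).commRingCatIsoToRingEquiv
    (isAWN_affine X h ⟨j ''ᵁ V.1, V.2.image_of_isOpenImmersion j⟩)⟩

lemma isReduced_of_isAWN {X : Scheme.{u}} (h : HTop.IsAWN X) : IsReduced X :=
  isReduced_of_affines X fun V => isReduced_of_seminormal (isAWN_affine X h V).1

lemma isIso_of_isAWN {X Y : Scheme.{u}} (hX : HTop.IsAWN X) (π : Y ⟶ X)
    (hπ : FlatMor.IsUnivHomeo π) [IsReduced Y] : IsIso π := by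
  obtain ⟨h1, h2, h3⟩ := (S0415.result π).1 hπ
  haveI := h1
  haveI := respectsIso_uh.{u}
  show MorphismProperty.isomorphisms Scheme π
  refine IsZariskiLocalAtTarget.of_openCover
    (Scheme.AffineZariskiSite.directedCover X) fun U => ?_
  show MorphismProperty.isomorphisms Scheme (pullback.snd π U.1.ι)
  rw [← MorphismProperty.cancel_left_of_respectsIso (MorphismProperty.isomorphisms Scheme)
    (pullbackRestrictIsoRestrict π U.1).inv]
  show IsIso ((pullbackRestrictIsoRestrict π U.1).inv ≫ pullback.snd π U.1.ι)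
  rw [show (pullbackRestrictIsoRestrict π U.1).inv ≫ pullback.snd π U.1.ι = π ∣_ U.1 from rfl]
  let Z : Scheme.{u} := (π ⁻¹ᵁ U.1 : Scheme.{u})
  haveI : IsAffine (U.1 : Scheme.{u}) := U.2
  haveI : IsAffine Z := U.2.preimage π
  haveI : IsReduced Z := isReduced_of_isOpenImmersion (π ⁻¹ᵁ U.1).ι
  have hres : FlatMor.IsUnivHomeo (π ∣_ U.1) :=
    (S0415.result _).2 ⟨IsZariskiLocalAtTarget.restrict (P := @IsIntegralHom) h1 _,
      IsZariskiLocalAtTarget.restrict (P := @UniversallyInjective) h2 _,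
      IsZariskiLocalAtTarget.restrict (P := @Surjective) h3 _⟩
  obtain ⟨φ, hφ⟩ := Spec.map_surjective (Z.isoSpec.inv ≫ (π ∣_ U.1) ≫ U.2.isoSpec.hom)
  have hUH : UH φ.hom := by
    refine (isUnivHomeo_iff φ.hom).1 ?_
    rw [show Spec.map (CommRingCat.ofHom φ.hom) = _ from hφ]
    exact MorphismProperty.RespectsIso.precomp (P := FlatMor.IsUnivHomeo) _ _
      (MorphismProperty.RespectsIso.postcomp (P := FlatMor.IsUnivHomeo) _ _ hres)
  haveI : IsIso φ := (ConcreteCategory.isIso_iff_bijective _).2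
    (bijective_of_awn (isAWN_affine X hX ⟨U.1, U.2⟩) hUH)
  have : π ∣_ U.1 = Z.isoSpec.hom ≫ Spec.map φ ≫ U.2.isoSpec.inv := by
    rw [hφ, Category.assoc, Category.assoc, Iso.hom_inv_id, Category.comp_id, Iso.hom_inv_id_assoc]
  rw [this]
  infer_instance

lemma exists_iso {X X' : Scheme.{u}} {ν : X' ⟶ X} (hν : HTop.IsAWNormalization ν) :
    ∃ e : X' ≅ awnScheme X, e.hom ≫ awnι X = ν := by
  obtain ⟨a, ha, -⟩ := hν.2 _ (awnι X) (isUnivHomeo_awnι X)
  obtain ⟨b, hb, -⟩ := (isAWNormalization_awnι X).2 X' ν hν.1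
  exact ⟨⟨a, b,
    (hν.2 _ ν hν.1).unique (by rw [Category.assoc, hb, ha]) (Category.id_comp _),
    ((isAWNormalization_awnι X).2 _ _ (isUnivHomeo_awnι X)).unique
      (by rw [Category.assoc, ha, hb]) (Category.id_comp _)⟩, ha⟩

lemma isAWN_of_isAWNormalization {X X' : Scheme.{u}} {ν : X' ⟶ X}
    (hν : HTop.IsAWNormalization ν) : HTop.IsAWN X' := by
  obtain ⟨e, -⟩ := exists_iso hν
  exact isAWN_of_isOpenImmersion e.hom (isAWN_awnScheme X)

end Groth.Agent.HTop16
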