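import Groth.Agent.HTop16.HomEval
import Mathlib.Algebra.Category.ModuleCat.Sheaf.Quasicoherent

/-!
# Finite presentations, in terms of sections
-/

set_option autoImplicit false
set_option backward.isDefEq.respectTransparency false
set_option backward.isDefEq.respectTransparency.types false
set_option linter.all false

universe u

open CategoryTheory CategoryTheory.Limits Opposite

namespace Groth.Agent.HTop16.SecPres

open DerCompLib (Sec secRes secMap Loc)

variable {C : Type u} [SmallCategory C] {J : GrothendieckTopology C} {O : Sheaf J CommRingCat.{u}}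

/-- A presentation of `F` over `U` by sections. -/
structure Pres (F : ModSite.Mod O) (U : C) where
  /-- generators -/
  ι : Type u
  /-- relations -/
  κ : Type u
  [fι : Fintype ι]
  [fκ : Fintype κ]
  /-- the generators -/
  x : ι → Sec F U
  /-- the relations -/
  r : κ → ι → O.obj.obj (op U)
  rel_zero : ∀ j, ∑ i, r j i • x i = 0
  gen : ∀ ⦃W : C⦄ (g : W ⟶ U) (y : Sec F W), Loc J W fun W' h => ∃ c : ι → O.obj.obj (op W'),
    secRes F h y = ∑ i, c i • secRes F (h ≫ g) (x i)
  rel : ∀ ⦃W : C⦄ (g : W ⟶ U) (c : ι → O.obj.obj (op W)), ∑ i, c i • secRes F g (x i) = 0 →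
    Loc J W fun W' h => ∃ d : κ → O.obj.obj (op W'),
      ∀ i, (O.obj.map h.op).hom (c i) = ∑ j, d j * (O.obj.map (h ≫ g).op).hom (r j i)

attribute [instance] Pres.fι Pres.fκ

/-- Coverings of the slice. -/
lemma loc_of_over {U : C} (V : Over U) {P : ∀ ⦃W : Over U⦄, (W ⟶ V) → Prop}
    {Q : ∀ ⦃W : C⦄, (W ⟶ V.left) → Prop} (h : Loc (J.over U) V P)
    (hPQ : ∀ ⦃W : Over U⦄ (g : W ⟶ V), P g → Q g.left) : Loc J V.left Q := by
  obtain ⟨S, hS, hP⟩ := h
  refine ⟨Sieve.overEquiv V S, (J.mem_over_iff S).1 hS, fun W g hg => ?_⟩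
  exact hPQ _ (hP _ ((Sieve.overEquiv_iff S g).1 hg))

variable {D : Type u} [SmallCategory D] {K : GrothendieckTopology D} {O' : Sheaf K CommRingCat.{u}}

/-- The free module. -/
noncomputable abbrev fr (I : Type u) : ModSite.Mod O' := SheafOfModules.free (R := ModSite.ringSh O') I

/-- The tautological sections. -/
noncomputable def eSec {I : Type u} (i : I) (V : D) : Sec (fr (O' := O') I) V :=
  secMap (SheafOfModules.ιFree (R := ModSite.ringSh O') i : ModSite.unit O' ⟶ fr I) V (1 : O'.obj.obj (op V))

open Classical in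
/-- The coordinates. -/
noncomputable def coord {I : Type u} (i : I) : fr (O' := O') I ⟶ ModSite.unit O' :=
  Sigma.desc fun j => if j = i then 𝟙 _ else 0

/-- A section of a finite free module is the combination of its coordinates. -/
lemma eq_sum_coord {I : Type u} [Fintype I] (V : D) (σ : Sec (fr (O' := O') I) V) :
    σ = ∑ i, (secMap (coord i) V σ : O'.obj.obj (op V)) • eSec i V := by
  classical
  have h : ∑ i : I, coord (O' := O') i ≫ SheafOfModules.ιFree (R := ModSite.ringSh O') i = 𝟙 (fr I) := by
    refine Cofan.IsColimit.hom_ext (SheafOfModules.isColimitFreeCofan I) _ _ fun j => ?_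
    rw [SheafOfModules.freeCofan_inj, Preadditive.comp_sum]
    refine Eq.trans ?_ (Category.comp_id _).symm
    have e : ∀ i : I, SheafOfModules.ιFree j ≫ coord (O' := O') i ≫ SheafOfModules.ιFree i =
        if j = i then (SheafOfModules.ιFree (R := ModSite.ringSh O') i) else 0 := fun i => by
      refine (Sigma.ι_desc_assoc _ _ _).trans ?_
      split_ifs with h
      · exact Category.id_comp _
      · exact zero_comp
    refine (Finset.sum_congr rfl fun i _ => e i).trans ?_
    simp
  let ev : (fr (O' := O') I ⟶ fr I) →+ Sec (fr (O' := O') I) V :=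
    AddMonoidHom.mk' (fun q => secMap q V σ) fun q q' => rfl
  refine ((congrArg ev h).symm.trans (map_sum ev _ _)).trans (Finset.sum_congr rfl fun i _ => ?_)
  show secMap (SheafOfModules.ιFree (R := ModSite.ringSh O') i : ModSite.unit O' ⟶ fr I) V (secMap (coord i) V σ) = _
  rw [eSec, ← map_smul]
  exact congrArg _ (mul_one (M := O'.obj.obj (op V)) (secMap (coord i) V σ)).symm

lemma secRes_eSec {I : Type u} (i : I) {V W : D} (g : W ⟶ V) :
    secRes (fr (O' := O') I) g (eSec i V) = eSec i W :=
  (DerCompLib.secMap_secRes _ g _).symm.trans (congrArg _ (map_one (O'.obj.map g.op).hom))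

set_option maxHeartbeats 1600000 in
/-- A finite presentation on the slice gives a presentation by sections. -/
theorem nonempty_pres {F : ModSite.Mod O} {U : C}
    (P : SheafOfModules.Presentation (R := ModSite.ringSh (O.over U)) ((ModSite.restr O U).obj F))
    [Finite P.generators.I] [Finite P.relations.I] : Nonempty (Pres F U) := by
  classical
  let M : ModSite.Mod (O.over U) := (ModSite.restr O U).obj F
  haveI := Fintype.ofFinite P.generators.I
  haveI := Fintype.ofFinite P.relations.I
  let π : fr (O' := O.over U) P.generators.I ⟶ M := P.generators.π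
  let φ : fr (O' := O.over U) P.relations.I ⟶ fr P.generators.I :=
    (SheafOfModules.freeHomEquiv _).symm P.relations.s ≫ kernel.ι _
  have w : φ ≫ π = 0 := by
    show ((SheafOfModules.freeHomEquiv _).symm P.relations.s ≫ kernel.ι _) ≫ _ = 0
    rw [Category.assoc]
    exact (congrArg (_ ≫ ·) (kernel.condition _)).trans comp_zero
  have hex : (ShortComplex.mk φ π w).Exact := ShortComplex.exact_of_g_is_cokernel _ P.isColimit
  haveI : Epi π := P.generators.epi
  let T : Over U := Over.mk (𝟙 U)
  let tg : ∀ {W : C} (g : W ⟶ U), (Over.mk g : Over U) ⟶ T := fun g => Over.homMk g (Category.comp_id g)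
  have hπ : ∀ {W : C} (g : W ⟶ U) (i : P.generators.I),
      secMap π (Over.mk g) (eSec i (Over.mk g)) = secRes F g (secMap π T (eSec i T) : Sec F U) := fun g i => by
    refine Eq.trans ?_ (DerCompLib.secMap_secRes π (tg g) (eSec i T))
    rw [secRes_eSec]
  have hφ : ∀ {W : C} (g : W ⟶ U) (i : P.generators.I) (j : P.relations.I),
      (secMap (coord i) (Over.mk g) (secMap φ (Over.mk g) (eSec j (Over.mk g))) : O.obj.obj (op W)) =
        (O.obj.map g.op).hom (secMap (coord i) T (secMap φ T (eSec j T)) : O.obj.obj (op U)) := fun g i j => by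
    refine Eq.trans ?_ ((DerCompLib.secMap_secRes (coord i) (tg g) (secMap φ T (eSec j T))).trans rfl)
    rw [← DerCompLib.secMap_secRes, secRes_eSec]
  refine ⟨{
    ι := P.generators.I
    κ := P.relations.I
    x := fun i => secMap π T (eSec i T)
    r := fun j i => secMap (coord i) T (secMap φ T (eSec j T))
    rel_zero := fun j => ?_
    gen := fun W g y => ?_
    rel := fun W g c hc => ?_ }⟩
  · show ∑ i, (secMap (coord i) T (secMap φ T (eSec j T)) : O.obj.obj (op U)) • (secMap π T (eSec i T) : Sec M T) = 0
    have h := congrArg (secMap π T) (eq_sum_coord T (secMap φ T (eSec j T)))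
    rw [map_sum] at h
    refine Eq.trans (Finset.sum_congr rfl fun i _ => ((secMap π T).map_smul _ _).symm) (h.symm.trans ?_)
    rw [← DerCompLib.secMap_comp, w]
    rfl
  · refine loc_of_over (Over.mk g) (DerCompLib.exists_local_preimage π (X := Over.mk g) (y : Sec M (Over.mk g))) ?_
    rintro W' h ⟨σ, hσ⟩
    refine ⟨fun i => secMap (coord i) W' σ, hσ.symm.trans ?_⟩
    have e := congrArg (secMap π W') (eq_sum_coord W' σ)
    rw [map_sum] at e
    refine e.trans (Finset.sum_congr rfl fun i _ => ?_)
    rw [map_smul]
    have e₂ : secMap π W' (eSec i W') = secRes M (h ≫ tg g) (secMap π T (eSec i T)) := by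
      rw [← DerCompLib.secMap_secRes, secRes_eSec]
    rw [e₂]
    rfl
  · let b : Sec (fr (O' := O.over U) P.generators.I) (Over.mk g) :=
      ∑ i, ((c i : (O.over U).obj.obj (op (Over.mk g)))) • eSec i (Over.mk g)
    have hb : secMap π (Over.mk g) b = 0 := by
      refine Eq.trans ((map_sum _ _ _).trans (Finset.sum_congr rfl fun i _ => ?_)) hc
      rw [map_smul, hπ]
    refine loc_of_over (Over.mk g) (DerCompLib.exists_local_boundary hex (X := Over.mk g) b hb) ?_
    rintro W' h ⟨a, ha⟩
    refine ⟨fun j => secMap (coord j) W' a, fun i => ?_⟩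
    have e := congrArg (secMap (coord i) W') ha
    have ec : secMap (coord i) W' (secRes _ h b) =
        ((O.over U).obj.map h.op).hom (c i : (O.over U).obj.obj (op (Over.mk g))) := by
      rw [DerCompLib.secMap_secRes]
      refine congrArg (secRes (ModSite.unit (O.over U)) h) ?_
      refine (map_sum _ _ _).trans ?_
      rw [Finset.sum_eq_single i]
      · rw [map_smul, eSec, ← DerCompLib.secMap_comp]
        refine Eq.trans ?_ (mul_one (M := O.obj.obj (op W)) (c i))
        refine congrArg (fun t : O.obj.obj (op W) => c i * t) ?_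
        rw [show (SheafOfModules.ιFree i ≫ coord (O' := O.over U) i) = 𝟙 _ from
          (Sigma.ι_desc _ _).trans (if_pos rfl)]
        rfl
      · intro j _ hj
        rw [map_smul, eSec, ← DerCompLib.secMap_comp, show (SheafOfModules.ιFree j ≫ coord (O' := O.over U) i) = 0 from
          (Sigma.ι_desc _ _).trans (if_neg hj)]
        exact smul_zero _
      · exact fun hi => absurd (Finset.mem_univ i) hi
    refine ec.symm.trans (e.symm.trans ?_)
    conv_lhs => rw [eq_sum_coord W' a]
    rw [map_sum, map_sum]
    refine Finset.sum_congr rfl fun j _ => ?_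
    rw [map_smul, map_smul]
    refine congrArg (HMul.hMul (α := O.obj.obj (op W'.left)) (β := O.obj.obj (op W'.left)) (γ := O.obj.obj (op W'.left)) (secMap (coord j) W' a)) ?_
    rw [← secRes_eSec j (h ≫ tg g), DerCompLib.secMap_secRes, DerCompLib.secMap_secRes]
    rfl

end Groth.Agent.HTop16.SecPres
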