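import Groth.Agent.HTop16.TotAcFlasque
import Groth.Agent.SiteDer16.ModAcyclic
import Groth.Agent.SiteCoh.PushExact
import Groth.Agent.ExtSS.QuotZ
import Groth.Agent.EtCmp.RDeg

/-!
# Sections with support and totally acyclic modules
-/

set_option autoImplicit false
set_option backward.isDefEq.respectTransparency false

universe u

open CategoryTheory CategoryTheory.Limits CategoryTheory.Abelian Opposite
open Groth.Agent.DerCompLib

namespace Groth.Agent.HTop16.SectOn

variable {C : Type u} [SmallCategory C] {J : GrothendieckTopology C} {O : Sheaf J CommRingCat.{u}}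
  (U : C)

section Kills

/-- Products of sections over all objects over `U` and over the given one. -/
noncomputable def uAb (G : ModSite.Mod O) : Cᵒᵖ ⥤ AddCommGrpCat.{u} where
  obj V := AddCommGrpCat.of (∀ t : (W : C) × (W ⟶ V.unop) × (W ⟶ U), Sec G t.1)
  map {V W} k := AddCommGrpCat.ofHom (AddMonoidHom.mk'
    (fun m t => m ⟨t.1, t.2.1 ≫ k.unop, t.2.2⟩) fun a b => rfl)
  map_id V := by
    refine AddCommGrpCat.hom_ext (AddMonoidHom.ext fun m => funext fun t => ?_)
    exact congrArg (β := Sec G t.1) (fun g : t.1 ⟶ V.unop => m ⟨t.1, g, t.2.2⟩) (Category.comp_id t.2.1)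
  map_comp {V W T} f g := by
    refine AddCommGrpCat.hom_ext (AddMonoidHom.ext fun m => funext fun t => ?_)
    exact congrArg (β := Sec G t.1) (fun h : t.1 ⟶ V.unop => m ⟨t.1, h, t.2.2⟩) (Category.assoc t.2.1 g.unop f.unop).symm

/-- The presheaf of modules on `uAb`. -/
noncomputable def uPre (G : ModSite.Mod O) : ModSite.preMod O :=
  letI : ∀ V : Cᵒᵖ, Module ((O.obj ⋙ forget₂ CommRingCat.{u} RingCat.{u}).obj V) ((uAb U G).obj V) :=
    fun V =>
    letI : ∀ t : (W : C) × (W ⟶ V.unop) × (W ⟶ U), Module (O.obj.obj V) (Sec G t.1) := fun t =>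
      Module.compHom (Sec G t.1) (O.obj.map t.2.1.op).hom
    inferInstanceAs (Module (O.obj.obj V) (∀ t : (W : C) × (W ⟶ V.unop) × (W ⟶ U), Sec G t.1))
  PresheafOfModules.ofPresheaf (uAb U G) fun {V W} k r m => funext fun t => by
    change (O.obj.map (t.2.1 ≫ k.unop).op).hom r • m ⟨t.1, t.2.1 ≫ k.unop, t.2.2⟩ =
      (O.obj.map t.2.1.op).hom ((O.obj.map k).hom r) • m ⟨t.1, t.2.1 ≫ k.unop, t.2.2⟩
    rw [op_comp, Functor.map_comp, CommRingCat.hom_comp]
    rfl

/-- Restriction to all objects over `U`. -/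
noncomputable def toU (G : ModSite.Mod O) : (ModSite.toPre O).obj G ⟶ uPre U G :=
  PresheafOfModules.homMk
    { app := fun V => AddCommGrpCat.ofHom (X := G.val.obj V)
        (AddMonoidHom.mk' (fun x t => secRes G t.2.1 x) fun x y => funext fun t => map_add _ x y)
      naturality := fun V W k => by
        refine AddCommGrpCat.hom_ext (AddMonoidHom.ext fun x => funext fun t => ?_)
        exact (G.val.map_comp_apply k t.2.1.op x).symm }
    fun V r x => funext fun t => secRes_smul G t.2.1 r x

/-- The map to the sheafification. -/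
noncomputable def uMap (G : ModSite.Mod O) : G ⟶ (ModSite.shPre O).obj (uPre U G) :=
  ⟨toU U G ≫ (SiteTen.shAdj O).unit.app (uPre U G)⟩

theorem uMap_sec (G : ModSite.Mod O) (V : C) (x : Sec G V) :
    secMap (uMap U G) V x = (toSheafify J (uAb U G)).app (op V) (fun t => secRes G t.2.1 x) := rfl

/-- A section killed on all objects over `U`. -/
def Kills {G : ModSite.Mod O} {V : C} (x : Sec G V) : Prop :=
  ∀ ⦃W : C⦄ (g : W ⟶ V), (W ⟶ U) → secRes G g x = 0

theorem kills_of_uMap_eq_zero {G : ModSite.Mod O} {V : C} (x : Sec G V)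
    (h : secMap (uMap U G) V x = 0) : Kills U x := by
  intro W g k
  have h' : (toSheafify J (uAb U G)).app (op V) (fun t => secRes G t.2.1 x) =
      (toSheafify J (uAb U G)).app (op V) 0 :=
    (uMap_sec U G V x).symm.trans (h.trans (map_zero _).symm)
  have hS := Presheaf.equalizerSieve_mem J (toSheafify J (uAb U G)) (X := op V) _ _ h'
  refine ExtSS.sec_ext _ 0 _ (J.pullback_stable g hS) fun W' q hq => ?_
  rw [map_zero]
  have h2 := congrFun (show ((uAb U G).map (q ≫ g).op (fun t => secRes G t.2.1 x) :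
    (∀ t : (W'' : C) × (W'' ⟶ W') × (W'' ⟶ U), Sec G t.1)) = _ from hq) ⟨W', 𝟙 _, q ≫ k⟩
  change secRes G (𝟙 W' ≫ q ≫ g) x = 0 at h2
  rw [Category.id_comp] at h2
  exact (G.val.map_comp_apply g.op q.op x).symm.trans h2

variable [ModSite.HasPushOver O U]

/-- Sections with support are the sections killed on all objects over `U`. -/
theorem mem_sectOn_iff {G : ModSite.Mod O} {V : C} (x : Sec G V) :
    (∃ z : Sec ((ModSite.sectOn O U).obj G) V, secMap ((ModSite.sectOnι O U).app G) V z = x) ↔
      Kills U x := by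
  constructor
  · rintro ⟨z, rfl⟩ W g k
    refine (secMap_secRes _ g z).symm.trans ?_
    rw [ExtSS.isNullOn_sec U (ExtSS.isNullOn_sectOn U G) k (secRes _ g z)]
    exact map_zero _
  · intro h
    have hmono : Mono (kernel.ι (uMap U G)).val := (SheafOfModules.forget _).map_mono _
    have hinj : ∀ W, Function.Injective (secMap (kernel.ι (uMap U G)) W) := fun W =>
      (ModuleCat.mono_iff_injective ((kernel.ι (uMap U G)).val.app (op W))).1
        ((PresheafOfModules.evaluation (ModSite.ringSh O).obj (op W)).map_mono (kernel.ι (uMap U G)).val)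
    have hK : ModSite.IsNullOn O U (kernel (uMap U G)) := by
      rw [ExtSupp.isNullOn_iff]
      intro W k z
      refine hinj W ?_
      have h0 : secMap (uMap U G) W (secMap (kernel.ι (uMap U G)) W z) = 0 := by
        rw [← secMap_comp, kernel.condition]
        rfl
      have := kills_of_uMap_eq_zero U _ h0 (𝟙 W) k
      refine Eq.trans ?_ (this.trans (map_zero (secMap (kernel.ι (uMap U G)) W)).symm)
      exact ((G.val.congr_map_apply (op_id (X := W)) _).trans
        (LinearMap.congr_fun (congrArg ModuleCat.Hom.hom (G.val.map_id _)) _)).symm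
    have hx : secMap (uMap U G) V x = 0 := by
      rw [uMap_sec]
      have : (fun t => secRes G t.2.1 x : (∀ t : (W : C) × (W ⟶ V) × (W ⟶ U), Sec G t.1)) = 0 :=
        funext fun t => h t.2.1 t.2.2
      rw [this]
      exact map_zero ((toSheafify J (uAb U G)).app (op V)).hom
    let ψ := (secEquiv V G).symm x
    have hψ : ψ ≫ uMap U G = 0 := (secEquiv V _).injective (by
      rw [secEquiv_comp, AddEquiv.apply_symm_apply, map_zero]
      exact hx)
    refine ⟨secMap (kernel.lift _ (kernel.ι (uMap U G)) (ExtSS.comp_unit_eq_zero U hK _)) V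
      (secEquiv V _ (kernel.lift _ ψ hψ)), ?_⟩
    refine (secMap_comp _ _ V _).symm.trans ?_
    rw [ExtSS.sectOnι_lift U hK, ← secEquiv_comp, kernel.lift_ι]
    exact AddEquiv.apply_symm_apply _ _

omit [ModSite.HasPushOver O U] in
theorem injective_secMap {F G : ModSite.Mod O} (q : F ⟶ G) [Mono q] (V : C) :
    Function.Injective (secMap q V) :=
  haveI : Mono q.val := (SheafOfModules.forget _).map_mono q
  (ModuleCat.mono_iff_injective (q.val.app (op V))).1
    ((PresheafOfModules.evaluation (ModSite.ringSh O).obj (op V)).map_mono q.val)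

instance (G : ModSite.Mod O) : Mono ((ModSite.sectOnι O U).app G) :=
  inferInstanceAs (Mono (kernel.ι _))

end Kills

variable [ModSite.HasPushOver O U]

/-- Sections with support of a quotient of totally acyclic modules. -/
theorem epi_sectOn_map {S : ShortComplex (ModSite.Mod O)} (hS : S.ShortExact)
    (h₁ : CohCx.IsTotallyAcyclic (ModSite.toAb S.X₁)) : Epi ((ModSite.sectOn O U).map S.g) := by
  haveI := SiteDer16.preservesFiniteColimits_toSheaf (ModSite.ringSh O)
  have hT : (S.map (SheafOfModules.toSheaf (ModSite.ringSh O))).ShortExact := hS.map_of_exact _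
  haveI := hS.mono_f
  have key : ∀ V, Function.Surjective (secMap ((ModSite.sectOn O U).map S.g) V) := by
    intro V z
    have hx := (mem_sectOn_iff U _).1 ⟨z, rfl⟩
    obtain ⟨y₀, hy₀⟩ : ∃ y₀ : Sec S.X₂ V, secMap S.g V y₀ =
        secMap ((ModSite.sectOnι O U).app S.X₃) V z := SiteCoh.surjective_sections_of_subsingleton hT V
      (TotAcFlasque.subsingleton_ext_aF h₁ (yoneda.obj V) 0)
      (secMap ((ModSite.sectOnι O U).app S.X₃) V z)
    let T : Sieve V :=
      { arrows := fun W _ => Nonempty (W ⟶ U)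
        downward_closed := fun ⟨k⟩ l => ⟨l ≫ k⟩ }
    have ha : ∀ (W : C) (g : W ⟶ V), T g → ∃ a : Sec S.X₁ W,
        secMap S.f W a = secRes S.X₂ g y₀ := fun W g ⟨k⟩ =>
      SiteCoh.sections_exact hT W _ ((secMap_secRes S.g g y₀).trans
        ((congrArg (secRes S.X₃ g) hy₀).trans (hx g k)))
    choose a ha using ha
    let τ : T.functor ⟶ (ModSite.toAb S.X₁).obj ⋙ forget AddCommGrpCat.{u} :=
      { app := fun W => TypeCat.ofHom fun g => a W.unop g.1 g.2
        naturality := fun W W' l => by
          ext g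
          refine injective_secMap S.f W'.unop ?_
          refine (ha _ _ _).trans ?_
          refine Eq.trans ?_ (secMap_secRes S.f l.unop (a W.unop g.1 g.2)).symm
          rw [ha]
          exact S.X₂.val.map_comp_apply g.1.op l y₀ }
    obtain ⟨ψ, hψ⟩ := TotAcFlasque.exists_extension h₁ T.functorInclusion
      ((SiteDer16.freeAbHomEquiv T.functor _).symm τ)
    have hψ' : T.functorInclusion ≫ SiteDer16.freeAbHomEquiv (yoneda.obj V) _ ψ = τ :=
      (ExtSS.freeAbHomEquiv_pre J T.functorInclusion _ ψ).symm.trans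
        ((congrArg _ hψ).trans (Equiv.apply_symm_apply _ τ))
    let A : Sec S.X₁ V := yonedaEquiv (SiteDer16.freeAbHomEquiv (yoneda.obj V) _ ψ)
    have hA : ∀ (W : C) (g : W ⟶ V) (hg : T g), secRes S.X₁ g A = a W g hg := fun W g hg =>
      (NatTrans.naturality_apply (SiteDer16.freeAbHomEquiv (yoneda.obj V) (ModSite.toAb S.X₁) ψ)
          g.op (𝟙 V)).symm.trans
        ((congrArg ((SiteDer16.freeAbHomEquiv (yoneda.obj V) (ModSite.toAb S.X₁) ψ).app (op W))
          (Category.comp_id g)).trans
          (ConcreteCategory.congr_hom (NatTrans.congr_app hψ' (op W))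
            (⟨g, hg⟩ : {g // T.arrows g})))
    obtain ⟨w, hw⟩ := (mem_sectOn_iff U (y₀ - secMap S.f V A)).2 fun W g k => by
      rw [map_sub, ← secMap_secRes, hA W g ⟨k⟩, ha, sub_self]
    refine ⟨w, injective_secMap ((ModSite.sectOnι O U).app S.X₃) V ?_⟩
    refine ((secMap_comp _ _ V w).symm.trans ?_)
    rw [(ModSite.sectOnι O U).naturality S.g, secMap_comp, hw]
    change secMap S.g V (y₀ - secMap S.f V A) = _
    rw [map_sub, ← secMap_comp, S.zero, secMap_zero, sub_zero]
    exact hy₀
  refine ⟨fun a b h => SheafOfModules.hom_ext (PresheafOfModules.hom_ext fun V => ?_)⟩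
  refine ModuleCat.hom_ext (LinearMap.ext fun z => ?_)
  obtain ⟨w, rfl⟩ := key V.unop z
  exact congrArg (fun m => secMap m V.unop w) h

/-- Totally acyclic modules are acyclic for sections with support. -/
theorem isZero_HZsh [HasInjectiveResolutions (ModSite.Mod O)] (M : ModSite.Mod O)
    (hM : CohCx.IsTotallyAcyclic (ModSite.toAb M)) (q : ℕ) :
    IsZero ((ModSite.HZsh O U (q + 1)).obj M) := by
  haveI : EnoughInjectives (ModSite.Mod O) :=
    haveI := DCat.sheafOfModules_isGrothendieckAbelian J (ModSite.ringSh O)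
    inferInstance
  haveI : (ModSite.sectOn O U).IsRightAdjoint := (ExtSS.quotSectAdj U).isRightAdjoint
  haveI : PreservesFiniteLimits (ModSite.sectOn O U) := ⟨fun _ _ _ => inferInstance⟩
  refine EtCmp.isZero_rightDerived_of_class (ModSite.sectOn O U)
    (fun A => CohCx.IsTotallyAcyclic (ModSite.toAb A)) (fun A hA => ?_) q M hM
  let S := ShortComplex.mk (Injective.ι A) (cokernel.π (Injective.ι A)) (cokernel.condition _)
  have hS : S.ShortExact :=
    { exact := ShortComplex.exact_cokernel _
      mono_f := inferInstanceAs (Mono (Injective.ι A))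
      epi_g := inferInstanceAs (Epi (cokernel.π _)) }
  refine ⟨S, hS, ⟨Iso.refl _⟩, fun n hn => ?_, epi_sectOn_map U hS hA, ?_⟩
  · obtain ⟨k, rfl⟩ := Nat.exists_eq_add_of_le' hn
    haveI : Injective S.X₂ := inferInstanceAs (Injective (Injective.under A))
    exact Functor.isZero_rightDerived_obj_injective_succ _ k S.X₂
  · haveI := SiteDer16.preservesFiniteColimits_toSheaf (ModSite.ringSh O)
    exact TotAcFlasque.isTotallyAcyclic_X₃ (hS.map_of_exact (SheafOfModules.toSheaf _)) hA
      (SiteDer16.ModAcyclic.isTotallyAcyclic_toSheaf _ (Injective.under A))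

omit [ModSite.HasPushOver O U] in
/-- Totally acyclic modules have no higher cohomology with supports. -/
theorem subsingleton_HZ (M : ModSite.Mod O) (hM : CohCx.IsTotallyAcyclic (ModSite.toAb M)) (q : ℕ) :
    Subsingleton (ModSite.HZ U M (q + 1)) := by
  let f := ExtSS.toTop J U
  let i := (Subfunctor.range f).ι
  have e : (TotAcFlasque.aF J).map f =
      (TotAcFlasque.aF J).map (Subfunctor.toRange f) ≫ (TotAcFlasque.aF J).map i := by
    rw [← Functor.map_comp, Subfunctor.toRange_ι]
  haveI : (TotAcFlasque.aF J).IsLeftAdjoint := (((AddCommGrpCat.adj.{u}).whiskerRight Cᵒᵖ).comp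
    (sheafificationAdjunction J AddCommGrpCat.{u})).isLeftAdjoint
  haveI : Epi ((TotAcFlasque.aF J).map (Subfunctor.toRange f)) := inferInstance
  haveI := TotAcFlasque.subsingleton_ext_cokernel hM i q
  exact SiteCoh.subsingleton_ext_of_iso (Y := ModSite.toAb M)
    (X' := ToposFin.quotZ (ToposFin.eps J U)) (X := cokernel ((TotAcFlasque.aF J).map i))
    ((ExtSS.quotZIso J U).symm ≪≫ PreservesCokernel.iso (presheafToSheaf J AddCommGrpCat.{u}) _ ≪≫
      cokernelIsoOfEq e ≪≫ cokernelEpiComp _ _) (q + 1)

end Groth.Agent.HTop16.SectOn
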