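import Groth.Agent.HTop16.SectOn
import Groth.Agent.SiteHom16.Basic
import Groth.Agent.SiteCoh.Derived
import Groth.Agent.DerCompLib.ExtZero

/-!
# Local cohomology sheaves commute with localisation
-/

set_option autoImplicit false
set_option backward.isDefEq.respectTransparency false

universe u

open CategoryTheory CategoryTheory.Limits Opposite
open Groth.Agent.DerCompLib

namespace Groth.Agent.HTop16.SectOn

variable {C : Type u} [SmallCategory C] {J : GrothendieckTopology C} {O : Sheaf J CommRingCat.{u}}

theorem isIso_of_bijective_secMap {F G : ModSite.Mod O} (q : F ⟶ G)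
    (h : ∀ V, Function.Bijective (secMap q V)) : IsIso q := by
  have : IsIso q.val := by
    have : ∀ V, IsIso (((PresheafOfModules.toPresheaf _).map q.val).app V) :=
      fun V => (ConcreteCategory.isIso_iff_bijective _).2 (h V.unop)
    have : IsIso ((PresheafOfModules.toPresheaf _).map q.val) := NatIso.isIso_of_isIso_app _
    exact isIso_of_reflects_iso q.val (PresheafOfModules.toPresheaf _)
  have : IsIso ((SheafOfModules.forget (ModSite.ringSh O)).map q) := this
  exact isIso_of_reflects_iso q (SheafOfModules.forget _)

variable (U X : C) [HasBinaryProducts C]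

/-- The open of `C/X` cut out by `U`. -/
noncomputable abbrev uOver : Over X := Over.mk (Limits.prod.snd : U ⨯ X ⟶ X)

variable [ModSite.HasPushOver (O.over X) (uOver U X)]

theorem isNullOn_restr_sectOn (M : ModSite.Mod O) :
    ModSite.IsNullOn (O.over X) (uOver U X) ((ModSite.restr O X).obj ((ModSite.sectOn O U).obj M)) := by
  rw [ExtSupp.isNullOn_iff]
  intro V k x
  exact ExtSS.isNullOn_sec U (ExtSS.isNullOn_sectOn U M) (k.left ≫ Limits.prod.fst) x

/-- Restriction of the sections with support. -/
noncomputable def restrSectOnHom (M : ModSite.Mod O) :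
    (ModSite.restr O X).obj ((ModSite.sectOn O U).obj M) ⟶
      (ModSite.sectOn (O.over X) (uOver U X)).obj ((ModSite.restr O X).obj M) :=
  kernel.lift _ ((ModSite.restr O X).map ((ModSite.sectOnι O U).app M))
    (ExtSS.comp_unit_eq_zero _ (isNullOn_restr_sectOn U X M) _)

theorem restrSectOnHom_ι (M : ModSite.Mod O) :
    restrSectOnHom U X M ≫ (ModSite.sectOnι (O.over X) (uOver U X)).app ((ModSite.restr O X).obj M) =
      (ModSite.restr O X).map ((ModSite.sectOnι O U).app M) :=
  kernel.lift_ι _ _ _

instance (M : ModSite.Mod O) : IsIso (restrSectOnHom U X M) := by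
  refine isIso_of_bijective_secMap _ fun V => ⟨fun a b h => ?_, fun z => ?_⟩
  · refine injective_secMap ((ModSite.sectOnι O U).app M) V.left ?_
    have := congrArg (secMap ((ModSite.sectOnι (O.over X) (uOver U X)).app
      ((ModSite.restr O X).obj M)) V) h
    rw [← secMap_comp, ← secMap_comp, restrSectOnHom_ι] at this
    exact this
  · have hx := (mem_sectOn_iff (uOver U X) _).1 ⟨z, rfl⟩
    obtain ⟨w, hw⟩ := (mem_sectOn_iff U (G := M) (V := V.left)
      (secMap ((ModSite.sectOnι (O.over X) (uOver U X)).app ((ModSite.restr O X).obj M)) V z)).2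
      fun W g k => hx (W := Over.mk (g ≫ V.hom)) (Over.homMk g rfl)
        (Over.homMk (prod.lift k (g ≫ V.hom)) (prod.lift_snd _ _))
    refine ⟨w, injective_secMap ((ModSite.sectOnι (O.over X) (uOver U X)).app
      ((ModSite.restr O X).obj M)) V ?_⟩
    rw [← secMap_comp, restrSectOnHom_ι]
    exact hw

/-- Sections with support commute with localisation. -/
noncomputable def restrSectOnIso :
    ModSite.sectOn O U ⋙ ModSite.restr O X ≅
      ModSite.restr O X ⋙ ModSite.sectOn (O.over X) (uOver U X) :=
  NatIso.ofComponents (fun M => asIso (restrSectOnHom U X M)) fun {M N} φ => by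
    refine (cancel_mono ((ModSite.sectOnι (O.over X) (uOver U X)).app
      ((ModSite.restr O X).obj N))).1 ?_
    simp only [Functor.comp_map, asIso_hom, Category.assoc, restrSectOnHom_ι]
    rw [← Functor.map_comp, (ModSite.sectOnι O U).naturality φ, Functor.map_comp,
      (ModSite.sectOnι (O.over X) (uOver U X)).naturality ((ModSite.restr O X).map φ),
      ← Category.assoc, restrSectOnHom_ι]
    rfl

/-- Local cohomology sheaves commute with localisation. -/
theorem nonempty_HZsh_restr [HasInjectiveResolutions (ModSite.Mod O)]
    [HasInjectiveResolutions (ModSite.Mod (O.over X))] (q : ℕ) :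
    Nonempty (ModSite.HZsh O U q ⋙ ModSite.restr O X ≅
      ModSite.restr O X ⋙ ModSite.HZsh (O.over X) (uOver U X) q) := by
  haveI := DerCompLib.hasPushOver O X
  haveI : (ModSite.restr O X).IsRightAdjoint := (ModSite.extZeroAdj O X).isRightAdjoint
  haveI : PreservesFiniteLimits (ModSite.restr O X) := inferInstance
  haveI : PreservesFiniteColimits (ModSite.restr O X) := inferInstance
  exact ⟨(SiteCoh.rightDerivedCompExactIso (ModSite.sectOn O U) (ModSite.restr O X) q).symm ≪≫
    SiteCoh.rightDerivedCongr (restrSectOnIso U X) q ≪≫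
      SiteCoh.rightDerivedExactCompIso (ModSite.restr O X) (ModSite.sectOn _ (uOver U X)) q⟩

end Groth.Agent.HTop16.SectOn
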