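import Groth.Agent.HTop16.DerivedSES
import Groth.Agent.HTop16.SectOnRestr
import Groth.Agent.SiteCoh.Cohomology
import Mathlib.Algebra.Category.ModuleCat.Sheaf.Abelian

/-!
# Local cohomology sheaves and higher direct images from a subterminal object
-/

set_option autoImplicit false
set_option backward.isDefEq.respectTransparency false

universe u

open CategoryTheory CategoryTheory.Limits Opposite DirectSum
open Groth.Agent.DerCompLib

namespace Groth.Agent.HTop16.SectOn

variable {C : Type u} [SmallCategory C] {J : GrothendieckTopology C} {O : Sheaf J CommRingCat.{u}}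
  (U : C) (hU : ∀ V : C, Subsingleton (V ⟶ U))
include hU

theorem mono_sumCounit (M : PresheafOfModules.{u} (ModSite.ringSh O).obj) :
    Mono ((sumAdj (ModSite.ringSh O).obj U).counit.app M) := by
  classical
  refine PresheafOfModules.mono_of_injective fun V => (injective_iff_map_eq_zero _).2 fun x hx => ?_
  rcases isEmpty_or_nonempty (V.unop ⟶ U) with h | h
  · exact DFinsupp.ext fun φ => h.elim φ
  · obtain ⟨φ⟩ := h
    obtain ⟨y, rfl⟩ : ∃ y, (sumIncl ((preRestr (ModSite.ringSh O).obj U).obj M) V φ).hom y = x :=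
      ⟨(show (⨁ ψ : V.unop ⟶ U, (summand ((preRestr (ModSite.ringSh O).obj U).obj M) V ψ : Type u))
        from x) φ, DFinsupp.ext fun φ' => by
        obtain rfl : φ = φ' := @Subsingleton.elim _ (hU V.unop) _ _
        convert DirectSum.of_eq_same (β := fun ψ => (summand ((preRestr (ModSite.ringSh O).obj U).obj M) V ψ : Type u)) φ _ using 1
        simp only [sumIncl, ModuleCat.hom_ofHom, DirectSum.lof_eq_of]
        congr!⟩
    have : y = 0 := (sumHomInv_incl ((preRestr (ModSite.ringSh O).obj U).obj M) M (𝟙 _) V φ y).symm.trans hx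
    rw [this, map_zero]

theorem exists_extension (N I : ModSite.Mod O) [Injective I]
    (ψ : (ModSite.restr O U).obj N ⟶ (ModSite.restr O U).obj I) :
    ∃ χ : N ⟶ I, (ModSite.restr O U).map χ = ψ := by
  haveI : Injective I.val :=
    Injective.injective_of_adjoint
      (PresheafOfModules.sheafificationAdjunction (𝟙 (ModSite.ringSh O).obj)) I
  let adj := sumAdj (ModSite.ringSh O).obj U
  haveI hm : Mono (adj.counit.app N.val) := mono_sumCounit U hU N.val
  let β := (adj.homEquiv ((preRestr (ModSite.ringSh O).obj U).obj N.val) I.val).symm ψ.val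
  refine ⟨⟨@Injective.factorThru _ _ _ _ _ _ β (adj.counit.app N.val) hm⟩, SheafOfModules.hom_ext ?_⟩
  change (preRestr (ModSite.ringSh O).obj U).map (@Injective.factorThru _ _ _ _ _ _ β (adj.counit.app N.val) hm) = ψ.val
  apply (adj.homEquiv _ _).symm.injective
  rw [Adjunction.homEquiv_counit]
  refine Eq.trans (adj.counit.naturality _) ?_
  exact @Injective.comp_factorThru _ _ _ _ _ _ β (adj.counit.app N.val) hm

variable [ModSite.HasPushOver O U]

/-- The unit is a split epimorphism on injective modules. -/
theorem epi_unit (I : ModSite.Mod O) [Injective I] :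
    Epi ((ModSite.restrPushOverAdj O U).unit.app I) := by
  let adj := ModSite.restrPushOverAdj O U
  obtain ⟨χ, hχ⟩ := exists_extension U hU ((ModSite.pushOver O U).obj ((ModSite.restr O U).obj I)) I
    ((adj.homEquiv _ _).symm (𝟙 _))
  have h := congrArg (adj.homEquiv _ _) hχ
  rw [Equiv.apply_symm_apply, Adjunction.homEquiv_unit] at h
  haveI : IsSplitEpi (adj.unit.app I) := ⟨⟨⟨χ, (adj.unit.naturality χ).trans h⟩⟩⟩
  infer_instance

variable [(ModSite.pushOver O U).Additive]

theorem shortExact_sectOn (I : ModSite.Mod O) [Injective I] :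
    (ShortComplex.mk ((ModSite.sectOnι O U).app I) ((ModSite.restrPushOverAdj O U).unit.app I)
      (kernel.condition _)).ShortExact :=
  { exact := ShortComplex.exact_kernel _
    mono_f := inferInstanceAs (Mono (kernel.ι _))
    epi_g := epi_unit U hU I }

/-- The first local cohomology sheaf and the higher ones from a subterminal object. -/
theorem nonempty_HZsh_iso [HasInjectiveResolutions (ModSite.Mod O)]
    [HasInjectiveResolutions (ModSite.Mod (O.over U))] :
    Nonempty (ModSite.HZsh O U 1 ≅ cokernel (ModSite.restrPushOverAdj O U).unit) ∧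
      ∀ q : ℕ, 1 ≤ q → Nonempty (ModSite.HZsh O U (q + 1) ≅
        ModSite.restr O U ⋙ (ModSite.pushOver O U).rightDerived q) := by
  haveI := DerCompLib.hasPushOver O U
  haveI : (ModSite.restr O U).IsRightAdjoint := (ModSite.extZeroAdj O U).isRightAdjoint
  haveI : PreservesFiniteLimits (ModSite.restr O U) := inferInstance
  haveI : PreservesFiniteColimits (ModSite.restr O U) := inferInstance
  haveI : (ModSite.pushOver O U).IsRightAdjoint := (ModSite.restrPushOverAdj O U).isRightAdjoint
  haveI : PreservesFiniteLimits (ModSite.pushOver O U) := ⟨fun _ _ _ => inferInstance⟩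
  haveI : PreservesFiniteLimits (ModSite.restr O U ⋙ ModSite.pushOver O U) :=
    comp_preservesFiniteLimits _ _
  have w : ∀ X, (ModSite.sectOnι O U).app X ≫ (ModSite.restrPushOverAdj O U).unit.app X = 0 :=
    fun X => kernel.condition _
  have hs := fun (I : ModSite.Mod O) (_ : Injective I) => shortExact_sectOn U hU I
  have h0 : ∀ (q : ℕ) (X : ModSite.Mod O), IsZero (((𝟭 (ModSite.Mod O)).rightDerived (q + 1)).obj X) :=
    fun q X => SiteCoh.isZero_rightDerived_id X q
  refine ⟨DerivedSES.nonempty_cokernel_iso (ModSite.sectOnι O U) _ w hs (h0 0), fun q hq => ?_⟩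
  obtain ⟨p, rfl⟩ := Nat.exists_eq_add_of_le' hq
  haveI := DerivedSES.isIso_δ (ModSite.sectOnι O U) _ w hs (p + 1) (h0 p) (h0 (p + 1))
  exact ⟨(asIso (DerivedSES.δ (ModSite.sectOnι O U) _ w hs (p + 1))).symm ≪≫
    SiteCoh.rightDerivedExactCompIso (ModSite.restr O U) (ModSite.pushOver O U) (p + 1)⟩

end Groth.Agent.HTop16.SectOn
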