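import Groth.Agent.HTop16.SectOnRestr
import Groth.Agent.EtStalkLib.AcyclicComp

/-!
# Local cohomology sheaves commute with restriction of scalars
-/

set_option autoImplicit false
set_option backward.isDefEq.respectTransparency false

universe u

open CategoryTheory CategoryTheory.Limits Opposite
open Groth.Agent.DerCompLib

namespace Groth.Agent.HTop16.SectOn

variable {C : Type u} [SmallCategory C] {J : GrothendieckTopology C} {O O' : Sheaf J CommRingCat.{u}}
  (φ : O ⟶ O') (U : C)

/-- Restriction of scalars. -/
noncomputable abbrev res : ModSite.Mod O' ⥤ ModSite.Mod O :=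
  SheafOfModules.restrictScalars ((sheafCompose J (forget₂ CommRingCat.{u} RingCat.{u})).map φ)

theorem isNullOn_res_sectOn [ModSite.HasPushOver O' U] (M : ModSite.Mod O') :
    ModSite.IsNullOn O U ((res φ).obj ((ModSite.sectOn O' U).obj M)) := by
  rw [ExtSupp.isNullOn_iff]
  intro V k x
  exact ExtSS.isNullOn_sec U (ExtSS.isNullOn_sectOn U M) k x

variable [ModSite.HasPushOver O U] [ModSite.HasPushOver O' U]

/-- Restriction of scalars of the sections with support. -/
noncomputable def resSectOnHom (M : ModSite.Mod O') :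
    (res φ).obj ((ModSite.sectOn O' U).obj M) ⟶ (ModSite.sectOn O U).obj ((res φ).obj M) :=
  kernel.lift _ ((res φ).map ((ModSite.sectOnι O' U).app M))
    (ExtSS.comp_unit_eq_zero _ (isNullOn_res_sectOn φ U M) _)

theorem resSectOnHom_ι (M : ModSite.Mod O') :
    resSectOnHom φ U M ≫ (ModSite.sectOnι O U).app ((res φ).obj M) =
      (res φ).map ((ModSite.sectOnι O' U).app M) :=
  kernel.lift_ι _ _ _

instance (M : ModSite.Mod O') : IsIso (resSectOnHom φ U M) := by
  refine isIso_of_bijective_secMap _ fun V => ⟨fun a b h => ?_, fun z => ?_⟩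
  · refine injective_secMap ((ModSite.sectOnι O' U).app M) V ?_
    have := congrArg (secMap ((ModSite.sectOnι O U).app ((res φ).obj M)) V) h
    rw [← secMap_comp, ← secMap_comp, resSectOnHom_ι] at this
    exact this
  · have hx := (mem_sectOn_iff U _).1 ⟨z, rfl⟩
    obtain ⟨w, hw⟩ := (mem_sectOn_iff U (G := M) (V := V)
      (secMap ((ModSite.sectOnι O U).app ((res φ).obj M)) V z)).2 fun W g k => hx g k
    refine ⟨w, injective_secMap ((ModSite.sectOnι O U).app ((res φ).obj M)) V ?_⟩
    rw [← secMap_comp, resSectOnHom_ι]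
    exact hw

/-- Sections with support commute with restriction of scalars. -/
noncomputable def resSectOnIso : ModSite.sectOn O' U ⋙ res φ ≅ res φ ⋙ ModSite.sectOn O U :=
  NatIso.ofComponents (fun M => asIso (resSectOnHom φ U M)) fun {M N} f => by
    refine (cancel_mono ((ModSite.sectOnι O U).app ((res φ).obj N))).1 ?_
    simp only [Functor.comp_map, asIso_hom, Category.assoc, resSectOnHom_ι]
    rw [← Functor.map_comp, (ModSite.sectOnι O' U).naturality f, Functor.map_comp,
      (ModSite.sectOnι O U).naturality ((res φ).map f), ← Category.assoc, resSectOnHom_ι]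
    rfl

/-- Local cohomology sheaves commute with restriction of scalars. -/
theorem nonempty_HZsh_res [HasInjectiveResolutions (ModSite.Mod O)]
    [HasInjectiveResolutions (ModSite.Mod O')] (q : ℕ) :
    Nonempty (ModSite.HZsh O' U q ⋙ res φ ≅ res φ ⋙ ModSite.HZsh O U q) := by
  haveI := SiteDer16.preservesFiniteColimits_toSheaf (ModSite.ringSh O')
  haveI := SiteDer16.preservesFiniteColimits_toSheaf (ModSite.ringSh O)
  haveI : PreservesFiniteLimits (res φ ⋙ SheafOfModules.toSheaf (ModSite.ringSh O)) :=
    inferInstanceAs (PreservesFiniteLimits (SheafOfModules.toSheaf (ModSite.ringSh O')))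
  haveI : PreservesFiniteColimits (res φ ⋙ SheafOfModules.toSheaf (ModSite.ringSh O)) :=
    inferInstanceAs (PreservesFiniteColimits (SheafOfModules.toSheaf (ModSite.ringSh O')))
  haveI : PreservesFiniteLimits (res φ) :=
    ⟨fun K _ _ => preservesLimitsOfShape_of_reflects_of_preserves (res φ)
      (SheafOfModules.toSheaf (ModSite.ringSh O))⟩
  haveI : PreservesFiniteColimits (res φ) :=
    ⟨fun K _ _ => preservesColimitsOfShape_of_reflects_of_preserves (res φ)
      (SheafOfModules.toSheaf (ModSite.ringSh O))⟩
  haveI : (res φ).Additive := { }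
  haveI : (ModSite.sectOn O U).IsRightAdjoint := (ExtSS.quotSectAdj U).isRightAdjoint
  haveI : PreservesFiniteLimits (ModSite.sectOn O U) := ⟨fun _ _ _ => inferInstance⟩
  obtain ⟨e⟩ := EtStalkLib.nonempty_rightDerived_exactAcyclicComp_iso (res φ) (ModSite.sectOn O U)
    (fun I _ p => isZero_HZsh U ((res φ).obj I)
      (SiteDer16.ModAcyclic.isTotallyAcyclic_toSheaf (ModSite.ringSh O') I) p) q
  exact ⟨(SiteCoh.rightDerivedCompExactIso (ModSite.sectOn O' U) (res φ) q).symm ≪≫
    SiteCoh.rightDerivedCongr (resSectOnIso φ U) q ≪≫ e⟩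

end Groth.Agent.HTop16.SectOn
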