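import Groth.Agent.HTop16.CechSieve
import Mathlib.CategoryTheory.Sites.MayerVietorisSquare

/-!
# Cech cohomology of a finite open cover vanishes beyond the number of members
-/

set_option autoImplicit false

universe u

open CategoryTheory CategoryTheory.Limits CategoryTheory.Abelian Opposite TopologicalSpace

namespace Groth.Agent.HTop16.SieveMV

open Groth.Agent.SiteCoh CechSieve

variable {C : Type u} [SmallCategory C] {X : C}

/-- The intersection-union square of two sieves. -/
lemma isPushout (A B : Sieve X) :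
    IsPushout (Sieve.natTransOfLe (inf_le_left : A ⊓ B ≤ A))
      (Sieve.natTransOfLe (inf_le_right : A ⊓ B ≤ B))
      (Sieve.natTransOfLe (le_sup_left : A ≤ A ⊔ B))
      (Sieve.natTransOfLe (le_sup_right : B ≤ A ⊔ B)) := by
  classical
  refine ⟨⟨rfl⟩, ⟨PushoutCocone.IsColimit.mk _ (fun s => ?_) (fun s => ?_) (fun s => ?_)
    (fun s m h1 h2 => ?_)⟩⟩
  · refine
      { app := fun V => TypeCat.ofHom fun f =>
          if h : A f.1 then s.inl.app V ⟨f.1, h⟩ else s.inr.app V ⟨f.1, f.2.resolve_left h⟩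
        naturality := fun V W k => ?_ }
    ext f
    have key : ∀ (hA : A (k.unop ≫ f.1)) (hB : B (k.unop ≫ f.1)),
        s.inl.app W ⟨_, hA⟩ = s.inr.app W ⟨_, hB⟩ := fun hA hB =>
      ConcreteCategory.congr_hom (NatTrans.congr_app s.condition W)
        (⟨_, hA, hB⟩ : {g // (A ⊓ B).arrows g})
    change (if h : A (k.unop ≫ f.1) then s.inl.app W ⟨_, h⟩ else s.inr.app W ⟨_, _⟩) =
      s.pt.map k (if h : A f.1 then s.inl.app V ⟨f.1, h⟩ else s.inr.app V ⟨f.1, _⟩)
    by_cases h : A f.1
    · rw [dif_pos h, dif_pos (A.downward_closed h k.unop), ← NatTrans.naturality_apply s.inl k]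
      rfl
    · rw [dif_neg h, ← NatTrans.naturality_apply s.inr k]
      by_cases h' : A (k.unop ≫ f.1)
      · rw [dif_pos h', key h' (B.downward_closed (f.2.resolve_left h) k.unop)]
        rfl
      · rw [dif_neg h']
        rfl
  · ext V f
    exact dif_pos f.2
  · ext V f
    by_cases h : A f.1
    · exact (dif_pos h).trans (ConcreteCategory.congr_hom (NatTrans.congr_app s.condition V)
        (⟨f.1, h, f.2⟩ : {g // (A ⊓ B).arrows g}))
    · exact dif_neg h
  · ext V f
    by_cases h : A f.1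
    · refine Eq.trans ?_ (dif_pos h).symm
      exact ConcreteCategory.congr_hom (NatTrans.congr_app h1 V) (⟨f.1, h⟩ : {g // A.arrows g})
    · refine Eq.trans ?_ (dif_neg h).symm
      exact ConcreteCategory.congr_hom (NatTrans.congr_app h2 V)
        (⟨f.1, f.2.resolve_left h⟩ : {g // B.arrows g})

/-- The free sheaf functor on presheaves of sets. -/
noncomputable abbrev Φ (C : Type u) [SmallCategory C] :
    (Cᵒᵖ ⥤ Type u) ⥤ Sheaf (⊥ : GrothendieckTopology C) AddCommGrpCat.{u} :=
  (Functor.whiskeringRight _ _ _).obj AddCommGrpCat.free.{u} ⋙ presheafToSheaf _ _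

lemma mono_map {A B : Sieve X} (h : A ≤ B) : Mono ((Φ C).map (Sieve.natTransOfLe h)) := by
  have : Mono (Sieve.natTransOfLe h) := by
    rw [NatTrans.mono_iff_mono_app]
    intro V
    rw [mono_iff_injective]
    intro x y e
    exact Subtype.ext (congrArg (fun z : {g // B.arrows g} => z.1) e)
  have : ∀ V, Mono ((Functor.whiskerRight (Sieve.natTransOfLe h) AddCommGrpCat.free.{u}).app V) :=
    fun V => inferInstanceAs (Mono (AddCommGrpCat.free.map ((Sieve.natTransOfLe h).app V)))
  have : Mono (Functor.whiskerRight (Sieve.natTransOfLe h) AddCommGrpCat.free.{u}) :=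
    NatTrans.mono_of_mono_app _
  exact inferInstanceAs (Mono ((presheafToSheaf _ _).map _))

/-- Vanishing of Ext on a union of sieves. -/
lemma subsingleton_sup (A B : Sieve X) (M : Sheaf (⊥ : GrothendieckTopology C) AddCommGrpCat.{u})
    (q : ℕ) (hAB : Subsingleton (Ext (FS (A ⊓ B)) M q))
    (hA : Subsingleton (Ext (FS A) M (q + 1))) (hB : Subsingleton (Ext (FS B) M (q + 1))) :
    Subsingleton (Ext (FS (A ⊔ B)) M (q + 1)) := by
  have : (Φ C).IsLeftAdjoint := (((AddCommGrpCat.adj.{u}).whiskerRight Cᵒᵖ).comp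
    (sheafificationAdjunction _ AddCommGrpCat.{u})).isLeftAdjoint
  have hp := (isPushout A B).map (Φ C)
  let l := (Φ C).map (Sieve.natTransOfLe (inf_le_left : A ⊓ B ≤ A))
  let r := (Φ C).map (Sieve.natTransOfLe (inf_le_right : A ⊓ B ≤ B))
  have hw : biprod.lift l (-r) ≫ biprod.desc ((Φ C).map (Sieve.natTransOfLe le_sup_left))
      ((Φ C).map (Sieve.natTransOfLe le_sup_right)) = 0 := hp.toCommSq.cokernelCofork.condition
  let T := ShortComplex.mk (biprod.lift l (-r)) _ hw
  have : Mono T.f := by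
    have : Mono (T.f ≫ biprod.fst) := by
      change Mono (biprod.lift l (-r) ≫ biprod.fst)
      rw [biprod.lift_fst]
      exact mono_map inf_le_left
    exact mono_of_mono _ biprod.fst
  have : Epi T.g := (T.exact_and_epi_g_iff_g_is_cokernel.2 ⟨hp.isColimitCokernelCofork⟩).2
  have hT : T.ShortExact :=
    { exact := ShortComplex.exact_of_g_is_cokernel _ hp.isColimitCokernelCofork }
  refine subsingleton_of_forall_eq 0 fun x => ?_
  have h2 : ∀ y : Ext T.X₂ M (q + 1), y = 0 := fun y => by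
    have hid : 𝟙 T.X₂ = biprod.fst ≫ biprod.inl + biprod.snd ≫ biprod.inr := biprod.total.symm
    rw [← Ext.mk₀_id_comp y, hid, Ext.mk₀_add, Ext.add_comp, ← Ext.mk₀_comp_mk₀_assoc,
      ← Ext.mk₀_comp_mk₀_assoc,
      hA.elim ((Ext.mk₀ (biprod.inl : _ ⟶ T.X₂)).comp y (zero_add _)) 0,
      hB.elim ((Ext.mk₀ (biprod.inr : _ ⟶ T.X₂)).comp y (zero_add _)) 0, Ext.comp_zero,
      Ext.comp_zero, add_zero]
  obtain ⟨z, hz⟩ := Ext.contravariant_sequence_exact₃ hT M x (h2 _) (show 1 + q = q + 1 by omega)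
  rw [← hz, hAB.elim z 0, Ext.comp_zero]

lemma isZero_FS_bot : IsZero (FS (⊥ : Sieve X)) := by
  rw [IsZero.iff_id_eq_zero]
  exact hom_ext_gen _ fun V g hg => False.elim hg

lemma subsingleton_ext_freeSheaf (M : Sheaf (⊥ : GrothendieckTopology C) AddCommGrpCat.{u}) (V : C)
    (q : ℕ) : Subsingleton (CohSite.HU M (q + 1) V) :=
  subsingleton_HU_of_class (fun _ => True) (fun _ => True)
    (fun G _ => ⟨trivial, fun U _ => haveI := (injEmbed_shortExact G).epi_g
      surjective_sections_bot (injEmbed G).g U⟩) trivial trivial q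

section Space

variable {Z : TopCat.{u}} {ι : Type u}

/-- The opens below a member of a finite family, as a sieve on the whole space. -/
def sieveOf (U : ι → Opens Z) (s : Finset ι) : Sieve (⊤ : Opens Z) where
  arrows V _ := ∃ i ∈ s, V ≤ U i
  downward_closed := fun ⟨i, hi, h⟩ k => ⟨i, hi, (leOfHom k).trans h⟩

lemma subsingleton_single (V : Opens Z)
    (M : Sheaf (⊥ : GrothendieckTopology (Opens Z)) AddCommGrpCat.{u}) (q : ℕ)
    (A : Sieve (⊤ : Opens Z)) (hA : ∀ W (g : W ⟶ ⊤), A g ↔ W ≤ V) :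
    Subsingleton (Ext (FS A) M (q + 1)) := by
  let e : A.functor ≅ yoneda.obj V := NatIso.ofComponents
    (fun W => Equiv.toIso
      { toFun := fun g => homOfLE ((hA _ g.1).1 g.2)
        invFun := fun k => ⟨homOfLE le_top, (hA _ _).2 (leOfHom k)⟩
        left_inv := fun g => Subtype.ext (Subsingleton.elim _ _)
        right_inv := fun k => Subsingleton.elim (α := W.unop ⟶ V) _ _ })
    (fun k => by ext g; exact Subsingleton.elim (α := _ ⟶ V) _ _)
  have : Subsingleton (Ext (CohCx.freeSheaf (⊥ : GrothendieckTopology (Opens Z)) V) M (q + 1)) :=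
    subsingleton_ext_freeSheaf M V q
  exact subsingleton_ext_of_iso (Y := M) (X' := FS A) (X := CohCx.freeSheaf _ V) ((Φ (Opens Z)).mapIso e) (q + 1)

lemma subsingleton_sieveOf [DecidableEq ι]
    (M : Sheaf (⊥ : GrothendieckTopology (Opens Z)) AddCommGrpCat.{u}) (s : Finset ι) :
    ∀ (U : ι → Opens Z) (q : ℕ), s.card ≤ q → Subsingleton (Ext (FS (sieveOf U s)) M q) := by
  induction s using Finset.induction with
  | empty =>
    intro U q _
    have h : sieveOf U ∅ = ⊥ := by
      ext W g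
      exact iff_of_false (fun ⟨i, hi, _⟩ => absurd hi (Finset.notMem_empty i)) id
    rw [h]
    refine subsingleton_of_forall_eq 0 fun x => ?_
    rw [← Ext.mk₀_id_comp x, isZero_FS_bot.eq_of_src (𝟙 _) 0, Ext.mk₀_zero, Ext.zero_comp]
  | @insert a s ha ih =>
    intro U q hq
    rw [Finset.card_insert_of_notMem ha] at hq
    obtain ⟨p, rfl⟩ := Nat.exists_eq_add_of_le' (show 1 ≤ q by omega)
    have h1 : sieveOf U (insert a s) = sieveOf U s ⊔ sieveOf U {a} := by
      ext W g
      change (∃ i ∈ insert a s, _) ↔ (∃ i ∈ s, _) ∨ (∃ i ∈ ({a} : Finset ι), _)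
      simp only [Finset.mem_insert, Finset.mem_singleton, exists_eq_or_imp, exists_eq_left, or_comm]
    have h2 : sieveOf U s ⊓ sieveOf U {a} = sieveOf (fun i => U i ⊓ U a) s := by
      ext W g
      change (∃ i ∈ s, _) ∧ (∃ i ∈ ({a} : Finset ι), _) ↔ ∃ i ∈ s, _
      simp only [Finset.mem_singleton, exists_eq_left, le_inf_iff]
      exact ⟨fun ⟨⟨i, hi, h⟩, h'⟩ => ⟨i, hi, h, h'⟩, fun ⟨i, hi, h, h'⟩ => ⟨⟨i, hi, h⟩, h'⟩⟩
    rw [h1]
    refine subsingleton_sup _ _ M p ?_ (ih U (p + 1) (by omega))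
      (subsingleton_single (U a) M p _ fun W g => ?_)
    · rw [h2]
      exact ih _ p (by omega)
    · change (∃ i ∈ ({a} : Finset ι), _) ↔ _
      simp

/-- Cech cohomology of a presheaf for a finite family vanishes from its cardinality on. -/
theorem isZero_cechH [Finite ι] (P : (Opens Z)ᵒᵖ ⥤ AddCommGrpCat.{u}) (U : ι → Opens Z) (q : ℕ)
    (hq : Nat.card ι ≤ q) : IsZero (CohTop.cechH P U q) := by
  classical
  cases nonempty_fintype ι
  obtain ⟨e⟩ := nonempty_equiv_gen (𝟭 (Opens Z)) (X := (⊤ : Opens Z)) U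
    (fun i => homOfLE le_top) (fun _ _ _ _ _ => rfl)
    (fun W i j f g _ => ⟨W, 𝟙 W, f, g, Category.id_comp _, Category.id_comp _⟩)
    (fun I _ p => by
      have : Injective I.obj := inferInstance
      exact Cech.isZero_homology_of_injective I.obj U p)
    ⟨P, Presheaf.isSheaf_bot _⟩ q
  have h : fam (𝟭 (Opens Z)) U (fun i => homOfLE (le_top : U i ≤ ⊤)) =
      sieveOf U Finset.univ := by
    ext W g
    rw [Sieve.mem_ofArrows_iff]
    exact ⟨fun ⟨i, k, _⟩ => ⟨i, Finset.mem_univ i, leOfHom k⟩,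
      fun ⟨i, _, hk⟩ => ⟨i, homOfLE hk, Subsingleton.elim _ _⟩⟩
  have : Subsingleton (Ext (FS (fam (𝟭 (Opens Z)) U (fun i => homOfLE (le_top : U i ≤ ⊤))))
      (⟨P, Presheaf.isSheaf_bot _⟩ : Sheaf ⊥ AddCommGrpCat.{u}) q) := by
    rw [h]
    exact subsingleton_sieveOf _ Finset.univ U q
      (by rw [Finset.card_univ, ← Nat.card_eq_fintype_card]; exact hq)
  have : Subsingleton (CohTop.cechH P U q) := e.toEquiv.subsingleton
  exact AddCommGrpCat.isZero_of_subsingleton _

end Space

end Groth.Agent.HTop16.SieveMV
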