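import Groth.Agent.SiteHom16.LocalFree
import Groth.Agent.SiteHom16.PullFlat
import Groth.Agent.DerCompLib.LocalLift
import Groth.Prelude.Def_AlgSpPerf
import Mathlib.Algebra.Homology.Homotopy
import Mathlib.Algebra.Homology.HomotopyCategory.MappingCone
import Mathlib.Algebra.Homology.DerivedCategory.Fractions
import Mathlib.Algebra.Homology.DerivedCategory.HomologySequence
import Mathlib.Algebra.Homology.DerivedCategory.TStructure

/-!
# Local homotopies of maps out of strictly perfect complexes on ringed sites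
-/

set_option autoImplicit false
set_option backward.isDefEq.respectTransparency false
set_option backward.defeqAttrib.useBackward true
set_option linter.all false

universe u

open CategoryTheory CategoryTheory.Limits Opposite HomologicalComplex
open CategoryTheory.Pretriangulated

namespace Groth.Agent.HTop16.SiteHtpy

open Groth.Agent.DerCompLib (Sec secRes secMap Loc exists_local_boundary secMap_secRes)
open Groth.Agent.SiteHom16 (overRes topObj topEquiv loc_all)

variable {C : Type u} [SmallCategory C] {J : GrothendieckTopology C} {O : Sheaf J CommRingCat.{u}}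

/-- Transport of a map between restrictions to a smaller object. -/
noncomputable def tr {X Z : C} (g : Z ⟶ X) {A B : ModSite.Mod O}
    (φ : (ModSite.restr O X).obj A ⟶ (ModSite.restr O X).obj B) :
    (ModSite.restr O Z).obj A ⟶ (ModSite.restr O Z).obj B :=
  (SheafOfModules.overFunctorMap.{u} (ModSite.ringSh O) g).inv.app A ≫ (overRes g).map φ ≫
    (SheafOfModules.overFunctorMap.{u} (ModSite.ringSh O) g).hom.app B

lemma secMap_tr {X Z : C} (g : Z ⟶ X) {A B : ModSite.Mod O}
    (φ : (ModSite.restr O X).obj A ⟶ (ModSite.restr O X).obj B) (V : Over Z)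
    (x : Sec ((ModSite.restr O Z).obj A) V) :
    secMap (tr g φ) V x = secMap φ ((Over.map g).obj V) x := rfl

lemma hom_ext_sec {X : C} {A B : ModSite.Mod (O.over X)} {φ ψ : A ⟶ B}
    (h : ∀ V x, secMap φ V x = secMap ψ V x) : φ = ψ := by
  apply SheafOfModules.hom_ext
  apply PresheafOfModules.hom_ext
  intro V
  exact ModuleCat.hom_ext (LinearMap.ext fun x => h V.unop x)

lemma tr_comp {X Z : C} (g : Z ⟶ X) {A B D : ModSite.Mod O}
    (φ : (ModSite.restr O X).obj A ⟶ (ModSite.restr O X).obj B)
    (ψ : (ModSite.restr O X).obj B ⟶ (ModSite.restr O X).obj D) :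
    tr g (φ ≫ ψ) = tr g φ ≫ tr g ψ :=
  hom_ext_sec fun _ _ => rfl

lemma tr_add {X Z : C} (g : Z ⟶ X) {A B : ModSite.Mod O}
    (φ ψ : (ModSite.restr O X).obj A ⟶ (ModSite.restr O X).obj B) : tr g (φ + ψ) = tr g φ + tr g ψ :=
  hom_ext_sec fun _ _ => rfl

lemma tr_map {X Z : C} (g : Z ⟶ X) {A B : ModSite.Mod O} (u : A ⟶ B) :
    tr g ((ModSite.restr O X).map u) = (ModSite.restr O Z).map u :=
  hom_ext_sec fun _ _ => rfl

instance restr_additive' (X : C) : (ModSite.restr O X).Additive where
  map_add := hom_ext_sec fun _ _ => rfl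

variable {E F : CochainComplex (ModSite.Mod O) ℤ}

/-- `α` is null-homotopic over `W` in degrees `≥ m`. -/
def NullGE (α : E ⟶ F) (m : ℤ) (W : C) : Prop :=
  ∃ h : ∀ i j : ℤ, j + 1 = i → ((ModSite.restr O W).obj (E.X i) ⟶ (ModSite.restr O W).obj (F.X j)),
    ∀ i : ℤ, m ≤ i → ∀ (j l : ℤ) (hj : j + 1 = i) (hl : i + 1 = l),
      (ModSite.restr O W).map (α.f i) = (ModSite.restr O W).map (E.d i l) ≫ h l i hl +
        h i j hj ≫ (ModSite.restr O W).map (F.d j i)

lemma nullGE_top (α : E ⟶ F) (b : ℤ) (hb : ∀ i : ℤ, b ≤ i → IsZero (E.X i)) (W : C) : NullGE α b W :=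
  ⟨fun _ _ _ => 0, fun i hi _ _ _ _ => ((ModSite.restr O W).map_isZero (hb i hi)).eq_of_src _ _⟩

/-- Lifting maps out of summands of finite free modules, locally. -/
theorem loc_lift {W : C} {P A B : ModSite.Mod O} (hP : DCoh.IsFinFreeSummandMod (ModSite.ringSh O) P)
    (d : A ⟶ B) {B' : ModSite.Mod O} (d' : B ⟶ B') (w : d ≫ d' = 0)
    (hex : (ShortComplex.mk d d' w).Exact)
    (r : (ModSite.restr O W).obj P ⟶ (ModSite.restr O W).obj B)
    (hr : r ≫ (ModSite.restr O W).map d' = 0) :
    Loc J W fun Z g => ∃ ψ : (ModSite.restr O Z).obj P ⟶ (ModSite.restr O Z).obj A,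
      ψ ≫ (ModSite.restr O Z).map d = tr g r := by
  obtain ⟨n, i, p, hip⟩ := hP
  let T := ULift.{u} (Fin n)
  let one : ∀ Z : C, Sec (ModSite.unit O) Z := fun Z => (1 : O.obj.obj (op Z))
  let x : T → ∀ Z : C, Sec P Z := fun k Z =>
    secMap p Z (secMap (SheafOfModules.ιFree (R := ModSite.ringSh O) k) Z (one Z))
  let b : T → Sec B W := fun k => secMap r (topObj W) (x k W)
  have hb : ∀ k, secMap d' W (b k) = 0 := fun k =>
    congrArg (fun φ => secMap φ (topObj W) (x k W)) hr
  refine (loc_all Finset.univ (fun k Z g => ∃ a : Sec A Z, secMap d Z a = secRes B g (b k))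
    fun k _ => exists_local_boundary hex (b k) (hb k)).mono fun Z g hg => ?_
  choose a ha using fun k : T => hg k (Finset.mem_univ k)
  haveI : PreservesColimitsOfShape (Discrete T) (ModSite.restr O Z) :=
    DerCompLib.preservesColimitsOfShape_restr O Z _
  let hc := isColimitCofanMkObjOfIsColimit (ModSite.restr O Z) _ _
    (SheafOfModules.isColimitFreeCofan (R := ModSite.ringSh O) T)
  let χ : (ModSite.restr O Z).obj (SheafOfModules.free (R := ModSite.ringSh O) T) ⟶ (ModSite.restr O Z).obj A :=
    Cofan.IsColimit.desc hc fun k => (topEquiv ((ModSite.restr O Z).obj A)).symm (a k)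
  refine ⟨(ModSite.restr O Z).map i ≫ χ, ?_⟩
  have hχ : χ ≫ (ModSite.restr O Z).map d = (ModSite.restr O Z).map p ≫ tr g r := by
    refine Cofan.IsColimit.hom_ext hc _ _ fun k => ?_
    rw [← Category.assoc]
    refine (congrArg (· ≫ _) (Cofan.IsColimit.fac hc _ k)).trans ?_
    apply (topEquiv ((ModSite.restr O Z).obj B)).injective
    refine Eq.trans (congrArg (secMap d Z) ((topEquiv ((ModSite.restr O Z).obj A)).apply_symm_apply (a k))) ((ha k).trans ?_)
    show secRes B g (b k) = secMap r ((Over.map g).obj (topObj Z)) (x k Z)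
    have hx : secRes P g (x k W) = x k Z := by
      simp only [x]
      rw [← secMap_secRes, ← secMap_secRes]
      exact congrArg (fun z => secMap p Z (secMap (SheafOfModules.ιFree (R := ModSite.ringSh O) k) Z z))
        (map_one (O.obj.map g.op).hom)
    rw [← hx]
    exact (PresheafOfModules.naturality_apply r.val
      (Over.homMk g : (Over.map g).obj (topObj Z) ⟶ topObj W).op (x k W)).symm
  rw [Category.assoc, hχ, ← Category.assoc, ← Functor.map_comp, hip, CategoryTheory.Functor.map_id,
    Category.id_comp]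

lemma nullGE_step (hE : ∀ i, DCoh.IsFinFreeSummandMod (ModSite.ringSh O) (E.X i)) {α : E ⟶ F} {m : ℤ}
    (hF : IsZero (F.homology m)) {W : C} (hk : NullGE α (m + 1) W) :
    Loc J W fun Z _ => NullGE α m Z := by
  obtain ⟨h, hh⟩ := hk
  let R := ModSite.restr O W
  let r : R.obj (E.X m) ⟶ R.obj (F.X m) := R.map (α.f m) - R.map (E.d m (m + 1)) ≫ h (m + 1) m rfl
  have hr : r ≫ R.map (F.d m (m + 1)) = 0 := by
    rw [Preadditive.sub_comp, Category.assoc, ← Functor.map_comp, α.comm, Functor.map_comp,
      ← Preadditive.comp_sub, hh (m + 1) le_rfl m (m + 1 + 1) rfl rfl, add_sub_cancel_right, ← Category.assoc,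
      ← Functor.map_comp, E.d_comp_d, Functor.map_zero, zero_comp]
  have hex : (ShortComplex.mk (F.d (m - 1) m) (F.d m (m + 1)) (F.d_comp_d _ _ _)).Exact :=
    (F.exactAt_iff' (m - 1) m (m + 1) (by simp) (by simp)).1 ((F.exactAt_iff_isZero_homology m).2 hF)
  refine (loc_lift (hE m) _ _ _ hex r hr).mono fun Z g ⟨ψ, hψ⟩ => ?_
  let R' := ModSite.restr O Z
  let h' : ∀ i j : ℤ, j + 1 = i → (R'.obj (E.X i) ⟶ R'.obj (F.X j)) := fun i j hij =>
    if hi : i = m then eqToHom (by rw [hi]) ≫ ψ ≫ eqToHom (by rw [show j = m - 1 by omega])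
    else tr g (h i j hij)
  have hp : h' m (m - 1) (by omega) = ψ := by simp [h']
  have hne : ∀ i j hij, i ≠ m → h' i j hij = tr g (h i j hij) := fun i j hij hi => dif_neg hi
  refine ⟨h', fun i hi j l hj hl => ?_⟩
  rcases eq_or_lt_of_le hi with rfl | hlt
  · subst hl
    obtain rfl : j = m - 1 := by omega
    rw [hp, hne _ _ _ (by omega : m + 1 ≠ m), hψ, ← tr_map g (E.d m (m + 1)), ← tr_comp, ← tr_add,
      ← tr_map g (α.f m)]
    simp [r, R]
  · rw [hne _ _ _ (by omega : l ≠ m), hne _ _ _ (by omega : i ≠ m), ← tr_map g (α.f i),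
      ← tr_map g (E.d i l), ← tr_map g (F.d j i), ← tr_comp, ← tr_comp, ← tr_add,
      hh i (by omega) j l hj hl]

theorem exists_nullGE (hE : DCoh.IsStrictlyPerfectMod (ModSite.ringSh O) E) (α : E ⟶ F) (a : ℤ)
    (hF : ∀ i : ℤ, a ≤ i → IsZero (F.homology i)) (V : C) : Loc J V fun W _ => NullGE α a W := by
  obtain ⟨⟨a₀, b₀, hab⟩, hf⟩ := hE
  let b := max a (b₀ + 1)
  suffices ∀ n : ℕ, a ≤ b - n → Loc J V fun W _ => NullGE α (b - n) W by
    obtain ⟨n, hn⟩ : ∃ n : ℕ, (n : ℤ) = b - a := ⟨(b - a).toNat, by omega⟩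
    simpa [show b - (n : ℤ) = a by omega] using this n (by omega)
  intro n
  induction n with
  | zero =>
    intro _
    exact Loc.of_forall fun W _ => nullGE_top α _ (fun i hi => hab i (Or.inr (by simp at hi; omega))) _
  | succ n ih =>
    intro hn
    refine (ih (by omega)).bind fun W g hW => ?_
    exact nullGE_step hf (m := b - (n + 1 : ℕ)) (hF _ hn)
      (by rw [show b - ((n + 1 : ℕ) : ℤ) + 1 = b - n by push_cast; omega]; exact hW)

attribute [local instance] HasDerivedCategory.standard

/-- The cone of a map which is an isomorphism in high degrees. -/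
lemma isZero_homology_cone {G : CochainComplex (ModSite.Mod O) ℤ} (f : G ⟶ F) (a : ℤ)
    (hf : ∀ j : ℤ, a < j → IsIso (HomologicalComplex.homologyMap f j))
    (hfa : Epi (HomologicalComplex.homologyMap f a)) (i : ℤ) (hi : a ≤ i) :
    IsZero ((CochainComplex.mappingCone f).homology i) := by
  let T := DerivedCategory.Q.mapTriangle.obj (CochainComplex.mappingCone.triangle f)
  have hT : T ∈ distinguishedTriangles :=
    (DerivedCategory.mem_distTriang_iff _).2 ⟨_, _, f, ⟨Iso.refl _⟩⟩
  let H := fun j => DerivedCategory.homologyFunctor (ModSite.Mod O) j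
  have he : Epi ((H i).map T.mor₁) := by
    refine ((MorphismProperty.epimorphisms (ModSite.Mod O)).arrow_mk_iso_iff
        (((Functor.mapArrowFunctor _ _).mapIso (DerivedCategory.homologyFunctorFactors (ModSite.Mod O) i)).app
          (Arrow.mk f))).2 ?_
    show Epi (HomologicalComplex.homologyMap f i)
    rcases eq_or_lt_of_le hi with rfl | hlt
    · exact hfa
    · haveI := hf i hlt
      infer_instance
  have hm : Mono ((H (i + 1)).map T.mor₁) := by
    haveI : IsIso ((DerivedCategory.Q ⋙ H (i + 1)).map f) :=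
      (NatIso.isIso_map_iff (DerivedCategory.homologyFunctorFactors (ModSite.Mod O) (i + 1)) f).2 (hf (i + 1) (by omega))
    exact (inferInstance : Mono ((DerivedCategory.Q ⋙ H (i + 1)).map f))
  have hz := (DerivedCategory.HomologySequence.epi_homologyMap_mor₁_iff T hT i).1 he
  have hd := (DerivedCategory.HomologySequence.mono_homologyMap_mor₁_iff T hT i (i + 1) rfl).1 hm
  exact IsZero.of_iso ((DerivedCategory.HomologySequence.exact₃ T hT i (i + 1) rfl).isZero_of_both_zeros hz hd)
    ((DerivedCategory.homologyFunctorFactors (ModSite.Mod O) i).app (CochainComplex.mappingCone f)).symm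

/-- Lifting of maps out of strictly perfect complexes, locally and up to homotopy. -/
theorem exists_lift {G : CochainComplex (ModSite.Mod O) ℤ} (hE : DCoh.IsStrictlyPerfectMod (ModSite.ringSh O) E)
    (α : E ⟶ F) (f : G ⟶ F) (a : ℤ) (hEa : ∀ i : ℤ, i < a → IsZero (E.X i))
    (hf : ∀ j : ℤ, a < j → IsIso (HomologicalComplex.homologyMap f j))
    (hfa : Epi (HomologicalComplex.homologyMap f a)) (V : C) :
    Loc J V fun W _ => ∃ β : ((ModSite.restr O W).mapHomologicalComplex (ComplexShape.up ℤ)).obj E ⟶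
        ((ModSite.restr O W).mapHomologicalComplex (ComplexShape.up ℤ)).obj G,
      Nonempty (Homotopy (β ≫ ((ModSite.restr O W).mapHomologicalComplex (ComplexShape.up ℤ)).map f)
        (((ModSite.restr O W).mapHomologicalComplex (ComplexShape.up ℤ)).map α)) := by
  refine (exists_nullGE hE (α ≫ CochainComplex.mappingCone.inr f) a (isZero_homology_cone f a hf hfa) V).mono
    fun W _ hW => ?_
  obtain ⟨h, hh₀⟩ := hW
  let R := ModSite.restr O W
  have hh : ∀ (i j l : ℤ) (hj : j + 1 = i) (hl : i + 1 = l),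
      R.map ((α ≫ CochainComplex.mappingCone.inr f).f i) = R.map (E.d i l) ≫ h l i hl +
        h i j hj ≫ R.map ((CochainComplex.mappingCone f).d j i) := fun i j l hj hl => by
    by_cases hi : a ≤ i
    · exact hh₀ i hi j l hj hl
    · exact (R.map_isZero (hEa i (by omega))).eq_of_src _ _
  let hp : ∀ i j : ℤ, j + 1 = i → (R.obj (E.X i) ⟶ R.obj (G.X i)) := fun i j hj =>
    h i j hj ≫ R.map ((CochainComplex.mappingCone.fst f).1.v j i hj)
  let hs : ∀ i j : ℤ, j + 1 = i → (R.obj (E.X i) ⟶ R.obj (F.X j)) := fun i j hj =>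
    h i j hj ≫ R.map ((CochainComplex.mappingCone.snd f).v j j (add_zero j))
  have e₁ : ∀ (i j l : ℤ) (hj : j + 1 = i) (hl : i + 1 = l),
      hp i j hj ≫ R.map (G.d i l) = R.map (E.d i l) ≫ hp l i hl := by
    intro i j l hj hl
    have := congrArg (· ≫ R.map ((CochainComplex.mappingCone.fst f).1.v i l hl)) (hh i j l hj hl)
    simp only [HomologicalComplex.comp_f, Preadditive.add_comp, Category.assoc, ← R.map_comp,
      CochainComplex.mappingCone.inr_f_fst_v, comp_zero, Functor.map_zero,
      CochainComplex.mappingCone.d_fst_v f j i l hj hl, Functor.map_neg, Preadditive.comp_neg] at this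
    simp only [hp, Category.assoc, ← R.map_comp]
    exact (eq_of_sub_eq_zero ((sub_eq_add_neg _ _).trans this.symm)).symm
  have e₂ : ∀ (i j l : ℤ) (hj : j + 1 = i) (hl : i + 1 = l),
      R.map (α.f i) = R.map (E.d i l) ≫ hs l i hl + (hp i j hj ≫ R.map (f.f i) + hs i j hj ≫ R.map (F.d j i)) := by
    intro i j l hj hl
    have := congrArg (· ≫ R.map ((CochainComplex.mappingCone.snd f).v i i (add_zero i))) (hh i j l hj hl)
    simp only [HomologicalComplex.comp_f, Preadditive.add_comp, Category.assoc, ← R.map_comp,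
      CochainComplex.mappingCone.inr_f_snd_v, Category.comp_id, CochainComplex.mappingCone.d_snd_v f j i hj] at this
    simp only [hp, hs, Category.assoc, ← R.map_comp, ← Preadditive.comp_add, ← R.map_add]
    exact this
  let β : (R.mapHomologicalComplex (ComplexShape.up ℤ)).obj E ⟶ (R.mapHomologicalComplex (ComplexShape.up ℤ)).obj G :=
    { f := fun i => hp i (i - 1) (by omega)
      comm' := fun i l hl => by
        obtain rfl : i + 1 = l := hl
        change hp i (i - 1) _ ≫ R.map (G.d i (i + 1)) = R.map (E.d i (i + 1)) ≫ hp (i + 1) (i + 1 - 1) _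
        rw [e₁ i (i - 1) (i + 1) (by omega) rfl]
        congr 1
        congr <;> omega }
  refine ⟨β, ⟨(Homotopy.equivSubZero).symm ((Homotopy.ofEq ?_).trans
    (Homotopy.nullHomotopy' (C := (R.mapHomologicalComplex (ComplexShape.up ℤ)).obj E)
      (D := (R.mapHomologicalComplex (ComplexShape.up ℤ)).obj F) fun i j hij => -hs i j hij))⟩⟩
  ext1 i
  rw [Homotopy.nullHomotopicMap'_f (show (ComplexShape.up ℤ).Rel (i - 1) i by simp)
    (show (ComplexShape.up ℤ).Rel i (i + 1) by simp)]
  change hp i (i - 1) _ ≫ R.map (f.f i) - R.map (α.f i) =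
    R.map (E.d i (i + 1)) ≫ (-hs (i + 1) i _) + (-hs i (i - 1) _) ≫ R.map (F.d (i - 1) i)
  rw [e₂ i (i - 1) (i + 1) (by omega) rfl, Preadditive.comp_neg, Preadditive.neg_comp]
  abel

end Groth.Agent.HTop16.SiteHtpy
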