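import Groth.Prelude.Def_ModSite2
import Mathlib.Algebra.Category.Grp.Limits
import Mathlib.CategoryTheory.Limits.Shapes.Products
import Mathlib.CategoryTheory.Sites.Point.Conservative
import Mathlib.Algebra.Category.Grp.AB
import Mathlib.Algebra.Homology.ShortComplex.ExactFunctor

/-!
# Stalks of modules on a ringed site

The stalk at a point as a functor to modules over the stalk of the structure sheaf, its right adjoint
(skyscraper modules), and exactness.
-/

set_option autoImplicit false
set_option backward.isDefEq.respectTransparency false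
set_option backward.isDefEq.respectTransparency.types false
set_option linter.all false

universe u

open CategoryTheory CategoryTheory.Limits Opposite

namespace Groth.Agent.HTop16.SiteStalk

variable {C : Type u} [SmallCategory C] {J : GrothendieckTopology C}
  (p : GrothendieckTopology.Point.{u} J) {O : Sheaf J CommRingCat.{u}}

lemma germ_add (F : ModSite.Mod O) (U : C) (x : p.fiber.obj U) (s t : ModSite.sect F U) :
    ModSite.germ p F U x (s + t) = ModSite.germ p F U x s + ModSite.germ p F U x t :=
  map_add _ s t

lemma germ_res (F : ModSite.Mod O) {U V : C} (g : V ⟶ U) (y : p.fiber.obj V) (s : ModSite.sect F U) :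
    ModSite.germ p F V y (F.val.map g.op s) = ModSite.germ p F U (p.fiber.map g y) s :=
  p.toPresheafFiber_w_apply g y (ModSite.toAb F).obj s

lemma germRing_res (O : Sheaf J CommRingCat.{u}) {U V : C} (g : V ⟶ U) (y : p.fiber.obj V) (r : O.obj.obj (op U)) :
    ModSite.germRing (O := O) p V y ((O.obj.map g.op).hom r) = ModSite.germRing p U (p.fiber.map g y) r :=
  p.toPresheafFiber_w_apply g y O.obj r

lemma exists_germ (F : ModSite.Mod O) (m : ModSite.stalkAb p F) :
    ∃ (U : C) (x : p.fiber.obj U) (s : ModSite.sect F U), ModSite.germ p F U x s = m :=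
  p.toPresheafFiber_jointly_surjective (P := (ModSite.toAb F).obj) m

/-- A scalar and a vector of the stalk come from one neighbourhood. -/
lemma exists_germ_pair (F : ModSite.Mod O) (r : ModSite.stalkRing p O) (m : ModSite.stalkAb p F) :
    ∃ (U : C) (x : p.fiber.obj U) (a : O.obj.obj (op U)) (s : ModSite.sect F U),
      ModSite.germRing p U x a = r ∧ ModSite.germ p F U x s = m := by
  obtain ⟨X, x, a, rfl⟩ := p.toPresheafFiber_jointly_surjective (P := O.obj) r
  obtain ⟨Y, y, s, rfl⟩ := exists_germ p F m
  let gX := IsCofiltered.minToLeft (Functor.elementsMk p.fiber X x) (Functor.elementsMk p.fiber Y y)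
  let gY := IsCofiltered.minToRight (Functor.elementsMk p.fiber X x) (Functor.elementsMk p.fiber Y y)
  refine ⟨_, (IsCofiltered.min (Functor.elementsMk p.fiber X x) (Functor.elementsMk p.fiber Y y)).2,
    (O.obj.map gX.1.op).hom a, F.val.map gY.1.op s, ?_, ?_⟩
  · rw [germRing_res, gX.2]
  · rw [germ_res, gY.2]

/-- The stalk of modules at a point. -/
noncomputable def stalkM : ModSite.Mod O ⥤ ModuleCat.{u} (ModSite.stalkRing p O) where
  obj F := ModSite.stalkMod p F
  map φ := ModSite.stalkMap p φ
  map_id F := ModuleCat.hom_ext <| LinearMap.ext fun m => by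
    show (p.sheafFiber.map ((SheafOfModules.toSheaf (ModSite.ringSh O)).map (𝟙 F))).hom m = m
    rw [CategoryTheory.Functor.map_id, CategoryTheory.Functor.map_id]
    rfl
  map_comp φ ψ := ModuleCat.hom_ext <| LinearMap.ext fun m => by
    show (p.sheafFiber.map ((SheafOfModules.toSheaf (ModSite.ringSh O)).map (φ ≫ ψ))).hom m = _
    rw [CategoryTheory.Functor.map_comp, CategoryTheory.Functor.map_comp]
    rfl

lemma stalkM_map_germ {F G : ModSite.Mod O} (φ : F ⟶ G) (U : C) (x : p.fiber.obj U) (s : ModSite.sect F U) :
    (stalkM p).map φ (ModSite.germ p F U x s) = ModSite.germ p G U x ((φ.val.app (op U)).hom s) :=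
  p.toPresheafFiber_naturality_apply ((SheafOfModules.toSheaf (ModSite.ringSh O)).map φ).hom U x s

/-- Forgetting the module structure. -/
noncomputable def stalkMForgetIso :
    stalkM p ⋙ forget₂ (ModuleCat.{u} (ModSite.stalkRing p O)) AddCommGrpCat.{u} ≅
      SheafOfModules.toSheaf (ModSite.ringSh O) ⋙ p.sheafFiber :=
  NatIso.ofComponents (fun F => Iso.refl _)

instance additive_stalkM : (stalkM (O := O) p).Additive where
  map_add {F G φ ψ} := by
    refine ModuleCat.hom_ext (LinearMap.ext fun m => ?_)
    obtain ⟨U, x, s, rfl⟩ := exists_germ p F m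
    show (stalkM p).map (φ + ψ) _ = (stalkM p).map φ _ + (stalkM p).map ψ _
    rw [stalkM_map_germ, stalkM_map_germ, stalkM_map_germ, ← germ_add]
    rfl

/-! ### Skyscraper modules -/

variable (A : ModuleCat.{u} (ModSite.stalkRing p O))

/-- The action of sections on a module over the stalk. -/
noncomputable abbrev fibModule (U : C) (x : p.fiber.obj U) : Module (O.obj.obj (op U)) A :=
  Module.compHom A (p.toPresheafFiber U x O.obj).hom

/-- Sections of the skyscraper module. -/
def SkySec (U : Cᵒᵖ) : Type u := p.fiber.obj U.unop → A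

noncomputable instance (U : Cᵒᵖ) : AddCommGroup (SkySec p A U) :=
  inferInstanceAs (AddCommGroup (p.fiber.obj U.unop → A))

noncomputable instance skySecModule (U : Cᵒᵖ) : Module (O.obj.obj U) (SkySec p A U) :=
  letI : ∀ _ : p.fiber.obj U.unop, Module (O.obj.obj U) A := fibModule p A U.unop
  inferInstanceAs (Module (O.obj.obj U) (p.fiber.obj U.unop → A))

lemma smul_apply {U : Cᵒᵖ} (r : O.obj.obj U) (s : SkySec p A U) (x : p.fiber.obj U.unop) :
    (r • s) x = ModSite.germRing p U.unop x r • s x := rfl

/-- The skyscraper presheaf of modules. -/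
noncomputable def skyP : PresheafOfModules.{u} (O.obj ⋙ forget₂ CommRingCat.{u} RingCat.{u}) where
  obj U := ModuleCat.of (O.obj.obj U) (SkySec p A U)
  map {U V} g := ModuleCat.ofHom (Y := (ModuleCat.restrictScalars (O.obj.map g).hom).obj
      (ModuleCat.of (O.obj.obj V) (SkySec p A V)))
    { toFun := fun s y => s (p.fiber.map g.unop y)
      map_add' := fun _ _ => rfl
      map_smul' := fun r s => funext fun y => by
        show ModSite.germRing p U.unop (p.fiber.map g.unop y) r • s _ =
          ModSite.germRing p V.unop y ((O.obj.map g).hom r) • s _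
        rw [show g = g.unop.op from rfl, germRing_res]
        rfl }
  map_id U := ModuleCat.hom_ext <| LinearMap.ext fun s => funext fun y => by
    show s (p.fiber.map (𝟙 U.unop) y) = s y
    rw [CategoryTheory.Functor.map_id]; rfl
  map_comp {U V W} g h := ModuleCat.hom_ext <| LinearMap.ext fun s => funext fun y => by
    show s (p.fiber.map (h.unop ≫ g.unop) y) = s (p.fiber.map g.unop (p.fiber.map h.unop y))
    rw [CategoryTheory.Functor.map_comp]; rfl

/-- Families of elements as the product in abelian groups. -/
noncomputable def piIso (ι : Type u) (B : AddCommGrpCat.{u}) :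
    AddCommGrpCat.of (ι → B) ≅ ∏ᶜ fun _ : ι => B :=
  IsLimit.conePointUniqueUpToIso
    (mkFanLimit (Fan.mk (AddCommGrpCat.of (ι → B)) fun i => AddCommGrpCat.ofHom (Pi.evalAddMonoidHom (fun _ => B) i))
      (fun t => AddCommGrpCat.ofHom (Pi.addMonoidHom fun i => (t.proj i).hom))
      (fun t i => rfl)
      (fun t m hm => AddCommGrpCat.hom_ext <| AddMonoidHom.ext fun a => funext fun i =>
        congrArg (fun k : t.pt ⟶ B => k.hom a) (hm i)))
    (limit.isLimit _)

lemma piIso_π (ι : Type u) (B : AddCommGrpCat.{u}) (i : ι) :
    (piIso ι B).hom ≫ Pi.π (fun _ : ι => B) i = AddCommGrpCat.ofHom (Pi.evalAddMonoidHom (fun _ => B) i) :=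
  IsLimit.conePointUniqueUpToIso_hom_comp _ (limit.isLimit (Discrete.functor fun _ : ι => B)) (Discrete.mk i)

/-- The underlying presheaf of the skyscraper module is the skyscraper presheaf. -/
noncomputable def skyPresheafIso : (skyP p A).presheaf ≅ p.skyscraperPresheaf (AddCommGrpCat.of A) :=
  NatIso.ofComponents (fun U => piIso (p.fiber.obj U.unop) (AddCommGrpCat.of A)) fun {U V} g => by
    apply Pi.hom_ext
    intro y
    refine (Category.assoc _ _ _).trans ?_
    refine Eq.trans ?_ (Category.assoc _ _ _).symm
    refine (congrArg (fun t => (skyP p A).presheaf.map g ≫ t) (piIso_π _ _ _)).trans ?_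
    refine Eq.trans ?_ (congrArg (fun t => (piIso _ _).hom ≫ t) (?_ :
      (p.skyscraperPresheaf (AddCommGrpCat.of A)).map g ≫ Pi.π (fun _ : p.fiber.obj V.unop => AddCommGrpCat.of A) y =
        Pi.π (fun _ : p.fiber.obj U.unop => AddCommGrpCat.of A) (p.fiber.map g.unop y))).symm
    · exact (piIso_π _ _ _).symm
    · simp

/-- The skyscraper sheaf of modules. -/
noncomputable def skyObj : ModSite.Mod O where
  val := skyP p A
  isSheaf := (Presheaf.isSheaf_of_iso_iff (skyPresheafIso p A)).2 (p.isSheaf_skyscraperPresheaf _)

/-- The skyscraper functor. -/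
noncomputable def sky : ModuleCat.{u} (ModSite.stalkRing p O) ⥤ ModSite.Mod O where
  obj A := skyObj p A
  map {A B} g := ⟨PresheafOfModules.homMk
    { app := fun U => AddCommGrpCat.ofHom
        { toFun := fun (s : SkySec p A U) => ((fun x => g.hom (s x)) : SkySec p B U)
          map_zero' := funext fun x => map_zero g.hom
          map_add' := fun a b => funext fun x => map_add g.hom _ _ }
      naturality := fun U V h => rfl }
    (fun U r s => funext fun x => map_smul g.hom _ _)⟩

variable {A}

/-- The adjunct of a map out of the stalk. -/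
noncomputable def toSky {F : ModSite.Mod O} (φ : (stalkM p).obj F ⟶ A) : F ⟶ (sky p).obj A :=
  ⟨PresheafOfModules.homMk
    { app := fun U => AddCommGrpCat.ofHom
        { toFun := fun (s : F.val.obj U) =>
            ((fun x => φ (ModSite.germ p F U.unop x s)) : SkySec p A U)
          map_zero' := funext fun x => by
            show φ _ = (0 : A)
            rw [show ModSite.germ p F U.unop x 0 = 0 from map_zero _, map_zero]
          map_add' := fun a b => funext fun x => by
            show φ _ = φ _ + φ _
            rw [germ_add, map_add] }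
      naturality := fun U V h => by
        refine AddCommGrpCat.hom_ext <| AddMonoidHom.ext fun s => funext fun y => ?_
        exact congrArg φ.hom (germ_res p F h.unop y s) }
    (fun U r s => funext fun x =>
      (congrArg φ.hom (ModSite.germ_smul p F U.unop x r s)).trans (map_smul φ.hom _ _))⟩

lemma toSky_app {F : ModSite.Mod O} (φ : (stalkM p).obj F ⟶ A) (U : C) (s : ModSite.sect F U) (x : p.fiber.obj U) :
    ((toSky p φ).val.app (op U)).hom s x = φ (ModSite.germ p F U x s) := rfl

/-- The additive adjunct of a map to the skyscraper. -/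
noncomputable def descSkyAdd {F : ModSite.Mod O} (ψ : F ⟶ (sky p).obj A) :
    ModSite.stalkAb p F ⟶ AddCommGrpCat.of A :=
  p.presheafFiberDesc
    (fun U x => AddCommGrpCat.ofHom
      { toFun := fun (s : ModSite.sect F U) => ((ψ.val.app (op U)).hom s : SkySec p A (op U)) x
        map_zero' := congrFun (map_zero (ψ.val.app (op U)).hom) x
        map_add' := fun a b => congrFun (map_add (ψ.val.app (op U)).hom a b) x })
    (fun U V g x => by
      refine AddCommGrpCat.hom_ext <| AddMonoidHom.ext fun s => ?_
      exact congrFun (show ((ψ.val.app (op U)).hom (F.val.map g.op s) : SkySec p A (op U)) =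
          (((sky p).obj A).val.map g.op ((ψ.val.app (op V)).hom s)) from
        PresheafOfModules.naturality_apply ψ.val g.op s) x)

lemma descSkyAdd_germ {F : ModSite.Mod O} (ψ : F ⟶ (sky p).obj A) (U : C) (x : p.fiber.obj U)
    (s : ModSite.sect F U) :
    (descSkyAdd p ψ).hom (ModSite.germ p F U x s) = ((ψ.val.app (op U)).hom s : SkySec p A (op U)) x := by
  show (p.toPresheafFiber U x (ModSite.toAb F).obj ≫ descSkyAdd p ψ).hom s = _
  simp only [descSkyAdd, GrothendieckTopology.Point.toPresheafFiber_presheafFiberDesc]
  rfl

/-- The adjunct of a map to the skyscraper. -/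
noncomputable def descSky {F : ModSite.Mod O} (ψ : F ⟶ (sky p).obj A) : (stalkM p).obj F ⟶ A :=
  ModuleCat.ofHom
    { toFun := fun m => (descSkyAdd p ψ).hom m
      map_add' := fun a b => map_add (descSkyAdd p ψ).hom a b
      map_smul' := fun r m => by
        obtain ⟨U, x, a, s, rfl, rfl⟩ := exists_germ_pair p F r m
        show (descSkyAdd p ψ).hom (ModSite.germRing p U x a • ModSite.germ p F U x s) = _
        rw [← ModSite.germ_smul, descSkyAdd_germ]
        show ((ψ.val.app (op U)).hom (a • s) : SkySec p A (op U)) x = _
        rw [map_smul]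
        exact congrArg (ModSite.germRing p U x a • ·) (descSkyAdd_germ p ψ U x s).symm }

/-- The stalk is left adjoint to the skyscraper. -/
noncomputable def stalkAdj : stalkM (O := O) p ⊣ sky p :=
  Adjunction.mkOfHomEquiv
    { homEquiv := fun F A =>
        { toFun := toSky p
          invFun := descSky p
          left_inv := fun φ => ModuleCat.hom_ext <| LinearMap.ext fun m => by
            obtain ⟨U, x, s, rfl⟩ := exists_germ p F m
            exact descSkyAdd_germ p (toSky p φ) U x s
          right_inv := fun ψ => SheafOfModules.hom_ext <| PresheafOfModules.hom_ext fun U =>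
            ModuleCat.hom_ext <| LinearMap.ext fun s => funext fun x => descSkyAdd_germ p ψ U.unop x s }
      homEquiv_naturality_left_symm := fun {F' F A} f g => ModuleCat.hom_ext <| LinearMap.ext fun m => by
        obtain ⟨U, x, s, rfl⟩ := exists_germ p F' m
        show (descSkyAdd p (f ≫ g)).hom _ = (descSkyAdd p g).hom ((stalkM p).map f (ModSite.germ p F' U x s))
        rw [stalkM_map_germ, descSkyAdd_germ, descSkyAdd_germ]
        rfl
      homEquiv_naturality_right := fun f g => rfl }

instance isLeftAdjoint_stalkM : (stalkM (O := O) p).IsLeftAdjoint := (stalkAdj p).isLeftAdjoint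

instance preservesColimits_stalkM : PreservesColimitsOfSize.{u, u} (stalkM (O := O) p) :=
  (stalkAdj p).leftAdjoint_preservesColimits

instance preservesFiniteColimits_stalkM : PreservesFiniteColimits (stalkM (O := O) p) :=
  PreservesColimitsOfSize.preservesFiniteColimits _

instance preservesFiniteLimits_stalkM : PreservesFiniteLimits (stalkM (O := O) p) := by
  have : PreservesFiniteLimits
      (stalkM (O := O) p ⋙ forget₂ (ModuleCat.{u} (ModSite.stalkRing p O)) AddCommGrpCat.{u}) :=
    preservesFiniteLimits_of_natIso (stalkMForgetIso p).symm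
  exact preservesFiniteLimits_of_reflects_of_preserves (stalkM p)
    (forget₂ (ModuleCat.{u} (ModSite.stalkRing p O)) AddCommGrpCat.{u})

variable {P : ObjectProperty (GrothendieckTopology.Point.{u} J)}

/-- A map bijective on stalks at a conservative family of points is an isomorphism. -/
theorem isIso_of_stalks (hP : P.IsConservativeFamilyOfPoints) {F G : ModSite.Mod O} (f : F ⟶ G)
    (h : ∀ q : P.FullSubcategory, IsIso ((stalkM q.obj).map f)) : IsIso f := by
  have := hP.jointlyReflectIsomorphisms (A := AddCommGrpCat.{u})
  have h' : IsIso ((SheafOfModules.toSheaf (ModSite.ringSh O)).map f) := by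
    refine ((JointlyReflectIsomorphisms.isIso_iff this _).2 fun q => ?_)
    haveI := h q
    exact (inferInstance : IsIso ((forget₂ (ModuleCat.{u} (ModSite.stalkRing q.obj O)) AddCommGrpCat.{u}).map
      ((stalkM q.obj).map f)))
  exact isIso_of_reflects_iso f (SheafOfModules.toSheaf (ModSite.ringSh O))

/-- A map surjective on stalks at a conservative family of points is an epimorphism. -/
theorem epi_of_stalks (hP : P.IsConservativeFamilyOfPoints) {F G : ModSite.Mod O} (f : F ⟶ G)
    (h : ∀ q : P.FullSubcategory, Epi ((stalkM q.obj).map f)) : Epi f := by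
  refine Preadditive.epi_of_cancel_zero f fun {Z} g hg => ?_
  have hz : ∀ q : P.FullSubcategory, (stalkM q.obj).map g = 0 := fun q => by
    haveI := h q
    rw [← cancel_epi ((stalkM q.obj).map f), ← Functor.map_comp, hg, Functor.map_zero, comp_zero]
  haveI : IsIso (kernel.ι g) := isIso_of_stalks hP _ fun q => by
    haveI : IsIso (kernel.ι ((stalkM q.obj).map g)) := kernel.ι_of_zero (hz q)
    rw [← kernelComparison_comp_ι]
    infer_instance
  rw [← cancel_epi (kernel.ι g), kernel.condition, comp_zero]

end Groth.Agent.HTop16.SiteStalk
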