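import Groth.Agent.HTop16.SiteStalkPull
import Mathlib.CategoryTheory.Sites.Point.Skyscraper
import Mathlib.CategoryTheory.Adjunction.Unique

/-!
# Stalks of the inverse image of the structure sheaf

The stalk at `p` of `f⁻¹O_D` is the stalk of `O_D` at the image point, and the stalk of
`f⁻¹O_D ⟶ O_C` is the map of stalks of the structure sheaves.
-/

set_option autoImplicit false
set_option backward.isDefEq.respectTransparency false
set_option backward.isDefEq.respectTransparency.types false
set_option linter.all false

universe u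

open CategoryTheory CategoryTheory.Limits Opposite

namespace Groth.Agent.HTop16.SiteStalk

variable {C D : Type u} [SmallCategory C] [SmallCategory D] {J : GrothendieckTopology C}
  {K : GrothendieckTopology D} {O_C : Sheaf J CommRingCat.{u}} {O_D : Sheaf K CommRingCat.{u}}
  (f : ModSite.RMor O_C O_D) (p : GrothendieckTopology.Point.{u} J) (q : GrothendieckTopology.Point.{u} K)
  (e : q.fiber ≅ f.fn ⋙ p.fiber)

/-- The inclusion of a stalk of the target in the stalk of the pulled-back ring. -/
noncomputable def invStalkMap : ModSite.stalkRing q O_D ⟶ ModSite.stalkRing p f.invRing :=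
  haveI := f.isContinuous
  stalkRingMap
    ({ fn := f.fn, exact := f.exact,
       sharp := (f.fn.sheafAdjunctionContinuous CommRingCat.{u} K J).unit.app O_D } : ModSite.RMor f.invRing O_D)
    p q e

lemma invStalkMap_germ (V : D) (y : q.fiber.obj V) (r : O_D.obj.obj (op V)) :
    haveI := f.isContinuous
    (invStalkMap f p q e).hom (ModSite.germRing q V y r) =
      ModSite.germRing (O := f.invRing) p (f.fn.obj V) (e.hom.app V y)
        ((((f.fn.sheafAdjunctionContinuous CommRingCat.{u} K J).unit.app O_D).hom.app (op V)).hom r) :=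
  haveI := f.isContinuous
  stalkRingMap_germ
    ({ fn := f.fn, exact := f.exact,
       sharp := (f.fn.sheafAdjunctionContinuous CommRingCat.{u} K J).unit.app O_D } : ModSite.RMor f.invRing O_D)
    p q e V y r

/-- The composite with `f⁻¹O_D ⟶ O_C` is the map of stalks. -/
theorem invStalkMap_comp :
    invStalkMap f p q e ≫ (p.sheafFiber (A := CommRingCat.{u})).map f.invSharp = stalkRingMap f p q e := by
  haveI := f.isContinuous
  refine CommRingCat.hom_ext (RingHom.ext fun a => ?_)
  obtain ⟨V, y, r, rfl⟩ := q.toPresheafFiber_jointly_surjective (P := O_D.obj) a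
  refine (congrArg ((p.sheafFiber (A := CommRingCat.{u})).map f.invSharp).hom (invStalkMap_germ f p q e V y r)).trans ?_
  refine Eq.trans ?_ (stalkRingMap_germ f p q e V y r).symm
  refine (p.toPresheafFiber_naturality_apply f.invSharp.hom (f.fn.obj V) (e.hom.app V y) _).trans ?_
  have h : (f.fn.sheafAdjunctionContinuous CommRingCat.{u} K J).unit.app O_D ≫
      (f.fn.sheafPushforwardContinuous CommRingCat.{u} K J).map f.invSharp = f.sharp :=
    (Adjunction.homEquiv_unit _ _ _ _).symm.trans
      (((f.fn.sheafAdjunctionContinuous CommRingCat.{u} K J).homEquiv O_D O_C).apply_symm_apply f.sharp)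
  exact congrArg (fun z => ModSite.germRing (O := O_C) p (f.fn.obj V) (e.hom.app V y) z)
    (congrArg (fun k => (k.hom.app (op V)).hom r) h)

/-- Reindexing of a constant product. -/
noncomputable def piReindex {α β : Type u} (g : β ≃ α) (R : CommRingCat.{u}) :
    (∏ᶜ fun _ : α => R) ≅ ∏ᶜ fun _ : β => R where
  hom := Pi.lift fun y => Pi.π (fun _ : α => R) (g y)
  inv := Pi.lift fun x => Pi.π (fun _ : β => R) (g.symm x)
  hom_inv_id := Pi.hom_ext _ _ fun x => by
    rw [Category.assoc, Pi.lift_π, Pi.lift_π, Category.id_comp, g.apply_symm_apply]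
  inv_hom_id := Pi.hom_ext _ _ fun y => by
    rw [Category.assoc, Pi.lift_π, Pi.lift_π, Category.id_comp, g.symm_apply_apply]

lemma piReindex_hom_π {α β : Type u} (g : β ≃ α) (R : CommRingCat.{u}) (y : β) :
    (piReindex g R).hom ≫ Pi.π (fun _ : β => R) y = Pi.π (fun _ : α => R) (g y) :=
  Pi.lift_π _ _

/-- Reindexing of skyscraper presheaves. -/
noncomputable def skyRingPreIso (R : CommRingCat.{u}) :
    f.fn.op ⋙ p.skyscraperPresheaf R ≅ q.skyscraperPresheaf R :=
  NatIso.ofComponents (fun V => piReindex (e.app V.unop).toEquiv R) fun {V W} g => by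
    refine Pi.hom_ext _ _ fun y => ?_
    refine (Category.assoc _ _ _).trans ?_
    refine Eq.trans ?_ (Category.assoc _ _ _).symm
    refine (congrArg (fun t => (f.fn.op ⋙ p.skyscraperPresheaf R).map g ≫ t) (piReindex_hom_π _ R y)).trans ?_
    refine Eq.trans ?_ (congrArg (fun t => (piReindex (e.app V.unop).toEquiv R).hom ≫ t) (?_ :
      (q.skyscraperPresheaf R).map g ≫ Pi.π (fun _ : q.fiber.obj W.unop => R) y =
        Pi.π (fun _ : q.fiber.obj V.unop => R) (q.fiber.map g.unop y))).symm
    · refine Eq.trans ?_ (piReindex_hom_π _ R _).symm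
      simp
      exact congrArg (Pi.π (fun _ : p.fiber.obj (f.fn.obj V.unop) => R))
        (NatTrans.naturality_apply e.hom g.unop y).symm
    · simp

lemma skyRingPreIso_hom_app_π (R : CommRingCat.{u}) (V : Dᵒᵖ) (y : q.fiber.obj V.unop) :
    (skyRingPreIso f p q e R).hom.app V ≫ Pi.π (fun _ : q.fiber.obj V.unop => R) y =
      Pi.π (fun _ : p.fiber.obj (f.fn.obj V.unop) => R) (e.hom.app V.unop y) :=
  piReindex_hom_π _ R y

/-- Reindexing of skyscrapers. -/
noncomputable def skyRingIso :
    haveI := f.isContinuous
    p.skyscraperSheafFunctor (A := CommRingCat.{u}) ⋙ f.fn.sheafPushforwardContinuous CommRingCat.{u} K J ≅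
      q.skyscraperSheafFunctor :=
  haveI := f.isContinuous
  NatIso.ofComponents
    (fun R => (fullyFaithfulSheafToPresheaf K CommRingCat.{u}).preimageIso (skyRingPreIso f p q e R))
    (fun {R S} k => (fullyFaithfulSheafToPresheaf K CommRingCat.{u}).map_injective <| by
      simp only [Functor.map_comp, Functor.FullyFaithful.preimageIso_hom, Functor.FullyFaithful.map_preimage]
      refine NatTrans.ext (funext fun V => Pi.hom_ext _ _ fun y => ?_)
      refine (Category.assoc _ _ _).trans ?_
      refine (congrArg (fun t => _ ≫ t) (skyRingPreIso_hom_app_π f p q e S V y)).trans ?_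
      refine Eq.trans ?_ (Category.assoc _ _ _).symm
      refine Eq.trans ?_ (congrArg (fun t => (skyRingPreIso f p q e R).hom.app V ≫ t) (?_ :
        (q.skyscraperPresheafFunctor.map k).app V ≫ Pi.π (fun _ : q.fiber.obj V.unop => S) y =
          Pi.π (fun _ : q.fiber.obj V.unop => R) y ≫ k)).symm
      · refine Eq.trans ?_ ((Category.assoc _ _ _).trans (congrArg (fun t => t) rfl))
        rw [skyRingPreIso_hom_app_π]
        simp
      · simp)

/-- The stalk of `f⁻¹O_D` is the stalk of `O_D` at the image point. -/
theorem isIso_invStalkMap : IsIso (invStalkMap f p q e) := by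
  haveI := f.isContinuous
  let A₁ := ((f.fn.sheafAdjunctionContinuous CommRingCat.{u} K J).comp
    (p.skyscraperSheafAdjunction (A := CommRingCat.{u}))).ofNatIsoRight (skyRingIso f p q e)
  let A₂ := q.skyscraperSheafAdjunction (A := CommRingCat.{u})
  let i := A₂.leftAdjointUniq A₁
  suffices h : invStalkMap f p q e = i.hom.app O_D by rw [h]; infer_instance
  refine (A₂.homEquiv _ _).injective ?_
  refine Eq.trans ?_ (Adjunction.homEquiv_leftAdjointUniq_hom_app A₂ A₁ O_D).symm
  refine Sheaf.hom_ext (NatTrans.ext (funext fun V => Pi.hom_ext _ _ fun y => ?_))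
  rw [show ((A₂.homEquiv _ _) (invStalkMap f p q e)).hom = q.skyscraperPresheafHomEquiv (invStalkMap f p q e) from
    GrothendieckTopology.Point.skyscraperSheafAdjunction_homEquiv_apply_hom q (invStalkMap f p q e)]
  refine (q.skyscraperPresheafHomEquiv_app_π (invStalkMap f p q e) V.unop y).trans ?_
  refine Eq.trans (b := ((f.fn.sheafAdjunctionContinuous CommRingCat.{u} K J).unit.app O_D).hom.app V ≫
      p.toPresheafFiber (f.fn.obj V.unop) (e.hom.app V.unop y) f.invRing.obj)
    (CommRingCat.hom_ext (RingHom.ext fun r => invStalkMap_germ f p q e V.unop y r)) ?_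
  refine Eq.symm ?_
  show (A₁.unit.app O_D).hom.app V ≫ Pi.π (fun _ : q.fiber.obj V.unop => ModSite.stalkRing p f.invRing) y =
    ((f.fn.sheafAdjunctionContinuous CommRingCat.{u} K J).unit.app O_D).hom.app V ≫
      p.toPresheafFiber (f.fn.obj V.unop) (e.hom.app V.unop y) f.invRing.obj
  simp only [A₁, Adjunction.ofNatIsoRight, Adjunction.comp]
  simp
  erw [skyRingPreIso_hom_app_π]
  refine congrArg (fun t => ((f.fn.sheafAdjunctionContinuous CommRingCat.{u} K J).unit.app O_D).hom.app V ≫ t) ?_
  rw [← Adjunction.homEquiv_id]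
  erw [GrothendieckTopology.Point.skyscraperSheafAdjunction_homEquiv_apply_hom,
    GrothendieckTopology.Point.skyscraperPresheafHomEquiv_app_π]
  exact Category.comp_id _

end Groth.Agent.HTop16.SiteStalk
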