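import Groth.Agent.ToposFinLib.Eps
import Groth.Agent.ToposFinLib.QC
import Groth.Agent.ToposFinLib.Local
import Mathlib.Topology.Sheaves.Sheaf
import Mathlib.CategoryTheory.Sites.Spaces

/-!
# Quasi-compact sheaves of sets on a space
-/

set_option autoImplicit false
set_option linter.all false
set_option backward.isDefEq.respectTransparency false

universe u

open CategoryTheory CategoryTheory.Limits Opposite TopologicalSpace

namespace Groth.Agent.HTop16.SpaceQC

open ToposFinLib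

variable {X : TopCat.{u}}

local notation "J" => Opens.grothendieckTopology X

lemma epsHom_res {W V : Opens X} (g : W ⟶ V) {Z : ToposFin.Sh J} (z : Z.obj.obj (op V)) :
    (epsF J).map g ≫ (epsHom V Z).symm z = (epsHom W Z).symm (Z.obj.map g.op z) := by
  apply (epsHom W Z).injective
  rw [epsHom_map_comp, Equiv.apply_symm_apply, Equiv.apply_symm_apply]

lemma isQC_eps {U : Opens X} (hU : IsCompact (U : Set X)) : ToposFin.IsQC (ToposFin.eps J U) := by
  rw [isQC_eps_iff]
  intro S hS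
  choose V f hf hx using fun x : U => hS x.1 x.2
  obtain ⟨t, ht⟩ := hU.elim_finite_subcover (fun x : U => (V x : Set X)) (fun x => (V x).2)
    (fun x hx' => Set.mem_iUnion.2 ⟨⟨x, hx'⟩, hx ⟨x, hx'⟩⟩)
  refine ⟨t.card, fun k => V (t.equivFin.symm k).1, fun k => f _, fun k => hf _, fun x hx' => ?_⟩
  obtain ⟨i, hi, hxi⟩ := Set.mem_iUnion₂.1 (ht hx')
  exact ⟨V i, f i, (Sieve.mem_ofArrows_iff _ _ _).2 ⟨t.equivFin ⟨i, hi⟩, eqToHom (by simp), Subsingleton.elim _ _⟩, hxi⟩

/-- A finite family of opens with compact intersections has quasi-compact square. -/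
theorem isQC_prod {ι : Type u} [Finite ι] (U : ι → Opens X)
    (h : ∀ i j, IsCompact ((U i ⊓ U j : Opens X) : Set X)) :
    ToposFin.IsQC ((∐ fun i => ToposFin.eps J (U i)) ⨯ (∐ fun i => ToposFin.eps J (U i))) := by
  let K : ToposFin.Sh J := ∐ fun i => ToposFin.eps J (U i)
  let G : ι × ι → ToposFin.Sh J := fun p => ToposFin.eps J (U p.1 ⊓ U p.2)
  let ρ : ∀ p, G p ⟶ K ⨯ K := fun p =>
    prod.lift ((epsF J).map (homOfLE inf_le_left) ≫ Sigma.ι (fun i => ToposFin.eps J (U i)) p.1)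
      ((epsF J).map (homOfLE inf_le_right) ≫ Sigma.ι (fun i => ToposFin.eps J (U i)) p.2)
  refine isQC_of_efam (ρ := ρ) ((efam_iff_famSieve _).2 fun W x => ?_) fun p => isQC_eps (h p.1 p.2)
  have hι : EFam (fun i => Sigma.ι (fun i => ToposFin.eps J (U i)) i) := fun Z a b hab => Sigma.hom_ext _ _ hab
  let s : ToposFin.eps J W.unop ⟶ K ⨯ K := (epsHom W.unop _).symm x
  have key : ∀ (t : ToposFin.eps J W.unop ⟶ K), ∀ y ∈ W.unop, ∃ (W' : Opens X) (g : W' ⟶ W.unop) (i : ι) (e : W' ⟶ U i),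
      y ∈ W' ∧ (epsF J).map g ≫ t = (epsF J).map e ≫ Sigma.ι (fun i => ToposFin.eps J (U i)) i := fun t y hy => by
    obtain ⟨W₁, g₁, ⟨i, z, hz⟩, hy₁⟩ := (efam_iff_famSieve _).1 hι W (epsHom _ _ t) y hy
    obtain ⟨S, hS, hS'⟩ := exists_cover_representable ((epsHom W₁ (ToposFin.eps J (U i))).symm z)
    obtain ⟨W₂, g₂, hg₂, hy₂⟩ := hS y hy₁
    obtain ⟨e, he⟩ := hS' g₂ hg₂
    refine ⟨W₂, g₂ ≫ g₁, i, e, hy₂, ?_⟩
    rw [← he, Functor.map_comp, Category.assoc, Category.assoc]
    congr 1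
    apply (epsHom W₁ _).injective
    rw [epsHom_map_comp, epsHom_comp]
    erw [Equiv.apply_symm_apply]
    exact hz.symm
  intro y hy
  obtain ⟨W₁, g₁, i, e₁, hy₁, h₁⟩ := key (s ≫ prod.fst) y hy
  obtain ⟨W₂, g₂, j, e₂, hy₂, h₂⟩ := key (s ≫ prod.snd) y hy
  let W' : Opens X := W₁ ⊓ W₂
  let g : W' ⟶ W.unop := homOfLE (inf_le_left.trans g₁.le)
  refine ⟨W', g, ⟨(i, j), epsHom W' _ ((epsF J).map (homOfLE (le_inf (inf_le_left.trans e₁.le) (inf_le_right.trans e₂.le)))), ?_⟩, hy₁, hy₂⟩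
  have hs : (epsF J).map (homOfLE (le_inf (inf_le_left.trans e₁.le) (inf_le_right.trans e₂.le)) : W' ⟶ U i ⊓ U j) ≫ ρ (i, j) =
      (epsF J).map g ≫ s := by
    refine Limits.prod.hom_ext ?_ ?_
    · simp only [ρ, Category.assoc, prod.lift_fst]
      have := congrArg ((epsF J).map (homOfLE (inf_le_left : W' ≤ W₁)) ≫ ·) h₁
      simp only [← Category.assoc, ← Functor.map_comp] at this ⊢
      simp only [Category.assoc]
      exact ((this.symm).trans (by rfl))
    · simp only [ρ, Category.assoc, prod.lift_snd]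
      have := congrArg ((epsF J).map (homOfLE (inf_le_right : W' ≤ W₂)) ≫ ·) h₂
      simp only [← Category.assoc, ← Functor.map_comp] at this ⊢
      simp only [Category.assoc]
      exact ((this.symm).trans (by rfl))
  have := congrArg (epsHom W' (K ⨯ K)) hs
  rw [epsHom_comp, epsHom_map_comp] at this
  simp only [s, Equiv.apply_symm_apply] at this
  exact this

/-- Covers of the space by opens. -/
theorem exists_cover_of_epi (F : ToposFin.Sh J) [Epi (terminal.from F)] (x : X) :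
    ∃ V : Opens X, x ∈ V ∧ Nonempty (F.obj.obj (op V)) := by
  let h := ((efam_iff_famSieve _).1 (EFam.of_epi.{u, 0} (terminal.from F)) (op (⊤ : Opens X))
    ((terminal.from (ToposFin.eps J (⊤ : Opens X))).hom.app _ (epsη _)))
  obtain ⟨V, g, ⟨_, z, _⟩, hx⟩ := h x trivial
  exact ⟨V, hx, ⟨z⟩⟩

theorem epi_terminal_sigma {ι : Type u} (U : ι → Opens X) (hU : iSup U = ⊤) :
    Epi (terminal.from (∐ fun i => ToposFin.eps J (U i))) := by
  refine ⟨fun {Z} a b h => ?_⟩
  have hef : EFam (fun i => terminal.from (ToposFin.eps J (U i))) := (efam_iff_famSieve _).2 fun W t y hy => by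
    obtain ⟨i, hi⟩ := Opens.mem_iSup.1 (hU ▸ trivial : y ∈ iSup U)
    refine ⟨W.unop ⊓ U i, homOfLE inf_le_left, ⟨i, epsHom _ _ ((epsF J).map (homOfLE inf_le_right)), ?_⟩, hy, hi⟩
    exact @Subsingleton.elim _ ((Types.isTerminalEquivUnique _
      (terminalIsTerminal.isTerminalObj (sheafToPresheaf J (Type u) ⋙ (evaluation _ _).obj (op (W.unop ⊓ U i))) _)).instSubsingleton) _ _
  refine hef Z a b fun i => ?_
  show terminal.from (ToposFin.eps J (U i)) ≫ a = terminal.from (ToposFin.eps J (U i)) ≫ b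
  rw [show terminal.from (ToposFin.eps J (U i)) = Sigma.ι (fun i => ToposFin.eps J (U i)) i ≫ terminal.from _ from
    Subsingleton.elim _ _, Category.assoc, Category.assoc, h]

end Groth.Agent.HTop16.SpaceQC
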