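import Groth.Agent.SiteCoh.CompactPull
import Groth.Agent.SiteCoh.NeighColim
import Groth.Agent.H8ProCons.ConsTopology
import Mathlib.Topology.Spectral.Basic

/-!
# Gluing near an intersection of compact opens of a spectral space
-/

set_option autoImplicit false

universe u

open CategoryTheory CategoryTheory.Limits Opposite TopologicalSpace Topology

namespace Groth.Agent.HTop16.Spectral

open Groth.Agent.SiteCoh Groth.Agent.SiteCoh.Compact Groth.Agent.SiteCoh.Pull

variable {X : TopCat.{u}} [SpectralSpace X]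

/-- Intersections of compact opens. -/
def ProQC (A : Set X) : Prop :=
  ∀ x ∉ A, ∃ B : Set X, IsOpen B ∧ IsCompact B ∧ A ⊆ B ∧ x ∉ B

lemma isCompact_of_proQC {A : Set X} (hA : ProQC A) : IsCompact A := by
  have hc : IsClosed[constructibleTopology X] A := by
    refine (@isOpen_compl_iff X A (constructibleTopology X)).1 ?_
    refine (@isOpen_iff_forall_mem_open X (constructibleTopology X) Aᶜ).2 fun x hx => ?_
    obtain ⟨B, hB, hBc, hAB, hxB⟩ := hA x hx
    exact ⟨Bᶜ, Set.compl_subset_compl.2 hAB, H8ProCons.isOpen_cons_compl_of_isCompact hB hBc, hxB⟩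
  have hid : @Continuous X X (constructibleTopology X) _ id :=
    continuous_def.2 fun U hU => H8ProCons.isOpen_cons_of_isOpen hU
  simpa using @IsCompact.image X X (constructibleTopology X) _ A id
    (H8ProCons.isCompact_cons hc) hid

/-- The separation property. -/
lemma exists_qc_nbhd {A : Set X} (hA : ProQC A) {U O : Set X} (hU : IsOpen U) (hUc : IsCompact U)
    (hO : IsOpen O) (h : A ∩ U ⊆ O) :
    ∃ B : Set X, IsOpen B ∧ IsCompact B ∧ A ⊆ B ∧ B ∩ U ⊆ O := by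
  have hC : IsClosed[constructibleTopology X] (U \ O) := by
    refine (@isOpen_compl_iff X (U \ O) (constructibleTopology X)).1 ?_
    rw [Set.diff_eq, Set.compl_inter, compl_compl]
    exact @IsOpen.union X _ _ (constructibleTopology X) (H8ProCons.isOpen_cons_compl_of_isCompact hU hUc)
      (H8ProCons.isOpen_cons_of_isOpen hO)
  let ι := {B : Set X // IsOpen B ∧ IsCompact B ∧ A ⊆ B}
  obtain ⟨t, ht⟩ := @IsCompact.elim_finite_subfamily_closed X (constructibleTopology X) (U \ O) ι (H8ProCons.isCompact_cons hC)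
    (fun B => B.1) (fun B => (@isOpen_compl_iff X B.1 (constructibleTopology X)).1
      (H8ProCons.isOpen_cons_compl_of_isCompact B.2.1 B.2.2.1)) (by
      refine Set.eq_empty_of_forall_notMem fun x ⟨hx, hx'⟩ => ?_
      by_cases hxA : x ∈ A
      · exact hx.2 (h ⟨hxA, hx.1⟩)
      · obtain ⟨B, hB, hBc, hAB, hxB⟩ := hA x hxA
        exact hxB (Set.mem_iInter.1 hx' ⟨B, hB, hBc, hAB⟩))
  refine ⟨⋂₀ ((fun B : ι => B.1) '' (t : Set ι)),
    (t.finite_toSet.image _).isOpen_sInter (by rintro _ ⟨B, -, rfl⟩; exact B.2.1),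
    QuasiSeparatedSpace.isCompact_sInter (t.finite_toSet.image _)
      (by rintro _ ⟨B, -, rfl⟩; exact Or.inl B.2.1) (by rintro _ ⟨B, -, rfl⟩; exact B.2.2.1),
    Set.subset_sInter (by rintro _ ⟨B, -, rfl⟩; exact B.2.2.2), fun x hx => ?_⟩
  by_contra hxO
  refine Set.eq_empty_iff_forall_notMem.1 ht x ⟨⟨hx.2, hxO⟩, ?_⟩
  exact Set.mem_iInter₂.2 fun B hB => hx.1 _ ⟨B, hB, rfl⟩

variable {F : CohTop.Ab X}

/-- A continuous family of germs on an intersection of compact opens comes from a section near it. -/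
theorem exists_section_of_germs {A : Set X} (hA : ProQC A) (σ : ∀ z ∈ A, stk F z)
    (hσ : ∀ a ∈ A, ∃ (O : Opens X) (_ : a ∈ O) (t : F.obj.obj (op O)),
      ∀ z (hz : z ∈ O) (hzA : z ∈ A), germ F hz t = σ z hzA) :
    ∃ (O : Opens X) (t : F.obj.obj (op O)) (h : A ⊆ O),
      ∀ z (hz : z ∈ A), germ F (h hz) t = σ z hz := by
  choose O haO t ht using hσ
  have hqc : ∀ a ∈ A, ∃ U : Opens X, IsCompact (U : Set X) ∧ a ∈ U ∧
      ∃ s : F.obj.obj (op U), ∀ z (hz : z ∈ U) (hzA : z ∈ A), germ F hz s = σ z hzA := by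
    intro a ha
    obtain ⟨U, ⟨hU, hUc⟩, haU, hUO⟩ :=
      PrespectralSpace.isTopologicalBasis.exists_subset_of_mem_open (haO a ha) (O a ha).2
    refine ⟨⟨U, hU⟩, hUc, haU, F.obj.map (homOfLE (show (⟨U, hU⟩ : Opens X) ≤ O a ha from hUO)).op (t a ha),
      fun z hz hzA => ?_⟩
    exact (TopCat.Presheaf.germ_res_apply F.obj _ _ _ _).trans (ht a ha z (hUO hz) hzA)
  choose U hUc haU s hs using hqc
  obtain ⟨T, hT⟩ := (isCompact_of_proQC hA).elim_finite_subcover (fun a : A => (U a.1 a.2 : Set X))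
    (fun a => (U a.1 a.2).2) (fun a ha => Set.mem_iUnion.2 ⟨⟨a, ha⟩, haU a ha⟩)
  let I := {a : A // a ∈ T}
  let Ui : I → Opens X := fun i => U i.1.1 i.1.2
  let si : ∀ i : I, F.obj.obj (op (Ui i)) := fun i => s i.1.1 i.1.2
  have hp : ∀ p : I × I, ∃ B : Set X, IsOpen B ∧ A ⊆ B ∧ ∀ (Z : Opens X) (h₁ : Z ≤ Ui p.1)
      (h₂ : Z ≤ Ui p.2), (Z : Set X) ⊆ B →
      F.obj.map (homOfLE h₁).op (si p.1) = F.obj.map (homOfLE h₂).op (si p.2) := by
    intro p
    obtain ⟨W, hW₁, hW₂, hKW, e⟩ := exists_open_of_germ_eq (si p.1) (si p.2)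
      (K := A ∩ ((Ui p.1 : Set X) ∩ Ui p.2)) (fun z hz => hz.2.1) (fun z hz => hz.2.2)
      (fun z hz => (hs _ _ z hz.2.1 hz.1).trans (hs _ _ z hz.2.2 hz.1).symm)
    obtain ⟨B, hB, -, hAB, hBW⟩ := exists_qc_nbhd hA ((Ui p.1).2.inter (Ui p.2).2)
      (QuasiSeparatedSpace.inter_isCompact _ _ (Ui p.1).2 (hUc _ _) (Ui p.2).2 (hUc _ _)) W.2 hKW
    refine ⟨B, hB, hAB, fun Z h₁ h₂ hZ => ?_⟩
    have hZW : Z ≤ W := fun z hz => hBW ⟨hZ hz, h₁ hz, h₂ hz⟩
    have e' := congrArg (F.obj.map (homOfLE hZW).op) e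
    simp only [← ConcreteCategory.comp_apply, ← Functor.map_comp, ← op_comp] at e'
    exact e'
  choose B hB hAB hBe using hp
  let B' : Opens X := ⟨⋂ p, B p, isOpen_iInter_of_finite hB⟩
  let V : I → Opens X := fun i => Ui i ⊓ B'
  obtain ⟨r, hr, -⟩ := TopCat.Sheaf.existsUnique_gluing' F V (iSup V)
    (fun i => homOfLE (le_iSup V i)) le_rfl
    (fun i => F.obj.map (homOfLE (inf_le_left : V i ≤ Ui i)).op (si i)) (fun i j => by
      refine Eq.trans ?_ ((hBe (i, j) (V i ⊓ V j) (inf_le_left.trans inf_le_left)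
        (inf_le_right.trans inf_le_left) fun z hz => Set.mem_iInter.1 hz.1.2 (i, j)).trans ?_)
      · simp only [← ConcreteCategory.comp_apply, ← Functor.map_comp, ← op_comp]
        rfl
      · simp only [← ConcreteCategory.comp_apply, ← Functor.map_comp, ← op_comp]
        rfl)
  have hAV : ∀ z ∈ A, ∃ i, z ∈ V i := fun z hz => by
    obtain ⟨a, haT, hza⟩ := Set.mem_iUnion₂.1 (hT hz)
    exact ⟨⟨a, haT⟩, hza, Set.mem_iInter.2 fun p => hAB p hz⟩
  refine ⟨iSup V, r, fun z hz => Opens.mem_iSup.2 (hAV z hz), fun z hz => ?_⟩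
  obtain ⟨i, hi⟩ := hAV z hz
  have e := congrArg (TopCat.Presheaf.germ F.obj (V i) z hi) (hr i)
  exact (TopCat.Presheaf.germ_res_apply F.obj _ z _ r).symm.trans
    (e.trans ((TopCat.Presheaf.germ_res_apply F.obj (homOfLE _) z _ _).trans (hs _ _ z hi.1 hz)))

variable {Z : TopCat.{u}}

/-- A subspace which is an intersection of compact opens. -/
structure IsProSub (g : Z ⟶ X) : Prop where
  emb : Topology.IsEmbedding g
  pro : ProQC (Set.range g)

variable {g : Z ⟶ X} (hg : IsProSub g)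
include hg

lemma IsProSub.proQC_image {U : Set X} (hU : IsOpen U) (hUc : IsCompact U) :
    ProQC (g '' (g ⁻¹' U)) := by
  rw [Set.image_preimage_eq_inter_range]
  intro x hx
  by_cases hxU : x ∈ U
  · obtain ⟨B, hB, hBc, hAB, hxB⟩ := hg.pro x fun h => hx ⟨hxU, h⟩
    exact ⟨U ∩ B, hU.inter hB, QuasiSeparatedSpace.inter_isCompact U B hU hUc hB hBc,
      fun y hy => ⟨hy.1, hAB hy.2⟩, fun h => hxB h.2⟩
  · exact ⟨U, hU, hUc, fun y hy => hy.1, hxU⟩

lemma IsProSub.isCompact_preimage {U : Set X} (hU : IsOpen U) (hUc : IsCompact U) :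
    IsCompact (g ⁻¹' U) :=
  hg.emb.isCompact_iff.2 (isCompact_of_proQC (hg.proQC_image hU hUc))

lemma IsProSub.exists_qc_preimage (W : Opens Z) (hW : IsCompact (W : Set Z)) :
    ∃ U : Set X, IsOpen U ∧ IsCompact U ∧ g ⁻¹' U = (W : Set Z) := by
  obtain ⟨O, hO, e⟩ := hg.emb.isInducing.isOpen_iff.1 W.2
  obtain ⟨S, hS, rfl⟩ := PrespectralSpace.isTopologicalBasis.open_eq_sUnion hO
  replace e : g ⁻¹' (⋃₀ S) = (W : Set Z) := e
  obtain ⟨T, hTS, hT, hWT⟩ := hW.elim_finite_subcover_image (b := S) (c := fun s => g ⁻¹' s)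
    (fun s hs => (hS hs).1.preimage g.hom.continuous) (by
      intro z hz
      rw [← e] at hz
      obtain ⟨s, hs, hzs⟩ := hz
      exact Set.mem_biUnion hs hzs)
  refine ⟨⋃ s ∈ T, s, isOpen_biUnion fun s hs => (hS (hTS hs)).1,
    hT.isCompact_biUnion fun s hs => (hS (hTS hs)).2, Set.Subset.antisymm (fun z hz => ?_) ?_⟩
  · obtain ⟨s, hs, hzs⟩ := Set.mem_iUnion₂.1 hz
    exact e ▸ ⟨s, hTS hs, hzs⟩
  · intro z hz
    obtain ⟨s, hs, hzs⟩ := Set.mem_iUnion₂.1 (hWT hz)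
    exact Set.mem_iUnion₂.2 ⟨s, hs, hzs⟩

lemma IsProSub.compactSpace : CompactSpace Z := by
  refine ⟨hg.emb.isCompact_iff.2 ?_⟩
  rw [Set.image_univ]
  exact isCompact_of_proQC hg.pro

/-- Sections on a compact open of the subspace come from a neighbourhood. -/
theorem exists_germ_section (F : CohTop.Ab X) (W : Opens Z) (hW : IsCompact (W : Set Z))
    (τ : ((CohTop.pull g).obj F).obj.obj (op W)) :
    ∃ (O : Opens X) (h : ∀ z : Z, z ∈ W → g z ∈ O) (t : F.obj.obj (op O)),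
      ∀ z (hz : z ∈ W), germMap g F z (germ F (h z hz) t) = germ ((CohTop.pull g).obj F) hz τ := by
  obtain ⟨U₀, hU₀, hU₀c, hU₀W⟩ := hg.exists_qc_preimage W hW
  let A := g '' (W : Set Z)
  have hA : ProQC A := by
    have := hg.proQC_image hU₀ hU₀c
    rwa [hU₀W] at this
  choose pre hpreW hpre using fun (x : X) (hx : x ∈ A) => hx
  let inv : ∀ z, stk ((CohTop.pull g).obj F) z → stk F (g z) := fun z =>
    (Equiv.ofBijective _ (bijective_germMap g F z)).symm
  have hinv : ∀ z (c : stk F (g z)) (d), germMap g F z c = d → c = inv z d := fun z c d e =>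
    ((Equiv.ofBijective _ (bijective_germMap g F z)).eq_symm_apply).2 e
  let σ : ∀ x ∈ A, stk F x := fun x hx =>
    (hpre x hx) ▸ inv (pre x hx) (germ ((CohTop.pull g).obj F) (hpreW x hx) τ)
  have hσ : ∀ (z : Z) (hz : z ∈ W),
      σ (g z) ⟨z, hz, rfl⟩ = inv z (germ ((CohTop.pull g).obj F) hz τ) := by
    intro z hz
    have : ∀ (w : Z) (hwW : w ∈ W) (hw : g w = g z),
        hw ▸ inv w (germ ((CohTop.pull g).obj F) hwW τ) =
          inv z (germ ((CohTop.pull g).obj F) hz τ) := by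
      intro w hwW hw
      obtain rfl : w = z := hg.emb.injective hw
      rfl
    exact this _ _ _
  obtain ⟨O, t, h, ht⟩ := exists_section_of_germs hA σ (by
    rintro _ ⟨z, hz, rfl⟩
    obtain ⟨U, W', hW'W, hW'U, t, hzW', e⟩ := exists_local g F τ hz
    obtain ⟨O, hO, hO'⟩ := hg.emb.isInducing.isOpen_iff.1 W'.2
    refine ⟨U ⊓ ⟨O, hO⟩, ⟨hW'U hzW', (Set.ext_iff.1 hO' z).2 hzW'⟩,
      F.obj.map (homOfLE inf_le_left).op t, ?_⟩
    rintro _ hw ⟨w, hwW₀, rfl⟩
    refine Eq.trans ?_ (hσ w hwW₀).symm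
    refine hinv w _ _ ?_
    have hwW : w ∈ W' := (Set.ext_iff.1 hO' w).1 hw.2
    rw [show germ F hw (F.obj.map (homOfLE inf_le_left).op t) = germ F hw.1 t from
      TopCat.Presheaf.germ_res_apply F.obj _ _ _ t, germMap_germ]
    have e' := congrArg (TopCat.Presheaf.germ ((CohTop.pull g).obj F).obj W' w hwW) e
    exact ((TopCat.Presheaf.germ_res_apply _ (homOfLE _) w hwW _).symm.trans
      (e'.symm.trans (TopCat.Presheaf.germ_res_apply _ (homOfLE _) w hwW τ))))
  refine ⟨O, fun z hz => h ⟨z, hz, rfl⟩, t, fun z hz => ?_⟩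
  rw [show germ F (h ⟨z, hz, rfl⟩) t = σ (g z) ⟨z, hz, rfl⟩ from ht (g z) ⟨z, hz, rfl⟩, hσ z hz]
  exact (Equiv.ofBijective _ (bijective_germMap g F z)).apply_symm_apply _

end Groth.Agent.HTop16.Spectral
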