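import Groth.Agent.HTop16.SpectralNbhd
import Groth.Agent.HTop16.RelMV
import Groth.Agent.SiteCoh.ProperStalk
import Mathlib.CategoryTheory.Filtered.Final

/-!
# Restriction to an intersection of compact opens of a spectral space
-/

set_option autoImplicit false

universe u

open CategoryTheory CategoryTheory.Limits Opposite TopologicalSpace Topology

namespace Groth.Agent.HTop16.Spectral

open Groth.Agent.SiteCoh Groth.Agent.SiteCoh.Compact Groth.Agent.SiteCoh.Pull

section Acyclic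

variable {Z : TopCat.{u}}

/-- Restrictions between compact opens are surjective. -/
def QcFlasque (G : CohTop.Ab Z) : Prop :=
  ∀ (U V : Opens Z) (h : U ≤ V), IsCompact (U : Set Z) → IsCompact (V : Set Z) →
    Function.Surjective (G.obj.map (homOfLE h).op)

lemma qcFlasque_of_isFlasque (G : CohTop.Ab Z) [TopCat.Sheaf.IsFlasque G] : QcFlasque G :=
  fun _ _ h _ _ => (AddCommGrpCat.epi_iff_surjective _).1
    ((inferInstance : TopCat.Sheaf.IsFlasque G).epi (homOfLE h).op)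

variable (hb : IsTopologicalBasis {U : Set Z | IsOpen U ∧ IsCompact U})
  (hq : ∀ U V : Set Z, IsOpen U → IsCompact U → IsOpen V → IsCompact V → IsCompact (U ∩ V))
include hb hq

lemma surjective_of_qcFlasque {S : ShortComplex (CohTop.Ab Z)} (hS : S.ShortExact)
    (h₁ : QcFlasque S.X₁) (U : Opens Z) (hU : IsCompact (U : Set Z)) :
    Function.Surjective (S.g.hom.app (op U)) := by
  intro x
  haveI := hS.epi_g
  let p : Set Z → Prop := fun T => ∃ (W : Opens Z) (hWU : W ≤ U), IsCompact (W : Set Z) ∧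
    T ∩ U ⊆ W ∧ ∃ y, S.g.hom.app (op W) y = S.X₃.obj.map (homOfLE hWU).op x
  suffices p (U : Set Z) by
    obtain ⟨W, hWU, -, hUW, y, hy⟩ := this
    obtain rfl : W = U := le_antisymm hWU fun z hz => hUW ⟨hz, hz⟩
    refine ⟨y, hy.trans ?_⟩
    exact ConcreteCategory.congr_hom (S.X₃.obj.map_id _) x
  refine hU.induction_on (p := p) ?_ (fun T T' hTT ⟨W, hWU, hc, hT', h⟩ =>
    ⟨W, hWU, hc, (Set.inter_subset_inter_left _ hTT).trans hT', h⟩) ?_ ?_
  · refine ⟨⊥, bot_le, by simp, by simp, 0, ?_⟩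
    haveI : Subsingleton (S.X₃.obj.obj (op (⊥ : Opens Z))) :=
      AddCommGrpCat.subsingleton_of_isZero (TopCat.Sheaf.isTerminalOfEmpty S.X₃).isZero
    exact Subsingleton.elim _ _
  · rintro T₁ T₂ ⟨W₁, h₁U, hc₁, hT₁, y₁, hy₁⟩ ⟨W₂, h₂U, hc₂, hT₂, y₂, hy₂⟩
    obtain ⟨a, ha⟩ := sections_exact hS (W₁ ⊓ W₂)
      (S.X₂.obj.map (homOfLE (inf_le_left : W₁ ⊓ W₂ ≤ W₁)).op y₁ -
        S.X₂.obj.map (homOfLE (inf_le_right : W₁ ⊓ W₂ ≤ W₂)).op y₂) (by
        rw [map_sub, NatTrans.naturality_apply, NatTrans.naturality_apply, hy₁, hy₂,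
          RelMV.res_comp S.X₃ h₁U inf_le_left, RelMV.res_comp S.X₃ h₂U inf_le_right, sub_self])
    obtain ⟨a', rfl⟩ := h₁ (W₁ ⊓ W₂) W₂ inf_le_right (hq _ _ W₁.2 hc₁ W₂.2 hc₂) hc₂ a
    obtain ⟨y, hy, hy'⟩ := (RelMV.glue_two S.X₂ (le_sup_left : W₁ ≤ W₁ ⊔ W₂) le_sup_right
      (inf_le_left : W₁ ⊓ W₂ ≤ W₁) inf_le_right le_rfl le_rfl).2 y₁
      (y₂ + S.f.hom.app (op W₂) a') (by
        rw [map_add, ← NatTrans.naturality_apply, ha, add_sub_cancel])
    refine ⟨W₁ ⊔ W₂, sup_le h₁U h₂U, hc₁.union hc₂, ?_, y, ?_⟩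
    · rw [Set.union_inter_distrib_right]
      exact Set.union_subset_union hT₁ hT₂
    · refine (RelMV.glue_two S.X₃ (le_sup_left : W₁ ≤ W₁ ⊔ W₂) le_sup_right
        (inf_le_left : W₁ ⊓ W₂ ≤ W₁) inf_le_right le_rfl le_rfl).1 _ _ ?_ ?_
      · rw [← NatTrans.naturality_apply, hy, hy₁, RelMV.res_comp]
      · rw [← NatTrans.naturality_apply, hy', map_add, hy₂, sections_comp_eq_zero, add_zero,
          RelMV.res_comp]
  · intro z hz
    obtain ⟨R, hR, hlift⟩ := exists_local_lift S.g x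
    obtain ⟨W', k, hk, hzW'⟩ := hR z hz
    obtain ⟨B, ⟨hB, hBc⟩, hzB, hBW⟩ := hb.exists_subset_of_mem_open hzW' W'.2
    refine ⟨B, mem_nhdsWithin_of_mem_nhds (hB.mem_nhds hzB), ⟨B, hB⟩,
      show (⟨B, hB⟩ : Opens Z) ≤ U from fun w hw => (leOfHom k) (hBW hw), hBc, fun w hw => hw.1, ?_⟩
    exact hlift (homOfLE _) (R.downward_closed hk (homOfLE (show (⟨B, hB⟩ : Opens Z) ≤ W' from hBW)))

theorem subsingleton_HU_of_qcFlasque (G : CohTop.Ab Z) (hG : QcFlasque G) (U : Opens Z)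
    (hU : IsCompact (U : Set Z)) (n : ℕ) : Subsingleton (CohTop.HU G (n + 1) U) := by
  refine subsingleton_HU_of_class (J := Opens.grothendieckTopology Z) QcFlasque
    (fun V : Opens Z => IsCompact (V : Set Z)) (fun F hF => ?_) hG hU n
  have hS := injEmbed_shortExact F
  have hs := fun (V : Opens Z) hV => surjective_of_qcFlasque hb hq hS hF V hV
  refine ⟨fun A B h hA hB x => ?_, hs⟩
  haveI : Injective (injEmbed F).X₂ := inferInstanceAs (Injective (Injective.under F))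
  haveI := isFlasque_of_injective (injEmbed F).X₂
  obtain ⟨y, rfl⟩ := hs A hA x
  obtain ⟨y', rfl⟩ := qcFlasque_of_isFlasque (injEmbed F).X₂ A B h hA hB y
  exact ⟨(injEmbed F).g.hom.app (op B) y', (NatTrans.naturality_apply _ _ _).symm⟩

end Acyclic

variable {X Z : TopCat.{u}} [SpectralSpace X] {g : Z ⟶ X} (hg : IsProSub g)
include hg

lemma IsProSub.basis : IsTopologicalBasis {U : Set Z | IsOpen U ∧ IsCompact U} := by
  refine isTopologicalBasis_of_isOpen_of_nhds (fun U hU => hU.1) fun z U hz hU => ?_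
  obtain ⟨O, hO, rfl⟩ := hg.emb.isInducing.isOpen_iff.1 hU
  change g z ∈ O at hz
  obtain ⟨B, ⟨hB, hBc⟩, hzB, hBO⟩ :=
    PrespectralSpace.isTopologicalBasis.exists_subset_of_mem_open hz hO
  exact ⟨g ⁻¹' B, ⟨hB.preimage g.hom.continuous, hg.isCompact_preimage hB hBc⟩, hzB,
    Set.preimage_mono hBO⟩

lemma IsProSub.inter_isCompact (U V : Set Z) (hU : IsOpen U) (hUc : IsCompact U) (hV : IsOpen V)
    (hVc : IsCompact V) : IsCompact (U ∩ V) := by
  obtain ⟨A, hA, hAc, eA⟩ := hg.exists_qc_preimage ⟨U, hU⟩ hUc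
  obtain ⟨B, hB, hBc, eB⟩ := hg.exists_qc_preimage ⟨V, hV⟩ hVc
  change g ⁻¹' A = U at eA
  change g ⁻¹' B = V at eB
  rw [← eA, ← eB, ← Set.preimage_inter]
  exact hg.isCompact_preimage (hA.inter hB) (QuasiSeparatedSpace.inter_isCompact _ _ hA hAc hB hBc)

/-- The restriction of a flasque sheaf is flasque on compact opens. -/
theorem qcFlasque_pull (F : CohTop.Ab X) [TopCat.Sheaf.IsFlasque F] :
    QcFlasque ((CohTop.pull g).obj F) := by
  intro U V h hU _ τ
  obtain ⟨O, hO, t, ht⟩ := exists_germ_section hg F U hU τ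
  obtain ⟨T, rfl⟩ := (AddCommGrpCat.epi_iff_surjective _).1
    ((inferInstance : TopCat.Sheaf.IsFlasque F).epi (homOfLE (le_top : O ≤ ⊤)).op) t
  refine ⟨((CohTop.pull g).obj F).obj.map (homOfLE (le_top : V ≤ ⊤)).op
    (restrTop g F ⊤ (fun _ => trivial) T), TopCat.Presheaf.section_ext _ _ _ _ fun z hz => ?_⟩
  refine (TopCat.Presheaf.germ_res_apply _ (homOfLE h) z hz _).trans ?_
  refine (TopCat.Presheaf.germ_res_apply _ (homOfLE le_top) z (h hz) _).trans ?_
  refine (germ_restrTop F _ T z).trans (Eq.trans ?_ (ht z hz))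
  exact congrArg (germMap g F z) (TopCat.Presheaf.germ_res_apply F.obj (homOfLE _) (g z) _ T).symm

theorem subsingleton_HU_pull (F : CohTop.Ab X) [TopCat.Sheaf.IsFlasque F] (n : ℕ) :
    Subsingleton (CohTop.HU ((CohTop.pull g).obj F) (n + 1) (⊤ : Opens Z)) :=
  haveI := hg.compactSpace
  subsingleton_HU_of_qcFlasque hg.basis hg.inter_isCompact _ (qcFlasque_pull hg F) ⊤
    isCompact_univ n

theorem nonempty_pull_sections_derived (F : CohTop.Ab X) (q : ℕ) :
    Nonempty (((CohTop.pull g ⋙ sectionsAt (Opens.grothendieckTopology Z) (⊤ : Opens Z)).rightDerived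
        q).obj F ≅ AddCommGrpCat.of (CohTop.H ((CohTop.pull g).obj F) q)) := by
  have := LH.pull_preservesFiniteColimits (a := g)
  let G := sectionsAt (Opens.grothendieckTopology Z) (⊤ : Opens Z)
  obtain ⟨e⟩ := SpecSeq.nonempty_rightDerived_exactComp (CohTop.pull g) G (fun Q hQ p hp => by
    obtain ⟨k, rfl⟩ := Nat.exists_eq_succ_of_ne_zero hp.ne'
    have := isFlasque_of_injective Q
    have := subsingleton_HU_pull hg Q k
    exact (AddCommGrpCat.isZero_of_subsingleton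
      (AddCommGrpCat.of (CohTop.HU ((CohTop.pull g).obj Q) (k + 1) ⊤))).of_iso
        (LH.sectionsAtDerivedIso ⊤ _ _)) F q
  exact ⟨e ≪≫ LH.sectionsAtDerivedIso ⊤ _ q ≪≫ (hUTopEquiv _ q).toAddCommGrpIso⟩

theorem bijective_nbhdDesc (F : CohTop.Ab X) : Function.Bijective (nbhdDesc g F) := by
  refine ⟨(injective_iff_map_eq_zero _).2 fun a ha => ?_, fun τ => ?_⟩
  · obtain ⟨U, t, rfl⟩ := Concrete.colimit_exists_rep _ a
    replace ha := (nbhdDesc_ι g F U t).symm.trans ha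
    obtain ⟨W, hW, hWz, hzero⟩ := exists_res_eq_zero F _ t ha
    let V : (Nbhds g).FullSubcategory := ⟨op W, fun _ ⟨z, hz⟩ => hz ▸ hWz z⟩
    let i : U ⟶ V := ObjectProperty.homMk (homOfLE hW).op
    refine (ConcreteCategory.congr_hom (colimit.w ((Nbhds g).ι ⋙ F.obj) i) t).symm.trans ?_
    refine Eq.trans (congrArg (colimit.ι ((Nbhds g).ι ⋙ F.obj) V)
      (?_ : _ = (0 : F.obj.obj V.obj))) (map_zero _)
    exact hzero
  · obtain ⟨O, hO, t, ht⟩ := exists_germ_section hg F ⊤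
      (by haveI := hg.compactSpace; exact isCompact_univ) τ
    refine ⟨colimit.ι ((Nbhds g).ι ⋙ F.obj) ⟨op O, fun _ ⟨z, hz⟩ => hz ▸ hO z trivial⟩ t, ?_⟩
    refine (nbhdDesc_ι g F ⟨op O, fun _ ⟨z, hz⟩ => hz ▸ hO z trivial⟩ t).trans (TopCat.Presheaf.section_ext _ _ _ _ fun z hz => ?_)
    exact (germ_restrTop F _ t z).trans (ht z hz)

/-- Sections near the subspace are the sections on it. -/
noncomputable def nbhdIso :
    sheafToPresheaf _ AddCommGrpCat.{u} ⋙ nbhdColim g ≅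
      CohTop.pull g ⋙ sectionsAt (Opens.grothendieckTopology Z) (⊤ : Opens Z) :=
  NatIso.ofComponents
    (fun F => @asIso _ _ _ _ (nbhdDesc g F)
      ((ConcreteCategory.isIso_iff_bijective _).2 (bijective_nbhdDesc hg F)))
    (fun {F G} φ => by
      refine colimit.hom_ext fun U => ?_
      refine (colimit.ι_map_assoc (Functor.whiskerLeft (Nbhds g).ι φ.hom) U
        (nbhdDesc g G)).trans ?_
      ext t
      refine (nbhdDesc_ι g G U _).trans ?_
      refine Eq.trans ?_ (congrArg (fun s => ((CohTop.pull g).map φ).hom.app (op ⊤) s)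
        (nbhdDesc_ι g F U t)).symm
      exact (restrTop_naturality φ _ t).symm)

/-- Cohomology of the subspace is the colimit of that of its neighbourhoods. -/
theorem nonempty_colim_iso (F : CohTop.Ab X) (p : ℕ) :
    Nonempty ((nbhdColim g).obj
        ((Sheaf.cohomologyPresheafFunctor (Opens.grothendieckTopology X) p).obj F) ≅
      AddCommGrpCat.of (CohTop.H ((CohTop.pull g).obj F) p)) := by
  have := LH.pull_additive (a := g)
  have : (nbhdColim g).Additive := Functor.additive_of_preserves_binary_products _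
  obtain ⟨e⟩ := nonempty_pull_sections_derived hg F p
  exact ⟨(nbhdColim g).mapIso
      ((sectionsDerivedIso (Opens.grothendieckTopology X) p).app F).symm ≪≫
    ((rightDerivedCompExactIso (sheafToPresheaf _ AddCommGrpCat.{u}) (nbhdColim g) p).app F).symm ≪≫
    (rightDerivedCongr (nbhdIso hg) p).app F ≪≫ e⟩

omit [SpectralSpace X] hg in
/-- Colimits over a cofinal set of neighbourhoods. -/
theorem nonempty_colimit_iso_of_cofinal (P : (Opens X)ᵒᵖ ⥤ AddCommGrpCat.{u})
    (Q : ObjectProperty (Opens X)ᵒᵖ) (hQ : ∀ U, Q U → Nbhds g U)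
    (hcof : ∀ U, Nbhds g U → ∃ V, Q V ∧ V.unop ≤ U.unop) :
    Nonempty (colimit (Q.ι ⋙ P) ≅ (nbhdColim g).obj P) := by
  have : (ObjectProperty.ιOfLE hQ).Final := by
    refine Functor.final_of_exists_of_isFiltered_of_fullyFaithful _ fun U => ?_
    obtain ⟨V, hV, hle⟩ := hcof U.obj U.property
    exact ⟨⟨V, hV⟩, ⟨ObjectProperty.homMk (homOfLE hle).op⟩⟩
  exact ⟨Functor.Final.colimitIso (ObjectProperty.ιOfLE hQ) ((Nbhds g).ι ⋙ P)⟩

end Groth.Agent.HTop16.Spectral
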