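import Groth.Agent.HTop16.SpectralPull
import Mathlib.Topology.Spectral.Hom

/-!
# Generalizations and stalks of higher direct images on spectral spaces
-/

set_option autoImplicit false

universe u

open CategoryTheory CategoryTheory.Limits Opposite TopologicalSpace Topology

namespace Groth.Agent.HTop16.Spectral

open Groth.Agent.SiteCoh Groth.Agent.SiteCoh.Compact Groth.Agent.SiteCoh.Pull

variable {X : TopCat.{u}} [SpectralSpace X]

/-- The generalizations of a set. -/
abbrev gener (E : Set X) : Set X := {x | ∃ e ∈ E, e ∈ closure {x}}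

lemma proQC_gener {E : Set X} (hE : IsCompact E) : ProQC (gener E) := by
  intro x hx
  have h : ∀ e ∈ E, ∃ B : Set X, IsOpen B ∧ IsCompact B ∧ e ∈ B ∧ x ∉ B := fun e he => by
    have hxe : e ∉ closure {x} := fun h => hx ⟨e, he, h⟩
    obtain ⟨B, ⟨hB, hBc⟩, heB, hBx⟩ :=
      PrespectralSpace.isTopologicalBasis.exists_subset_of_mem_open hxe isClosed_closure.isOpen_compl
    exact ⟨B, hB, hBc, heB, fun h => hBx h (subset_closure rfl)⟩
  choose B hB hBc heB hxB using h
  obtain ⟨T, hT⟩ := hE.elim_finite_subcover (fun e : E => B e.1 e.2) (fun e => hB _ _)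
    fun e he => Set.mem_iUnion.2 ⟨⟨e, he⟩, heB e he⟩
  refine ⟨⋃ e ∈ T, B e.1 e.2, isOpen_biUnion fun e _ => hB _ _,
    T.finite_toSet.isCompact_biUnion fun e _ => hBc _ _, ?_, ?_⟩
  · rintro y ⟨e, he, hy⟩
    obtain ⟨o, ho, hey, hyo⟩ : ∃ o : Set X, IsOpen o ∧ e ∈ o ∧ o ⊆ ⋃ e ∈ T, B e.1 e.2 :=
      ⟨_, isOpen_biUnion fun e _ => hB _ _, hT he, subset_rfl⟩
    obtain ⟨z, hz, rfl⟩ := mem_closure_iff.1 hy o ho hey
    exact hyo hz
  · intro h
    obtain ⟨e, -, he⟩ := Set.mem_iUnion₂.1 h
    exact hxB _ _ he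

/-- Cohomology of the generalizations as a colimit over the compact open neighbourhoods. -/
theorem nonempty_colim_gener (E : Set X) (hE : IsCompact E) (F : CohTop.Ab X) (p : ℕ) :
    Nonempty ((colimit (ObjectProperty.ι (fun U : (Opens X)ᵒᵖ =>
        E ⊆ (U.unop : Set X) ∧ IsCompact (U.unop : Set X)) ⋙
        (Sheaf.cohomologyPresheafFunctor (Opens.grothendieckTopology X) p).obj F) :
          AddCommGrpCat.{u}) ≃+
      CohTop.H ((CohTop.pull (TopCat.ofHom ⟨Subtype.val, continuous_subtype_val⟩ :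
        TopCat.of (gener E) ⟶ X)).obj F) p) := by
  let g : TopCat.of (gener E) ⟶ X := TopCat.ofHom ⟨Subtype.val, continuous_subtype_val⟩
  have hr : Set.range g = gener E := Subtype.range_val
  have hg : IsProSub g := ⟨Topology.IsEmbedding.subtypeVal, by rw [hr]; exact proQC_gener hE⟩
  obtain ⟨e⟩ := nonempty_colim_iso hg F p
  have hsub : E ⊆ gener E := fun x hx => ⟨x, hx, subset_closure rfl⟩
  obtain ⟨e'⟩ := nonempty_colimit_iso_of_cofinal (g := g)
    ((Sheaf.cohomologyPresheafFunctor (Opens.grothendieckTopology X) p).obj F)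
    (fun U : (Opens X)ᵒᵖ => E ⊆ (U.unop : Set X) ∧ IsCompact (U.unop : Set X))
    (fun U hU => by
      change Set.range g ⊆ _
      rw [hr]
      rintro x ⟨e, he, hx⟩
      obtain ⟨z, hz, rfl⟩ := mem_closure_iff.1 hx _ U.unop.2 (hU.1 he)
      exact hz)
    (fun U hU => by
      change Set.range g ⊆ _ at hU
      rw [hr] at hU
      obtain ⟨B, hB, hBc, hAB, hBU⟩ := exists_qc_nbhd (proQC_gener hE) isOpen_univ isCompact_univ
        U.unop.2 (Set.inter_subset_left.trans hU)
      exact ⟨op ⟨B, hB⟩, ⟨hsub.trans hAB, hBc⟩, fun x hx => hBU ⟨hx, trivial⟩⟩)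
  exact ⟨(e' ≪≫ e).addCommGroupIsoToAddEquiv⟩

variable {Y : TopCat.{u}} [SpectralSpace Y] {f : X ⟶ Y} (y : Y)

/-- The inclusion of the preimage of the generalizations of a point. -/
noncomputable abbrev genIncl (f : X ⟶ Y) (y : Y) :
    TopCat.of {x : X | y ∈ closure {f x}} ⟶ X :=
  TopCat.ofHom ⟨Subtype.val, continuous_subtype_val⟩

omit [SpectralSpace X] [SpectralSpace Y] in
lemma gen_mem {U : Opens Y} (hy : y ∈ U) (z : TopCat.of {x : X | y ∈ closure {f x}}) :
    genIncl f y z ∈ (Opens.map f).obj U := by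
  obtain ⟨w, hw, hw'⟩ := mem_closure_iff.1 z.2 _ U.2 hy
  obtain rfl := Set.mem_singleton_iff.1 hw'
  exact hw

variable (hf : IsSpectralMap f)
include hf

lemma isProSub_genIncl : IsProSub (genIncl f y) := by
  refine ⟨Topology.IsEmbedding.subtypeVal, ?_⟩
  rw [show Set.range (genIncl f y) = {x : X | y ∈ closure {f x}} from Subtype.range_val]
  intro x hx
  obtain ⟨B, ⟨hB, hBc⟩, hyB, hBx⟩ :=
    PrespectralSpace.isTopologicalBasis.exists_subset_of_mem_open (a := y) hx
      isClosed_closure.isOpen_compl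
  refine ⟨f ⁻¹' B, hB.preimage f.hom.continuous, hf.isCompact_preimage_of_isOpen hB hBc, ?_,
    fun h => hBx h (subset_closure rfl)⟩
  intro z hz
  obtain ⟨w, hw, hw'⟩ := mem_closure_iff.1 hz B hB hyB
  obtain rfl := Set.mem_singleton_iff.1 hw'
  exact hw

lemma exists_tube' {O : Opens X} (h : {x : X | y ∈ closure {f x}} ⊆ O) :
    ∃ U : Opens Y, y ∈ U ∧ (Opens.map f).obj U ≤ O := by
  have hC : IsClosed[constructibleTopology X] (O : Set X)ᶜ :=
    (@isClosed_compl_iff X (constructibleTopology X) (O : Set X)).2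
      (H8ProCons.isOpen_cons_of_isOpen O.2)
  let ι := {B : Set Y // IsOpen B ∧ IsCompact B ∧ y ∈ B}
  obtain ⟨t, ht⟩ := @IsCompact.elim_finite_subfamily_closed X (constructibleTopology X)
    (O : Set X)ᶜ ι (H8ProCons.isCompact_cons hC) (fun B => f ⁻¹' B.1)
    (fun B => (@isOpen_compl_iff X (f ⁻¹' B.1) (constructibleTopology X)).1
      (H8ProCons.isOpen_cons_compl_of_isCompact (B.2.1.preimage f.hom.continuous)
        (hf.isCompact_preimage_of_isOpen B.2.1 B.2.2.1))) (by
      refine Set.eq_empty_of_forall_notMem fun x ⟨hx, hx'⟩ => ?_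
      have hxy : y ∉ closure {f x} := fun h' => hx (h h')
      obtain ⟨B, ⟨hB, hBc⟩, hyB, hBx⟩ :=
        PrespectralSpace.isTopologicalBasis.exists_subset_of_mem_open hxy isClosed_closure.isOpen_compl
      exact hBx (Set.mem_iInter.1 hx' ⟨B, hB, hBc, hyB⟩) (subset_closure rfl))
  refine ⟨⟨⋂ B ∈ t, B.1, t.finite_toSet.isOpen_biInter fun B _ => B.2.1⟩,
    Set.mem_iInter₂.2 fun B _ => B.2.2.2, fun x hx => ?_⟩
  by_contra hxO
  exact Set.eq_empty_iff_forall_notMem.1 ht x
    ⟨hxO, Set.mem_iInter₂.2 fun B hB => Set.mem_iInter₂.1 hx B hB⟩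

omit hf [SpectralSpace X] [SpectralSpace Y] in
/-- The restrictions of sections near the subspace. -/
noncomputable def genCocone (G : CohTop.Ab X) :
    Cocone ((OpenNhds.inclusion y).op ⋙ ((CohTop.push f).obj G).obj) where
  pt := ((CohTop.pull (genIncl f y)).obj G).obj.obj (op ⊤)
  ι :=
    { app := fun U => restrTop (genIncl f y) G ((Opens.map f).obj U.unop.1) (gen_mem y U.unop.2)
      naturality := fun U V i => by
        ext t
        exact restrTop_res G ((Opens.map f).map ((OpenNhds.inclusion y).map i.unop))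
          (gen_mem y V.unop.2) t }

omit hf [SpectralSpace X] [SpectralSpace Y] in
/-- The restriction of the stalk of a direct image. -/
noncomputable def stalkToGen (G : CohTop.Ab X) :
    TopCat.Presheaf.stalk ((CohTop.push f).obj G).obj y ⟶
      ((CohTop.pull (genIncl f y)).obj G).obj.obj (op ⊤) :=
  colimit.desc _ (genCocone y G)

omit hf [SpectralSpace X] [SpectralSpace Y] in
lemma stalkToGen_germ (G : CohTop.Ab X) {U : Opens Y} (hy : y ∈ U)
    (t : G.obj.obj (op ((Opens.map f).obj U))) :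
    stalkToGen y G (TopCat.Presheaf.germ ((CohTop.push f).obj G).obj U y hy t) =
      restrTop (genIncl f y) G ((Opens.map f).obj U) (gen_mem y hy) t :=
  ConcreteCategory.congr_hom (colimit.ι_desc (genCocone y G) (op (⟨U, hy⟩ : OpenNhds y))) t

lemma bijective_stalkToGen (G : CohTop.Ab X) : Function.Bijective (stalkToGen (f := f) y G) := by
  have hg := isProSub_genIncl y hf
  refine ⟨(injective_iff_map_eq_zero _).2 fun a ha => ?_, fun τ => ?_⟩
  · obtain ⟨U, hy, t, rfl⟩ := TopCat.Presheaf.exists_germ_eq ((CohTop.push f).obj G).obj a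
    rw [stalkToGen_germ] at ha
    obtain ⟨W, hW, hWz, hzero⟩ := exists_res_eq_zero G (gen_mem y hy) t ha
    obtain ⟨V, hyV, hVW⟩ := exists_tube' y hf (O := W) fun x hx => hWz ⟨x, hx⟩
    refine (TopCat.Presheaf.germ_res_apply ((CohTop.push f).obj G).obj (Opens.infLELeft U V) y
      ⟨hy, hyV⟩ t).symm.trans ?_
    refine Eq.trans (congrArg (TopCat.Presheaf.germ ((CohTop.push f).obj G).obj (U ⊓ V) y ⟨hy, hyV⟩)
      (?_ : _ = (0 : G.obj.obj (op ((Opens.map f).obj (U ⊓ V)))))) (map_zero _)
    have h' := congrArg (G.obj.map (homOfLE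
      (fun x hx => hVW hx.2 : (Opens.map f).obj (U ⊓ V) ≤ W)).op) hzero
    rw [map_zero, ← ConcreteCategory.comp_apply, ← Functor.map_comp] at h'
    exact h'
  · obtain ⟨O, hO, t, ht⟩ := exists_germ_section hg G ⊤
      (by haveI := hg.compactSpace; exact isCompact_univ) τ
    obtain ⟨V, hyV, hVO⟩ := exists_tube' y hf (O := O) fun x hx => hO ⟨x, hx⟩ trivial
    refine ⟨TopCat.Presheaf.germ ((CohTop.push f).obj G).obj V y hyV
      (G.obj.map (homOfLE hVO).op t), ?_⟩
    rw [stalkToGen_germ]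
    refine (restrTop_res G (homOfLE hVO) _ t).trans
      (TopCat.Presheaf.section_ext _ _ _ _ fun z hz => ?_)
    exact (germ_restrTop G _ t z).trans (ht z hz)

/-- Stalks of direct images, naturally. -/
noncomputable def stalkPushIsoGen :
    CohTop.push f ⋙ stalkSh y ≅
      CohTop.pull (genIncl f y) ⋙ sectionsAt (Opens.grothendieckTopology _)
        (⊤ : Opens (TopCat.of {x : X | y ∈ closure {f x}})) :=
  NatIso.ofComponents
    (fun G => @asIso _ _ _ _ (stalkToGen y G)
      ((ConcreteCategory.isIso_iff_bijective _).2 (bijective_stalkToGen y hf G)))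
    (fun {G G'} φ => by
      refine TopCat.Presheaf.stalk_hom_ext _ fun U hU => ?_
      ext t
      change stalkToGen y G' ((TopCat.Presheaf.stalkFunctor AddCommGrpCat.{u} y).map
          ((CohTop.push f).map φ).hom (TopCat.Presheaf.germ ((CohTop.push f).obj G).obj U y hU t)) =
        ((CohTop.pull (genIncl f y)).map φ).hom.app (op ⊤)
          (stalkToGen y G (TopCat.Presheaf.germ ((CohTop.push f).obj G).obj U y hU t))
      rw [TopCat.Presheaf.stalkFunctor_map_germ_apply, stalkToGen_germ, stalkToGen_germ,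
        restrTop_naturality]
      rfl)

/-- Stalks of higher direct images along a spectral map. -/
theorem nonempty_stalk_rpush (F : CohTop.Ab X) (p : ℕ) :
    Nonempty (CohTop.stalk ((CohTop.Rpush f p).obj F) y ≃+
      CohTop.H ((CohTop.pull (genIncl f y)).obj F) p) := by
  have := LH.pull_additive (a := genIncl f y)
  obtain ⟨e⟩ := nonempty_pull_sections_derived (isProSub_genIncl y hf) F p
  exact ⟨(((rightDerivedCompExactIso (CohTop.push f) (stalkSh y) p).app F).symm ≪≫
    (rightDerivedCongr (stalkPushIsoGen y hf) p).app F ≪≫ e).addCommGroupIsoToAddEquiv⟩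

end Groth.Agent.HTop16.Spectral
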