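import Groth.Agent.HTop16.PairSquare

/-!
# Sections supported on the exceptional locus and closed subschemes
-/

set_option autoImplicit false
set_option backward.isDefEq.respectTransparency false
set_option linter.all false

universe u

open CategoryTheory CategoryTheory.Limits AlgebraicGeometry TopologicalSpace Opposite

namespace Groth.Agent.HTop16.SquareSupp

open ModPairLib in
/-- A morphism under which an open has schematically dense preimage kills the sections vanishing on it. -/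
theorem ker_le_of_dense {Z X : Scheme.{u}} (k : Z ⟶ X) (O : X.Opens) (hkd : ModPairLib.IsDenseOpen (k ⁻¹ᵁ O)) :
    O.ι.ker ≤ k.ker := by
  refine Scheme.IdealSheafData.le_ofIdeals_iff.2 fun V s hs => ?_
  have hs : s ∈ O.ι.ker.ideal V := hs
  have hs' : (O.ι.app V.1).hom s = 0 := Scheme.IdealSheafData.ideal_ofIdeals_le _ _ hs
  rw [Scheme.Opens.ι_app] at hs'
  rw [RingHom.mem_ker]
  refine hkd _ _ ?_
  have hle : k ⁻¹ᵁ V.1 ⊓ k ⁻¹ᵁ O ≤ k ⁻¹ᵁ (O.ι ''ᵁ O.ι ⁻¹ᵁ V.1) := by
    rintro z ⟨hzV, hzO⟩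
    exact ⟨⟨k z, hzO⟩, hzV, rfl⟩
  have hleV : O.ι ''ᵁ O.ι ⁻¹ᵁ V.1 ≤ V.1 := by
    rintro _ ⟨y, hy, rfl⟩
    exact hy
  have h1 : res (k.preimage_mono hleV) ((k.app V.1).hom s) =
      (k.app (O.ι ''ᵁ O.ι ⁻¹ᵁ V.1)).hom (res hleV s) :=
    (ConcreteCategory.congr_hom (k.naturality (homOfLE hleV).op) s).symm
  rw [show res hleV s = 0 from hs', map_zero] at h1
  rw [← res_res (k.preimage_mono hleV) hle, h1, map_zero]

/-- A closed subscheme containing the complement of the exceptional locus has the same supported ideal. -/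
theorem ker_supportedOn_of_section {P X : Scheme.{u}} (j : P ⟶ X) [IsClosedImmersion j] {𝓙 : X.IdealSheafData}
    (hlp : HTop.IsLocPrincipal 𝓙) (t : (ModPair.interior 𝓙).toScheme ⟶ P)
    (ht : t ≫ j = (ModPair.interior 𝓙).ι) :
    ((HTop.supportedOn (𝓙.comap j)).subschemeι ≫ j).ker = HTop.supportedOn 𝓙 := by
  let A := ModPair.interior 𝓙
  let O := ModPair.interior (𝓙.comap j)
  have hO : O = j ⁻¹ᵁ A := ModPairLib.interior_comap _ _
  haveI : IsAffineHom O.ι := PairSquare.isAffineHom_awayFrom (PairSquare.isLocPrincipal_comap hlp j)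
  have hrt : Set.range t ⊆ Set.range O.ι := by
    rw [Scheme.Opens.range_ι]
    rintro _ ⟨y, rfl⟩
    refine hO.ge ?_
    show (t ≫ j) y ∈ A
    rw [ht]
    exact y.2
  have hrs : Set.range (O.ι ≫ j) ⊆ Set.range A.ι := by
    rw [Scheme.Opens.range_ι]
    rintro _ ⟨y, rfl⟩
    exact hO.le y.2
  let t' := IsOpenImmersion.lift O.ι t hrt
  let s := IsOpenImmersion.lift A.ι (O.ι ≫ j) hrs
  have ht' : t' ≫ O.ι = t := IsOpenImmersion.lift_fac _ _ _
  have hs : s ≫ A.ι = O.ι ≫ j := IsOpenImmersion.lift_fac _ _ _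
  haveI : IsIso s := ⟨t', by
    rw [← cancel_mono O.ι, ← cancel_mono j, Category.assoc, Category.assoc, ← Category.assoc t',
      ht', ht, hs, Category.id_comp], by
    rw [← cancel_mono A.ι, Category.assoc, hs, ← Category.assoc, ht', ht, Category.id_comp]⟩
  change O.ι.ker.map j = A.ι.ker
  rw [← Scheme.IdealSheafData.map_bot, ← Scheme.IdealSheafData.map_comp, Scheme.IdealSheafData.map_bot,
    ← hs, Scheme.Hom.ker_comp_of_isIso]

/-- A closed subscheme containing the supported part gives an almost blow up square. -/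
theorem isAlmostBlowUpSquare_of_ker_le {E Z X' X W EW : Scheme.{u}} {e : E ⟶ X'} {π : E ⟶ Z} {b : X' ⟶ X}
    {i : Z ⟶ X} (h : HTop.IsAlmostBlowUpSquare e π b i) (w : W ⟶ X') [IsClosedImmersion w]
    [LocallyOfFinitePresentation w] {eW : EW ⟶ W} {gE : EW ⟶ E} (hEW : IsPullback gE eW e w)
    (hle : w.ker ≤ HTop.supportedOn (i.ker.comap b)) :
    HTop.IsAlmostBlowUpSquare eW (gE ≫ π) (w ≫ b) i := by
  haveI := h.isClosedImmersion
  haveI := h.finitePresentation_base
  haveI := h.isProper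
  haveI := h.finitePresentation
  let A := ModPair.interior (i.ker.comap b)
  let t : A.toScheme ⟶ W := A.ι.toImage ≫ IsClosedImmersion.lift w A.ι.imageι
    (hle.trans (Scheme.IdealSheafData.ker_subschemeι _).ge)
  have ht : t ≫ w = A.ι := by
    change (A.ι.toImage ≫ IsClosedImmersion.lift w A.ι.imageι _) ≫ w = _
    rw [Category.assoc, IsClosedImmersion.lift_fac, Scheme.Hom.toImage_imageι]
  refine ⟨inferInstance, inferInstance, hEW.flip.paste_vert h.isPullback, ?_, inferInstance, inferInstance, ?_⟩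
  · rw [Scheme.IdealSheafData.comap_comp]
    exact PairSquare.isLocPrincipal_comap h.locPrincipal w
  rw [Scheme.IdealSheafData.comap_comp]
  have hker : (HTop.supportedOn (i.ker.comap b)).subschemeι.ker =
      ((HTop.supportedOn ((i.ker.comap b).comap w)).subschemeι ≫ w).ker := by
    rw [Scheme.IdealSheafData.ker_subschemeι, ker_supportedOn_of_section w h.locPrincipal t ht]
  haveI := IsClosedImmersion.isIso_lift (HTop.supportedOn (i.ker.comap b)).subschemeι
    ((HTop.supportedOn ((i.ker.comap b).comap w)).subschemeι ≫ w) hker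
  rw [← Category.assoc, ← IsClosedImmersion.lift_fac (HTop.supportedOn (i.ker.comap b)).subschemeι
    ((HTop.supportedOn ((i.ker.comap b).comap w)).subschemeι ≫ w) hker.le, Category.assoc]
  exact BlowUpLib.isBlowUp_iso_comp _ h.isBlowUp

/-- The converse. -/
theorem ker_le_of_isAlmostBlowUpSquare {E Z X' X W EW : Scheme.{u}} {e : E ⟶ X'} {π : E ⟶ Z} {b : X' ⟶ X}
    {i : Z ⟶ X} (h : HTop.IsAlmostBlowUpSquare e π b i) (w : W ⟶ X') [IsClosedImmersion w]
    {eW : EW ⟶ W} {πW : EW ⟶ Z} (hW : HTop.IsAlmostBlowUpSquare eW πW (w ≫ b) i) :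
    w.ker ≤ HTop.supportedOn (i.ker.comap b) := by
  let A := ModPair.interior (i.ker.comap b)
  let ι := (HTop.supportedOn (i.ker.comap b)).subschemeι
  let ιW := (HTop.supportedOn (i.ker.comap (w ≫ b))).subschemeι
  have hBW : BlowUp.IsBlowUp (ιW ≫ w ≫ b) i.ker := hW.isBlowUp
  have hB : BlowUp.IsBlowUp (ι ≫ b) i.ker := h.isBlowUp
  have hle : HTop.supportedOn (i.ker.comap b) ≤ (ιW ≫ w).ker := by
    refine ker_le_of_dense _ A ?_
    rw [← ModPairLib.interior_comap, ← Scheme.IdealSheafData.comap_comp, Category.assoc]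
    exact ModPairLib.isDenseOpen_interior hBW.1
  let k := IsClosedImmersion.lift ι (ιW ≫ w) ((Scheme.IdealSheafData.ker_subschemeι _).le.trans hle)
  have hk : k ≫ ι = ιW ≫ w := IsClosedImmersion.lift_fac _ _ _
  obtain ⟨k', hk', -⟩ := hBW.2 _ (ι ≫ b) hB.1
  haveI : IsIso k := by
    refine ⟨k', ?_, ?_⟩
    · obtain ⟨u, -, hu⟩ := hBW.2 _ (ιW ≫ w ≫ b) hBW.1
      refine (hu _ ?_).trans (hu _ (Category.id_comp _)).symm
      show (k ≫ k') ≫ ιW ≫ w ≫ b = ιW ≫ w ≫ b
      rw [Category.assoc, hk', reassoc_of% hk]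
    · obtain ⟨u, -, hu⟩ := hB.2 _ (ι ≫ b) hB.1
      refine (hu _ ?_).trans (hu _ (Category.id_comp _)).symm
      show (k' ≫ k) ≫ ι ≫ b = ι ≫ b
      rw [Category.assoc, reassoc_of% hk, hk']
  calc w.ker ≤ (ιW ≫ w).ker := Scheme.Hom.le_ker_comp _ _
    _ = ι.ker := by rw [← hk, Scheme.Hom.ker_comp_of_isIso]
    _ = _ := Scheme.IdealSheafData.ker_subschemeι _

end Groth.Agent.HTop16.SquareSupp
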