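import Groth.Agent.HTop16.VCover
import Groth.Prelude.Def_SGA1

/-!
# V coverings are universally submersive
-/

set_option autoImplicit false
set_option backward.isDefEq.respectTransparency false
set_option linter.all false

universe w w' u

open CategoryTheory CategoryTheory.Limits AlgebraicGeometry TopologicalSpace IsLocalRing

namespace Groth.Agent.HTop16.VCover

/-- In affine schemes an image of a closed set which is stable under specialization is closed. -/
theorem isClosed_image_of_stable {A B : Scheme.{u}} [IsAffine A] [IsAffine B] (f : A ⟶ B) {C : Set A}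
    (hC : IsClosed C) (h : StableUnderSpecialization (f '' C)) : IsClosed (f '' C) := by
  let eA := A.isoSpec.hom.homeomorph
  let eB := B.isoSpec.hom.homeomorph
  have e : eB '' (f '' C) = PrimeSpectrum.comap f.appTop.hom '' (eA '' C) := by
    rw [Set.image_image, Set.image_image]
    refine Set.image_congr fun a _ => ?_
    change (f ≫ B.isoSpec.hom) a = (A.isoSpec.hom ≫ Spec.map f.appTop) a
    rw [Scheme.isoSpec_hom_naturality]
  rw [← eB.isClosed_image, e]
  refine PrimeSpectrum.isClosed_image_of_stableUnderSpecialization _ _ (eA.isClosed_image.2 hC) ?_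
  rw [← e]
  exact h.image eB.isClosedMap.specializingMap

variable {X : Scheme.{u}}

theorem univSubmersive_sigmaDesc (E : PreZeroHypercover.{u} X) (hE : HTop.IsVCover E) :
    SGA1.UnivSubmersive (Sigma.desc E.f) := by
  intro P Y i₁ g p h
  change Topology.IsQuotientMap p
  have key : ∀ U : Y.affineOpens, ∃ (A : Scheme.{u}) (_ : IsAffine A) (f : A ⟶ (U.1 : Scheme.{u})) (q : A ⟶ P),
      q ≫ p = f ≫ U.1.ι ∧ ∀ z' z : (U.1 : Scheme.{u}), z' ⤳ z → ∃ w' w : A, w' ⤳ w ∧ f w' = z' ∧ f w = z := by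
    intro U
    haveI : IsAffine (U.1 : Scheme.{u}) := U.2
    obtain ⟨G, hG, hr⟩ := exists_standardV_refinesOver hE (U.1.ι ≫ g)
    haveI := hG.finite_index
    haveI := hG.isAffine_obj
    choose i a ha using hr
    let q : ∀ j, G.X j ⟶ P := fun j => h.lift (G.f j ≫ U.1.ι) (a j ≫ Sigma.ι E.X (i j)) (by
      rw [Category.assoc, Category.assoc, Sigma.ι_desc, ha])
    refine ⟨∐ G.X, inferInstance, Sigma.desc G.f, Sigma.desc q, Sigma.hom_ext _ _ fun j => ?_, fun z' z hz => ?_⟩
    · rw [Sigma.ι_desc_assoc, Sigma.ι_desc_assoc, h.lift_fst]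
    · obtain ⟨j, v', v, hv, e', e⟩ := exists_specializes_of_hasValLift hG.lift (𝟙 _) hz
      let k : pullback (𝟙 _) (G.f j) ⟶ ∐ G.X := pullback.snd _ _ ≫ Sigma.ι G.X j
      have hk : k ≫ Sigma.desc G.f = pullback.fst (𝟙 _) (G.f j) := by
        simp [k, ← pullback.condition]
      refine ⟨k v', k v, hv.map k.continuous, ?_, ?_⟩
      · rw [← Scheme.Hom.comp_apply, hk, e']
      · rw [← Scheme.Hom.comp_apply, hk, e]
  have hcov : ∀ y : Y, ∃ U : Y.affineOpens, y ∈ U.1 := fun y => by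
    obtain ⟨_, ⟨U, hU, rfl⟩, hy, -⟩ :=
      Y.isBasis_affineOpens.exists_subset_of_mem_open (Set.mem_univ y) isOpen_univ
    exact ⟨⟨U, hU⟩, hy⟩
  rw [Topology.isQuotientMap_iff_isClosed]
  refine ⟨fun y => ?_, fun Z => ⟨fun hZ => hZ.preimage p.continuous, fun hZ => ?_⟩⟩
  · obtain ⟨U, hU⟩ := hcov y
    obtain ⟨A, _, f, q, hq, hl⟩ := key U
    obtain ⟨w', w, -, -, hw⟩ := hl ⟨y, hU⟩ ⟨y, hU⟩ specializes_rfl
    refine ⟨q w, ?_⟩
    rw [← Scheme.Hom.comp_apply, hq, Scheme.Hom.comp_apply, hw]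
    rfl
  · rw [← isOpen_compl_iff, isOpen_iff_forall_mem_open]
    intro y hy
    obtain ⟨U, hU⟩ := hcov y
    haveI : IsAffine (U.1 : Scheme.{u}) := U.2
    obtain ⟨A, _, f, q, hq, hl⟩ := key U
    let Z' : Set (U.1 : Scheme.{u}) := U.1.ι ⁻¹' Z
    have hC : IsClosed (f ⁻¹' Z') := by
      have : f ⁻¹' Z' = q ⁻¹' (p ⁻¹' Z) := by
        ext a
        change (f ≫ U.1.ι) a ∈ Z ↔ (q ≫ p) a ∈ Z
        rw [hq]
      rw [this]
      exact hZ.preimage q.continuous
    have him : f '' (f ⁻¹' Z') = Z' := Set.image_preimage_eq Z' fun z => by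
      obtain ⟨w', w, -, -, hw⟩ := hl z z specializes_rfl
      exact ⟨w, hw⟩
    have hs : StableUnderSpecialization Z' := fun z' z hz hz' => by
      obtain ⟨w', w, hw, e', e⟩ := hl z' z hz
      subst e' e
      exact hw.mem_closed hC hz'
    have hcl : IsClosed Z' := by
      rw [← him] at hs ⊢
      exact isClosed_image_of_stable f hC hs
    exact ⟨U.1.ι '' Z'ᶜ, by rintro _ ⟨z, hz, rfl⟩; exact hz,
      U.1.ι.isOpenEmbedding.isOpenMap _ hcl.isOpen_compl, ⟨⟨y, hU⟩, hy, rfl⟩⟩

end Groth.Agent.HTop16.VCover
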