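import Groth.Agent.SiteTen.Proj
import Groth.Agent.SiteHom16.PullFlat
import Groth.Agent.DerCompLib.LocalLift

/-!
# Pure tensors in the tensor product of sheaves of modules
-/

set_option autoImplicit false
set_option backward.isDefEq.respectTransparency false
set_option linter.all false

universe u

open CategoryTheory CategoryTheory.Limits Opposite MonoidalCategory TensorProduct

namespace Groth.Agent.HTop16.TensorElt

open DerCompLib (Sec secRes secMap Loc)

variable {C : Type u} [SmallCategory C] {J : GrothendieckTopology C} {O : Sheaf J CommRingCat.{u}}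

/-- The underlying presheaf. -/
noncomputable abbrev pre (A : ModSite.Mod O) : ModSite.preMod O := (ModSite.toPre O).obj A

/-- The presheaf tensor product. -/
noncomputable abbrev preTen (A B : ModSite.Mod O) : ModSite.preMod O := pre A ⊗ pre B

/-- A pure tensor as a section of the presheaf tensor product. -/
noncomputable def tp {A B : ModSite.Mod O} {V : C} (a : Sec A V) (b : Sec B V) : (preTen A B).obj (op V) :=
  SiteTen.tmO (pre A) (pre B) (op V) a b

/-- A pure tensor as a section of the tensor product. -/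
noncomputable def tm {A B : ModSite.Mod O} {V : C} (a : Sec A V) (b : Sec B V) : Sec (SiteTen.ten O A B) V :=
  (SiteTen.η O (preTen A B)).app (op V) (tp a b)

variable {A A' B B' Z : ModSite.Mod O} {V W : C}

lemma tm_add_left (a a' : Sec A V) (b : Sec B V) : tm (a + a') b = tm a b + tm a' b :=
  (congrArg ((SiteTen.η O (preTen A B)).app (op V)).hom (TensorProduct.add_tmul a a' b)).trans (map_add _ _ _)

lemma tm_add_right (a : Sec A V) (b b' : Sec B V) : tm a (b + b') = tm a b + tm a b' :=
  (congrArg ((SiteTen.η O (preTen A B)).app (op V)).hom (TensorProduct.tmul_add a b b')).trans (map_add _ _ _)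

lemma tm_smul_left (r : O.obj.obj (op V)) (a : Sec A V) (b : Sec B V) : tm (r • a) b = r • tm a b :=
  (congrArg ((SiteTen.η O (preTen A B)).app (op V)).hom (TensorProduct.smul_tmul' (R := O.obj.obj (op V)) (M := Sec A V) (N := Sec B V) r a b).symm).trans
    (((SiteTen.η O (preTen A B)).app (op V)).hom.map_smul r (tp a b))

lemma tm_smul_right (r : O.obj.obj (op V)) (a : Sec A V) (b : Sec B V) : tm a (r • b) = r • tm a b :=
  (congrArg ((SiteTen.η O (preTen A B)).app (op V)).hom (TensorProduct.tmul_smul (R := O.obj.obj (op V)) (M := Sec A V) (N := Sec B V) r a b)).trans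
    (((SiteTen.η O (preTen A B)).app (op V)).hom.map_smul r (tp a b))

/-- `a ↦ tm a b`. -/
noncomputable def tmL (b : Sec B V) : Sec A V →ₗ[O.obj.obj (op V)] Sec (SiteTen.ten O A B) V where
  toFun a := tm a b
  map_add' a a' := tm_add_left a a' b
  map_smul' r a := tm_smul_left r a b

/-- `b ↦ tm a b`. -/
noncomputable def tmR (a : Sec A V) : Sec B V →ₗ[O.obj.obj (op V)] Sec (SiteTen.ten O A B) V where
  toFun b := tm a b
  map_add' b b' := tm_add_right a b b'
  map_smul' r b := tm_smul_right r a b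

lemma tm_zero_left (b : Sec B V) : tm (0 : Sec A V) b = 0 := (tmL b).map_zero

lemma tm_zero_right (a : Sec A V) : tm a (0 : Sec B V) = 0 := (tmR a).map_zero

lemma tm_sum_left {ι : Type*} (s : Finset ι) (a : ι → Sec A V) (b : Sec B V) :
    tm (∑ i ∈ s, a i) b = ∑ i ∈ s, tm (a i) b := map_sum (tmL b) a s

lemma tm_sum_right {ι : Type*} (s : Finset ι) (a : Sec A V) (b : ι → Sec B V) :
    tm a (∑ i ∈ s, b i) = ∑ i ∈ s, tm a (b i) := map_sum (tmR a) b s

lemma secRes_tm (g : W ⟶ V) (a : Sec A V) (b : Sec B V) :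
    secRes (SiteTen.ten O A B) g (tm a b) = tm (secRes A g a) (secRes B g b) :=
  (PresheafOfModules.naturality_apply (SiteTen.η O (preTen A B)) g.op (tp a b)).symm

lemma secMap_unit {N N' : ModSite.preMod O} (γ : N ⟶ N') (x : N.obj (op V)) :
    secMap ((ModSite.shPre O).map γ) V ((SiteTen.η O N).app (op V) x) =
      (SiteTen.η O N').app (op V) (γ.app (op V) x) :=
  (congrArg (fun φ => φ.app (op V) x) ((SiteTen.shAdj O).unit.naturality γ)).symm

lemma secMap_left (φ : A ⟶ A') (a : Sec A V) (b : Sec B V) :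
    secMap (((ModSite.tensorBi O).map φ).app B) V (tm a b) = tm (secMap φ V a) b :=
  secMap_unit ((ModSite.toPre O).map φ ▷ pre B) (tp a b)

lemma secMap_right (ψ : B ⟶ B') (a : Sec A V) (b : Sec B V) :
    secMap (((ModSite.tensorBi O).obj A).map ψ) V (tm a b) = tm a (secMap ψ V b) :=
  secMap_unit (pre A ◁ (ModSite.toPre O).map ψ) (tp a b)

/-- Every section is locally a finite sum of pure tensors. -/
theorem exists_local_tm (t : Sec (SiteTen.ten O A B) V) :
    Loc J V fun W g => ∃ (n : ℕ) (a : Fin n → Sec A W) (b : Fin n → Sec B W),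
      secRes _ g t = ∑ k, tm (a k) (b k) := by
  haveI := ((J.W_iff_isLocallyBijective _).1 (SiteTen.isW_unit (O := O) (preTen A B))).2
  refine ⟨_, Presheaf.imageSieve_mem J (SiteTen.abMap (SiteTen.η O (preTen A B))) t, ?_⟩
  rintro W g ⟨z, hz⟩
  obtain ⟨s, hs⟩ := TensorProduct.exists_finset (R := O.obj.obj (op W)) (M := Sec A W) (N := Sec B W) z
  refine ⟨s.card, fun k => (s.equivFin.symm k).1.1, fun k => (s.equivFin.symm k).1.2, ?_⟩
  refine Eq.trans hz.symm ?_
  rw [← Finset.sum_coe_sort s] at hs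
  rw [Equiv.sum_comp s.equivFin.symm (fun p : ↥s => tm (A := A) (B := B) p.1.1 p.1.2)]
  refine (congrArg ((SiteTen.η O (preTen A B)).app (op W)).hom hs).trans ?_
  exact map_sum _ _ _

/-- Morphisms out of a tensor product agree when they agree on pure tensors. -/
theorem hom_ext_tm {φ ψ : SiteTen.ten O A B ⟶ Z}
    (h : ∀ (V : C) (a : Sec A V) (b : Sec B V), secMap φ V (tm a b) = secMap ψ V (tm a b)) : φ = ψ := by
  apply SheafOfModules.hom_ext
  refine PresheafOfModules.hom_ext fun X => ModuleCat.hom_ext (LinearMap.ext fun t => ?_)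
  obtain ⟨S, hS, hS'⟩ := exists_local_tm (A := A) (B := B) (V := X.unop) t
  refine DerCompLib.sec_ext Z S hS (secMap φ X.unop t) (secMap ψ X.unop t) fun W g hg => ?_
  obtain ⟨n, a, b, e⟩ := hS' g hg
  rw [← DerCompLib.secMap_secRes, ← DerCompLib.secMap_secRes, e, map_sum, map_sum]
  exact Finset.sum_congr rfl fun k _ => h W _ _

/-- Morphisms out of a double tensor product agree when they agree on pure tensors. -/
theorem hom_ext_tm₂ {D : ModSite.Mod O} {φ ψ : SiteTen.ten O (SiteTen.ten O A B) D ⟶ Z}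
    (h : ∀ (V : C) (a : Sec A V) (b : Sec B V) (d : Sec D V),
      secMap φ V (tm (tm a b) d) = secMap ψ V (tm (tm a b) d)) : φ = ψ := by
  refine hom_ext_tm fun V t d => ?_
  obtain ⟨S, hS, hS'⟩ := exists_local_tm (A := A) (B := B) (V := V) t
  refine DerCompLib.sec_ext Z S hS _ _ fun W g hg => ?_
  obtain ⟨n, a, b, e⟩ := hS' g hg
  rw [← DerCompLib.secMap_secRes, ← DerCompLib.secMap_secRes, secRes_tm, e, tm_sum_left, map_sum, map_sum]
  exact Finset.sum_congr rfl fun k _ => h W _ _ _

/-- Vanishing sums of pure tensors vanish locally as tensors. -/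
theorem exists_local_tp {n : ℕ} (a : Fin n → Sec A V) (b : Fin n → Sec B V) (h : ∑ k, tm (a k) (b k) = 0) :
    Loc J V fun W g =>
      (∑ k, (secRes A g (a k)) ⊗ₜ[O.obj.obj (op W)] (secRes B g (b k)) : Sec A W ⊗[O.obj.obj (op W)] Sec B W) = 0 := by
  haveI := ((J.W_iff_isLocallyBijective _).1 (SiteTen.isW_unit (O := O) (preTen A B))).1
  have e : (SiteTen.η O (preTen A B)).app (op V) (∑ k, tp (a k) (b k)) =
      (SiteTen.η O (preTen A B)).app (op V) 0 :=
    ((map_sum ((SiteTen.η O (preTen A B)).app (op V)).hom _ _).trans h).trans (map_zero _).symm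
  refine ⟨_, Presheaf.equalizerSieve_mem J (SiteTen.abMap (SiteTen.η O (preTen A B))) (X := op V) _ _ e,
    fun W g hg => ?_⟩
  refine Eq.trans ?_ ((Eq.trans hg ((SiteTen.res (preTen A B) g).map_zero)))
  refine Eq.symm ?_
  exact map_sum (SiteTen.res (preTen A B) g) _ _

variable (A B)

/-- `(A ⊗ B) ⊗ F ⟶ (A ⊗ F) ⊗ B`. -/
noncomputable def sig (F : ModSite.Mod O) :
    SiteTen.ten O (SiteTen.ten O A B) F ⟶ SiteTen.ten O (SiteTen.ten O A F) B :=
  ((SiteTen.shTenRightIso F).app (preTen A B)).inv ≫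
    (ModSite.shPre O).map ((α_ _ _ _).hom ≫ (pre A ◁ (β_ _ _).hom) ≫ (α_ _ _ _).inv ≫
      (SiteTen.η O (preTen A F) ▷ pre B))

variable {A B}

lemma sig_tm {F : ModSite.Mod O} (a : Sec A V) (b : Sec B V) (x : Sec F V) :
    secMap (sig A B F) V (tm (tm a b) x) = tm (tm a x) b := by
  let γ := (α_ (pre A) (pre B) (pre F)).hom ≫ (pre A ◁ (β_ _ _).hom) ≫ (α_ _ _ _).inv ≫
    (SiteTen.η O (preTen A F) ▷ pre B)
  let z : (preTen A B ⊗ pre F).obj (op V) := SiteTen.tmO (preTen A B) (pre F) (op V) (tp a b) x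
  have h₁ : secMap ((SiteTen.shTenRightIso F).app (preTen A B)).hom V
      ((SiteTen.η O (preTen A B ⊗ pre F)).app (op V) z) = tm (tm a b) x :=
    secMap_unit (SiteTen.η O (preTen A B) ▷ pre F) z
  show secMap ((ModSite.shPre O).map γ) V (secMap ((SiteTen.shTenRightIso F).app (preTen A B)).inv V _) = _
  rw [← h₁, ← DerCompLib.secMap_comp, Iso.hom_inv_id]
  exact secMap_unit γ z

end Groth.Agent.HTop16.TensorElt
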