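import Groth.Agent.SiteHom16.LocalFree
import Groth.Agent.SiteTen.Over
import Groth.Agent.SiteTen.Flat
import Groth.Agent.SiteTen.Tensor
import Mathlib.Algebra.Category.ModuleCat.Sheaf.LocallyFree
import Mathlib.CategoryTheory.Limits.Shapes.Products

/-!
# Permanence of local generation and presentation under tensor products
-/

set_option autoImplicit false
set_option backward.isDefEq.respectTransparency false
set_option backward.isDefEq.respectTransparency.types false
set_option linter.all false

universe u

open CategoryTheory CategoryTheory.Limits Opposite MonoidalCategory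

namespace Groth.Agent.HTop16.TensorPerm

variable {C : Type u} [SmallCategory C] {J : GrothendieckTopology C} {O : Sheaf J CommRingCat.{u}}

open SheafOfModules (free freeFunctor ιFree)

/-- `M ⊗ O = M`. -/
noncomputable def tenUnitRight (M : ModSite.Mod O) : SiteTen.ten O M (ModSite.unit O) ≅ M :=
  ((SiteTen.tenFlipIso M).app (ModSite.unit O)).symm ≪≫ SiteTen.tenUnitIso M

/-- A free module tensored with a free module is free. -/
noncomputable def freeTenFree (I I' : Type u) :
    SiteTen.ten O (free (R := ModSite.ringSh O) I) (free (R := ModSite.ringSh O) I') ≅ free (I × I') :=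
  haveI : HasCoproductsOfShape I' (ModSite.Mod O) := inferInstance
  PreservesCoproduct.iso ((ModSite.tensorBi O).obj (free (R := ModSite.ringSh O) I)) _ ≪≫
    Sigma.mapIso (g := fun _ : I' => ∐ fun _ : I => ModSite.unit O)
      (fun _ : I' => tenUnitRight (free (R := ModSite.ringSh O) I)) ≪≫
    (haveI : ∀ _ : I', HasCoproduct (fun _ : I => ModSite.unit O) := fun _ =>
       (inferInstance : HasCoproduct (fun _ : I => ModSite.unit O))
     haveI : HasCoproduct (fun _ : I' => ∐ fun _ : I => ModSite.unit O) := inferInstance
     @sigmaSigmaIso _ _ _ (fun _ : I' => I) (fun (_ : I') (_ : I) => ModSite.unit O)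
       (fun _ => (inferInstance : HasCoproduct (fun _ : I => ModSite.unit O))) inferInstance) ≪≫
    Sigma.whiskerEquiv (f := fun _ : Σ _ : I', I => ModSite.unit O) (g := fun _ : I × I' => ModSite.unit O)
      ((Equiv.sigmaEquivProd I' I).trans (Equiv.prodComm I' I)) (fun _ => Iso.refl _)

/-- Generating sections from an epimorphism out of a free module. -/
noncomputable def genOfEpi {M : ModSite.Mod O} {I : Type u} (π : free (R := ModSite.ringSh O) I ⟶ M) [Epi π] :
    SheafOfModules.GeneratingSections M where
  I := I
  s := M.freeHomEquiv π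
  epi := by simpa using! (inferInstance : Epi π)

lemma genOfEpi_π {M : ModSite.Mod O} {I : Type u} (π : free (R := ModSite.ringSh O) I ⟶ M) [Epi π] :
    (genOfEpi π).π = π :=
  M.freeHomEquiv.symm_apply_apply π

variable {M N : ModSite.Mod O}

/-- The product of generating maps. -/
noncomputable def tenπ (G : SheafOfModules.GeneratingSections M) (H : SheafOfModules.GeneratingSections N) :
    free (R := ModSite.ringSh O) (G.I × H.I) ⟶ SiteTen.ten O M N :=
  (freeTenFree G.I H.I).inv ≫ ((ModSite.tensorBi O).map G.π).app (free H.I) ≫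
    ((ModSite.tensorBi O).obj M).map H.π

instance epi_tenπ (G : SheafOfModules.GeneratingSections M) (H : SheafOfModules.GeneratingSections N) :
    Epi (tenπ G H) := by
  haveI : Epi (((ModSite.tensorBi O).flip.obj (free (R := ModSite.ringSh O) H.I)).map G.π) := inferInstance
  haveI : Epi (((ModSite.tensorBi O).map G.π).app (free H.I)) := this
  haveI : Epi (((ModSite.tensorBi O).obj M).map H.π) := inferInstance
  unfold tenπ
  infer_instance

/-- Generators of a tensor product. -/
noncomputable def tenGen (G : SheafOfModules.GeneratingSections M) (H : SheafOfModules.GeneratingSections N) :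
    SheafOfModules.GeneratingSections (SiteTen.ten O M N) :=
  genOfEpi (tenπ G H)

lemma isIso_tenGen (G : SheafOfModules.GeneratingSections M) (H : SheafOfModules.GeneratingSections N)
    [IsIso G.π] [IsIso H.π] : IsIso (tenGen G H).π := by
  rw [tenGen, genOfEpi_π]
  unfold tenπ
  infer_instance

/-- The cokernel property of a presentation of a tensor product. -/
theorem isColimit_ten {R₁ G₁ R₂ G₂ : ModSite.Mod O} (r₁ : R₁ ⟶ G₁) (p₁ : G₁ ⟶ M) (w₁ : r₁ ≫ p₁ = 0)
    (h₁ : IsColimit (CokernelCofork.ofπ p₁ w₁)) (r₂ : R₂ ⟶ G₂) (p₂ : G₂ ⟶ N) (w₂ : r₂ ≫ p₂ = 0)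
    (h₂ : IsColimit (CokernelCofork.ofπ p₂ w₂)) {T : ModSite.Mod O} (k : SiteTen.ten O G₁ G₂ ⟶ T)
    (k₁ : ((ModSite.tensorBi O).map r₁).app G₂ ≫ k = 0) (k₂ : ((ModSite.tensorBi O).obj G₁).map r₂ ≫ k = 0) :
    ∃ l : SiteTen.ten O M N ⟶ T, (((ModSite.tensorBi O).map p₁).app G₂ ≫ ((ModSite.tensorBi O).obj M).map p₂) ≫ l = k := by
  obtain ⟨l₁, hl₁⟩ := CokernelCofork.IsColimit.desc'
    (CokernelCofork.mapIsColimit _ h₁ ((ModSite.tensorBi O).flip.obj G₂)) k k₁
  have hl₁' : ((ModSite.tensorBi O).map p₁).app G₂ ≫ (show SiteTen.ten O M G₂ ⟶ T from l₁) = k := hl₁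
  haveI : Epi p₁ := Cofork.IsColimit.epi h₁
  haveI : Epi (((ModSite.tensorBi O).map p₁).app R₂) :=
    (inferInstance : Epi (((ModSite.tensorBi O).flip.obj R₂).map p₁))
  have hk : ((ModSite.tensorBi O).obj M).map r₂ ≫ (show SiteTen.ten O M G₂ ⟶ T from l₁) = 0 := by
    rw [← cancel_epi (((ModSite.tensorBi O).map p₁).app R₂), comp_zero, ← Category.assoc,
      ← ((ModSite.tensorBi O).map p₁).naturality r₂, Category.assoc, hl₁', k₂]
  obtain ⟨l, hl⟩ := CokernelCofork.IsColimit.desc'
    (CokernelCofork.mapIsColimit _ h₂ ((ModSite.tensorBi O).obj M)) (show SiteTen.ten O M G₂ ⟶ T from l₁) hk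
  exact ⟨l, (Category.assoc _ _ _).trans ((congrArg (fun t => ((ModSite.tensorBi O).map p₁).app G₂ ≫ t) hl).trans hl₁')⟩

/-- The relations of a tensor product. -/
noncomputable def tenRel (P : SheafOfModules.Presentation M) (Q : SheafOfModules.Presentation N) :
    free (R := ModSite.ringSh O) ((P.relations.I × Q.generators.I) ⊕ (P.generators.I × Q.relations.I)) ⟶
      free (R := ModSite.ringSh O) (P.generators.I × Q.generators.I) :=
  Sigma.desc (Sum.rec
    (fun i => ιFree i ≫ (freeTenFree P.relations.I Q.generators.I).inv ≫
      ((ModSite.tensorBi O).map (P.relations.π ≫ kernel.ι P.generators.π)).app (free Q.generators.I) ≫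
      (freeTenFree P.generators.I Q.generators.I).hom)
    (fun i => ιFree i ≫ (freeTenFree P.generators.I Q.relations.I).inv ≫
      ((ModSite.tensorBi O).obj (free P.generators.I)).map (Q.relations.π ≫ kernel.ι Q.generators.π) ≫
      (freeTenFree P.generators.I Q.generators.I).hom))

lemma tenRel_tenπ (P : SheafOfModules.Presentation M) (Q : SheafOfModules.Presentation N) :
    tenRel P Q ≫ tenπ P.generators Q.generators = 0 := by
  refine Sigma.hom_ext _ _ fun i => ?_
  unfold tenRel tenπ
  rw [comp_zero, Sigma.ι_desc_assoc]
  rcases i with i | i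
  · simp only [Category.assoc, Iso.hom_inv_id_assoc]
    rw [← NatTrans.comp_app_assoc, ← Functor.map_comp, Category.assoc, kernel.condition, comp_zero, Functor.map_zero]
    simp
  · simp only [Category.assoc, Iso.hom_inv_id_assoc]
    rw [((ModSite.tensorBi O).map P.generators.π).naturality_assoc, ← Functor.map_comp, Category.assoc,
      kernel.condition, comp_zero, Functor.map_zero]
    simp

/-- A presentation of a tensor product. -/
noncomputable def tenPres (P : SheafOfModules.Presentation M) (Q : SheafOfModules.Presentation N) :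
    SheafOfModules.Presentation (SiteTen.ten O M N) :=
  SheafOfModules.presentationOfIsCokernelFree (tenRel P Q) (tenπ P.generators Q.generators) (tenRel_tenπ P Q)
    (CokernelCofork.IsColimit.ofπ' _ _ fun {T} k hk => by
      have a₁ : ((ModSite.tensorBi O).map (P.relations.π ≫ kernel.ι P.generators.π)).app (free Q.generators.I) ≫
          (freeTenFree P.generators.I Q.generators.I).hom ≫ k = 0 := by
        rw [← cancel_epi (freeTenFree P.relations.I Q.generators.I).inv, comp_zero]
        refine Sigma.hom_ext _ _ fun i => ?_
        rw [comp_zero]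
        have h := congrArg (fun t => Sigma.ι _ (Sum.inl i) ≫ t) hk
        simp only [tenRel, comp_zero, Sigma.ι_desc_assoc, Category.assoc] at h
        exact h
      have a₂ : ((ModSite.tensorBi O).obj (free P.generators.I)).map (Q.relations.π ≫ kernel.ι Q.generators.π) ≫
          (freeTenFree P.generators.I Q.generators.I).hom ≫ k = 0 := by
        rw [← cancel_epi (freeTenFree P.generators.I Q.relations.I).inv, comp_zero]
        refine Sigma.hom_ext _ _ fun i => ?_
        rw [comp_zero]
        have h := congrArg (fun t => Sigma.ι _ (Sum.inr i) ≫ t) hk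
        simp only [tenRel, comp_zero, Sigma.ι_desc_assoc, Category.assoc] at h
        exact h
      have hl := isColimit_ten _ P.generators.π _ P.isColimit _ Q.generators.π _ Q.isColimit
        ((freeTenFree P.generators.I Q.generators.I).hom ≫ k) a₁ a₂
      refine ⟨hl.choose, ?_⟩
      have h := hl.choose_spec
      unfold tenπ
      rw [Category.assoc, h, Iso.inv_hom_id_assoc])

end Groth.Agent.HTop16.TensorPerm

namespace Groth.Agent.HTop16.TensorPerm

variable {C : Type u} [SmallCategory C] {J : GrothendieckTopology C} {O : Sheaf J CommRingCat.{u}}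
  (F G : ModSite.Mod O)

/-- Restricting generators to a smaller object. -/
noncomputable def resGen {X W : C} (g : W ⟶ X)
    (σ : SheafOfModules.GeneratingSections ((ModSite.restr O X).obj F)) :
    SheafOfModules.GeneratingSections ((ModSite.restr O W).obj F) :=
  haveI := SiteHom16.preservesColimits_overRes (O := O) g
  (σ.map (SiteHom16.overRes g) (SheafOfModules.overMapUnitIso (R := ModSite.ringSh O) g).symm)

/-- Restricting a presentation to a smaller object. -/
noncomputable def resPres {X W : C} (g : W ⟶ X)
    (σ : SheafOfModules.Presentation ((ModSite.restr O X).obj F)) :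
    SheafOfModules.Presentation ((ModSite.restr O W).obj F) :=
  haveI := SiteHom16.preservesColimits_overRes (O := O) g
  (σ.map (SiteHom16.overRes g) (SheafOfModules.overMapUnitIso (R := ModSite.ringSh O) g).symm)

lemma isIso_resGen {X W : C} (g : W ⟶ X)
    (σ : SheafOfModules.GeneratingSections ((ModSite.restr O X).obj F)) [IsIso σ.π] : IsIso (resGen F g σ).π := by
  haveI := SiteHom16.preservesColimits_overRes (O := O) g
  have h : (resGen F g σ).π =
    σ.mapFreeHom (SiteHom16.overRes g) (SheafOfModules.overMapUnitIso (R := ModSite.ringSh O) g).symm :=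
      (SheafOfModules.freeHomEquiv _).symm_apply_apply _
  rw [h]
  unfold SheafOfModules.GeneratingSections.mapFreeHom
  infer_instance

/-- Restriction commutes with tensor products. -/
noncomputable def restrTen (W : C) :
    SiteTen.ten (O.over W) ((ModSite.restr O W).obj F) ((ModSite.restr O W).obj G) ≅
      (ModSite.restr O W).obj (SiteTen.ten O F G) :=
  ((SiteTen.restrTenIso O W F).app G).symm

variable {F G}

/-- A common refinement of two coverings. -/
abbrev Refn {α β : Type*} (X : α → C) (Y : β → C) : Type u :=
  {W : C // ∃ i j, Nonempty (W ⟶ X i) ∧ Nonempty (W ⟶ Y j)}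

theorem coversTop_refn {α β : Type*} {X : α → C} {Y : β → C} (hX : J.CoversTop X) (hY : J.CoversTop Y) :
    J.CoversTop (fun W : Refn X Y => W.1) := fun Z => by
  refine J.superset_covering ?_ (J.intersection_covering (hX Z) (hY Z))
  rintro W g ⟨⟨i, ⟨a⟩⟩, ⟨j, ⟨b⟩⟩⟩
  exact ⟨⟨W, i, j, ⟨a⟩, ⟨b⟩⟩, ⟨𝟙 W⟩⟩

variable (σ : SheafOfModules.LocalGeneratorsData.{u} (R := ModSite.ringSh O) F)
  (τ : SheafOfModules.LocalGeneratorsData.{u} (R := ModSite.ringSh O) G)

/-- Generators over the refinement, left factor. -/
noncomputable def genL (W : Refn σ.X τ.X) : SheafOfModules.GeneratingSections ((ModSite.restr O W.1).obj F) :=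
  resGen F W.2.choose_spec.choose_spec.1.some (σ.generators W.2.choose)

/-- Generators over the refinement, right factor. -/
noncomputable def genR (W : Refn σ.X τ.X) : SheafOfModules.GeneratingSections ((ModSite.restr O W.1).obj G) :=
  resGen G W.2.choose_spec.choose_spec.2.some (τ.generators W.2.choose_spec.choose)

/-- Local generators of a tensor product. -/
noncomputable def tenLocal : SheafOfModules.LocalGeneratorsData.{u} (R := ModSite.ringSh O) (SiteTen.ten O F G) where
  I := Refn σ.X τ.X
  X W := W.1
  coversTop := coversTop_refn σ.coversTop τ.coversTop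
  generators W := (tenGen (genL σ τ W) (genR σ τ W)).ofEpi (restrTen F G W.1).hom

theorem isFiniteType_ten (hF : SheafOfModules.IsFiniteType (R := ModSite.ringSh O) F)
    (hG : SheafOfModules.IsFiniteType (R := ModSite.ringSh O) G) :
    SheafOfModules.IsFiniteType (R := ModSite.ringSh O) (SiteTen.ten O F G) := by
  obtain ⟨σ, hσ⟩ := hF.exists_localGeneratorsData
  obtain ⟨τ, hτ⟩ := hG.exists_localGeneratorsData
  constructor
  refine ⟨tenLocal.{u} σ τ, ?_⟩
  constructor
  intro W
  constructor
  haveI := (hσ.isFiniteType W.2.choose).finite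
  haveI := (hτ.isFiniteType W.2.choose_spec.choose).finite
  exact (inferInstance : Finite ((σ.generators W.2.choose).I × (τ.generators W.2.choose_spec.choose).I))

theorem isLocallyFree_ten (hF : SheafOfModules.IsLocallyFree (R := ModSite.ringSh O) F)
    (hG : SheafOfModules.IsLocallyFree (R := ModSite.ringSh O) G) :
    SheafOfModules.IsLocallyFree (R := ModSite.ringSh O) (SiteTen.ten O F G) := by
  obtain ⟨σ, hσ⟩ := hF.exists_isLocallyFreeData
  obtain ⟨τ, hτ⟩ := hG.exists_isLocallyFreeData
  constructor
  refine ⟨tenLocal.{u} σ τ, ?_⟩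
  constructor
  intro W
  haveI := hσ.isIso W.2.choose
  haveI := hτ.isIso W.2.choose_spec.choose
  haveI := isIso_resGen F W.2.choose_spec.choose_spec.1.some (σ.generators W.2.choose)
  haveI := isIso_resGen G W.2.choose_spec.choose_spec.2.some (τ.generators W.2.choose_spec.choose)
  haveI : IsIso (tenGen (genL σ τ W) (genR σ τ W)).π := by
    haveI : IsIso (genL σ τ W).π := by unfold genL; infer_instance
    haveI : IsIso (genR σ τ W).π := by unfold genR; infer_instance
    exact isIso_tenGen _ _
  show IsIso ((tenGen (genL σ τ W) (genR σ τ W)).ofEpi (restrTen F G W.1).hom).π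
  rw [SheafOfModules.GeneratingSections.ofEpi_π]
  infer_instance

omit σ τ

/-- A presentation over the refinement. -/
noncomputable def tenQC (σ : SheafOfModules.QuasicoherentData.{u} (R := ModSite.ringSh O) F)
    (τ : SheafOfModules.QuasicoherentData.{u} (R := ModSite.ringSh O) G) :
    SheafOfModules.QuasicoherentData.{u} (R := ModSite.ringSh O) (SiteTen.ten O F G) where
  I := Refn σ.X τ.X
  X W := W.1
  coversTop := coversTop_refn σ.coversTop τ.coversTop
  presentation W :=
    (tenPres (resPres F W.2.choose_spec.choose_spec.1.some (σ.presentation W.2.choose))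
      (resPres G W.2.choose_spec.choose_spec.2.some (τ.presentation W.2.choose_spec.choose))).ofIsIso
      (restrTen F G W.1).hom

theorem isQuasicoherent_ten (hF : SheafOfModules.IsQuasicoherent (R := ModSite.ringSh O) F)
    (hG : SheafOfModules.IsQuasicoherent (R := ModSite.ringSh O) G) :
    SheafOfModules.IsQuasicoherent (R := ModSite.ringSh O) (SiteTen.ten O F G) :=
by
  constructor
  exact ⟨tenQC.{u} hF.nonempty_quasicoherentData.some hG.nonempty_quasicoherentData.some⟩

theorem isFinitePresentation_ten (hF : SheafOfModules.IsFinitePresentation (R := ModSite.ringSh O) F)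
    (hG : SheafOfModules.IsFinitePresentation (R := ModSite.ringSh O) G) :
    SheafOfModules.IsFinitePresentation (R := ModSite.ringSh O) (SiteTen.ten O F G) := by
  obtain ⟨σ, hσ⟩ := hF.exists_quasicoherentData
  obtain ⟨τ, hτ⟩ := hG.exists_quasicoherentData
  constructor
  refine ⟨tenQC.{u} σ τ, ?_⟩
  constructor
  intro W
  haveI h1 := (hσ.isFinite_presentation W.2.choose).isFiniteType_generators.finite
  haveI h2 := (hσ.isFinite_presentation W.2.choose).isFiniteType_relations.finite
  haveI h3 := (hτ.isFinite_presentation W.2.choose_spec.choose).isFiniteType_generators.finite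
  haveI h4 := (hτ.isFinite_presentation W.2.choose_spec.choose).isFiniteType_relations.finite
  exact
    { isFiniteType_generators := ⟨(inferInstance : Finite
        ((σ.presentation W.2.choose).generators.I × (τ.presentation W.2.choose_spec.choose).generators.I))⟩
      isFiniteType_relations := ⟨(inferInstance : Finite
        (((σ.presentation W.2.choose).relations.I × (τ.presentation W.2.choose_spec.choose).generators.I) ⊕
          ((σ.presentation W.2.choose).generators.I × (τ.presentation W.2.choose_spec.choose).relations.I)))⟩ }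

end Groth.Agent.HTop16.TensorPerm
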