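import Groth.Agent.HTop16.HCrit
import Groth.Prelude.Def_HTop3

/-!
# The finest topology on schemes for which a presheaf on schemes over a base is a sheaf
-/

set_option autoImplicit false
set_option backward.isDefEq.respectTransparency false
set_option linter.all false

universe w u

open CategoryTheory CategoryTheory.Limits AlgebraicGeometry TopologicalSpace Opposite

namespace Groth.Agent.HTop16.TopT

variable {S : Scheme.{u}}

theorem elem_congr {F : (Over S)ᵒᵖ ⥤ Type w} {B Z : Over S} {P : Presieve B} (x : Presieve.FamilyOfElements F P)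
    {f g : Z ⟶ B} (e : f = g) (hf : P f) (hg : P g) : x f hf = x g hg := by
  subst e
  rfl

/-- The data of a Zariski sheaf, tested on affine schemes. -/
theorem isSheafFor_of_affine {F : (Over S)ᵒᵖ ⥤ Type w}
    (hz : Presieve.IsSheaf (Scheme.zariskiTopology.over S) F) {B : Over S} (R : Sieve B)
    (h : ∀ (U : Over S) (g : U ⟶ B), IsAffine U.left → Presieve.IsSheafFor F (R.pullback g).arrows) :
    Presieve.IsSheafFor F R.arrows := by
  intro x hx
  have key : ∀ U : B.left.affineOpens, ∃! s : F.obj (op (HCrit.piece B U.1)),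
      (x.pullback (HCrit.pieceι B U.1)).IsAmalgamation s := fun U => h (HCrit.piece B U.1) _ U.2 _ (hx.pullback _)
  choose s hs huniq using key
  have nat : ∀ (U V : B.left.affineOpens) (hVU : V.1 ≤ U.1),
      F.map (Over.homMk (B.left.homOfLE hVU) (by simp) : HCrit.piece B V.1 ⟶ HCrit.piece B U.1).op (s U) = s V := by
    intro U V hVU
    refine huniq V _ fun Z k hk => ?_
    let j : HCrit.piece B V.1 ⟶ HCrit.piece B U.1 := Over.homMk (B.left.homOfLE hVU) (by simp)
    have ej : j ≫ HCrit.pieceι B U.1 = HCrit.pieceι B V.1 := by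
      ext : 1
      change B.left.homOfLE hVU ≫ U.1.ι = V.1.ι
      exact Scheme.homOfLE_ι _ _
    have hk' : (R.pullback (HCrit.pieceι B U.1)).arrows (k ≫ j) := by
      change R.arrows ((k ≫ j) ≫ HCrit.pieceι B U.1)
      rw [Category.assoc, ej]
      exact hk
    rw [HCrit.map_comp_apply]
    exact (hs U (k ≫ j) hk').trans (elem_congr x (by rw [Category.assoc, ej]) _ _)
  have hcov : ∀ z : B.left, ∃ U : B.left.affineOpens, z ∈ U.1 := fun z => by
    obtain ⟨_, ⟨U, hU, rfl⟩, hz, -⟩ :=
      B.left.isBasis_affineOpens.exists_subset_of_mem_open (Set.mem_univ z) isOpen_univ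
    exact ⟨⟨U, hU⟩, hz⟩
  have hP := HCrit.isSheafFor_pieces hz B (fun U : B.left.affineOpens => U.1) hcov
  rw [Presieve.isSheafFor_arrows_iff] at hP
  obtain ⟨t, ht, htuniq⟩ := hP s fun U V Z a b e => by
    have hloc : ∀ z : Z.left, ∃ (O : Z.left.Opens) (W : B.left.affineOpens), z ∈ O ∧ W.1 ≤ U.1 ∧ W.1 ≤ V.1 ∧
        Set.range (O.ι ≫ a.left ≫ U.1.ι) ⊆ (W.1 : Set B.left) := fun z => by
      have hzV : (a.left ≫ U.1.ι) z ∈ V.1 := by
        have e' : a.left ≫ U.1.ι = b.left ≫ V.1.ι := congr($(e).left)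
        rw [e']
        exact (b.left z).2
      obtain ⟨_, ⟨W, hW, rfl⟩, hzW, hle⟩ := B.left.isBasis_affineOpens.exists_subset_of_mem_open
        (show (a.left ≫ U.1.ι) z ∈ (↑(U.1 ⊓ V.1) : Set B.left) from ⟨(a.left z).2, hzV⟩) (U.1 ⊓ V.1).isOpen
      refine ⟨(a.left ≫ U.1.ι) ⁻¹ᵁ W, ⟨W, hW⟩, hzW, fun y hy => (hle hy).1, fun y hy => (hle hy).2, ?_⟩
      rintro _ ⟨y, rfl⟩
      exact y.2
    choose O W hzO hWU hWV hOW using hloc
    refine (HCrit.isSheafFor_pieces hz Z O fun z => ⟨z, hzO z⟩).isSeparatedFor.ext fun _ _ h => ?_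
    obtain ⟨z⟩ := h
    let l : HCrit.piece Z (O z) ⟶ HCrit.piece B (W z).1 :=
      Over.homMk (IsOpenImmersion.lift (W z).1.ι ((O z).ι ≫ a.left ≫ U.1.ι)
        ((hOW z).trans (Scheme.Opens.range_ι _).ge)) (by
        change IsOpenImmersion.lift _ _ _ ≫ (W z).1.ι ≫ B.hom = (O z).ι ≫ Z.hom
        rw [IsOpenImmersion.lift_fac_assoc, Category.assoc, Category.assoc]
        congr 1
        exact Over.w a)
    have e₁ : l ≫ (Over.homMk (B.left.homOfLE (hWU z)) (by simp) : HCrit.piece B (W z).1 ⟶ HCrit.piece B U.1) =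
        HCrit.pieceι Z (O z) ≫ a := by
      ext : 1
      change IsOpenImmersion.lift _ _ _ ≫ B.left.homOfLE (hWU z) = (O z).ι ≫ a.left
      rw [← cancel_mono U.1.ι, Category.assoc, Scheme.homOfLE_ι, IsOpenImmersion.lift_fac, Category.assoc]
    have e₂ : l ≫ (Over.homMk (B.left.homOfLE (hWV z)) (by simp) : HCrit.piece B (W z).1 ⟶ HCrit.piece B V.1) =
        HCrit.pieceι Z (O z) ≫ b := by
      ext : 1
      change IsOpenImmersion.lift _ _ _ ≫ B.left.homOfLE (hWV z) = (O z).ι ≫ b.left
      rw [← cancel_mono V.1.ι, Category.assoc, Scheme.homOfLE_ι, IsOpenImmersion.lift_fac, Category.assoc]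
      congr 1
      exact congr($(e).left)
    rw [HCrit.map_comp_apply, HCrit.map_comp_apply, ← e₁, ← e₂, ← HCrit.map_comp_apply, nat,
      ← HCrit.map_comp_apply, nat]
  refine ⟨t, fun Z f hf => ?_, fun t' ht' => htuniq t' fun U => huniq U _ fun Z k hk => ?_⟩
  · refine (HCrit.isSheafFor_pieces hz Z (fun U : B.left.affineOpens => f.left ⁻¹ᵁ U.1)
      fun z => hcov (f.left z)).isSeparatedFor.ext fun _ _ h => ?_
    obtain ⟨U⟩ := h
    let k : HCrit.piece Z (f.left ⁻¹ᵁ U.1) ⟶ HCrit.piece B U.1 := Over.homMk (f.left ∣_ U.1) (by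
      change (f.left ∣_ U.1) ≫ U.1.ι ≫ B.hom = (f.left ⁻¹ᵁ U.1).ι ≫ Z.hom
      rw [← Category.assoc, morphismRestrict_ι, Category.assoc, Over.w f])
    have ek : k ≫ HCrit.pieceι B U.1 = HCrit.pieceι Z (f.left ⁻¹ᵁ U.1) ≫ f := by
      ext : 1
      exact morphismRestrict_ι _ _
    have hk : (R.pullback (HCrit.pieceι B U.1)).arrows k := by
      change R.arrows (k ≫ HCrit.pieceι B U.1)
      rw [ek]
      exact R.downward_closed hf _
    rw [HCrit.map_comp_apply, ← ek, ← HCrit.map_comp_apply, ht U]
    refine (hs U k hk).trans ((elem_congr x ek _ (R.downward_closed hf _)).trans ?_)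
    exact (Presieve.compatible_iff_sieveCompatible x).1 hx f _ hf
  · rw [HCrit.map_comp_apply]
    exact ht' (k ≫ HCrit.pieceι B U.1) hk

variable (F : (Over S)ᵒᵖ ⥤ Type w)

/-- The finest topology on schemes over `S` for which `F` is a sheaf. -/
abbrev T : GrothendieckTopology (Over S) := Sheaf.finestTopology {F}

/-- Sieves whose base changes to all schemes over `S` are covering for `T F`. -/
def J : GrothendieckTopology Scheme.{u} where
  sieves Z := {R | ∀ (X : Over S) (g : X.left ⟶ Z), (Sieve.overEquiv X).symm (R.pullback g) ∈ T F X}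
  top_mem' := fun Z X g => by
    convert (T F).top_mem X
    ext W k
    simp
  pullback_stable' := fun Z Z' R f hR X g => by
    rw [← Sieve.pullback_comp]
    exact hR X (g ≫ f)
  transitive' := fun Z R hR R' h X g => by
    refine (T F).transitive (hR X g) _ fun W k hk => ?_
    rw [← Sieve.overEquiv_symm_pullback, ← Sieve.pullback_comp]
    have := h hk W (𝟙 _)
    exact (Sieve.pullback_id (S := Sieve.pullback _ R')) ▸ this

variable {F}

theorem le_T_of_hTopology_le (h : HTop.hTopology ≤ J F) : HTop.Jh S ≤ T F := by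
  intro X R hR
  rw [HTop.Jh, GrothendieckTopology.mem_over_iff] at hR
  have := h _ hR X (𝟙 _)
  rwa [Sieve.pullback_id, OrderIso.symm_apply_apply] at this

variable (hz : Presieve.IsSheaf (Scheme.zariskiTopology.over S) F)

include hz

theorem zariski_le : Scheme.zariskiTopology ≤ J F := fun Z R hR X g => by
  refine (Sheaf.le_finestTopology {F} (Scheme.zariskiTopology.over S) fun P hP => ?_) X ?_
  · rw [Set.mem_singleton_iff] at hP
    exact hP ▸ hz
  · rw [GrothendieckTopology.mem_over_iff, OrderIso.apply_symm_apply]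
    exact Scheme.zariskiTopology.pullback_stable g hR

/-- Affine test for membership. -/
theorem mem_J_of_affine {Z : Scheme.{u}} (R : Sieve Z)
    (h : ∀ (X : Over S) (g : X.left ⟶ Z), IsAffine X.left →
      Presieve.IsSheafFor F ((Sieve.overEquiv X).symm (R.pullback g)).arrows) : R ∈ J F Z := by
  intro X g
  refine Sheaf.mem_finestTopology_of_forall_isSheafFor fun P hP Y k => ?_
  rw [Set.mem_singleton_iff] at hP
  subst hP
  refine isSheafFor_of_affine hz _ fun U l hU => ?_
  rw [← Sieve.pullback_comp, ← Sieve.overEquiv_symm_pullback, ← Sieve.pullback_comp]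
  exact h U _ hU

/-- Surjective flat proper morphisms of finite presentation are coverings. -/
theorem mem_J_flat
    (hflat : ∀ (X Y : Over S) (f : X ⟶ Y), IsAffine Y.left → Surjective f.left → Flat f.left → IsProper f.left →
      LocallyOfFinitePresentation f.left → Presieve.IsSheafFor F (Presieve.singleton f))
    {V Z : Scheme.{u}} (f : V ⟶ Z) [Surjective f] [Flat f] [IsProper f] [LocallyOfFinitePresentation f]
    (R : Sieve Z) (hR : R.arrows f) : R ∈ J F Z := by
  refine (J F).superset_covering (Sieve.generate_le_iff _ _ |>.2 fun W k hk => ?_)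
    (mem_J_of_affine hz (Sieve.generate (Presieve.singleton f)) fun X g hX => ?_)
  · obtain ⟨⟩ := hk
    exact hR
  let Q : Over S := Over.mk (pullback.fst g f ≫ X.hom)
  let q : Q ⟶ X := Over.homMk (pullback.fst g f) rfl
  have e : (Sieve.overEquiv X).symm ((Sieve.generate (Presieve.singleton f)).pullback g) =
      Sieve.generate (Presieve.singleton q) := by
    ext W k
    rw [Sieve.overEquiv_symm_iff]
    constructor
    · rintro ⟨_, l, _, ⟨⟩, hl⟩
      refine ⟨Q, Over.homMk (pullback.lift k.left l hl.symm) ?_, q, Presieve.singleton_self q, ?_⟩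
      · change pullback.lift k.left l _ ≫ pullback.fst g f ≫ X.hom = W.hom
        rw [pullback.lift_fst_assoc, Over.w k]
      · ext
        exact pullback.lift_fst _ _ _
    · rintro ⟨_, l, _, ⟨⟩, rfl⟩
      refine ⟨_, l.left ≫ pullback.snd g f, f, Presieve.singleton_self f, ?_⟩
      change (l.left ≫ pullback.snd g f) ≫ f = (l.left ≫ pullback.fst g f) ≫ g
      simp only [Category.assoc, pullback.condition]
  rw [e, ← Presieve.isSheafFor_iff_generate]
  exact hflat Q X q hX (inferInstanceAs (Surjective (pullback.fst g f))) (inferInstanceAs (Flat (pullback.fst g f)))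
    (inferInstanceAs (IsProper (pullback.fst g f))) (inferInstanceAs (LocallyOfFinitePresentation (pullback.fst g f)))

end Groth.Agent.HTop16.TopT
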