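import Groth.Agent.HTop16.CechSieve
import Groth.Agent.SiteDer16.FreeHom
import Mathlib.CategoryTheory.Subfunctor.Image

/-!
# Totally acyclic sheaves are flasque
-/

set_option autoImplicit false

universe u

open CategoryTheory CategoryTheory.Limits CategoryTheory.Abelian Opposite

namespace Groth.Agent.HTop16.TotAcFlasque

open Groth.Agent.SiteCoh

variable {C : Type u} [SmallCategory C] (J : GrothendieckTopology C)

/-- The free abelian sheaf on a presheaf of sets. -/
noncomputable abbrev aF : (Cᵒᵖ ⥤ Type u) ⥤ Sheaf J AddCommGrpCat.{u} :=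
  (Functor.whiskeringRight _ _ _).obj AddCommGrpCat.free.{u} ⋙ presheafToSheaf J AddCommGrpCat.{u}

variable {J}

lemma subsingleton_ext_aF {M : Sheaf J AddCommGrpCat.{u}} (hM : CohCx.IsTotallyAcyclic M)
    (K : Cᵒᵖ ⥤ Type u) (p : ℕ) : Subsingleton (Ext ((aF J).obj K) M (p + 1)) := by
  have : (AddCommGrpCat.free.{u}).IsLeftAdjoint := AddCommGrpCat.adj.isLeftAdjoint
  have : IsIso ((aF J).map (toSheafify J K)) :=
    (J.W_iff _).1 (J.W_of_preservesSheafification AddCommGrpCat.free.{u} _ (J.W_toSheafify K))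
  have : Subsingleton (Ext ((aF J).obj (sheafify J K)) M (p + 1)) :=
    hM ((presheafToSheaf J (Type u)).obj K) p
  exact subsingleton_ext_of_iso (X' := (aF J).obj K) (X := (aF J).obj (sheafify J K))
    (asIso ((aF J).map (toSheafify J K))) (p + 1)

lemma mono_aF_map {K L : Cᵒᵖ ⥤ Type u} (i : K ⟶ L) [Mono i] : Mono ((aF J).map i) := by
  have : ∀ V, Mono ((Functor.whiskerRight i AddCommGrpCat.free.{u}).app V) :=
    fun V => inferInstanceAs (Mono (AddCommGrpCat.free.map (i.app V)))
  have : Mono (Functor.whiskerRight i AddCommGrpCat.free.{u}) := NatTrans.mono_of_mono_app _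
  exact inferInstanceAs (Mono ((presheafToSheaf _ _).map _))

/-- Totally acyclic sheaves extend morphisms along monomorphisms of presheaves of sets. -/
theorem exists_extension {M : Sheaf J AddCommGrpCat.{u}} (hM : CohCx.IsTotallyAcyclic M)
    {K L : Cᵒᵖ ⥤ Type u} (i : K ⟶ L) [Mono i] (φ : (aF J).obj K ⟶ M) :
    ∃ ψ : (aF J).obj L ⟶ M, (aF J).map i ≫ ψ = φ := by
  have : (aF J).IsLeftAdjoint := (((AddCommGrpCat.adj.{u}).whiskerRight Cᵒᵖ).comp
    (sheafificationAdjunction J AddCommGrpCat.{u})).isLeftAdjoint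
  have hp := (IsPushout.of_hasPushout i i).map (aF J)
  have hw : biprod.lift ((aF J).map i) (-(aF J).map i) ≫
      biprod.desc ((aF J).map (pushout.inl i i)) ((aF J).map (pushout.inr i i)) = 0 :=
    hp.toCommSq.cokernelCofork.condition
  let T := ShortComplex.mk _ _ hw
  have : Mono T.f := by
    have : Mono (T.f ≫ biprod.fst) := by
      change Mono (biprod.lift ((aF J).map i) (-(aF J).map i) ≫ biprod.fst)
      rw [biprod.lift_fst]
      exact mono_aF_map i
    exact mono_of_mono _ biprod.fst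
  have : Epi T.g := (T.exact_and_epi_g_iff_g_is_cokernel.2 ⟨hp.isColimitCokernelCofork⟩).2
  have hT : T.ShortExact :=
    { exact := ShortComplex.exact_of_g_is_cokernel _ hp.isColimitCokernelCofork }
  have : Subsingleton (Ext T.X₃ M 1) := subsingleton_ext_aF hM (pushout i i) 0
  obtain ⟨y, hy⟩ := Ext.contravariant_sequence_exact₁ hT M (Ext.mk₀ φ) (add_zero 1)
    (Subsingleton.elim _ _)
  obtain ⟨χ, rfl⟩ := (Ext.mk₀_bijective T.X₂ M).2 y
  rw [Ext.mk₀_comp_mk₀] at hy
  refine ⟨biprod.inl ≫ χ - biprod.inr ≫ χ, ?_⟩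
  refine Eq.trans ?_ ((Ext.mk₀_bijective T.X₁ M).1 hy)
  change _ = biprod.lift ((aF J).map i) (-(aF J).map i) ≫ χ
  rw [biprod.lift_eq, Preadditive.comp_sub, Preadditive.add_comp, Category.assoc, Category.assoc,
    Preadditive.neg_comp, sub_eq_add_neg]

/-- Ext out of the free sheaf on a quotient of presheaves of sets vanishes. -/
theorem subsingleton_ext_cokernel {M : Sheaf J AddCommGrpCat.{u}} (hM : CohCx.IsTotallyAcyclic M)
    {K L : Cᵒᵖ ⥤ Type u} (i : K ⟶ L) [Mono i] (p : ℕ) :
    Subsingleton (Ext (cokernel ((aF J).map i)) M (p + 1)) := by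
  let T := ShortComplex.mk ((aF J).map i) (cokernel.π _) (cokernel.condition _)
  have hT : T.ShortExact :=
    { exact := ShortComplex.exact_cokernel _
      mono_f := mono_aF_map i
      epi_g := inferInstanceAs (Epi (cokernel.π _)) }
  refine subsingleton_of_forall_eq 0 fun x => ?_
  obtain ⟨z, hz⟩ := Ext.contravariant_sequence_exact₃ hT M x
    ((subsingleton_ext_aF hM L p).elim _ _) (show 1 + p = p + 1 by omega)
  rw [← hz]
  cases p with
  | zero =>
    obtain ⟨φ, rfl⟩ := (Ext.mk₀_bijective T.X₁ M).2 z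
    obtain ⟨ψ, rfl⟩ := exists_extension hM i φ
    rw [← Ext.mk₀_comp_mk₀, ← Ext.comp_assoc_of_third_deg_zero, hT.extClass_comp, Ext.zero_comp]
  | succ p => rw [(subsingleton_ext_aF hM K p).elim z 0, Ext.comp_zero]

/-- Sheaves with totally acyclic sub-object and middle have totally acyclic quotient. -/
theorem isTotallyAcyclic_X₃ {S : ShortComplex (Sheaf J AddCommGrpCat.{u})} (hS : S.ShortExact)
    (h₁ : CohCx.IsTotallyAcyclic S.X₁) (h₂ : CohCx.IsTotallyAcyclic S.X₂) :
    CohCx.IsTotallyAcyclic S.X₃ :=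
  fun K p => subsingleton_ext_X₃ hS (p + 1) (h₂ K p) (h₁ K (p + 1))

end Groth.Agent.HTop16.TotAcFlasque
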