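import Groth.Agent.HTop16.BirCover
import Mathlib.RingTheory.AdjoinRoot
import Mathlib.RingTheory.Polynomial.IntegralNormalization

/-!
# Towers of finite free extensions inside a field
-/

set_option autoImplicit false
set_option backward.isDefEq.respectTransparency false
set_option linter.all false

universe w u

open CategoryTheory CategoryTheory.Limits AlgebraicGeometry TopologicalSpace Opposite Polynomial

namespace Groth.Agent.HTop16.Tower

variable {Ω : Type u} [Field Ω]

/-- Algebraicity over a subring. -/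
def IsAlg (S₀ : Subring Ω) (z : Ω) : Prop := ∃ q : S₀[X], q ≠ 0 ∧ eval₂ S₀.subtype z q = 0

theorem isAlg_mono {S₀ S₁ : Subring Ω} (h : S₀ ≤ S₁) {z : Ω} (hz : IsAlg S₀ z) : IsAlg S₁ z := by
  obtain ⟨q, hq0, hq⟩ := hz
  refine ⟨q.map (Subring.inclusion h), fun h0 => hq0 (map_injective _ (Subring.inclusion_injective h) ?_), ?_⟩
  · rw [h0, Polynomial.map_zero]
  · rw [eval₂_map]
    exact hq

/-- An algebraic element becomes a generator of a finite free extension after scaling. -/
theorem exists_step (S₀ : Subring Ω) {z : Ω} (hz : IsAlg S₀ z) :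
    ∃ c : S₀, (c : Ω) ≠ 0 ∧ ∃ S₁ : Subring Ω, ∃ h : S₀ ≤ S₁, (c : Ω) * z ∈ S₁ ∧
      (Subring.inclusion h).Flat ∧ (Subring.inclusion h).Finite := by
  classical
  have hex : ∃ d : ℕ, ∃ q : S₀[X], q ≠ 0 ∧ eval₂ S₀.subtype z q = 0 ∧ q.natDegree = d := by
    obtain ⟨q, h1, h2⟩ := hz
    exact ⟨_, q, h1, h2, rfl⟩
  obtain ⟨q, hq0, hq, hqd⟩ := Nat.find_spec hex
  have hc : ((q.leadingCoeff : S₀) : Ω) ≠ 0 := fun h => hq0 (leadingCoeff_eq_zero.1 (Subtype.ext h))
  let y : Ω := (q.leadingCoeff : Ω) * z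
  let p := q.integralNormalization
  have hpm : p.Monic := monic_integralNormalization hq0
  have hpd : p.natDegree = Nat.find hex := natDegree_integralNormalization.trans hqd
  have hpy : eval₂ S₀.subtype y p = 0 :=
    integralNormalization_eval₂_eq_zero S₀.subtype hq fun x hx => Subtype.ext hx
  have hmin : ∀ r : S₀[X], eval₂ S₀.subtype y r = 0 → r.natDegree < Nat.find hex → r = 0 := fun r hr hlt => by
    by_contra hr0
    have hcm : q.leadingCoeff ∈ nonZeroDivisors S₀ :=
      mem_nonZeroDivisors_of_ne_zero (leadingCoeff_ne_zero.2 hq0)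
    refine Nat.find_min hex hlt ⟨r.comp (C q.leadingCoeff * Polynomial.X), fun h0 => hr0 ?_, ?_, ?_⟩
    · exact (comp_C_mul_X_eq_zero_iff hcm).1 h0
    · rw [eval₂_comp, eval₂_mul, eval₂_C, eval₂_X]
      exact hr
    · rw [natDegree_comp, natDegree_C_mul_X _ (leadingCoeff_ne_zero.2 hq0), mul_one]
  let S₁ := BirCover.ext S₀ y
  have h : S₀ ≤ S₁ := BirCover.le_ext S₀ y
  let y' : S₁ := ⟨y, BirCover.mem_ext S₀ y⟩
  have hy' : eval₂ (Subring.inclusion h) y' p = 0 := by
    apply Subtype.ext
    have := hom_eval₂ p (Subring.inclusion h) S₁.subtype y'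
    exact this.trans hpy
  let φ : AdjoinRoot p →+* S₁ := AdjoinRoot.lift (Subring.inclusion h) y' hy'
  have hφ : ∀ r : S₀[X], (φ (AdjoinRoot.mk p r) : Ω) = eval₂ S₀.subtype y r := fun r => by
    rw [AdjoinRoot.lift_mk]
    exact hom_eval₂ r (Subring.inclusion h) S₁.subtype y'
  have hbij : Function.Bijective φ := by
    refine ⟨(injective_iff_map_eq_zero φ).2 fun a ha => ?_, fun b => ?_⟩
    · obtain ⟨r, rfl⟩ := AdjoinRoot.mk_surjective a
      have hr : eval₂ S₀.subtype y r = 0 := by rw [← hφ, ha]; rfl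
      have h1 : eval₂ S₀.subtype y (r %ₘ p) = 0 := by
        have := congrArg (eval₂ S₀.subtype y) (modByMonic_add_div r p)
        rwa [eval₂_add, eval₂_mul, hpy, zero_mul, add_zero, hr] at this
      rw [AdjoinRoot.mk_eq_zero, ← modByMonic_eq_zero_iff_dvd hpm]
      by_contra hne
      refine hne (hmin _ h1 ?_)
      rw [← hpd]
      exact natDegree_modByMonic_lt r hpm fun h1' => hne (by rw [h1', modByMonic_one])
    · obtain ⟨r, hr⟩ := b.2
      exact ⟨AdjoinRoot.mk p r, Subtype.ext ((hφ r).trans hr)⟩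
  haveI := hpm.free_adjoinRoot
  haveI := hpm.finite_adjoinRoot
  have he : Subring.inclusion h = φ.comp (algebraMap S₀ (AdjoinRoot p)) :=
    RingHom.ext fun r => (AdjoinRoot.lift_of hy').symm
  refine ⟨q.leadingCoeff, hc, S₁, h, BirCover.mem_ext S₀ y, ?_, ?_⟩
  · rw [he]
    exact RingHom.Flat.comp ((RingHom.flat_algebraMap_iff).2 inferInstance) (RingHom.Flat.of_bijective hbij)
  · rw [he]
    exact RingHom.Finite.comp (RingHom.Finite.of_surjective φ hbij.2) (RingHom.finite_algebraMap.2 inferInstance)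

variable {S : Scheme.{u}} {F : (Over S)ᵒᵖ ⥤ Type w}
  (hz : Presieve.IsSheaf (Scheme.zariskiTopology.over S) F)
  (hflat : ∀ (X Y : Over S) (f : X ⟶ Y), IsAffine Y.left → Surjective f.left → Flat f.left → IsProper f.left →
    LocallyOfFinitePresentation f.left → Presieve.IsSheafFor F (Presieve.singleton f))

include hz hflat

theorem mem_J_of_tower (l : List Ω) :
    ∀ (S₀ : Subring Ω) [IsNoetherianRing S₀], (∀ z ∈ l, IsAlg S₀ z) → ∀ R : Sieve (Spec (CommRingCat.of S₀)),
      (∀ a : S₀, (a : Ω) ≠ 0 → R.pullback (BirCover.cut a) ∈ TopT.J F _) →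
      (∀ (S₁ : Subring Ω) (h : S₀ ≤ S₁) [IsNoetherianRing S₁],
        (∀ z ∈ l, ∃ d ∈ S₁, d ≠ 0 ∧ d * z ∈ S₁) →
        (∀ a : S₁, (a : Ω) ≠ 0 → (R.pullback (BirCover.incl h)).pullback (BirCover.cut a) ∈ TopT.J F _) →
        R.pullback (BirCover.incl h) ∈ TopT.J F _) →
      R ∈ TopT.J F _ := by
  induction l with
  | nil =>
    intro S₀ _ _ R hcl hmain
    have e : BirCover.incl (le_refl S₀) = 𝟙 (Spec (CommRingCat.of S₀)) := Spec.map_id _
    have := hmain S₀ le_rfl (fun z hz => absurd hz (List.not_mem_nil)) fun a ha => by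
      rw [e, Sieve.pullback_id]
      exact hcl a ha
    rwa [e, Sieve.pullback_id] at this
  | cons z l ih =>
    intro S₀ _ halg R hcl hmain
    obtain ⟨c, hc, S₁, h, hcz, hfl, hfin⟩ := exists_step S₀ (halg z (List.mem_cons_self))
    letI : Algebra S₀ S₁ := (Subring.inclusion h).toAlgebra
    haveI : Module.Finite S₀ S₁ := hfin
    haveI : IsNoetherianRing S₁ := IsNoetherianRing.of_finite S₀ S₁
    haveI : Flat (BirCover.incl h) := (HasRingHomProperty.Spec_iff (P := @Flat)).2 hfl
    haveI : IsFinite (BirCover.incl h) := (IsFinite.SpecMap_iff _).2 hfin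
    haveI : Surjective (BirCover.incl h) := ⟨RingHom.IsIntegral.comap_surjective
      (RingHom.IsIntegral.of_finite hfin) (Subring.inclusion_injective h)⟩
    haveI : LocallyOfFinitePresentation (BirCover.incl h) :=
      haveI : IsLocallyNoetherian (Spec (CommRingCat.of S₀)) := inferInstance
      PhRefine.locallyOfFinitePresentation_of_noetherian _
    refine (TopT.J F).transitive (TopT.mem_J_flat hz hflat (BirCover.incl h) (Sieve.generate (Presieve.singleton _))
      (Sieve.le_generate _ _ _ (Presieve.singleton_self _))) R ?_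
    rintro W _ ⟨_, k, _, ⟨⟩, rfl⟩
    rw [Sieve.pullback_comp]
    refine (TopT.J F).pullback_stable k (ih S₁ (fun z' hz' => isAlg_mono h (halg z' (List.mem_cons_of_mem _ hz'))) _
      (fun a ha => ?_) fun S₂ h₂ _ hd hcl₂ => ?_)
    · -- principal closed subsets upstairs lie over principal closed subsets downstairs
      have hne : (Ideal.span {a}).comap (Subring.inclusion h) ≠ ⊥ := fun h0 => by
        haveI : Algebra.IsIntegral S₀ S₁ := Algebra.IsIntegral.of_finite S₀ S₁
        exact ha (congrArg Subtype.val (Ideal.span_singleton_eq_bot.1 (Ideal.eq_bot_of_comap_eq_bot (R := S₀) h0)))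
      obtain ⟨p, hp, hp0⟩ := Submodule.exists_mem_ne_zero_of_ne_bot hne
      let m : CommRingCat.of (S₀ ⧸ Ideal.span {p}) ⟶ CommRingCat.of (S₁ ⧸ Ideal.span {a}) :=
        CommRingCat.ofHom (Ideal.Quotient.lift _ ((Ideal.Quotient.mk _).comp (Subring.inclusion h)) fun x hx => by
          obtain ⟨c', rfl⟩ := Ideal.mem_span_singleton'.1 hx
          rw [map_mul, RingHom.comp_apply, RingHom.comp_apply, Ideal.Quotient.eq_zero_iff_mem.2 (show Subring.inclusion h p ∈ Ideal.span {a} from hp), mul_zero])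
      have e : BirCover.cut a ≫ BirCover.incl h = Spec.map m ≫ BirCover.cut p := by
        rw [← Spec.map_comp, ← Spec.map_comp]
        rfl
      rw [← Sieve.pullback_comp, e, Sieve.pullback_comp]
      exact (TopT.J F).pullback_stable _ (hcl p fun h0 => hp0 (Subtype.ext h0))
    · have e : BirCover.incl h₂ ≫ BirCover.incl h = BirCover.incl (h.trans h₂) := by
        rw [← Spec.map_comp]
        rfl
      rw [← Sieve.pullback_comp, e] at hcl₂ ⊢
      refine hmain S₂ (h.trans h₂) (fun z' hz' => ?_) hcl₂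
      rcases List.mem_cons.1 hz' with rfl | hz'
      · exact ⟨c, h₂ (h c.2), hc, h₂ hcz⟩
      · exact hd z' hz'

end Groth.Agent.HTop16.Tower
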