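import Groth.Agent.S7292
import Groth.Agent.HTop16.HDescend
import Groth.Agent.HTop16.HSheaf
import Mathlib.CategoryTheory.Sites.IsSheafFor
import Mathlib.CategoryTheory.Limits.Constructions.Over.Connected
import Mathlib.CategoryTheory.Limits.Types.Filtered
import Mathlib.AlgebraicGeometry.Limits

/-!
# Limit preserving h sheaves are V sheaves
-/

set_option autoImplicit false
set_option backward.isDefEq.respectTransparency false
set_option linter.all false

universe w' w u

open CategoryTheory CategoryTheory.Limits AlgebraicGeometry TopologicalSpace Opposite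

namespace Groth.Agent.HTop16.VDescent

variable {S : Scheme.{u}} {F : (Over S)ᵒᵖ ⥤ Type w}

lemma res_res {A B C : Over S} (p : A ⟶ B) (q : B ⟶ C) (x : F.obj (op C)) :
    F.map p.op (F.map q.op x) = F.map (p ≫ q).op x := by simp

/-- The family of schemes underlying a family over `S`. -/
abbrev fam {X : Over S} {ι : Type w'} (Ys : ι → Over S) (fs : ∀ i, Ys i ⟶ X) : PreZeroHypercover.{w'} X.left :=
  { I₀ := ι, X := fun i => (Ys i).left, f := fun i => (fs i).left }

lemma isSheafFor_hCover (h1 : HTop.IsHSheafOver S F) {X : Over S} {ι : Type w'} (Ys : ι → Over S)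
    (fs : ∀ i, Ys i ⟶ X) (h : HTop.IsHCover (fam Ys fs)) : Presieve.IsSheafFor F (Presieve.ofArrows Ys fs) := by
  refine h1 _ ?_
  rw [Presieve.map_ofArrows]
  exact (HTop.presieve₀_mem_hPrecoverage_iff (fam Ys fs)).2 h

lemma isHCover_open {X : Over S} {ι : Type w'} (Ys : ι → Over S) (fs : ∀ i, Ys i ⟶ X)
    [∀ i, IsOpenImmersion (fs i).left] (h : ∀ x : X.left, ∃ i, x ∈ Set.range (fs i).left) :
    HTop.IsHCover (fam Ys fs) :=
  haveI : ∀ i : (fam Ys fs).I₀, IsOpenImmersion ((fs i).left) := fun i => inferInstance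
  ⟨fun i => inferInstanceAs (LocallyOfFinitePresentation (fs i).left), HSheaf.isVCover_of_isPhCover
    (@PhSheaf.isPhCover_of_proper _ (fam Ys fs) _ (𝟙 X.left) inferInstance inferInstance
      (fun i => (fs i).left) this (fun i => Category.comp_id _) h)⟩

lemma ext_open (h1 : HTop.IsHSheafOver S F) {X : Over S} {ι : Type w'} (Ys : ι → Over S) (fs : ∀ i, Ys i ⟶ X)
    [∀ i, IsOpenImmersion (fs i).left] (h : ∀ x : X.left, ∃ i, x ∈ Set.range (fs i).left) (a b : F.obj (op X))
    (hab : ∀ i, F.map (fs i).op a = F.map (fs i).op b) : a = b := by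
  refine (isSheafFor_hCover h1 Ys fs (isHCover_open Ys fs h)).isSeparatedFor.ext ?_
  rintro Z g ⟨i⟩
  exact hab i

lemma glue_open (h1 : HTop.IsHSheafOver S F) {X : Over S} {ι : Type w'} (Ys : ι → Over S) (fs : ∀ i, Ys i ⟶ X)
    [∀ i, IsOpenImmersion (fs i).left] (h : ∀ x : X.left, ∃ i, x ∈ Set.range (fs i).left) (x : ∀ i, F.obj (op (Ys i)))
    (hx : Presieve.Arrows.Compatible F fs x) : ∃ t : F.obj (op X), ∀ i, F.map (fs i).op t = x i :=
  ((Presieve.isSheafFor_arrows_iff F fs).1 (isSheafFor_hCover h1 Ys fs (isHCover_open Ys fs h)) x hx).exists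

/-- the square functor on schemes over `T` -/
noncomputable def sq {T : Scheme.{u}} : Over T ⥤ Over T where
  obj A := Over.mk (pullback.fst A.hom A.hom ≫ A.hom)
  map {A B} g := Over.homMk (pullback.map _ _ _ _ g.left g.left (𝟙 T) (by simp) (by simp)) (by simp)
  map_id A := Over.OverMorphism.ext (by apply pullback.hom_ext <;> simp)
  map_comp g g' := Over.OverMorphism.ext (by apply pullback.hom_ext <;> simp)

noncomputable def sqFst {T : Scheme.{u}} (A : Over T) : sq.obj A ⟶ A := Over.homMk (pullback.fst _ _)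

noncomputable def sqSnd {T : Scheme.{u}} (A : Over T) : sq.obj A ⟶ A :=
  Over.homMk (pullback.snd _ _) pullback.condition.symm

lemma sq_map_fst {T : Scheme.{u}} {A B : Over T} (g : A ⟶ B) : sq.map g ≫ sqFst B = sqFst A ≫ g :=
  Over.OverMorphism.ext (by simp [sq, sqFst])

lemma sq_map_snd {T : Scheme.{u}} {A B : Over T} (g : A ⟶ B) : sq.map g ≫ sqSnd B = sqSnd A ≫ g :=
  Over.OverMorphism.ext (by simp [sq, sqSnd])

lemma exists_sq_lift {T : Scheme.{u}} {A Z : Over T} (a b : Z ⟶ A) :
    ∃ l : Z ⟶ sq.obj A, l ≫ sqFst A = a ∧ l ≫ sqSnd A = b :=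
  ⟨Over.homMk (pullback.lift a.left b.left (by rw [Over.w a, Over.w b])) (by simp [sq]),
    Over.OverMorphism.ext (by simp [sqFst]), Over.OverMorphism.ext (by simp [sqSnd])⟩

lemma sq_hom_ext {T : Scheme.{u}} {A Z : Over T} {l m : Z ⟶ sq.obj A} (h₁ : l ≫ sqFst A = m ≫ sqFst A)
    (h₂ : l ≫ sqSnd A = m ≫ sqSnd A) : l = m :=
  Over.OverMorphism.ext (pullback.hom_ext (congrArg (fun q => q.left) h₁) (congrArg (fun q => q.left) h₂))

/-- the square functor preserves limits -/
noncomputable def isLimitSq {T : Scheme.{u}} {I : Type u} [SmallCategory I] {D : I ⥤ Over T} {c : Cone D}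
    (hc : IsLimit c) : IsLimit (sq.mapCone c) := by
  let s₁ : ∀ s : Cone (D ⋙ sq), Cone D := fun s =>
    { pt := s.pt
      π := { app := fun i => s.π.app i ≫ sqFst (D.obj i)
             naturality := fun i j φ => by
               show 𝟙 _ ≫ s.π.app j ≫ _ = (s.π.app i ≫ _) ≫ D.map φ
               rw [Category.id_comp, Category.assoc, ← sq_map_fst, ← s.w φ, Category.assoc]; rfl } }
  let s₂ : ∀ s : Cone (D ⋙ sq), Cone D := fun s =>
    { pt := s.pt
      π := { app := fun i => s.π.app i ≫ sqSnd (D.obj i)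
             naturality := fun i j φ => by
               show 𝟙 _ ≫ s.π.app j ≫ _ = (s.π.app i ≫ _) ≫ D.map φ
               rw [Category.id_comp, Category.assoc, ← sq_map_snd, ← s.w φ, Category.assoc]; rfl } }
  choose l hl₁ hl₂ using fun s => exists_sq_lift (hc.lift (s₁ s)) (hc.lift (s₂ s))
  refine { lift := l, fac := fun s i => sq_hom_ext ?_ ?_, uniq := fun s m hm => sq_hom_ext ?_ ?_ }
  · show (l s ≫ sq.map (c.π.app i)) ≫ _ = _
    rw [Category.assoc, sq_map_fst, ← Category.assoc, hl₁, hc.fac]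
  · show (l s ≫ sq.map (c.π.app i)) ≫ _ = _
    rw [Category.assoc, sq_map_snd, ← Category.assoc, hl₂, hc.fac]
  · refine hc.hom_ext fun i => ?_
    rw [hl₁, hc.fac, Category.assoc, ← sq_map_fst, ← Category.assoc]
    exact congrArg (· ≫ sqFst (D.obj i)) (hm i)
  · refine hc.hom_ext fun i => ?_
    rw [hl₂, hc.fac, Category.assoc, ← sq_map_snd, ← Category.assoc]
    exact congrArg (· ≫ sqSnd (D.obj i)) (hm i)

section lim

variable (h2 : ∀ (I : Type u) [SmallCategory I] [IsCofiltered I] (D : I ⥤ Over S),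
      (∀ i, IsAffine (D.obj i).left) → ∀ (c : Cone D), IsLimit ((Over.forget S).mapCone c) →
        Nonempty (IsColimit (F.mapCocone c.op)))
  {I : Type u} [SmallCategory I] [IsCofiltered I] {D : I ⥤ Over S} (hD : ∀ i, IsAffine (D.obj i).left)
  {c : Cone D} (hc : IsLimit ((Over.forget S).mapCone c))

include h2 hD hc in
lemma exists_rep (x : F.obj (op c.pt)) : ∃ (i : I) (y : F.obj (op (D.obj i))), F.map (c.π.app i).op y = x := by
  obtain ⟨h⟩ := h2 I D hD c hc
  obtain ⟨i, y, hy⟩ := Types.jointly_surjective_of_isColimit h x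
  exact ⟨i.unop, y, hy⟩

include h2 hD hc in
lemma exists_eq (i : I) (a b : F.obj (op (D.obj i))) (hab : F.map (c.π.app i).op a = F.map (c.π.app i).op b) :
    ∃ (j : I) (φ : j ⟶ i), F.map (D.map φ).op a = F.map (D.map φ).op b := by
  obtain ⟨h⟩ := h2 I D hD c hc
  obtain ⟨k, f, g, hfg⟩ := (Types.FilteredColimit.isColimit_eq_iff _ h (i := op i) (j := op i)).1 hab
  let k' := IsFiltered.coeq f g
  refine ⟨k'.unop, (f ≫ IsFiltered.coeqHom f g).unop, ?_⟩
  have e := congrArg ((D.op ⋙ F).map (IsFiltered.coeqHom f g)) hfg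
  simp only [← Functor.map_comp_apply, ← IsFiltered.coeq_condition f g] at e
  exact e

end lim

variable (h1 : HTop.IsHSheafOver S F)
  (h2 : ∀ (I : Type u) [SmallCategory I] [IsCofiltered I] (D : I ⥤ Over S),
      (∀ i, IsAffine (D.obj i).left) → ∀ (c : Cone D), IsLimit ((Over.forget S).mapCone c) →
        Nonempty (IsColimit (F.mapCocone c.op)))

include h1 h2 in
/-- descent along one standard V covering map of affine schemes -/
theorem affine_single {T X : Over S} [IsAffine T.left] [IsAffine X.left] (f : X ⟶ T)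
    (hf : HTop.IsStandardV (PreZeroHypercover.singleton.{0} f.left)) :
    (∀ a b : F.obj (op T), F.map f.op a = F.map f.op b → a = b) ∧
      ∀ x : F.obj (op X), (∀ (Z : Over S) (p q : Z ⟶ X), p ≫ f = q ≫ f → F.map p.op x = F.map q.op x) →
        ∃ t : F.obj (op T), F.map f.op t = x := by
  obtain ⟨I, _, _, D, c, hl, e, hA, hh⟩ := ((S7292.result.{0} f.left).out 0 2).1 hf
  let M := Over.map T.hom
  let D' : I ⥤ Over S := D ⋙ M
  let c' : Cone D' := M.mapCone c
  have hD' : ∀ i, IsAffine (D'.obj i).left := hA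
  have hc' : IsLimit ((Over.forget S).mapCone c') := hl
  let ε : c'.pt ≅ X := M.mapIso e ≪≫ Over.isoMk (Iso.refl _) ((Category.id_comp _).trans (Over.w f).symm)
  let fi : ∀ i, D'.obj i ⟶ T := fun i => Over.homMk (D.obj i).hom rfl
  have hfi : ∀ i, c'.π.app i ≫ fi i = ε.hom ≫ f := fun i => Over.OverMorphism.ext (by
    show (c.π.app i).left ≫ (D.obj i).hom = (e.hom.left ≫ 𝟙 _) ≫ f.left
    rw [Category.comp_id]
    exact (Over.w (c.π.app i)).trans (Over.w e.hom).symm)
  have hfiφ : ∀ {i j : I} (φ : j ⟶ i), D'.map φ ≫ fi i = fi j := fun φ => Over.OverMorphism.ext (Over.w (D.map φ))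
  have hsep : ∀ i, ∀ a b : F.obj (op T), F.map (fi i).op a = F.map (fi i).op b → a = b := fun i a b hab => by
    refine (isSheafFor_hCover h1 (fun _ : PUnit.{1} => D'.obj i) (fun _ => fi i) (hh i)).isSeparatedFor.ext ?_
    rintro Z g ⟨⟩
    exact hab
  refine ⟨fun a b hab => ?_, fun x hx => ?_⟩
  · obtain ⟨i⟩ : Nonempty I := IsCofiltered.nonempty
    obtain ⟨j, φ, hj⟩ := exists_eq h2 hD' hc' i (F.map (fi i).op a) (F.map (fi i).op b) (by
      simp only [← Functor.map_comp_apply, ← op_comp, hfi]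
      simp only [op_comp, Functor.map_comp_apply, hab])
    refine hsep j a b ?_
    simp only [← Functor.map_comp_apply, ← op_comp, hfiφ] at hj
    exact hj
  · obtain ⟨i, y, hy⟩ := exists_rep h2 hD' hc' (F.map ε.hom.op x)
    -- the square
    haveI : IsConnected I := IsCofiltered.isConnected I
    have hlT : IsLimit c := isLimitOfReflects (Over.forget T.left) hl
    let D₂ : I ⥤ Over S := (D ⋙ sq) ⋙ M
    let c₂ : Cone D₂ := M.mapCone (sq.mapCone c)
    have hc₂ : IsLimit ((Over.forget S).mapCone c₂) := isLimitOfPreserves (Over.forget T.left) (isLimitSq hlT)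
    have hD₂ : ∀ i, IsAffine (D₂.obj i).left := fun i =>
      haveI := hA i
      inferInstanceAs (IsAffine (pullback (D.obj i).hom (D.obj i).hom))
    have key : F.map (c₂.π.app i).op (F.map (M.map (sqFst (D.obj i))).op y) =
        F.map (c₂.π.app i).op (F.map (M.map (sqSnd (D.obj i))).op y) := by
      have e₁ : c₂.π.app i ≫ M.map (sqFst (D.obj i)) = M.map (sqFst c.pt) ≫ c'.π.app i := by
        exact (M.map_comp _ _).symm.trans ((congrArg M.map (sq_map_fst (c.π.app i))).trans (M.map_comp _ _))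
      have e₂ : c₂.π.app i ≫ M.map (sqSnd (D.obj i)) = M.map (sqSnd c.pt) ≫ c'.π.app i := by
        exact (M.map_comp _ _).symm.trans ((congrArg M.map (sq_map_snd (c.π.app i))).trans (M.map_comp _ _))
      refine (res_res _ _ y).trans ((congrArg (fun r => F.map r.op y) e₁).trans ?_)
      refine Eq.trans ?_ ((res_res _ _ y).trans (congrArg (fun r => F.map r.op y) e₂)).symm
      refine (res_res _ _ y).symm.trans ((congrArg _ hy).trans ((res_res _ _ x).trans ?_))
      refine Eq.trans ?_ ((res_res _ _ y).symm.trans ((congrArg _ hy).trans (res_res _ _ x))).symm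
      refine hx _ _ _ (Over.OverMorphism.ext ?_)
      show ((sqFst c.pt).left ≫ e.hom.left ≫ 𝟙 _) ≫ f.left = ((sqSnd c.pt).left ≫ e.hom.left ≫ 𝟙 _) ≫ f.left
      simp only [Category.comp_id, Category.assoc]
      have h := Over.w e.hom
      simp only [Over.mk_hom] at h
      rw [h]
      simp [sqFst, sqSnd, pullback.condition]
    obtain ⟨j, φ, hj⟩ := exists_eq h2 hD₂ hc₂ i _ _ key
    let yj := F.map (D'.map φ).op y
    have hj' : F.map (M.map (sqFst (D.obj j))).op yj = F.map (M.map (sqSnd (D.obj j))).op yj := by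
      have e₁ : M.map (sqFst (D.obj j)) ≫ D'.map φ = D₂.map φ ≫ M.map (sqFst (D.obj i)) := by
        show M.map _ ≫ M.map _ = M.map (sq.map _) ≫ M.map _
        rw [← M.map_comp, ← M.map_comp, sq_map_fst]
      have e₂ : M.map (sqSnd (D.obj j)) ≫ D'.map φ = D₂.map φ ≫ M.map (sqSnd (D.obj i)) := by
        show M.map _ ≫ M.map _ = M.map (sq.map _) ≫ M.map _
        rw [← M.map_comp, ← M.map_comp, sq_map_snd]
      exact (res_res _ _ y).trans ((congrArg (fun r => F.map r.op y) e₁).trans ((res_res _ _ y).symm.trans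
        (hj.trans ((res_res _ _ y).trans ((congrArg (fun r => F.map r.op y) e₂).symm.trans (res_res _ _ y).symm)))))
    obtain ⟨t, ht⟩ : ∃ t : F.obj (op T), ∀ _ : PUnit.{1}, F.map (fi j).op t = yj := by
      refine ((Presieve.isSheafFor_arrows_iff F (fun _ : PUnit.{1} => fi j)).1
        (isSheafFor_hCover h1 (fun _ : PUnit.{1} => D'.obj j) (fun _ => fi j) (hh j)) (fun _ => yj) ?_).exists
      intro _ _ Z p q hpq
      have hpT : p.left ≫ (D.obj j).hom = q.left ≫ (D.obj j).hom := congrArg (fun r => r.left) hpq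
      let Z' : Over T.left := Over.mk (p.left ≫ (D.obj j).hom)
      obtain ⟨l, hl₁, hl₂⟩ := exists_sq_lift (Over.homMk p.left : Z' ⟶ D.obj j) (Over.homMk q.left hpT.symm)
      let l' : Z ⟶ D₂.obj j := Over.homMk l.left (by
        show l.left ≫ ((sq.obj (D.obj j)).hom ≫ T.hom) = Z.hom
        rw [← Category.assoc, Over.w l]
        show (p.left ≫ (D.obj j).hom) ≫ T.hom = _
        rw [Category.assoc]
        exact Over.w p)
      have ep : p = l' ≫ M.map (sqFst (D.obj j)) := Over.OverMorphism.ext (congrArg (fun r => r.left) hl₁).symm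
      have eq' : q = l' ≫ M.map (sqSnd (D.obj j)) := Over.OverMorphism.ext (congrArg (fun r => r.left) hl₂).symm
      rw [ep, eq']
      exact (res_res _ _ yj).symm.trans ((congrArg _ hj').trans (res_res _ _ yj))
    refine ⟨t, ?_⟩
    have := ht PUnit.unit
    apply (F.mapIso ε.op).toEquiv.injective
    show F.map ε.hom.op (F.map f.op t) = F.map ε.hom.op x
    rw [← hy]
    refine (res_res _ _ t).trans ((congrArg (fun r => F.map r.op t) (hfi j).symm).trans
      ((res_res _ _ t).symm.trans ((congrArg _ this).trans ((res_res _ _ y).trans ?_))))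
    exact congrArg (fun r => F.map r.op y) (c'.w φ)

variable {T : Over S} [IsAffine T.left] {n : ℕ} (Gs : Fin n → Over S) (gs : ∀ j, Gs j ⟶ T)

include h1 h2 in
/-- descent along a standard V covering -/
theorem affine_family (hG : HTop.IsStandardV (fam Gs gs)) :
    (∀ a b : F.obj (op T), (∀ j, F.map (gs j).op a = F.map (gs j).op b) → a = b) ∧
      ∀ x : ∀ j, F.obj (op (Gs j)), Presieve.Arrows.Compatible F gs x →
        ∃ t : F.obj (op T), ∀ j, F.map (gs j).op t = x j := by
  haveI : ∀ j, IsAffine (Gs j).left := hG.isAffine_obj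
  let P : Scheme.{u} := ∐ fun j : ULift.{u} (Fin n) => (Gs j.down).left
  let π : P ⟶ T.left := Sigma.desc fun j => (gs j.down).left
  let X : Over S := Over.mk (π ≫ T.hom)
  let f : X ⟶ T := Over.homMk π
  let ιs : ∀ j : Fin n, Gs j ⟶ X := fun j =>
    Over.homMk (Sigma.ι (fun j : ULift.{u} (Fin n) => (Gs j.down).left) ⟨j⟩) (by simp [X, π])
  haveI : ∀ j, IsOpenImmersion (ιs j).left := fun j =>
    inferInstanceAs (IsOpenImmersion (Sigma.ι (fun j : ULift.{u} (Fin n) => (Gs j.down).left) ⟨j⟩))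
  have hcov : ∀ x : X.left, ∃ j, x ∈ Set.range (ιs j).left := fun x => by
    obtain ⟨i, y, hy⟩ := (sigmaOpenCover fun j : ULift.{u} (Fin n) => (Gs j.down).left).exists_eq x
    exact ⟨i.down, y, hy⟩
  have hι : ∀ j, ιs j ≫ f = gs j := fun j => Over.OverMorphism.ext (by simp [ιs, f, π])
  have hf : HTop.IsStandardV (PreZeroHypercover.singleton.{0} f.left) := by
    refine ⟨‹_›, inferInstanceAs (Finite PUnit), fun _ => inferInstanceAs (IsAffine P), fun V _ _ g => ?_⟩
    obtain ⟨W, hW, hW', φ, hφ, j, g', hg'⟩ := hG.lift V g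
    refine ⟨W, hW, hW', φ, hφ, PUnit.unit, g' ≫ (ιs j).left, ?_⟩
    refine (Category.assoc _ _ _).trans ?_
    rw [← hg']
    exact congrArg (g' ≫ ·) (congrArg (fun r => r.left) (hι j))
  haveI : IsAffine X.left := inferInstanceAs (IsAffine P)
  obtain ⟨hs, he⟩ := affine_single h1 h2 f hf
  refine ⟨fun a b hab => hs a b (ext_open h1 _ ιs hcov _ _ fun j => ?_), fun x hx => ?_⟩
  · rw [← Functor.map_comp_apply, ← Functor.map_comp_apply, ← op_comp, hι]
    exact hab j
  obtain ⟨y, hy⟩ := glue_open h1 _ ιs hcov x fun i j Z p q hpq => hx i j Z p q (by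
    rw [← hι i, ← hι j, reassoc_of% hpq])
  obtain ⟨t, ht⟩ := he y fun Z p q hpq => by
    let O : Fin n × Fin n → Z.left.Opens := fun ij => p.left ⁻¹ᵁ (ιs ij.1).left.opensRange ⊓ q.left ⁻¹ᵁ (ιs ij.2).left.opensRange
    let rs : ∀ ij, (Over.mk ((O ij).ι ≫ Z.hom) : Over S) ⟶ Z := fun ij => Over.homMk (O ij).ι
    haveI : ∀ ij, IsOpenImmersion (rs ij).left := fun ij => inferInstanceAs (IsOpenImmersion (O ij).ι)
    refine ext_open h1 (fun ij => Over.mk ((O ij).ι ≫ Z.hom)) rs (fun z => ?_) _ _ fun ij => ?_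
    · obtain ⟨i, hi⟩ := hcov (p.left z)
      obtain ⟨j, hj⟩ := hcov (q.left z)
      exact ⟨(i, j), ⟨z, hi, hj⟩, rfl⟩
    · let r : (Over.mk ((O ij).ι ≫ Z.hom) : Over S) ⟶ Z := Over.homMk (O ij).ι
      let lp := IsOpenImmersion.lift (ιs ij.1).left ((O ij).ι ≫ p.left) (by
        rintro _ ⟨z, rfl⟩; exact z.2.1)
      let lq := IsOpenImmersion.lift (ιs ij.2).left ((O ij).ι ≫ q.left) (by
        rintro _ ⟨z, rfl⟩; exact z.2.2)
      have hlp : lp ≫ (ιs ij.1).left = (O ij).ι ≫ p.left := IsOpenImmersion.lift_fac _ _ _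
      have hlq : lq ≫ (ιs ij.2).left = (O ij).ι ≫ q.left := IsOpenImmersion.lift_fac _ _ _
      let p' : (Over.mk ((O ij).ι ≫ Z.hom) : Over S) ⟶ Gs ij.1 := Over.homMk lp (by
        rw [← Over.w (ιs ij.1), ← Category.assoc, hlp, Category.assoc, Over.w p]; rfl)
      let q' : (Over.mk ((O ij).ι ≫ Z.hom) : Over S) ⟶ Gs ij.2 := Over.homMk lq (by
        rw [← Over.w (ιs ij.2), ← Category.assoc, hlq, Category.assoc, Over.w q]; rfl)
      have ep : r ≫ p = p' ≫ ιs ij.1 := Over.OverMorphism.ext hlp.symm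
      have eq' : r ≫ q = q' ≫ ιs ij.2 := Over.OverMorphism.ext hlq.symm
      show F.map r.op (F.map p.op y) = F.map r.op (F.map q.op y)
      rw [← Functor.map_comp_apply, ← Functor.map_comp_apply, ← op_comp, ← op_comp, ep, eq', op_comp, op_comp,
        Functor.map_comp_apply, Functor.map_comp_apply, hy, hy]
      exact hx _ _ _ p' q' (by rw [← hι ij.1, ← hι ij.2, ← reassoc_of% ep, ← reassoc_of% eq', hpq])
  exact ⟨t, fun j => by rw [← hι j, op_comp, Functor.map_comp_apply, ht, hy]⟩

end Groth.Agent.HTop16.VDescent
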