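import Groth.Agent.HTop16.VDescent

/-!
# Limit preserving h sheaves are V sheaves: the general covering
-/

set_option autoImplicit false
set_option backward.isDefEq.respectTransparency false
set_option linter.all false

universe w' w u

open CategoryTheory CategoryTheory.Limits AlgebraicGeometry TopologicalSpace Opposite

namespace Groth.Agent.HTop16.VDescent

variable {S : Scheme.{u}} {F : (Over S)ᵒᵖ ⥤ Type w}

/-- The open subscheme over `S`. -/
abbrev opn (X : Over S) (U : X.left.Opens) : Over S := Over.mk (U.ι ≫ X.hom)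

/-- The inclusion of an open subscheme over `S`. -/
abbrev opnι (X : Over S) (U : X.left.Opens) : opn X U ⟶ X := Over.homMk U.ι

instance isOpenImmersion_opnι (X : Over S) (U : X.left.Opens) : IsOpenImmersion (opnι X U).left :=
  inferInstanceAs (IsOpenImmersion U.ι)

lemma affine_cover_jointly (X : Over S) (x : X.left) :
    ∃ U : X.left.affineOpens, x ∈ Set.range (opnι X U.1).left := by
  obtain ⟨U, hU, hx, -⟩ := exists_isAffineOpen_mem_and_subset (show x ∈ (⊤ : X.left.Opens) from trivial)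
  exact ⟨⟨U, hU⟩, ⟨x, hx⟩, rfl⟩

variable (h1 : HTop.IsHSheafOver S F)
  (h2 : ∀ (I : Type u) [SmallCategory I] [IsCofiltered I] (D : I ⥤ Over S),
      (∀ i, IsAffine (D.obj i).left) → ∀ (c : Cone D), IsLimit ((Over.forget S).mapCone c) →
        Nonempty (IsColimit (F.mapCocone c.op)))

/-- The data of a standard V covering of an affine open refining a family over `S`. -/
lemma exists_refine {X : Over S} {ι : Type w'} (Ys : ι → Over S) (fs : ∀ i, Ys i ⟶ X)
    (h : HTop.IsVCover (fam Ys fs)) (U : X.left.affineOpens) :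
    ∃ (n : ℕ) (Gs : Fin n → Over S) (gs : ∀ j, Gs j ⟶ opn X U.1) (i : Fin n → ι) (k : ∀ j, Gs j ⟶ Ys (i j)),
      HTop.IsStandardV (fam Gs gs) ∧ ∀ j, gs j ≫ opnι X U.1 = k j ≫ fs (i j) := by
  obtain ⟨G, hG, hr⟩ := h U
  haveI := hG.finite_index
  obtain ⟨n, ⟨e⟩⟩ := Finite.exists_equiv_fin G.I₀
  choose i k hk using hr
  let Gs : Fin n → Over S := fun j => Over.mk (G.f (e.symm j) ≫ U.1.ι ≫ X.hom)
  let gs : ∀ j, Gs j ⟶ opn X U.1 := fun j => Over.homMk (G.f (e.symm j))
  refine ⟨n, Gs, gs, fun j => i (e.symm j), fun j => Over.homMk (k (e.symm j)) ?_, ⟨hG.isAffine,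
    inferInstanceAs (Finite (Fin n)), fun j => hG.isAffine_obj _, fun V _ _ g => ?_⟩,
    fun j => Over.OverMorphism.ext (hk (e.symm j)).symm⟩
  · show k _ ≫ (Ys _).hom = G.f _ ≫ U.1.ι ≫ X.hom
    rw [← Over.w (fs _), ← Category.assoc]
    exact (congrArg (· ≫ X.hom) (hk (e.symm j))).trans (Category.assoc _ _ _)
  · obtain ⟨W, hW, hW', φ, hφ, j, g', hg'⟩ := hG.lift V g
    obtain ⟨j, rfl⟩ := e.symm.surjective j
    exact ⟨W, hW, hW', φ, hφ, j, g', hg'⟩

include h1 h2 in
lemma vsep {X : Over S} {ι : Type w'} (Ys : ι → Over S) (fs : ∀ i, Ys i ⟶ X)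
    (h : HTop.IsVCover (fam Ys fs)) (a b : F.obj (op X))
    (hab : ∀ i, F.map (fs i).op a = F.map (fs i).op b) : a = b := by
  refine ext_open h1 (fun U : X.left.affineOpens => opn X U.1) (fun U => opnι X U.1) (affine_cover_jointly X) a b
    fun U => ?_
  obtain ⟨n, Gs, gs, i, k, hG, hk⟩ := exists_refine Ys fs h U
  haveI : IsAffine (opn X U.1).left := U.2
  refine (affine_family h1 h2 Gs gs hG).1 _ _ fun j => ?_
  rw [res_res, res_res, hk, ← res_res, ← res_res, hab]

include h1 h2 in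
/-- separatedness along the base change of a V covering -/
lemma vsep_pullback {X Z : Over S} {ι : Type w'} (Ys : ι → Over S) (fs : ∀ i, Ys i ⟶ X)
    (h : HTop.IsVCover (fam Ys fs)) (g : Z ⟶ X) (a b : F.obj (op Z))
    (hab : ∀ (W : Over S) (p : W ⟶ Z) (i : ι) (q : W ⟶ Ys i), p ≫ g = q ≫ fs i →
      F.map p.op a = F.map p.op b) : a = b := by
  let Ps : ι → Over S := fun i => Over.mk (pullback.fst g.left (fs i).left ≫ Z.hom)
  let ps : ∀ i, Ps i ⟶ Z := fun i => Over.homMk (pullback.fst g.left (fs i).left)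
  refine vsep h1 h2 Ps ps (VCover.isVCover_pullback g.left h) a b fun i => hab _ _ i
    (Over.homMk (pullback.snd g.left (fs i).left) ?_) (Over.OverMorphism.ext pullback.condition)
  show pullback.snd _ _ ≫ (Ys i).hom = pullback.fst _ _ ≫ Z.hom
  rw [← Over.w g, ← Over.w (fs i), ← Category.assoc, ← Category.assoc, pullback.condition]

include h1 h2 in
theorem isSheafFor_vCover {X : Over S} {ι : Type w'} (Ys : ι → Over S) (fs : ∀ i, Ys i ⟶ X)
    (h : HTop.IsVCover (fam Ys fs)) : Presieve.IsSheafFor F (Presieve.ofArrows Ys fs) := by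
  refine (Presieve.isSheafFor_arrows_iff F fs).2 fun x hx => ?_
  suffices hex : ∃ t, ∀ i, F.map (fs i).op t = x i by
    obtain ⟨t, ht⟩ := hex
    exact ⟨t, ht, fun t' ht' => vsep h1 h2 Ys fs h t' t fun i => (ht' i).trans (ht i).symm⟩
  -- the local amalgamations
  have loc : ∀ U : X.left.affineOpens, ∃ y : F.obj (op (opn X U.1)),
      ∀ (Z : Over S) (r : Z ⟶ opn X U.1) (i : ι) (k : Z ⟶ Ys i), r ≫ opnι X U.1 = k ≫ fs i →
        F.map r.op y = F.map k.op (x i) := fun U => by
    obtain ⟨n, Gs, gs, i, k, hG, hk⟩ := exists_refine Ys fs h U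
    haveI : IsAffine (opn X U.1).left := U.2
    obtain ⟨y, hy⟩ := (affine_family h1 h2 Gs gs hG).2 (fun j => F.map (k j).op (x (i j)))
      fun j₁ j₂ Z p q hpq => by
        refine (res_res _ _ _).trans (Eq.trans ?_ (res_res _ _ _).symm)
        exact hx _ _ Z _ _ (by rw [Category.assoc, Category.assoc, ← hk, ← hk, reassoc_of% hpq])
    refine ⟨y, fun Z r i' k' hr => ?_⟩
    refine vsep_pullback h1 h2 Gs gs (HDescend.isVCover_of_isStandardV hG) r _ _ fun W p j q hpq => ?_
    rw [res_res, res_res, hpq, ← res_res, hy, res_res]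
    exact hx _ _ W _ _ (by rw [Category.assoc, Category.assoc, ← hk, ← hr, reassoc_of% hpq])
  choose y hy using loc
  obtain ⟨t, ht⟩ := glue_open h1 (fun U : X.left.affineOpens => opn X U.1) (fun U => opnι X U.1)
    (affine_cover_jointly X) y fun U₁ U₂ Z p q hpq => by
      refine vsep_pullback h1 h2 Ys fs h (p ≫ opnι X U₁.1) _ _ fun W r i k hrk => ?_
      rw [res_res, res_res, hy U₁ W _ i k (by rw [Category.assoc, hrk]),
        hy U₂ W _ i k (by rw [Category.assoc, ← hpq, hrk])]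
  refine ⟨t, fun i => ?_⟩
  let O : X.left.affineOpens → (Ys i).left.Opens := fun U => (fs i).left ⁻¹ᵁ U.1
  let rs : ∀ U, opn (Ys i) (O U) ⟶ Ys i := fun U => opnι (Ys i) (O U)
  refine ext_open h1 (fun U => opn (Ys i) (O U)) rs (fun z => ?_) _ _ fun U => ?_
  · obtain ⟨U, ⟨u, hu⟩⟩ := affine_cover_jointly X ((fs i).left z)
    exact ⟨U, ⟨z, show (fs i).left z ∈ U.1 from hu ▸ u.2⟩, rfl⟩
  · let r : opn (Ys i) (O U) ⟶ opn X U.1 := Over.homMk ((fs i).left ∣_ U.1) (by
      show _ ≫ U.1.ι ≫ X.hom = (O U).ι ≫ (Ys i).hom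
      rw [morphismRestrict_ι_assoc, Over.w])
    have hr : r ≫ opnι X U.1 = rs U ≫ fs i := Over.OverMorphism.ext (morphismRestrict_ι _ _)
    rw [res_res, ← hr, ← res_res, ht, hy U _ r i (rs U) hr]

include h1 h2 in
theorem isVSheafOver : HTop.IsVSheafOver S F := fun X R hR => by
  let ι := Σ Y : Over S, {f : Y ⟶ X // R f}
  have e : R = Presieve.ofArrows (fun i : ι => i.1) (fun i => i.2.1) := by
    funext Y
    refine Set.ext fun f => ⟨fun hf => Presieve.ofArrows.mk (⟨Y, f, hf⟩ : ι), ?_⟩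
    rintro ⟨i⟩
    exact i.2.2
  rw [e] at hR ⊢
  refine isSheafFor_vCover h1 h2 _ _ ?_
  rw [Presieve.map_ofArrows] at hR
  exact (HTop.presieve₀_mem_vPrecoverage_iff (fam (fun i : ι => i.1) (fun i => i.2.1))).1 hR

end Groth.Agent.HTop16.VDescent
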