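import Groth.Agent.HTop16.Std

/-!
# The sheaf condition for V coverings
-/

set_option autoImplicit false
set_option backward.isDefEq.respectTransparency false
set_option linter.all false

universe w w' u

open CategoryTheory CategoryTheory.Limits AlgebraicGeometry TopologicalSpace Opposite

namespace Groth.Agent.HTop16.VSheaf

variable {T : Scheme.{u}}

theorem isVCover_of_isStandardV {E : PreZeroHypercover.{w} T} (hE : HTop.IsStandardV E) : HTop.IsVCover E :=
  fun U => by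
    haveI : IsAffine (U.1 : Scheme.{u}) := U.2
    haveI := hE.finite_index
    obtain ⟨n, ⟨e⟩⟩ := Finite.exists_equiv_fin E.I₀
    let G : PreZeroHypercover.{0} (U.1 : Scheme.{u}) :=
      { I₀ := Fin n
        X := fun k => pullback U.1.ι (E.f (e.symm k))
        f := fun k => pullback.fst U.1.ι (E.f (e.symm k)) }
    have hG := VCover.isStandardV_pullback U.1.ι hE
    refine ⟨G, ⟨U.2, inferInstanceAs (Finite (Fin n)), fun k => hG.isAffine_obj _, ?_⟩,
      fun k => ⟨e.symm k, pullback.snd _ _, pullback.condition.symm⟩⟩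
    intro V _ _ g
    obtain ⟨W, hW, hW', φ, hφ, j, g', hg'⟩ := hG.lift V g
    obtain ⟨k, rfl⟩ := e.symm.surjective j
    exact ⟨W, hW, hW', φ, hφ, k, g', hg'⟩

variable {F : Scheme.{u}ᵒᵖ ⥤ Type w'}

theorem isSheafFor_openCover (hF : Presieve.IsSheaf Scheme.zariskiTopology F) (𝒰 : T.OpenCover) :
    Presieve.IsSheafFor F (Presieve.ofArrows 𝒰.X 𝒰.f) :=
  (Presieve.isSheafFor_iff_generate _).2 (hF _ (Precoverage.generate_mem_toGrothendieck 𝒰.mem₀))

theorem ext_of_cover (hF : Presieve.IsSheaf Scheme.zariskiTopology F) {a b : F.obj (op T)}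
    (h : ∀ t : T, ∃ O : T.Opens, t ∈ O ∧ F.map O.ι.op a = F.map O.ι.op b) : a = b := by
  choose O hO h using h
  let 𝒰 := T.openCoverOfIsOpenCover O (by
    rw [IsOpenCover, eq_top_iff]
    exact fun t _ => Opens.mem_iSup.2 ⟨t, hO t⟩)
  have := (isSheafFor_openCover hF 𝒰).isSeparatedFor
  exact this.ext fun Y f hf => by
    obtain ⟨i⟩ := hf
    exact h i

/-- The value prescribed by a compatible family on an affine scheme over the base. -/
def IsSec (E : PreZeroHypercover.{w} T) (x : ∀ i, F.obj (op (E.X i))) {A : Scheme.{u}} (h : A ⟶ T)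
    (s : F.obj (op A)) : Prop :=
  ∀ ⦃Z : Scheme.{u}⦄ (i : E.I₀) (a : Z ⟶ E.X i) (b : Z ⟶ A), a ≫ E.f i = b ≫ h → F.map b.op s = F.map a.op (x i)

/-- The sheaf condition for a family refined, over every affine scheme, by a family with the sheaf condition. -/
theorem isSheafFor_of_refinesOver (hz : Presieve.IsSheaf Scheme.zariskiTopology F) {E : PreZeroHypercover.{w} T}
    (href : ∀ (A : Scheme.{u}) [IsAffine A] (h : A ⟶ T), ∃ G : PreZeroHypercover.{0} A, HTop.RefinesOver h G E ∧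
      Presieve.IsSheafFor F G.presieve₀ ∧
      ∀ (A' : Scheme.{u}) [IsAffine A'] (b : A' ⟶ A), Presieve.IsSheafFor F (G.pullback₁ b).presieve₀) :
    Presieve.IsSheafFor F E.presieve₀ := by
  rw [show E.presieve₀ = Presieve.ofArrows E.X E.f from rfl, Presieve.isSheafFor_arrows_iff]
  intro x hx
  -- uniqueness
  have uniq : ∀ {A : Scheme.{u}} [IsAffine A] (h : A ⟶ T) (s s' : F.obj (op A)), IsSec E x h s → IsSec E x h s' →
      s = s' := by
    intro A _ h s s' hs₁ hs₂
    obtain ⟨G, hr, hG, -⟩ := href A h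
    exact hG.isSeparatedFor.ext fun Y f hf => by
      obtain ⟨j⟩ := hf
      obtain ⟨i, a, ha⟩ := hr j
      exact (hs₁ i a _ ha).trans (hs₂ i a _ ha).symm
  -- existence
  have ex : ∀ {A : Scheme.{u}} [IsAffine A] (h : A ⟶ T), ∃ s : F.obj (op A), IsSec E x h s := by
    intro A _ h
    obtain ⟨G, hr, hG, hGp⟩ := href A h
    choose i a ha using hr
    obtain ⟨s, hs', -⟩ := (Presieve.isSheafFor_arrows_iff F G.f).1 hG (fun j => F.map (a j).op (x (i j)))
      fun j k Z gj gk hjk => by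
        have := hx (i j) (i k) Z (gj ≫ a j) (gk ≫ a k) (by
          simp only [Category.assoc, ha, reassoc_of% hjk])
        simpa using this
    refine ⟨s, fun Z i' a' b e => ext_of_cover hz fun z => ?_⟩
    obtain ⟨_, ⟨O', hO, rfl⟩, hzO, -⟩ :=
      Z.isBasis_affineOpens.exists_subset_of_mem_open (Set.mem_univ z) isOpen_univ
    let O : Z.Opens := O'
    refine ⟨O, hzO, ?_⟩
    haveI : IsAffine (O : Scheme.{u}) := hO
    refine (hGp (O : Scheme.{u}) (O.ι ≫ b)).isSeparatedFor.ext fun Y f hf => ?_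
    obtain ⟨j⟩ := hf
    have e₁ : F.map (G.f j).op s = F.map (a j).op (x (i j)) := hs' j
    have e₂ := hx (i j) i' _ (pullback.snd (O.ι ≫ b) (G.f j) ≫ a j) (pullback.fst (O.ι ≫ b) (G.f j) ≫ O.ι ≫ a') (by
      simp only [Category.assoc, ha, e, ← reassoc_of% pullback.condition])
    have e₃ : F.map ((pullback.fst (O.ι ≫ b) (G.f j) ≫ O.ι ≫ b)).op s =
        F.map (pullback.snd (O.ι ≫ b) (G.f j)).op (F.map (G.f j).op s) := by
      rw [pullback.condition]; simp
    rw [e₁] at e₃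
    simp only [op_comp, Functor.map_comp, ConcreteCategory.comp_apply] at e₂ e₃ ⊢
    exact e₃.trans e₂
  have nat : ∀ {A A' : Scheme.{u}} [IsAffine A] [IsAffine A'] (c : A' ⟶ A) (h : A ⟶ T) (s : F.obj (op A))
      (s' : F.obj (op A')), IsSec E x h s → IsSec E x (c ≫ h) s' → F.map c.op s = s' := by
    intro A A' _ _ c h s s' h₁ h₂
    refine uniq (c ≫ h) _ _ (fun Z i a b e => ?_) h₂
    have := h₁ i a (b ≫ c) (by rw [Category.assoc]; exact e)
    simpa using this
  have hcov : ∀ t : T, ∃ U : T.affineOpens, t ∈ U.1 := fun t => by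
    obtain ⟨_, ⟨U, hU, rfl⟩, ht, -⟩ :=
      T.isBasis_affineOpens.exists_subset_of_mem_open (Set.mem_univ t) isOpen_univ
    exact ⟨⟨U, hU⟩, ht⟩
  choose U hU using hcov
  choose s hs₀ using fun t => @ex (U t).1 (U t).2 (U t).1.ι
  let 𝒰 := T.openCoverOfIsOpenCover (fun t => (U t).1) (by
    rw [IsOpenCover, eq_top_iff]
    exact fun t _ => Opens.mem_iSup.2 ⟨t, hU t⟩)
  obtain ⟨σ, hσ, -⟩ := (Presieve.isSheafFor_arrows_iff F 𝒰.f).1 (isSheafFor_openCover hz 𝒰) s
    fun t t' Z gt gt' e => ext_of_cover hz fun z => by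
      obtain ⟨_, ⟨O', hO, rfl⟩, hzO, -⟩ :=
        Z.isBasis_affineOpens.exists_subset_of_mem_open (Set.mem_univ z) isOpen_univ
      let O : Z.Opens := O'
      refine ⟨O, hzO, ?_⟩
      haveI : IsAffine (O : Scheme.{u}) := hO
      haveI : IsAffine ((U t).1 : Scheme.{u}) := (U t).2
      haveI : IsAffine ((U t').1 : Scheme.{u}) := (U t').2
      change Z ⟶ ((U t).1 : Scheme.{u}) at gt
      change Z ⟶ ((U t').1 : Scheme.{u}) at gt'
      change gt ≫ (U t).1.ι = gt' ≫ (U t').1.ι at e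
      obtain ⟨r, hr⟩ := ex ((O.ι ≫ gt) ≫ (U t).1.ι)
      have h₁ := nat (O.ι ≫ gt) _ _ r (hs₀ t) hr
      have h₂ := nat (O.ι ≫ gt') _ _ r (hs₀ t') (by simpa [e] using hr)
      have := h₁.trans h₂.symm
      rw [op_comp, op_comp, Functor.map_comp, Functor.map_comp, ConcreteCategory.comp_apply, ConcreteCategory.comp_apply] at this
      exact this
  refine ⟨σ, fun i => ext_of_cover hz fun z => ?_, fun σ' hσ' => ext_of_cover hz fun t => ⟨(U t).1, hU t, ?_⟩⟩
  · refine ⟨E.f i ⁻¹ᵁ (U (E.f i z)).1, hU _, ?_⟩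
    have := hs₀ (E.f i z) i (E.f i ⁻¹ᵁ (U (E.f i z)).1).ι (E.f i ∣_ (U (E.f i z)).1) (morphismRestrict_ι _ _).symm
    have e : F.map (U (E.f i z)).1.ι.op σ = s (E.f i z) := hσ (E.f i z)
    have c : F.map (E.f i ∣_ (U (E.f i z)).1).op (F.map (U (E.f i z)).1.ι.op σ) =
        F.map (E.f i ⁻¹ᵁ (U (E.f i z)).1).ι.op (F.map (E.f i).op σ) := by
      simp only [← ConcreteCategory.comp_apply, ← Functor.map_comp, ← op_comp, morphismRestrict_ι]
    rw [← c, e]
    exact this
  · haveI : IsAffine ((U t).1 : Scheme.{u}) := (U t).2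
    have e : F.map (U t).1.ι.op σ = s t := hσ t
    rw [e]
    refine uniq (U t).1.ι _ _ (fun Z i a b h => ?_) (hs₀ t)
    have := congrArg (fun y => F.map a.op y) (hσ' i)
    simp only [← ConcreteCategory.comp_apply, ← Functor.map_comp, ← op_comp, h] at this ⊢
    exact this

theorem presieve₀_mem_vPrecoverage_of_openCover (𝒰 : T.OpenCover) :
    Presieve.ofArrows 𝒰.X 𝒰.f ∈ HTop.vPrecoverage T :=
  (HTop.presieve₀_mem_vPrecoverage_iff (E := 𝒰.toPreZeroHypercover)).2
    (VCover.isVCover_fpqc (𝒰.weaken Scheme.zariskiPrecoverage_le_fpqcPrecoverage))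

theorem isSheaf_zariski_of_isVSheaf (h : HTop.IsVSheaf F) : Presieve.IsSheaf Scheme.zariskiTopology F := by
  change Presieve.IsSheaf (Scheme.grothendieckTopology @IsOpenImmersion) F
  rw [Scheme.grothendieckTopology, Precoverage.isSheaf_toGrothendieck_iff_of_isStableUnderBaseChange]
  intro X R hR
  obtain ⟨𝒰, rfl⟩ := Precoverage.mem_iff_exists_zeroHypercover.1 hR
  exact h _ (presieve₀_mem_vPrecoverage_of_openCover 𝒰)

/-- A standard V covering gives a standard V covering by one affine scheme. -/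
theorem isStandardV_sigma {E : PreZeroHypercover.{u} T} (hE : HTop.IsStandardV E) :
    HTop.IsStandardV (PreZeroHypercover.singleton.{w} (Sigma.desc E.f)) := by
  haveI := hE.finite_index
  haveI := hE.isAffine_obj
  refine ⟨hE.isAffine, inferInstanceAs (Finite PUnit), fun _ => inferInstanceAs (IsAffine (∐ E.X)), fun V _ _ g => ?_⟩
  obtain ⟨W, hW, hW', φ, hφ, j, g', hg'⟩ := hE.lift V g
  refine ⟨W, hW, hW', φ, hφ, PUnit.unit, g' ≫ Sigma.ι E.X j, ?_⟩
  change (g' ≫ Sigma.ι E.X j) ≫ Sigma.desc E.f = _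
  rw [Category.assoc, Sigma.ι_desc, hg']

theorem isSheafFor_of_openPieces (hz : Presieve.IsSheaf Scheme.zariskiTopology F) {E : PreZeroHypercover.{w} T}
    {U : Scheme.{u}} (f : U ⟶ T) (ι : ∀ j, E.X j ⟶ U) [∀ j, IsOpenImmersion (ι j)] (hι : ∀ j, ι j ≫ f = E.f j)
    (hU : ∀ x : U, ∃ j, x ∈ Set.range (ι j).base)
    (h : Presieve.IsSheafFor F (Presieve.singleton f)) : Presieve.IsSheafFor F E.presieve₀ := by
  rw [show E.presieve₀ = Presieve.ofArrows E.X E.f from rfl, Presieve.isSheafFor_arrows_iff]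
  intro x hx
  let 𝒱 : U.OpenCover :=
    { I₀ := E.I₀
      X := E.X
      f := ι
      mem₀ := by
        rw [Scheme.presieve₀_mem_precoverage_iff]
        exact ⟨hU, fun j => inferInstanceAs (IsOpenImmersion (ι j))⟩ }
  have hsep : Presieve.IsSheafFor F (Presieve.ofArrows E.X ι) :=
    (Presieve.isSheafFor_iff_generate _).2 (hz _ (Precoverage.generate_mem_toGrothendieck 𝒱.mem₀))
  have hcov := (Presieve.isSheafFor_arrows_iff F ι).1 hsep
  obtain ⟨X, hX, hXu⟩ := hcov x fun j k Z a b e => hx j k Z a b (by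
    simpa [hι] using congr($e ≫ f))
  rw [show Presieve.singleton (f) = Presieve.ofArrows (fun _ : PUnit.{1} => U) (fun _ => f) from (Presieve.ofArrows_pUnit _).symm, Presieve.isSheafFor_arrows_iff] at h
  obtain ⟨t, ht, htu⟩ := h (fun _ => X) fun _ _ Z a b e => ext_of_cover hz fun z => by
    obtain ⟨j, aj, hj⟩ := hU (a z)
    obtain ⟨k, bk, hk⟩ := hU (b z)
    refine ⟨a ⁻¹ᵁ (ι j).opensRange ⊓ b ⁻¹ᵁ (ι k).opensRange, ⟨⟨aj, hj⟩, ⟨bk, hk⟩⟩, ?_⟩
    generalize hO : a ⁻¹ᵁ (ι j).opensRange ⊓ b ⁻¹ᵁ (ι k).opensRange = O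
    have ha : Set.range (O.ι ≫ a) ⊆ Set.range (ι j) := by
      rintro _ ⟨y, rfl⟩
      exact (hO.ge y.2).1
    have hb : Set.range (O.ι ≫ b) ⊆ Set.range (ι k) := by
      rintro _ ⟨y, rfl⟩
      exact (hO.ge y.2).2
    have ea := IsOpenImmersion.lift_fac _ _ ha
    have eb := IsOpenImmersion.lift_fac _ _ hb
    generalize IsOpenImmersion.lift _ _ ha = la at ea
    generalize IsOpenImmersion.lift _ _ hb = lb at eb
    have := hx j k _ la lb (by
      have := congr(O.ι ≫ $e)
      rw [← reassoc_of% ea, ← reassoc_of% eb] at this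
      simpa [hι] using this)
    rw [← hX j, ← hX k] at this
    change F.map la.op (F.map (ι j).op X) = F.map lb.op (F.map (ι k).op X) at this
    simp only [← ConcreteCategory.comp_apply, ← Functor.map_comp, ← op_comp, ea, eb] at this ⊢
    exact this
  have e₁ : ∀ (t : F.obj (op T)) j, F.map (ι j).op (F.map (f).op t) = F.map (E.f j).op t :=
    fun t j => by rw [← ConcreteCategory.comp_apply, ← Functor.map_comp, ← op_comp, hι]
  refine ⟨t, fun j => ?_, fun t' ht' => htu t' fun _ => hXu _ fun j => (e₁ t' j).trans (ht' j)⟩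
  rw [← e₁, ht PUnit.unit]
  exact hX j

theorem isSheafFor_of_sigma (hz : Presieve.IsSheaf Scheme.zariskiTopology F) (E : PreZeroHypercover.{u} T)
    (h : Presieve.IsSheafFor F (Presieve.singleton (Sigma.desc E.f))) : Presieve.IsSheafFor F E.presieve₀ :=
  isSheafFor_of_openPieces hz (Sigma.desc E.f) (Sigma.ι E.X) (fun j => Sigma.ι_desc _ _)
    (fun x => ⟨_, (sigmaOpenCover E.X).covers x⟩) h

theorem isSheafFor_of_isVCover (hz : Presieve.IsSheaf Scheme.zariskiTopology F)
    (hs : ∀ (A : Scheme.{u}) (G : PreZeroHypercover.{0} A), HTop.IsStandardV G → Presieve.IsSheafFor F G.presieve₀)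
    {E : PreZeroHypercover.{w} T} (hE : HTop.IsVCover E) : Presieve.IsSheafFor F E.presieve₀ :=
  isSheafFor_of_refinesOver hz fun A _ h => by
    obtain ⟨G, hG, hr⟩ := VCover.exists_standardV_refinesOver hE h
    exact ⟨G, hr, hs A G hG, fun A' _ b => hs A' _ (VCover.isStandardV_pullback b hG)⟩

theorem isVSheaf_iff (F : Scheme.{u}ᵒᵖ ⥤ Type w') :
    HTop.IsVSheaf F ↔ (Presieve.IsSheaf Scheme.zariskiTopology F ∧
      ∀ (A : Scheme.{u}) (G : PreZeroHypercover.{u} A), HTop.IsStandardV G → Presieve.IsSheafFor F G.presieve₀) := by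
  refine ⟨fun h => ⟨isSheaf_zariski_of_isVSheaf h, fun A G hG =>
    h _ ((HTop.presieve₀_mem_vPrecoverage_iff (E := G)).2 (isVCover_of_isStandardV hG))⟩, fun ⟨hz, hs⟩ X R hR => ?_⟩
  obtain ⟨E, hE, rfl⟩ := PreZeroHypercoverFamily.mem_precoverage_iff.1 hR
  refine isSheafFor_of_isVCover hz (fun A G hG => ?_) hE
  have := hs A (G.reindex Equiv.ulift.{u}) ⟨hG.isAffine, (haveI := hG.finite_index; inferInstanceAs (Finite (ULift.{u} G.I₀))),
    fun j => hG.isAffine_obj j.down, fun V _ _ g => by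
      obtain ⟨W, hW, hW', φ, hφ, j, g', hg'⟩ := hG.lift V g
      exact ⟨W, hW, hW', φ, hφ, ⟨j⟩, g', hg'⟩⟩
  rwa [PreZeroHypercover.presieve₀_reindex] at this

theorem isVSheaf_iff_singleton (F : Scheme.{u}ᵒᵖ ⥤ Type w') :
    HTop.IsVSheaf F ↔ (Presieve.IsSheaf Scheme.zariskiTopology F ∧ ∀ (U V : Scheme.{u}) (f : V ⟶ U),
      HTop.IsStandardV (PreZeroHypercover.singleton.{w} f) → Presieve.IsSheafFor F (Presieve.singleton f)) := by
  refine ⟨fun h => ⟨isSheaf_zariski_of_isVSheaf h, fun U V f hf => ?_⟩, fun ⟨hz, hs⟩ => (isVSheaf_iff F).2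
    ⟨hz, fun A G hG => isSheafFor_of_sigma hz G (hs _ _ _ (isStandardV_sigma hG))⟩⟩
  have := h _ ((HTop.presieve₀_mem_vPrecoverage_iff (E := PreZeroHypercover.singleton.{w} f)).2
    (isVCover_of_isStandardV hf))
  rwa [PreZeroHypercover.presieve₀_singleton] at this

end Groth.Agent.HTop16.VSheaf
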