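import Mathlib.CategoryTheory.Sites.LocallySurjective
import Mathlib.CategoryTheory.Sites.EpiMono
import Mathlib.CategoryTheory.Sites.Sheafification
import Mathlib.CategoryTheory.Limits.Types.Products

/-!
# Weakly contractible objects of a site
-/

set_option autoImplicit false

universe u

open CategoryTheory CategoryTheory.Limits Opposite

namespace Groth.Agent.HTop16.WeakContr

variable {C : Type u} [SmallCategory C] (J : GrothendieckTopology C) {U : C}

/-- The family of a sieve. -/
noncomputable abbrev desc (S : Sieve U) :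
    (∐ fun i : (Σ V : C, {f : V ⟶ U // S f}) => yoneda.obj i.1) ⟶ yoneda.obj U :=
  Sigma.desc fun i : (Σ V : C, {f : V ⟶ U // S f}) => yoneda.map i.2.1

lemma epi_map_desc (S : Sieve U) (hS : S ∈ J U) :
    Epi ((presheafToSheaf J (Type u)).map (desc S)) := by
  have : Presheaf.IsLocallySurjective J (desc S) := ⟨fun {V} (g : V ⟶ U) => by
    refine J.superset_covering ?_ (J.pullback_stable g hS)
    intro W k hk
    refine ⟨(Sigma.ι (fun i : (Σ V : C, {f : V ⟶ U // S f}) => yoneda.obj i.1)
      ⟨W, k ≫ g, hk⟩).app (op W) (𝟙 W), ?_⟩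
    refine (ConcreteCategory.congr_hom (NatTrans.congr_app
      (Sigma.ι_desc (fun i : (Σ V : C, {f : V ⟶ U // S f}) => yoneda.map i.2.1)
        ⟨W, k ≫ g, hk⟩) (op W)) (𝟙 W)).trans ?_
    exact Category.id_comp _⟩
  exact (Sheaf.isLocallySurjective_iff_epi _).1
    ((Presheaf.isLocallySurjective_presheafToSheaf_map_iff J (desc S)).2 this)

theorem tfae (U : C) :
    (∀ S : Sieve U, S ∈ J U → IsSplitEpi ((presheafToSheaf J (Type u)).map (desc S))) ↔
    ∀ (F G : Sheaf J (Type u)) (φ : F ⟶ G), Epi φ → Function.Surjective (φ.hom.app (op U)) := by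
  constructor
  · intro h F G φ hφ x
    have : Sheaf.IsLocallySurjective φ := (Sheaf.isLocallySurjective_iff_epi φ).2 hφ
    have hS := Presheaf.imageSieve_mem J φ.hom (U := op U) x
    obtain ⟨⟨σ⟩⟩ := h _ hS
    choose y hy using fun i : (Σ V : C, {f : V ⟶ U // Presheaf.imageSieve φ.hom x f}) => i.2.2
    let L : (∐ fun i : (Σ V : C, {f : V ⟶ U // Presheaf.imageSieve φ.hom x f}) =>
        yoneda.obj i.1) ⟶ F.obj := Sigma.desc fun i => yonedaEquiv.symm (y i)
    let s : yoneda.obj U ⟶ G.obj := yonedaEquiv.symm x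
    have hL : L ≫ φ.hom = desc (Presheaf.imageSieve φ.hom x) ≫ s := by
      refine Sigma.hom_ext _ _ fun i => ?_
      rw [Sigma.ι_desc_assoc, Sigma.ι_desc_assoc]
      apply yonedaEquiv.injective
      rw [yonedaEquiv_comp, Equiv.apply_symm_apply]
      refine (hy i).trans ?_
      rw [← yonedaEquiv_naturality, Equiv.apply_symm_apply]
    let L' := ((sheafificationAdjunction J (Type u)).homEquiv _ F).symm L
    let s' := ((sheafificationAdjunction J (Type u)).homEquiv _ G).symm s
    have h' : L' ≫ φ = (presheafToSheaf J (Type u)).map (desc _) ≫ s' := by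
      rw [← Adjunction.homEquiv_naturality_right_symm, ← Adjunction.homEquiv_naturality_left_symm]
      exact congrArg _ hL
    have h'' : σ.section_ ≫ L' ≫ φ = s' := by rw [h', ← Category.assoc, σ.id, Category.id_comp]
    have h3 : (sheafificationAdjunction J (Type u)).homEquiv _ G (σ.section_ ≫ L' ≫ φ) = s := by
      rw [h'']; exact Equiv.apply_symm_apply _ _
    rw [← Category.assoc, Adjunction.homEquiv_naturality_right] at h3
    refine ⟨yonedaEquiv ((sheafificationAdjunction J (Type u)).homEquiv _ F (σ.section_ ≫ L')), ?_⟩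
    have h4 := congrArg yonedaEquiv h3
    rw [show yonedaEquiv s = x from Equiv.apply_symm_apply _ _] at h4
    exact h4
  · intro h S hS
    obtain ⟨z, hz⟩ := h _ _ _ (epi_map_desc J S hS)
      ((toSheafify J (yoneda.obj U)).app (op U) (𝟙 U))
    let σ := ((sheafificationAdjunction J (Type u)).homEquiv (yoneda.obj U)
      ((presheafToSheaf J (Type u)).obj _)).symm (yonedaEquiv.symm z)
    refine ⟨⟨⟨σ, ?_⟩⟩⟩
    apply ((sheafificationAdjunction J (Type u)).homEquiv _ _).injective
    rw [Adjunction.homEquiv_naturality_right, Equiv.apply_symm_apply, Adjunction.homEquiv_id]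
    apply yonedaEquiv.injective
    refine (congrArg (((presheafToSheaf J (Type u)).map (desc S)).hom.app (op U))
      (yonedaEquiv.apply_symm_apply z)).trans hz

end Groth.Agent.HTop16.WeakContr
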